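import Mathlib
import Cfsg.Agent.Helper16.DefOneSetup
import Cfsg.Agent.Helper79.CharComplete
import Cfsg.Agent.Helper15.IndFun
import Cfsg.Agent.S0146

/-!
# Piece (GT1-c1) of the defect-one engine (helper82 / helper16): the left side of the Gram relation
-/

set_option autoImplicit false
set_option linter.unusedSectionVars false
set_option linter.style.haveILetI false

namespace Cfsg.Agent.Helper31.DefOne

open Cfsg Cfsg.Agent.Helper16 Cfsg.Agent.Helper16.DefOne
open scoped ComplexConjugate

universe u

variable {G : Type u} [Group G] [Fintype G] {p : ℕ} [Fact p.Prime] (P : Sylow p G)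

/-- the inner product of the induced difference function with an irreducible character is the row -/
theorem classInner_indFun_diff_irr (φ : IrrCharacter (cen P)) [Fintype (cen P)]
    (χ : IrrCharacter G) :
    classInner (indFun (cen P) (fun c => (φ : cen P → ℂ) c - (can P φ : cen P → ℂ) c))
      (χ : G → ℂ) = ((rowZ P χ φ : ℤ) : ℂ) := by
  rw [Cfsg.Agent.S0146.result (cen P) _ (χ : G → ℂ) (Helper79.irr_isClassFunction χ)]
  have hfun : (fun c : cen P => (φ : cen P → ℂ) c - (can P φ : cen P → ℂ) c) =
      (φ : cen P → ℂ) - (can P φ : cen P → ℂ) := rfl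
  rw [hfun, Helper74.classInner_sub_left]
  have h1 : ∀ ξ : IrrCharacter (cen P),
      classInner (ξ : cen P → ℂ) (fun h : cen P => (χ : G → ℂ) h) = ((mult P χ ξ : ℤ) : ℂ) := by
    intro ξ
    rw [← Helper79.classInner_conj_symm, ← mult_cast P χ ξ]
    simp
  rw [h1 φ, h1 (can P φ)]
  unfold rowZ
  push_cast
  ring

/-- (GT1-c1) the left side of the Gram relation -/
theorem gram_left (φ ψ : IrrCharacter (cen P)) [Fintype (cen P)] :
    ((∑ᶠ χ : IrrCharacter G, rowZ P χ φ * rowZ P χ ψ : ℤ) : ℂ) =
      classInner (indFun (cen P) (fun c => (φ : cen P → ℂ) c - (can P φ : cen P → ℂ) c))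
        (indFun (cen P) (fun c => (ψ : cen P → ℂ) c - (can P ψ : cen P → ℂ) c)) := by
  classical
  haveI : Finite (IrrCharacter G) := Helper79.irr_finite
  haveI : Fintype (IrrCharacter G) := Fintype.ofFinite _
  set Fφ := indFun (cen P) (fun c => (φ : cen P → ℂ) c - (can P φ : cen P → ℂ) c) with hFφ
  set Fψ := indFun (cen P) (fun c => (ψ : cen P → ℂ) c - (can P ψ : cen P → ℂ) c) with hFψ
  have hcf : IsClassFunction G Fψ := Helper15.isClassFunction_indFun (cen P) _
  have hexp := Helper79.classFunction_expansion hcf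
  rw [finsum_eq_sum_of_fintype]
  conv_rhs => rw [hexp]
  rw [Helper79.classInner_sum_right]
  push_cast
  refine Finset.sum_congr rfl fun χ _ => ?_
  have e1 : classInner Fψ (χ : G → ℂ) = ((rowZ P χ ψ : ℤ) : ℂ) :=
    classInner_indFun_diff_irr P ψ χ
  have e2 : classInner Fφ (χ : G → ℂ) = ((rowZ P χ φ : ℤ) : ℂ) :=
    classInner_indFun_diff_irr P φ χ
  rw [Helper79.classInner_smul_right, e1, e2]
  simp [mul_comm]

end Cfsg.Agent.Helper31.DefOne
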