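import Mathlib
import Cfsg.Agent.Helper16.DefOneSetup
import Cfsg.Agent.Helper79.CharComplete
import Cfsg.Agent.Helper67.TIXA

/-!
# Piece (GT1-c2) of the defect-one engine (helper82 / helper16): the right side of the Gram relation
-/

set_option autoImplicit false
set_option linter.unusedSectionVars false
set_option linter.style.haveILetI false

namespace Cfsg.Agent.Helper31.DefOne

open Cfsg Cfsg.Agent.Helper16 Cfsg.Agent.Helper16.DefOne
open scoped ComplexConjugate

universe u

/-- (COUNT) the transporter from `y` to `x` is empty or a coset of the stabilizer of `x` -/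
theorem card_transporter {N X : Type*} [Group N] [MulAction N X] (x y : X) :
    Nat.card {n : N // n • y = x} =
      (open Classical in if ∃ n : N, n • y = x then Nat.card (MulAction.stabilizer N x) else 0) := by
  classical
  split_ifs with h
  · obtain ⟨n₀, hn₀⟩ := h
    apply Nat.card_congr
    refine ⟨fun n => ⟨n.1 * n₀⁻¹, ?_⟩, fun s => ⟨s.1 * n₀, ?_⟩, ?_, ?_⟩
    · have hy : n₀⁻¹ • x = y := by rw [← hn₀, inv_smul_smul]
      rw [MulAction.mem_stabilizer_iff, mul_smul, hy]
      exact n.2
    · rw [mul_smul, hn₀]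
      exact s.2
    · intro n
      apply Subtype.ext
      simp
    · intro s
      apply Subtype.ext
      simp
  · rw [Nat.card_eq_zero]
    left
    exact ⟨fun n => h ⟨n.1, n.2⟩⟩

theorem sum_transporter {N X : Type*} [Group N] [Fintype N] [MulAction N X] (x y : X)
    [DecidablePred fun n : N => n • y = x] :
    ∑ n : N, (if n • y = x then (1 : ℂ) else 0) = (Nat.card {n : N // n • y = x} : ℂ) := by
  rw [Finset.sum_boole, Nat.card_eq_fintype_card, Fintype.card_subtype]

variable {G : Type u} [Group G] [Fintype G] {p : ℕ} [Fact p.Prime] (P : Sylow p G)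

/-- orthonormality of the irreducible characters, as an `if` -/
theorem classInner_irr_eq_ite {K : Type u} [Group K] [Fintype K] (a b : IrrCharacter K)
    [Decidable (a = b)] :
    classInner (a : K → ℂ) (b : K → ℂ) = if a = b then 1 else 0 := by
  split_ifs with h
  · rw [h]; exact Helper79.classInner_irr_self b
  · exact Helper79.classInner_irr_ne h

open Classical in
/-- (GT1-c2) the right side of the Gram relation, from the facts of the other pieces -/
theorem gram_right'
    (hTI : ∀ (g a : G), a ∈ {a : G | a ∈ cen P ∧ p ∣ orderOf a} →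
      g⁻¹ * a * g ∈ {a : G | a ∈ cen P ∧ p ∣ orderOf a} → g ∈ nor P)
    (hreg : ∀ (φ : IrrCharacter (cen P)) (x : cen P), ¬ p ∣ orderOf x →
      (φ : cen P → ℂ) x = (can P φ : cen P → ℂ) x)
    (hcanon : ∀ φ : IrrCharacter (cen P), IsCanon P (can P φ))
    (hcsm : ∀ (n : nor P) (θ : IrrCharacter (cen P)), IsCanon P θ → IsCanon P (n • θ))
    (hfree : ∀ (n : nor P) (φ : IrrCharacter (cen P)), ¬ IsCanon P φ → n • φ = φ →
      (n : G) ∈ cen P)
    (hC : ∀ (n : nor P) (φ : IrrCharacter (cen P)), (n : G) ∈ cen P → n • φ = φ)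
    (hstab : ∀ θ : IrrCharacter (cen P),
      Nat.card (MulAction.stabilizer (nor P) θ) = inertia P θ * Nat.card (cen P))
    (φ ψ : IrrCharacter (cen P)) (hφ : ¬ IsCanon P φ) (hψ : ¬ IsCanon P ψ) [Fintype (cen P)] :
    classInner (indFun (cen P) (fun c => (φ : cen P → ℂ) c - (can P φ : cen P → ℂ) c))
        (indFun (cen P) (fun c => (ψ : cen P → ℂ) c - (can P ψ : cen P → ℂ) c)) =
      (if ∃ n : nor P, n • ψ = φ then 1 else 0) +
        (if ∃ n : nor P, n • can P ψ = can P φ then (inertia P (can P φ) : ℂ) else 0) := by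
  haveI : Fintype (Subgroup.normalizer ((cen P : Subgroup G) : Set G)) := Fintype.ofFinite _
  -- the difference functions vanish off the `p`-singular elements
  have hvan : ∀ ξ : IrrCharacter (cen P), ∀ c : cen P,
      (c : G) ∉ {a : G | a ∈ cen P ∧ p ∣ orderOf a} →
      (fun c => (ξ : cen P → ℂ) c - (can P ξ : cen P → ℂ) c) c = 0 := by
    intro ξ c hc
    have hc' : ¬ p ∣ orderOf c := by
      intro hd
      apply hc
      refine ⟨c.2, ?_⟩
      rw [Subgroup.orderOf_coe]
      exact hd
    show (ξ : cen P → ℂ) c - (can P ξ : cen P → ℂ) c = 0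
    rw [hreg ξ c hc', sub_self]
  rw [Cfsg.Agent.Helper67.TIXA.classInner_indFun_indFun_of_TI (cen P)
    {a : G | a ∈ cen P ∧ p ∣ orderOf a} (fun g a ha hga => hTI g a ha hga) _ _ (hvan φ) (hvan ψ)]
  -- the conjugate of the difference function
  have hconj : ∀ n : nor P,
      nconj (cen P) (n : G) (fun c => (ψ : cen P → ℂ) c - (can P ψ : cen P → ℂ) c) =
        ((n • ψ : IrrCharacter (cen P)) : cen P → ℂ) -
          ((n • can P ψ : IrrCharacter (cen P)) : cen P → ℂ) := by
    intro n
    funext c
    rw [nconj_apply_of_mem, Pi.sub_apply, smul_irr_apply, smul_irr_apply]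
  -- each inner product
  have hinner : ∀ n : nor P,
      classInner (fun c => (φ : cen P → ℂ) c - (can P φ : cen P → ℂ) c)
        (nconj (cen P) (n : G) (fun c => (ψ : cen P → ℂ) c - (can P ψ : cen P → ℂ) c)) =
      (if n • ψ = φ then (1 : ℂ) else 0) + (if n • can P ψ = can P φ then (1 : ℂ) else 0) := by
    intro n
    rw [hconj n]
    have hfun : (fun c => (φ : cen P → ℂ) c - (can P φ : cen P → ℂ) c) =
        (φ : cen P → ℂ) - (can P φ : cen P → ℂ) := rfl
    rw [hfun, Helper74.classInner_sub_left, Helper74.classInner_sub_right,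
      Helper74.classInner_sub_right, classInner_irr_eq_ite, classInner_irr_eq_ite,
      classInner_irr_eq_ite, classInner_irr_eq_ite]
    have h1 : φ ≠ n • can P ψ := by
      intro h
      apply hφ
      rw [h]
      exact hcsm n _ (hcanon ψ)
    have h2 : can P φ ≠ n • ψ := by
      intro h
      apply hψ
      have : ψ = n⁻¹ • can P φ := by rw [h, inv_smul_smul]
      rw [this]
      exact hcsm n⁻¹ _ (hcanon φ)
    rw [if_neg h1, if_neg h2]
    have e1 : (φ = n • ψ) ↔ (n • ψ = φ) := eq_comm
    have e2 : (can P φ = n • can P ψ) ↔ (n • can P ψ = can P φ) := eq_comm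
    simp only [e1, e2]
    ring
  rw [Finset.sum_congr rfl (fun n _ => hinner n), Finset.sum_add_distrib,
    sum_transporter, sum_transporter, card_transporter, card_transporter]
  -- the stabilizer of `φ`
  have hCle : cen P ≤ nor P := Subgroup.le_normalizer
  have hstabφ : MulAction.stabilizer (nor P) φ = (cen P).subgroupOf (nor P) := by
    ext n
    rw [MulAction.mem_stabilizer_iff, Subgroup.mem_subgroupOf]
    exact ⟨fun h => hfree n φ hφ h, fun h => hC n φ h⟩
  have hcardφ : Nat.card (MulAction.stabilizer (nor P) φ) = Nat.card (cen P) := by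
    rw [hstabφ]
    exact Nat.card_congr (Subgroup.subgroupOfEquivOfLe hCle).toEquiv
  have hCne : (Nat.card (cen P) : ℂ) ≠ 0 := by
    have : 0 < Nat.card (cen P) := Nat.card_pos
    exact_mod_cast this.ne'
  rw [hcardφ, hstab (can P φ)]
  by_cases hA : ∃ n : nor P, n • ψ = φ <;> by_cases hB : ∃ n : nor P, n • can P ψ = can P φ
  · simp only [if_pos hA, if_pos hB]
    push_cast
    field_simp
  · simp only [if_pos hA, if_neg hB]
    push_cast
    field_simp
    ring
  · simp only [if_neg hA, if_pos hB]
    push_cast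
    field_simp
    ring
  · simp only [if_neg hA, if_neg hB]
    simp

end Cfsg.Agent.Helper31.DefOne
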