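import Mathlib
import Cfsg.Agent.Helper31.GramLeft
import Cfsg.Agent.Helper31.GramRight

/-!
# The Gram relation (GT1) of the defect-one engine from its two sides, with the facts of the other
pieces as hypotheses
-/

set_option autoImplicit false
set_option linter.unusedSectionVars false
set_option linter.style.haveILetI false

namespace Cfsg.Agent.Helper31.DefOne

open Cfsg Cfsg.Agent.Helper16 Cfsg.Agent.Helper16.DefOne

universe u

variable {G : Type u} [Group G] [Fintype G] {p : ℕ} [Fact p.Prime] (P : Sylow p G)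

open Classical in
/-- (GT1) the Gram relation, from the facts of the other pieces -/
theorem gram'
    (hTI : ∀ (g a : G), a ∈ {a : G | a ∈ cen P ∧ p ∣ orderOf a} →
      g⁻¹ * a * g ∈ {a : G | a ∈ cen P ∧ p ∣ orderOf a} → g ∈ nor P)
    (hreg : ∀ (φ : IrrCharacter (cen P)) (x : cen P), ¬ p ∣ orderOf x →
      (φ : cen P → ℂ) x = (can P φ : cen P → ℂ) x)
    (hcanon : ∀ φ : IrrCharacter (cen P), IsCanon P (can P φ))
    (hcsm : ∀ (n : nor P) (θ : IrrCharacter (cen P)), IsCanon P θ → IsCanon P (n • θ))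
    (hfree : ∀ (n : nor P) (φ : IrrCharacter (cen P)), ¬ IsCanon P φ → n • φ = φ →
      (n : G) ∈ cen P)
    (hC : ∀ (n : nor P) (φ : IrrCharacter (cen P)), (n : G) ∈ cen P → n • φ = φ)
    (hstab : ∀ θ : IrrCharacter (cen P),
      Nat.card (MulAction.stabilizer (nor P) θ) = inertia P θ * Nat.card (cen P))
    (φ ψ : IrrCharacter (cen P)) (hφ : ¬ IsCanon P φ) (hψ : ¬ IsCanon P ψ) :
    ∑ᶠ χ : IrrCharacter G, rowZ P χ φ * rowZ P χ ψ =
      (if ∃ n : nor P, n • ψ = φ then 1 else 0) +
        (if ∃ n : nor P, n • can P ψ = can P φ then (inertia P (can P φ) : ℤ) else 0) := by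
  haveI : Fintype (cen P) := Fintype.ofFinite _
  have h := (gram_left P φ ψ).trans
    (gram_right' P hTI hreg hcanon hcsm hfree hC hstab φ ψ hφ hψ)
  apply Int.cast_injective (α := ℂ)
  rw [h]
  push_cast
  split_ifs <;> simp

end Cfsg.Agent.Helper31.DefOne
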