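import Mathlib
import Cfsg.Agent.Helper16.CanonicalChar2
import Cfsg.Agent.Helper16.CentralDefect
import Cfsg.Agent.Helper16.Defect
import Cfsg.Agent.Helper16.BlockIdem
import Cfsg.Agent.Helper78.ExtFirstMain
import Cfsg.Agent.Helper77.DefectOrder
import Cfsg.Agent.Helper79.CharComplete

/-!
# Piece (X-C) of helper16's defect-one engine: the canonical map of a group with a central Sylow
`p`-subgroup of order `p`
-/

set_option autoImplicit false
set_option linter.unusedSectionVars false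
set_option linter.style.haveILetI false

namespace Cfsg.Agent.Helper31.Defect1

open Cfsg Cfsg.Agent.Helper16

universe u

/-- the irreducible characters of a finite commutative group have degree one -/
theorem irr_one_of_comm {A : Type u} [Group A] [Fintype A] (hcomm : ∀ a b : A, a * b = b * a)
    (ζ : IrrCharacter A) : (ζ : A → ℂ) 1 = 1 := by
  classical
  have := Fintype.ofFinite (IrrCharacter A)
  have hbij : Function.Bijective (ConjClasses.mk : A → ConjClasses A) := by
    refine ⟨fun a b hab => ?_, ConjClasses.mk_surjective⟩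
    rw [ConjClasses.mk_eq_mk_iff_isConj, isConj_iff] at hab
    obtain ⟨c, hc⟩ := hab
    rw [← hc, hcomm c a, mul_inv_cancel_right]
  have hcc : Nat.card (ConjClasses A) = Nat.card A :=
    (Nat.card_congr (Equiv.ofBijective _ hbij)).symm
  have hsum := Helper79.sum_charDegree_sq (G := A)
  have hcard : Nat.card (IrrCharacter A) = Nat.card A := by
    rw [Helper79.card_irr_eq_card_conjClasses, hcc]
  have hle : ∀ χ ∈ (Finset.univ : Finset (IrrCharacter A)), 1 ≤ charDegree (χ : A → ℂ) ^ 2 :=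
    fun χ _ => Nat.one_le_pow _ _ (Helper79.irr_charDegree_pos χ)
  have hsum1 : ∑ _χ : IrrCharacter A, 1 = ∑ χ : IrrCharacter A, charDegree (χ : A → ℂ) ^ 2 := by
    rw [hsum, ← hcard, Nat.card_eq_fintype_card]
    simp
  have hall := (Finset.sum_eq_sum_iff_of_le hle).1 hsum1 ζ (Finset.mem_univ _)
  have hd : charDegree (ζ : A → ℂ) = 1 := by
    have h2 : charDegree (ζ : A → ℂ) ^ 2 = 1 := hall.symm
    rcases pow_eq_one_iff.1 h2 with h3 | h3
    · exact h3
    · exact absurd h3 two_ne_zero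
  rw [Helper79.irr_one, hd, Nat.cast_one]

section Setting

variable {H : Type u} [Group H] [Fintype H] {p : ℕ} [hp : Fact p.Prime] {M : Ideal AlgInt}
  (D : Subgroup H)

/-- the `p`-elements lie in a normal subgroup of index prime to `p` -/
theorem mem_of_orderOf_eq_pow [D.Normal] (hidx : ¬ p ∣ D.index) (y : H)
    (hy : ∃ k : ℕ, orderOf y = p ^ k) : y ∈ D := by
  obtain ⟨k, hk⟩ := hy
  rw [← QuotientGroup.eq_one_iff, ← orderOf_eq_one_iff]
  have h1 : orderOf (QuotientGroup.mk y : H ⧸ D) ∣ p ^ k := by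
    rw [← hk]
    exact orderOf_map_dvd (QuotientGroup.mk' D) y
  have h2 : orderOf (QuotientGroup.mk y : H ⧸ D) ∣ D.index := by
    rw [Subgroup.index_eq_card]
    exact orderOf_dvd_natCard _
  have hcop : (p ^ k).Coprime D.index :=
    Nat.Coprime.pow_left _ ((Nat.Prime.coprime_iff_not_dvd hp.out).2 hidx)
  exact Nat.eq_one_of_dvd_coprimes hcop h1 h2

theorem centralizer_eq_top (hDZ : D ≤ Subgroup.center H) :
    Subgroup.centralizer (D : Set H) = ⊤ :=
  Subgroup.centralizer_eq_top_iff_subset.2 hDZ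

theorem sup_centralizer_eq_top (hDZ : D ≤ Subgroup.center H) :
    D ⊔ Subgroup.centralizer (D : Set H) = ⊤ := by
  rw [centralizer_eq_top D hDZ, sup_top_eq]

/-- every block has defect group `D` -/
theorem isDefectGroup_of_central (hM : IsPModular p M) (hDZ : D ≤ Subgroup.center H)
    (hD : Nat.card D = p) (hidx : ¬ p ∣ D.index) {B : Set (IrrCharacter H)} (hB : IsPBlock M B) :
    IsDefectGroup p M B D := by
  haveI hMp : M.IsPrime := IsPModular.isPrime hM
  haveI hDn : D.Normal := normal_of_sup_centralizer D (sup_centralizer_eq_top D hDZ)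
  have hP : IsPGroup p D := IsPGroup.of_card (n := 1) (by rw [hD, pow_one])
  obtain ⟨χ₀, rfl⟩ := hB
  obtain ⟨Q, hQ⟩ := exists_defectGroup (M := M) p χ₀
  have hDQ : D ≤ Q := Helper78.normal_pGroup_le_defectGroup hM D hP ⟨χ₀, rfl⟩ hQ
  have hcardQ : Nat.card Q = p ^ blockDefect p (blockOf M (χ₀ : H → ℂ)) :=
    Helper77.card_defectGroup hM ⟨χ₀, rfl⟩ Q hQ
  have hQle : Nat.card Q ≤ Nat.card D := by
    rw [hcardQ, hD]
    set d := blockDefect p (blockOf M (χ₀ : H → ℂ)) with hd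
    have hdvd : p ^ d ∣ Nat.card H := by
      rw [← hcardQ]; exact Subgroup.card_subgroup_dvd_card Q
    rw [← Subgroup.card_mul_index D, hD] at hdvd
    by_contra hlt
    push Not at hlt
    have hd2 : 2 ≤ d := by
      by_contra h2
      push Not at h2
      interval_cases d
      · simp at hlt
        exact absurd hlt (by have := hp.out.one_lt; omega)
      · simp at hlt
    have h3 : p ^ 2 ∣ p * D.index := (pow_dvd_pow p hd2).trans hdvd
    rw [sq] at h3
    exact hidx (Nat.dvd_of_mul_dvd_mul_left hp.out.pos h3)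
  have hEq : D = Q := Subgroup.eq_of_le_of_card_ge hDQ hQle
  rw [hEq]
  exact hQ

end Setting


theorem card_conjClasses_of_comm {A : Type*} [Group A] (hcomm : ∀ a b : A, a * b = b * a) :
    Nat.card (ConjClasses A) = Nat.card A := by
  have hbij : Function.Bijective (ConjClasses.mk : A → ConjClasses A) := by
    refine ⟨fun a b hab => ?_, ConjClasses.mk_surjective⟩
    rw [ConjClasses.mk_eq_mk_iff_isConj, isConj_iff] at hab
    obtain ⟨c, hc⟩ := hab
    rw [← hc, hcomm c a, mul_inv_cancel_right]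
  exact (Nat.card_congr (Equiv.ofBijective _ hbij)).symm

section Setting2

variable {H : Type u} [Group H] [Fintype H] {p : ℕ} [hp : Fact p.Prime] {M : Ideal AlgInt}
  (hM : IsPModular p M) (D : Subgroup H) (hDZ : D ≤ Subgroup.center H) (hD : Nat.card D = p)
  (hidx : ¬ p ∣ D.index)

include hDZ in
theorem comm_of_le_center : ∀ a b : D, a * b = b * a := by
  intro a b
  apply Subtype.ext
  have := Subgroup.mem_center_iff.1 (hDZ b.2) (a : H)
  exact this

include hM hDZ hD hidx in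
/-- a block has at most one member with `D` in its kernel -/
theorem canon_unique {B : Set (IrrCharacter H)} (hB : IsPBlock M B) {θ θ' : IrrCharacter H}
    (hθ : θ ∈ B) (hθ' : θ' ∈ B) (hk : ∀ u ∈ D, (θ : H → ℂ) u = (θ : H → ℂ) 1)
    (hk' : ∀ u ∈ D, (θ' : H → ℂ) u = (θ' : H → ℂ) 1) : θ = θ' := by
  haveI hDn : D.Normal := normal_of_sup_centralizer D (sup_centralizer_eq_top D hDZ)
  exact eq_of_mem_of_ker_normal_defect hM hB D (isDefectGroup_of_central D hM hDZ hD hidx hB)
    (fun x _ => by rw [centralizer_eq_top D hDZ]; exact Subgroup.mem_top x) hθ hθ' hk hk'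

include hM hDZ hD hidx in
/-- the members of a block agree with its canonical member on the `p`-regular elements -/
theorem eq_canon_on_pRegular {B : Set (IrrCharacter H)} (hB : IsPBlock M B)
    {χ θ : IrrCharacter H} (hχ : χ ∈ B) (hχk : ∀ u ∈ D, (χ : H → ℂ) u = (χ : H → ℂ) 1)
    (hθ : θ ∈ B) (x : H) (hx : ¬ p ∣ orderOf x) : (θ : H → ℂ) x = (χ : H → ℂ) x := by
  have hP : IsPGroup p D := IsPGroup.of_card (n := 1) (by rw [hD, pow_one])
  have hG := sup_centralizer_eq_top D hDZ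
  obtain ⟨ζ, hζ⟩ := exists_irr_factor D hM hP hG hB (isDefectGroup_of_central D hM hDZ hD hidx hB)
    χ hχ hχk θ hθ
  have h1 := hζ 1 x hx
  haveI : Fintype D := Fintype.ofFinite D
  rw [irr_one_of_comm (comm_of_le_center D hDZ) ζ, one_mul] at h1
  simpa using h1

include hDZ in
/-- translation by an element of `D` does not change a character with `D` in its kernel -/
theorem irr_mul_of_mem_ker (θ : IrrCharacter H) (hθ : ∀ u ∈ D, (θ : H → ℂ) u = (θ : H → ℂ) 1)
    {y : H} (hy : y ∈ D) (g : H) : (θ : H → ℂ) (y * g) = (θ : H → ℂ) g := by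
  obtain ⟨c, hc⟩ := irr_central_mul θ (hDZ hy)
  have h1 := hc 1
  rw [mul_one, hθ y hy] at h1
  have hne := Helper79.irr_one_ne_zero θ
  have hc1 : c = 1 := by
    have : (1 : ℂ) * (θ : H → ℂ) 1 = c * (θ : H → ℂ) 1 := by rw [one_mul]; exact h1
    exact (mul_right_cancel₀ hne this).symm
  rw [hc g, hc1, one_mul]

include hD hDZ in
/-- uniqueness of the decomposition into an element of `D` and a `p`-regular element -/
theorem decomp_unique {y y' x x' : H} (hy : y ∈ D) (hy' : y' ∈ D) (hx : ¬ p ∣ orderOf x)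
    (hx' : ¬ p ∣ orderOf x') (h : y * x = y' * x') : y = y' ∧ x = x' := by
  set d : H := y'⁻¹ * y with hd
  have hdD : d ∈ D := D.mul_mem (D.inv_mem hy') hy
  have hx'd : x' = d * x := by
    rw [hd, mul_assoc, h, ← mul_assoc, inv_mul_cancel, one_mul]
  have hcomm : Commute d x := (Subgroup.mem_center_iff.1 (hDZ hdD) x).symm
  set m := orderOf x * orderOf x' with hm
  have h1 : d ^ m = 1 := by
    have h2 : x' ^ m = 1 := by rw [hm, pow_mul', pow_orderOf_eq_one, one_pow]
    have h3 : x ^ m = 1 := by rw [hm, pow_mul, pow_orderOf_eq_one, one_pow]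
    rw [hx'd, hcomm.mul_pow, h3, mul_one] at h2
    exact h2
  have h2 : d ^ p = 1 := by
    have := pow_card_eq_one' (G := D) (x := ⟨d, hdD⟩)
    rw [hD] at this
    have h3 := congrArg (fun z : D => (z : H)) this
    simpa using h3
  have hcop : m.Coprime p := by
    apply Nat.Coprime.symm
    rw [Nat.Prime.coprime_iff_not_dvd hp.out, hm]
    intro hdvd
    rcases (Nat.Prime.dvd_mul hp.out).1 hdvd with h3 | h3
    · exact hx h3
    · exact hx' h3
  have hd1 : d = 1 := by
    rw [← orderOf_eq_one_iff]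
    exact Nat.eq_one_of_dvd_coprimes hcop (orderOf_dvd_of_pow_eq_one h1)
      (orderOf_dvd_of_pow_eq_one h2)
  have hyy' : y = y' := by
    have : y'⁻¹ * y = 1 := hd1
    rw [inv_mul_eq_one] at this
    exact this.symm
  refine ⟨hyy', ?_⟩
  rw [hx'd, hd1, one_mul]

end Setting2


section Count

variable {H : Type u} [Group H] [Fintype H] {p : ℕ} [hp : Fact p.Prime]
  (D : Subgroup H) (hDZ : D ≤ Subgroup.center H) (hD : Nat.card D = p)
  (hidx : ¬ p ∣ D.index)

include hDZ hD hidx in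
/-- `k(H) = p · (number of p-regular classes)` -/
theorem card_conjClasses_eq_mul :
    Nat.card (ConjClasses H) =
      p * Nat.card {c : ConjClasses H // ∃ g : H, ConjClasses.mk g = c ∧ ¬ p ∣ orderOf g} := by
  haveI hDn : D.Normal := normal_of_sup_centralizer D (sup_centralizer_eq_top D hDZ)
  have hrep : ∀ c : {c : ConjClasses H // ∃ g : H, ConjClasses.mk g = c ∧ ¬ p ∣ orderOf g},
      ∃ g : H, ConjClasses.mk g = c.1 ∧ ¬ p ∣ orderOf g := fun c => c.2
  choose rep hrep1 hrep2 using hrep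
  let Φ : D × {c : ConjClasses H // ∃ g : H, ConjClasses.mk g = c ∧ ¬ p ∣ orderOf g} →
      ConjClasses H := fun yc => ConjClasses.mk ((yc.1 : H) * rep yc.2)
  have hcen : ∀ (y : H), y ∈ D → ∀ a g : H, a * (y * g) * a⁻¹ = y * (a * g * a⁻¹) := by
    intro y hy a g
    have h1 : a * y = y * a := Subgroup.mem_center_iff.1 (hDZ hy) a
    calc a * (y * g) * a⁻¹ = (a * y) * g * a⁻¹ := by group
      _ = (y * a) * g * a⁻¹ := by rw [h1]
      _ = y * (a * g * a⁻¹) := by group
  have hinj : Function.Injective Φ := by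
    rintro ⟨y, c⟩ ⟨y', c'⟩ h
    have h' : ConjClasses.mk ((y : H) * rep c) = ConjClasses.mk ((y' : H) * rep c') := h
    rw [ConjClasses.mk_eq_mk_iff_isConj, isConj_iff] at h'
    obtain ⟨a, ha⟩ := h'
    rw [hcen y y.2 a (rep c)] at ha
    have hxo : ¬ p ∣ orderOf (a * rep c * a⁻¹) := by
      have : orderOf (a * rep c * a⁻¹) = orderOf (rep c) :=
        (MulAut.conj a).orderOf_eq (rep c)
      rw [this]; exact hrep2 c
    obtain ⟨e1, e2⟩ := decomp_unique D hDZ hD y.2 y'.2 hxo (hrep2 c') ha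
    have hc : c = c' := by
      apply Subtype.ext
      rw [← hrep1 c, ← hrep1 c', ConjClasses.mk_eq_mk_iff_isConj, isConj_iff]
      exact ⟨a, e2⟩
    have hy : y = y' := Subtype.ext e1
    rw [hc, hy]
  have hsurj : Function.Surjective Φ := by
    intro c
    obtain ⟨h, rfl⟩ := ConjClasses.mk_surjective c
    obtain ⟨x, hyx, -, hyord, hx⟩ := pPartOf_spec (p := p) h
    have hy0 : pPartOf p h ∈ D := mem_of_orderOf_eq_pow D hidx _ hyord
    let c0 : {c : ConjClasses H // ∃ g : H, ConjClasses.mk g = c ∧ ¬ p ∣ orderOf g} :=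
      ⟨ConjClasses.mk x, x, rfl, hx⟩
    refine ⟨(⟨pPartOf p h, hy0⟩, c0), ?_⟩
    show ConjClasses.mk (pPartOf p h * rep c0) = ConjClasses.mk h
    have h1 : ConjClasses.mk (rep c0) = ConjClasses.mk x := hrep1 c0
    rw [ConjClasses.mk_eq_mk_iff_isConj, isConj_iff] at h1
    obtain ⟨b, hb⟩ := h1
    rw [ConjClasses.mk_eq_mk_iff_isConj, isConj_iff]
    refine ⟨b, ?_⟩
    rw [hcen _ hy0 b (rep c0), hb, hyx]
  have hcard := Nat.card_congr (Equiv.ofBijective Φ ⟨hinj, hsurj⟩)
  rw [← hcard, Nat.card_prod, hD]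

end Count

/-- **(X-C)** the canonical map of a group with a central Sylow `p`-subgroup of order `p`. -/
theorem exists_canonical_map {H : Type u} [Group H] [Fintype H] (p : ℕ) [Fact p.Prime]
    (M : Ideal Cfsg.AlgInt) (hM : Cfsg.IsPModular p M) (D : Subgroup H)
    (hDZ : D ≤ Subgroup.center H) (hD : Nat.card D = p) (hidx : ¬ p ∣ D.index) :
    ∃ can : Cfsg.IrrCharacter H → Cfsg.IrrCharacter H,
      (∀ φ, ∀ u ∈ D, (can φ : H → ℂ) u = (can φ : H → ℂ) 1) ∧
      (∀ φ : Cfsg.IrrCharacter H, (∀ u ∈ D, (φ : H → ℂ) u = (φ : H → ℂ) 1) → can φ = φ) ∧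
      (∀ (φ : Cfsg.IrrCharacter H) (x : H), ¬ p ∣ orderOf x →
        (φ : H → ℂ) x = (can φ : H → ℂ) x) ∧
      (∀ φ ψ : Cfsg.IrrCharacter H,
        Cfsg.SameBlock M (φ : H → ℂ) (ψ : H → ℂ) ↔ can φ = can ψ) ∧
      (∀ θ : Cfsg.IrrCharacter H, (∀ u ∈ D, (θ : H → ℂ) u = (θ : H → ℂ) 1) →
        Nat.card {φ : Cfsg.IrrCharacter H // can φ = θ} = p) ∧
      (∀ θ θ' : Cfsg.IrrCharacter H, (∀ u ∈ D, (θ : H → ℂ) u = (θ : H → ℂ) 1) →
        (∀ u ∈ D, (θ' : H → ℂ) u = (θ' : H → ℂ) 1) →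
        (∀ x : H, ¬ p ∣ orderOf x → (θ : H → ℂ) x = (θ' : H → ℂ) x) → θ = θ') ∧
      Nat.card {θ : Cfsg.IrrCharacter H // ∀ u ∈ D, (θ : H → ℂ) u = (θ : H → ℂ) 1} =
        Nat.card {c : ConjClasses H // ∃ g : H, ConjClasses.mk g = c ∧ ¬ p ∣ orderOf g} := by
  classical
  haveI hMp : M.IsPrime := IsPModular.isPrime hM
  have hpp : p.Prime := Fact.out
  have hG := sup_centralizer_eq_top D hDZ
  haveI hDn : D.Normal := normal_of_sup_centralizer D hG
  have hP : IsPGroup p D := IsPGroup.of_card (n := 1) (by rw [hD, pow_one])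
  have hex : ∀ φ : IrrCharacter H, ∃ θ ∈ blockOf M (φ : H → ℂ),
      ∀ u ∈ D, (θ : H → ℂ) u = (θ : H → ℂ) 1 :=
    fun φ => exists_canonical D hM hP hG ⟨φ, rfl⟩
  choose can hcanB hcanK using hex
  have hself : ∀ φ : IrrCharacter H, φ ∈ blockOf M (φ : H → ℂ) := fun φ => sameBlock_refl _
  have c2 : ∀ φ : IrrCharacter H, (∀ u ∈ D, (φ : H → ℂ) u = (φ : H → ℂ) 1) → can φ = φ :=
    fun φ hφ => canon_unique hM D hDZ hD hidx ⟨φ, rfl⟩ (hcanB φ) (hself φ) (hcanK φ) hφ
  have c3 : ∀ (φ : IrrCharacter H) (x : H), ¬ p ∣ orderOf x →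
      (φ : H → ℂ) x = (can φ : H → ℂ) x :=
    fun φ x hx => eq_canon_on_pRegular hM D hDZ hD hidx ⟨φ, rfl⟩ (hcanB φ) (hcanK φ) (hself φ) x hx
  have c4 : ∀ φ ψ : IrrCharacter H, SameBlock M (φ : H → ℂ) (ψ : H → ℂ) ↔ can φ = can ψ := by
    intro φ ψ
    constructor
    · intro h
      exact canon_unique hM D hDZ hD hidx ⟨φ, rfl⟩ (hcanB φ) (sameBlock_trans h (hcanB ψ))
        (hcanK φ) (hcanK ψ)
    · intro h
      have h1 : SameBlock M (φ : H → ℂ) (can φ : H → ℂ) := hcanB φ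
      have h2 : SameBlock M (ψ : H → ℂ) (can ψ : H → ℂ) := hcanB ψ
      rw [← h] at h2
      exact sameBlock_trans h1 (sameBlock_symm h2)
  have c5 : ∀ θ : IrrCharacter H, (∀ u ∈ D, (θ : H → ℂ) u = (θ : H → ℂ) 1) →
      Nat.card {φ : IrrCharacter H // can φ = θ} = p := by
    intro θ hθ
    have hset : {φ : IrrCharacter H | can φ = θ} = blockOf M (θ : H → ℂ) := by
      ext φ
      show can φ = θ ↔ SameBlock M (θ : H → ℂ) (φ : H → ℂ)
      rw [c4 θ φ, c2 θ hθ]
      exact eq_comm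
    have h1 : Nat.card {φ : IrrCharacter H // can φ = θ} = Nat.card (blockOf M (θ : H → ℂ)) :=
      Nat.card_congr (Equiv.setCongr hset)
    rw [h1, card_block_eq_card_conjClasses D hM hP hG ⟨θ, rfl⟩
      (isDefectGroup_of_central D hM hDZ hD hidx ⟨θ, rfl⟩),
      card_conjClasses_of_comm (comm_of_le_center D hDZ), hD]
  have c6 : ∀ θ θ' : IrrCharacter H, (∀ u ∈ D, (θ : H → ℂ) u = (θ : H → ℂ) 1) →
      (∀ u ∈ D, (θ' : H → ℂ) u = (θ' : H → ℂ) 1) →
      (∀ x : H, ¬ p ∣ orderOf x → (θ : H → ℂ) x = (θ' : H → ℂ) x) → θ = θ' := by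
    intro θ θ' hθ hθ' hreg
    apply Subtype.ext
    funext h
    obtain ⟨x, hyx, -, hyord, hx⟩ := pPartOf_spec (p := p) h
    have hy0 : pPartOf p h ∈ D := mem_of_orderOf_eq_pow D hidx _ hyord
    rw [← hyx, irr_mul_of_mem_ker D hDZ θ hθ hy0, irr_mul_of_mem_ker D hDZ θ' hθ' hy0]
    exact hreg x hx
  refine ⟨can, hcanK, c2, c3, c4, c5, c6, ?_⟩
  -- the count
  haveI : Fintype (IrrCharacter H) := Fintype.ofFinite _
  let f : IrrCharacter H → {θ : IrrCharacter H // ∀ u ∈ D, (θ : H → ℂ) u = (θ : H → ℂ) 1} :=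
    fun φ => ⟨can φ, hcanK φ⟩
  have hfib : ∀ θ : {θ : IrrCharacter H // ∀ u ∈ D, (θ : H → ℂ) u = (θ : H → ℂ) 1},
      Nat.card {φ : IrrCharacter H // f φ = θ} = p := by
    intro θ
    rw [← c5 θ.1 θ.2]
    exact Nat.card_congr (Equiv.subtypeEquivRight (fun φ => Subtype.ext_iff))
  have h1 : Nat.card (IrrCharacter H) =
      Nat.card {θ : IrrCharacter H // ∀ u ∈ D, (θ : H → ℂ) u = (θ : H → ℂ) 1} * p := by
    rw [← Nat.card_congr (Equiv.sigmaFiberEquiv f), Nat.card_sigma]
    simp only [hfib]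
    rw [Finset.sum_const, Finset.card_univ, smul_eq_mul, Nat.card_eq_fintype_card]
  have h2 := card_conjClasses_eq_mul D hDZ hD hidx
  rw [← Helper79.card_irr_eq_card_conjClasses, h1, mul_comm] at h2
  exact Nat.eq_of_mul_eq_mul_left hpp.pos h2

end Cfsg.Agent.Helper31.Defect1
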