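import Mathlib
import Cfsg.Agent.Helper22.PLocal
import Cfsg.Agent.Helper22.PComponent2
import Cfsg.Agent.Helper22.Radical
import Cfsg.Agent.Helper22.Conj
import Cfsg.Agent.Helper22.Subnormal
import Cfsg.Agent.Helper21.Radical
import Cfsg.Agent.Helper53.PGroup

/-!
# Towards `L_{p'}`-balance (FGT 31.17)

For a finite group `G` with `O_{p'}(G) = 1`, a `p`-subgroup `P` and `N = N_G(P)`, the preimage in
`N` of `E(N / O_{p'}(N))` normalizes every component of `G`.
-/

set_option autoImplicit false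

namespace Cfsg.Agent.Helper31

open Cfsg

variable {G : Type*} [Group G]

/-! ### Conjugates of subgroups -/

/-- the conjugate `g L g⁻¹` -/
def cm (g : G) (L : Subgroup G) : Subgroup G := L.map (MulAut.conj g).toMonoidHom

theorem mem_cm {g : G} {L : Subgroup G} {y : G} : y ∈ cm g L ↔ g⁻¹ * y * g ∈ L :=
  Cfsg.Agent.Helper22.mem_map_conj_iff L g y

theorem conj_mem_cm {g : G} {L : Subgroup G} {y : G} (hy : y ∈ L) : g * y * g⁻¹ ∈ cm g L := by
  rw [mem_cm]
  have : g⁻¹ * (g * y * g⁻¹) * g = y := by group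
  rwa [this]

theorem cm_one (L : Subgroup G) : cm 1 L = L := by
  ext y; rw [mem_cm]; simp

theorem cm_mul (g h : G) (L : Subgroup G) : cm (g * h) L = cm g (cm h L) := by
  unfold cm
  rw [Cfsg.Agent.Helper22.map_conj_map_conj]

theorem cm_mono (g : G) {L M : Subgroup G} (h : L ≤ M) : cm g L ≤ cm g M :=
  Subgroup.map_mono h

theorem cm_inv_cm (g : G) (L : Subgroup G) : cm g⁻¹ (cm g L) = L := by
  rw [← cm_mul, inv_mul_cancel, cm_one]

theorem cm_cm_inv (g : G) (L : Subgroup G) : cm g (cm g⁻¹ L) = L := by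
  rw [← cm_mul, mul_inv_cancel, cm_one]

theorem cm_iSup {ι : Sort*} (g : G) (f : ι → Subgroup G) : cm g (⨆ i, f i) = ⨆ i, cm g (f i) :=
  Subgroup.map_iSup _ _

theorem cm_eq_self_iff {g : G} {L : Subgroup G} :
    cm g L = L ↔ g ∈ Subgroup.normalizer (L : Set G) :=
  ⟨Cfsg.Agent.Helper22.mem_normalizer_of_map_conj_eq,
    Cfsg.Agent.Helper22.map_conj_eq_of_mem_normalizer⟩

theorem cm_centralizer (g : G) (L : Subgroup G) :
    cm g (Subgroup.centralizer (L : Set G)) = Subgroup.centralizer ((cm g L : Subgroup G) : Set G) :=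
  Cfsg.Agent.Helper22.map_conj_centralizer g L

theorem isComponent_cm {L : Subgroup G} (hL : IsComponent L) (g : G) : IsComponent (cm g L) :=
  Cfsg.Agent.Helper21.IsComponent.map_conj hL g

theorem cm_le_iff {g : G} {L M : Subgroup G} : cm g L ≤ M ↔ L ≤ cm g⁻¹ M := by
  constructor
  · intro h
    have := cm_mono g⁻¹ h
    rwa [cm_inv_cm] at this
  · intro h
    have := cm_mono g h
    rwa [cm_cm_inv] at this

/-! ### The `P`-closure of a subgroup -/

/-- The subgroup generated by the `P`-conjugates of `L`. -/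
def orbK (P L : Subgroup G) : Subgroup G := ⨆ y : P, cm (y : G) L

/-- `L'` is a `P`-conjugate of `L`. -/
def InOrb (P L L' : Subgroup G) : Prop := ∃ y ∈ P, L' = cm y L

theorem le_orbK (P L : Subgroup G) : L ≤ orbK P L := by
  have h := le_iSup (fun y : P => cm (y : G) L) 1
  have h1 : cm ((1 : P) : G) L = L := by rw [Subgroup.coe_one, cm_one]
  rw [h1] at h
  exact h

theorem cm_le_orbK {P L : Subgroup G} {y : G} (hy : y ∈ P) : cm y L ≤ orbK P L :=
  le_iSup (fun y : P => cm (y : G) L) ⟨y, hy⟩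

theorem InOrb.le_orbK {P L L' : Subgroup G} (h : InOrb P L L') : L' ≤ orbK P L := by
  obtain ⟨y, hy, rfl⟩ := h
  exact cm_le_orbK hy

theorem inOrb_refl (P L : Subgroup G) : InOrb P L L := ⟨1, P.one_mem, (cm_one L).symm⟩

theorem cm_orbK_le {P L : Subgroup G} {y : G} (hy : y ∈ P) : cm y (orbK P L) ≤ orbK P L := by
  unfold orbK
  rw [cm_iSup]
  apply iSup_le
  intro y'
  rw [← cm_mul]
  exact cm_le_orbK (P.mul_mem hy y'.2)

theorem cm_orbK {P L : Subgroup G} {y : G} (hy : y ∈ P) : cm y (orbK P L) = orbK P L := by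
  apply le_antisymm (cm_orbK_le hy)
  have h := cm_mono y (cm_orbK_le (L := L) (P.inv_mem hy))
  rwa [cm_cm_inv] at h

theorem le_normalizer_orbK (P L : Subgroup G) : P ≤ Subgroup.normalizer (orbK P L : Set G) :=
  fun _ hy => cm_eq_self_iff.mp (cm_orbK hy)

/-- If `n` commutes with `P` then `n K_L n⁻¹ = K_{n L n⁻¹}`. -/
theorem cm_orbK_of_commute {P L : Subgroup G} {n : G} (hn : ∀ x ∈ P, n * x = x * n) :
    cm n (orbK P L) = orbK P (cm n L) := by
  unfold orbK
  rw [cm_iSup]
  congr 1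
  funext y
  rw [← cm_mul, ← cm_mul, hn y y.2]

theorem InOrb.orbK_eq {P L L' : Subgroup G} (h : InOrb P L L') : orbK P L' = orbK P L := by
  obtain ⟨y, hy, rfl⟩ := h
  unfold orbK
  apply le_antisymm
  · apply iSup_le
    intro y'
    rw [← cm_mul]
    exact cm_le_orbK (P.mul_mem y'.2 hy)
  · apply iSup_le
    intro y'
    have h1 : cm (y' : G) L = cm ((y' : G) * y⁻¹) (cm y L) := by
      rw [← cm_mul, inv_mul_cancel_right]
    rw [h1]
    exact cm_le_orbK (L := cm y L) (P.mul_mem y'.2 (P.inv_mem hy))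

theorem InOrb.symm {P L L' : Subgroup G} (h : InOrb P L L') : InOrb P L' L := by
  obtain ⟨y, hy, rfl⟩ := h
  exact ⟨y⁻¹, P.inv_mem hy, (cm_inv_cm y L).symm⟩

theorem InOrb.trans {P L L' L'' : Subgroup G} (h : InOrb P L L') (h' : InOrb P L' L'') :
    InOrb P L L'' := by
  obtain ⟨y, hy, rfl⟩ := h
  obtain ⟨y', hy', rfl⟩ := h'
  exact ⟨y' * y, P.mul_mem hy' hy, (cm_mul y' y L).symm⟩

/-- If `n` commutes with `P`, conjugation by `n` respects `P`-orbits. -/
theorem InOrb.cm_of_commute {P L L' : Subgroup G} {n : G} (hn : ∀ x ∈ P, n * x = x * n)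
    (h : InOrb P L L') : InOrb P (cm n L) (cm n L') := by
  obtain ⟨y, hy, rfl⟩ := h
  exact ⟨y, hy, by rw [← cm_mul, ← cm_mul, hn y hy]⟩

theorem orbK_le_layer {P L : Subgroup G} (hL : IsComponent L) : orbK P L ≤ layer G := by
  unfold orbK
  apply iSup_le
  intro y
  exact Cfsg.Agent.Helper21.IsComponent.le_layer (isComponent_cm hL _)

/-- The closures of two distinct `P`-orbits of components commute. -/
theorem orbK_le_centralizer_orbK {P L L' : Subgroup G} (hL : IsComponent L) (hL' : IsComponent L')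
    (h : ¬ InOrb P L L') : orbK P L ≤ Subgroup.centralizer (orbK P L' : Set G) := by
  unfold orbK
  apply iSup_le
  intro y
  rw [Subgroup.le_centralizer_iff]
  apply iSup_le
  intro y'
  rw [← Subgroup.commutator_eq_bot_iff_le_centralizer]
  apply Cfsg.Agent.Helper21.IsComponent.commutator_eq_bot_of_ne (isComponent_cm hL' _)
    (isComponent_cm hL _)
  intro heq
  apply h
  refine ⟨(y' : G)⁻¹ * y, P.mul_mem (P.inv_mem y'.2) y.2, ?_⟩
  rw [cm_mul, ← heq, cm_inv_cm]

theorem commute_of_not_inOrb {P L L' : Subgroup G} (hL : IsComponent L) (hL' : IsComponent L')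
    (h : ¬ InOrb P L L') {u v : G} (hu : u ∈ orbK P L) (hv : v ∈ orbK P L') : u * v = v * u :=
  (Subgroup.mem_centralizer_iff.mp (orbK_le_centralizer_orbK hL hL' h hu) v hv).symm

/-- An element of `K_L` centralizing `K_L` centralizes the whole layer. -/
theorem mem_centralizer_layer {P L : Subgroup G} (hL : IsComponent L) {z : G}
    (hz : z ∈ orbK P L) (hzc : z ∈ Subgroup.centralizer (orbK P L : Set G)) :
    z ∈ Subgroup.centralizer (layer G : Set G) := by
  have : layer G ≤ Subgroup.centralizer ((Subgroup.zpowers z : Subgroup G) : Set G) := by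
    rw [Cfsg.Agent.Helper22.layer_le_iff]
    intro M hM
    by_cases h : InOrb P L M
    · refine (h.le_orbK).trans ?_
      rw [Subgroup.le_centralizer_iff, Subgroup.zpowers_le]
      exact hzc
    · refine (le_orbK P M).trans ?_
      rw [Subgroup.le_centralizer_iff, Subgroup.zpowers_le]
      have h' : ¬ InOrb P M L := fun h' => h h'.symm
      exact orbK_le_centralizer_orbK hL hM h hz
  have h2 := Subgroup.le_centralizer_iff.mp this
  exact h2 (Subgroup.mem_zpowers z)

/-! ### `p`-group lemmas -/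

/-- In a `p`-group `T` with `T`-invariant subgroups `B ≤ A`, `A ≠ B`, some element of `A` outside
`B` is central modulo `B`. -/
theorem exists_not_mem_commutator_mem [Finite G] {p : ℕ} [Fact p.Prime] (T A B : Subgroup G)
    (hT : IsPGroup p ↥T) (hAT : A ≤ T) (hBA : B ≤ A)
    (hNA : T ≤ Subgroup.normalizer (A : Set G)) (hNB : T ≤ Subgroup.normalizer (B : Set G))
    (hAB : ¬ A ≤ B) :
    ∃ a ∈ A, a ∉ B ∧ ∀ t ∈ T, t * a * t⁻¹ * a⁻¹ ∈ B := by
  have hBT : B ≤ T := hBA.trans hAT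
  haveI hBn : (B.subgroupOf T).Normal :=
    (Subgroup.normal_subgroupOf_iff_le_normalizer hBT).mpr hNB
  have hAn : (A.subgroupOf T).Normal :=
    (Subgroup.normal_subgroupOf_iff_le_normalizer hAT).mpr hNA
  have hQ : IsPGroup p (↥T ⧸ B.subgroupOf T) := hT.to_quotient _
  haveI hmapn : ((A.subgroupOf T).map (QuotientGroup.mk' (B.subgroupOf T))).Normal :=
    hAn.map _ (QuotientGroup.mk'_surjective _)
  have hne : (A.subgroupOf T).map (QuotientGroup.mk' (B.subgroupOf T)) ≠ ⊥ := by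
    intro h
    apply hAB
    intro a ha
    have h1 : QuotientGroup.mk' (B.subgroupOf T) ⟨a, hAT ha⟩ ∈
        (A.subgroupOf T).map (QuotientGroup.mk' (B.subgroupOf T)) :=
      Subgroup.mem_map_of_mem _ (by rw [Subgroup.mem_subgroupOf]; exact ha)
    rw [h, Subgroup.mem_bot, QuotientGroup.mk'_apply, QuotientGroup.eq_one_iff,
      Subgroup.mem_subgroupOf] at h1
    exact h1
  obtain ⟨b, hbN, hb1, hbc⟩ := Cfsg.Agent.Helper53.exists_mem_center_of_normal' hQ _ hne
  obtain ⟨a', ha', rfl⟩ := hbN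
  refine ⟨a'.1, Subgroup.mem_subgroupOf.mp ha', ?_, ?_⟩
  · intro h
    apply hb1
    rw [QuotientGroup.mk'_apply, QuotientGroup.eq_one_iff, Subgroup.mem_subgroupOf]
    exact h
  · intro t ht
    have h1 := Subgroup.mem_center_iff.mp hbc (QuotientGroup.mk' (B.subgroupOf T) ⟨t, ht⟩)
    have h2 : QuotientGroup.mk' (B.subgroupOf T) (⟨t, ht⟩ * a' * ⟨t, ht⟩⁻¹ * a'⁻¹) = 1 := by
      rw [map_mul, map_mul, map_mul, map_inv, map_inv, h1]
      group
    rw [QuotientGroup.mk'_apply, QuotientGroup.eq_one_iff, Subgroup.mem_subgroupOf] at h2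
    exact h2

/-- A `p`-subgroup `P` of `X` lies in a `p`-subgroup `T` of `X` into which every `p`-element of `X`
is `X`-conjugate. -/
theorem exists_pSubgroup_ge [Finite G] {p : ℕ} [hp : Fact p.Prime] (X P : Subgroup G)
    (hP : IsPGroup p ↥P) (hPX : P ≤ X) :
    ∃ T : Subgroup G, IsPGroup p ↥T ∧ P ≤ T ∧ T ≤ X ∧
      ∀ x ∈ X, (∃ k : ℕ, x ^ p ^ k = 1) → ∃ g ∈ X, g * x * g⁻¹ ∈ T := by
  have hP' : IsPGroup p ↥(P.subgroupOf X) :=
    hP.comap_of_injective X.subtype X.subtype_injective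
  obtain ⟨S, hS⟩ := hP'.exists_le_sylow
  refine ⟨(S : Subgroup ↥X).map X.subtype, S.2.map _, ?_, ?_, ?_⟩
  · intro x hx
    exact ⟨⟨x, hPX hx⟩, hS (Subgroup.mem_subgroupOf.mpr hx), rfl⟩
  · rintro _ ⟨x, -, rfl⟩
    exact x.2
  · rintro x hx ⟨k, hk⟩
    have hz : IsPGroup p ↥(Subgroup.zpowers (⟨x, hx⟩ : ↥X)) := by
      have h1 : orderOf (⟨x, hx⟩ : ↥X) ∣ p ^ k := by
        apply orderOf_dvd_of_pow_eq_one
        apply Subtype.ext
        simpa using hk
      obtain ⟨j, -, hj⟩ := (Nat.dvd_prime_pow hp.out).mp h1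
      apply IsPGroup.of_card (n := j)
      rw [Nat.card_zpowers, hj]
    obtain ⟨Q, hQ⟩ := hz.exists_le_sylow
    obtain ⟨g, hg⟩ := MulAction.exists_smul_eq ↥X Q S
    refine ⟨g, g.2, ⟨g * ⟨x, hx⟩ * g⁻¹, ?_, rfl⟩⟩
    have hx' : (⟨x, hx⟩ : ↥X) ∈ (Q : Subgroup ↥X) := hQ (Subgroup.mem_zpowers _)
    have h2 : g * ⟨x, hx⟩ * g⁻¹ ∈ ((g • Q : Sylow p ↥X) : Subgroup ↥X) := by
      rw [Sylow.coe_subgroup_smul]
      have := Subgroup.smul_mem_pointwise_smul _ (MulAut.conj g) (Q : Subgroup ↥X) hx'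
      rw [MulAut.smul_def, MulAut.conj_apply] at this
      exact this
    rw [hg] at h2
    exact h2

/-- A `p`-element of `Z(E(G))` lies in `O_p(G)`. -/
theorem mem_pCore_of_mem_centralizer_layer [Finite G] {p : ℕ} [hp : Fact p.Prime] {z : G}
    (hz : z ∈ layer G) (hzc : z ∈ Subgroup.centralizer (layer G : Set G))
    (hzp : ∃ k : ℕ, z ^ p ^ k = 1) : z ∈ pCore p G := by
  haveI hEn : (layer G).Normal := Cfsg.Agent.Helper21.layer_normal
  haveI hCn : (Subgroup.centralizer (layer G : Set G)).Normal := inferInstance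
  have hZn : (layer G ⊓ Subgroup.centralizer (layer G : Set G)).Normal := inferInstance
  have hle : Subgroup.zpowers z ≤ layer G ⊓ Subgroup.centralizer (layer G : Set G) := by
    rw [Subgroup.zpowers_le]
    exact ⟨hz, hzc⟩
  have hsub : (Subgroup.zpowers z).IsSubnormal := by
    refine Subgroup.IsSubnormal.step _ _ hle hZn.isSubnormal ?_
    rw [Subgroup.normal_subgroupOf_iff_le_normalizer hle]
    intro g hg
    rw [Subgroup.mem_normalizer_iff]
    intro w
    have hcomm : ∀ w : G, w ∈ Subgroup.zpowers z → g * w * g⁻¹ = w := by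
      intro w hw
      have h1 : w ∈ layer G := (hle hw).1
      have h2 := Subgroup.mem_centralizer_iff.mp hg.2 w h1
      rw [← h2]; group
    constructor
    · intro hw
      rw [hcomm w hw]; exact hw
    · intro hw
      have h3 := hcomm _ hw
      have h4 : w = g * w * g⁻¹ := by
        have h5 : g⁻¹ * (g * (g * w * g⁻¹) * g⁻¹) * g = g⁻¹ * (g * w * g⁻¹) * g := by rw [h3]
        have e1 : g⁻¹ * (g * (g * w * g⁻¹) * g⁻¹) * g = g * w * g⁻¹ := by group
        have e2 : g⁻¹ * (g * w * g⁻¹) * g = w := by group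
        rw [e1, e2] at h5
        exact h5.symm
      rw [h4]; exact hw
  have hpg : IsPGroup p ↥(Subgroup.zpowers z) := by
    obtain ⟨k, hk⟩ := hzp
    have h1 : orderOf z ∣ p ^ k := orderOf_dvd_of_pow_eq_one hk
    obtain ⟨j, -, hj⟩ := (Nat.dvd_prime_pow hp.out).mp h1
    apply IsPGroup.of_card (n := j)
    rw [Nat.card_zpowers, hj]
  exact Cfsg.Agent.Helper22.le_pCore_of_isSubnormal hsub hpg (Subgroup.mem_zpowers z)

/-- **Existence of a good `p`-element.**  If `O_{p'}(G) = 1`, `P` is a `p`-subgroup and `L` a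
component with `P`-closure `K`, there is a `p`-element `a ∈ K` not centralizing `K` whose
commutators with `P` lie in `O_p(G)`. -/
theorem exists_pElement_orbK [Finite G] {p : ℕ} [hp : Fact p.Prime] (hO : pPrimeCore p G = ⊥)
    (P : Subgroup G) (hP : IsPGroup p ↥P) {L : Subgroup G} (hL : IsComponent L) :
    ∃ a ∈ orbK P L, (∃ k : ℕ, a ^ p ^ k = 1) ∧
      a ∉ Subgroup.centralizer (orbK P L : Set G) ∧
      ∀ t ∈ P, t * a * t⁻¹ * a⁻¹ ∈ pCore p G := by
  classical
  -- `p` divides `|L|`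
  have hpL : p ∣ Nat.card ↥L := by
    by_contra h
    have h1 := Cfsg.Agent.Helper22.le_pPrimeCore_of_isSubnormal hL.1
      (Cfsg.Agent.Helper22.coprime_card_of_not_dvd h)
    rw [hO, le_bot_iff] at h1
    exact Cfsg.Agent.Helper21.IsComponent.ne_bot hL h1
  obtain ⟨x₀, ⟨k₀, hk₀⟩, hx₀⟩ :=
    Cfsg.Agent.Helper22.exists_pElement_not_mem_center (X := ↥L) p hL.2.1 hpL
  set K := orbK P L with hK
  have hLK : L ≤ K := le_orbK P L
  have hPN : P ≤ Subgroup.normalizer (K : Set G) := le_normalizer_orbK P L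
  obtain ⟨T, hT, hPT, hTN, hconj⟩ := exists_pSubgroup_ge (Subgroup.normalizer (K : Set G)) P hP hPN
  -- conjugate `x₀` into `T`
  have hx₀N : (x₀ : G) ∈ Subgroup.normalizer (K : Set G) := Subgroup.le_normalizer (hLK x₀.2)
  have hx₀p : ∃ k : ℕ, (x₀ : G) ^ p ^ k = 1 := ⟨k₀, by
    have := congrArg Subtype.val hk₀
    simpa using this⟩
  obtain ⟨g, hg, hgT⟩ := hconj _ hx₀N hx₀p
  have hCN : ∀ t ∈ Subgroup.normalizer (K : Set G),
      t ∈ Subgroup.normalizer ((Subgroup.centralizer (K : Set G) : Subgroup G) : Set G) := by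
    intro t ht
    rw [← cm_eq_self_iff, cm_centralizer, cm_eq_self_iff.mpr ht]
  -- the element `a₀ = g x₀ g⁻¹`
  have ha₀K : g * x₀ * g⁻¹ ∈ K := by
    have := (Subgroup.mem_normalizer_iff.mp hg (x₀ : G)).mp (hLK x₀.2)
    exact this
  have ha₀C : g * x₀ * g⁻¹ ∉ Subgroup.centralizer (K : Set G) := by
    intro h
    have h1 := (Subgroup.mem_normalizer_iff.mp (hCN g hg) (x₀ : G)).mpr h
    apply hx₀
    rw [Subgroup.mem_center_iff]
    intro l
    apply Subtype.ext
    have := Subgroup.mem_centralizer_iff.mp h1 (l : G) (hLK l.2)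
    simpa using this
  -- apply the `p`-group lemma
  have hAB : ¬ (T ⊓ K ≤ T ⊓ K ⊓ Subgroup.centralizer (K : Set G)) := by
    intro h
    exact ha₀C (h ⟨hgT, ha₀K⟩).2
  have hNA : T ≤ Subgroup.normalizer ((T ⊓ K : Subgroup G) : Set G) := by
    intro t ht
    rw [← cm_eq_self_iff]
    ext w
    rw [mem_cm, Subgroup.mem_inf, Subgroup.mem_inf]
    have h1 := Subgroup.mem_normalizer_iff.mp (Subgroup.inv_mem _ (hTN ht)) w
    simp only [inv_inv] at h1
    constructor
    · rintro ⟨h2, h3⟩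
      refine ⟨?_, h1.mpr h3⟩
      have := T.mul_mem (T.mul_mem ht h2) (T.inv_mem ht)
      convert this using 1; group
    · rintro ⟨h2, h3⟩
      exact ⟨T.mul_mem (T.mul_mem (T.inv_mem ht) h2) ht, h1.mp h3⟩
  have hNB : T ≤ Subgroup.normalizer
      ((T ⊓ K ⊓ Subgroup.centralizer (K : Set G) : Subgroup G) : Set G) := by
    intro t ht
    rw [← cm_eq_self_iff]
    ext w
    rw [mem_cm, Subgroup.mem_inf (p' := Subgroup.centralizer (K : Set G)),
      Subgroup.mem_inf (p' := Subgroup.centralizer (K : Set G))]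
    have h0 := cm_eq_self_iff.mpr (hNA ht)
    have h0' : ∀ w, t⁻¹ * w * t ∈ T ⊓ K ↔ w ∈ T ⊓ K := fun w => by rw [← mem_cm, h0]
    have h1 := Subgroup.mem_normalizer_iff.mp (Subgroup.inv_mem _ (hCN t (hTN ht))) w
    simp only [inv_inv] at h1
    rw [h0' w, ← h1]
  obtain ⟨a, haA, haB, hat⟩ := exists_not_mem_commutator_mem T (T ⊓ K)
    (T ⊓ K ⊓ Subgroup.centralizer (K : Set G)) hT inf_le_left inf_le_left hNA hNB hAB
  have haT : a ∈ T := haA.1
  have haK : a ∈ K := haA.2
  refine ⟨a, haK, ?_, fun h => haB ⟨haA, h⟩, ?_⟩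
  · obtain ⟨k, hk⟩ := (IsPGroup.iff_orderOf.mp hT) ⟨a, haT⟩
    refine ⟨k, ?_⟩
    have h1 : orderOf a = p ^ k := by rw [← hk]; exact (Subgroup.orderOf_mk a haT).symm
    rw [← h1]; exact pow_orderOf_eq_one a
  · intro t ht
    have h1 := hat t (hPT ht)
    have hzT : t * a * t⁻¹ * a⁻¹ ∈ T := h1.1.1
    have hzK : t * a * t⁻¹ * a⁻¹ ∈ K := h1.1.2
    have hzC : t * a * t⁻¹ * a⁻¹ ∈ Subgroup.centralizer (K : Set G) := h1.2
    apply mem_pCore_of_mem_centralizer_layer (orbK_le_layer hL hzK)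
      (mem_centralizer_layer hL hzK hzC)
    obtain ⟨k, hk⟩ := (IsPGroup.iff_orderOf.mp hT) ⟨_, hzT⟩
    refine ⟨k, ?_⟩
    have h2 : orderOf (t * a * t⁻¹ * a⁻¹) = p ^ k := by
      rw [← hk]; exact (Subgroup.orderOf_mk _ hzT).symm
    rw [← h2]; exact pow_orderOf_eq_one _

/-! ### The key lemma -/

/-- If a power of a `p`-element with exponent prime to `p` lies in `H`, so does the element. -/
theorem mem_of_pow_mem_of_coprime {p : ℕ} [hp : Fact p.Prime] (H : Subgroup G) {x : G} {k m : ℕ}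
    (hx : x ^ p ^ k = 1) (hm : m.Coprime p) (h : x ^ m ∈ H) : x ∈ H := by
  have h1 : orderOf x ∣ p ^ k := orderOf_dvd_of_pow_eq_one hx
  have h2 : m.Coprime (orderOf x) :=
    Nat.Coprime.coprime_dvd_right h1 (Nat.Coprime.pow_right k hm)
  obtain ⟨j, hj⟩ := exists_pow_eq_self_of_coprime h2
  rw [← hj]
  exact H.pow_mem h j

theorem inOrb_pow {P L : Subgroup G} {m : G} (hm : ∀ x ∈ P, m * x = x * m)
    (h : InOrb P L (cm m L)) (j : ℕ) : InOrb P L (cm (m ^ j) L) := by
  induction j with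
  | zero => rw [pow_zero, cm_one]; exact inOrb_refl P L
  | succ j ih =>
    rw [pow_succ', cm_mul]
    exact h.trans (ih.cm_of_commute hm)

theorem cm_pow_eq {L : Subgroup G} {n y : G} (hny : n * y = y * n) (h : cm n L = cm y L) (j : ℕ) :
    cm (n ^ j) L = cm (y ^ j) L := by
  induction j with
  | zero => rw [pow_zero, pow_zero]
  | succ j ih =>
    have hc : n * y ^ j = y ^ j * n := by
      have : Commute n y := hny
      exact (this.pow_right j).eq
    rw [pow_succ', cm_mul, ih, ← cm_mul, hc, cm_mul, h, ← cm_mul, ← pow_succ]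

section Key

variable [Finite G] {p : ℕ} [hp : Fact p.Prime] (hO : pPrimeCore p G = ⊥)
  (P : Subgroup G) (hP : IsPGroup p ↥P) {n : G}
  (h1 : ∀ x ∈ P, n * x = x * n)
  (h2 : ∀ z ∈ pCore p G, n * z = z * n)
  (h3 : ∀ b ∈ layer G, (∀ x ∈ P, b * x = x * b) → (orderOf (b⁻¹ * (n * b * n⁻¹))).Coprime p)

include hO hP h1 h2 h3

/-- If `n` moves the `P`-orbit of `L`, then `n²` fixes it and `p = 2`. -/
theorem inOrb_sq_and_eq_two {L : Subgroup G} (hL : IsComponent L)
    (hmove : ¬ InOrb P L (cm n L)) : InOrb P L (cm n (cm n L)) ∧ p = 2 := by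
  obtain ⟨a, haK, ⟨k, hak⟩, haC, hat⟩ := exists_pElement_orbK hO P hP hL
  have hL₁ : IsComponent (cm n L) := isComponent_cm hL n
  have hL₂ : IsComponent (cm n (cm n L)) := isComponent_cm hL₁ n
  -- the elements `a₁`, `a₂`
  have ha₁K : n * a * n⁻¹ ∈ orbK P (cm n L) := by
    rw [← cm_orbK_of_commute h1]; exact conj_mem_cm haK
  have ha₂K : n * (n * a * n⁻¹) * n⁻¹ ∈ orbK P (cm n (cm n L)) := by
    rw [← cm_orbK_of_commute h1]; exact conj_mem_cm ha₁K
  have hmove' : ¬ InOrb P (cm n L) (cm n (cm n L)) := by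
    intro h
    apply hmove
    have h' := h.cm_of_commute (n := n⁻¹) (fun x hx => by
      have := h1 x hx
      calc n⁻¹ * x = n⁻¹ * (x * n) * n⁻¹ := by group
        _ = n⁻¹ * (n * x) * n⁻¹ := by rw [this]
        _ = x * n⁻¹ := by group)
    rwa [cm_inv_cm, cm_inv_cm] at h'
  -- `b = a⁻¹ a₁` centralizes `P`
  have hbE : a⁻¹ * (n * a * n⁻¹) ∈ layer G :=
    Subgroup.mul_mem _ (Subgroup.inv_mem _ (orbK_le_layer hL haK)) (orbK_le_layer hL₁ ha₁K)
  have hbP : ∀ x ∈ P, a⁻¹ * (n * a * n⁻¹) * x = x * (a⁻¹ * (n * a * n⁻¹)) := by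
    intro x hx
    have hz := hat x⁻¹ (P.inv_mem hx)
    rw [inv_inv] at hz
    have hnz := h2 _ hz
    have hnx := h1 x hx
    have e1 : n * a * n⁻¹ * x = n * (a * x * a⁻¹) * n⁻¹ * (n * a * n⁻¹) := by
      calc n * a * n⁻¹ * x = n * a * (n⁻¹ * (x * n)) * n⁻¹ := by group
        _ = n * a * (n⁻¹ * (n * x)) * n⁻¹ := by rw [hnx]
        _ = n * (a * x * a⁻¹) * n⁻¹ * (n * a * n⁻¹) := by group
    have e2 : n * (a * x * a⁻¹) * n⁻¹ = a * x * a⁻¹ := by
      calc n * (a * x * a⁻¹) * n⁻¹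
          = (n * x) * n⁻¹ * ((n * (x⁻¹ * a * x * a⁻¹)) * n⁻¹) := by group
        _ = (x * n) * n⁻¹ * (((x⁻¹ * a * x * a⁻¹) * n) * n⁻¹) := by rw [hnx, hnz]
        _ = a * x * a⁻¹ := by group
    calc a⁻¹ * (n * a * n⁻¹) * x = a⁻¹ * (n * a * n⁻¹ * x) := by group
      _ = a⁻¹ * (n * (a * x * a⁻¹) * n⁻¹ * (n * a * n⁻¹)) := by rw [e1]
      _ = a⁻¹ * (a * x * a⁻¹ * (n * a * n⁻¹)) := by rw [e2]
      _ = x * (a⁻¹ * (n * a * n⁻¹)) := by group
  have hu := h3 _ hbE hbP
  set a₁ := n * a * n⁻¹ with ha₁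
  set a₂ := n * a₁ * n⁻¹ with ha₂
  set r := orderOf ((a⁻¹ * a₁)⁻¹ * (n * (a⁻¹ * a₁) * n⁻¹)) with hr
  have hur : ((a⁻¹ * a₁)⁻¹ * (n * (a⁻¹ * a₁) * n⁻¹)) ^ r = 1 := pow_orderOf_eq_one _
  have hcomm01 : a * a₁ = a₁ * a := commute_of_not_inOrb hL hL₁ hmove haK ha₁K
  have hcomm12 : a₁ * a₂ = a₂ * a₁ := commute_of_not_inOrb hL₁ hL₂ hmove' ha₁K ha₂K
  have ha₁k : a₁ ^ p ^ k = 1 := by
    rw [ha₁, conj_pow, hak]; group
  by_cases hA : InOrb P L (cm n (cm n L))
  · refine ⟨hA, ?_⟩
    by_contra hp2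
    -- Case B
    have hK₂ : orbK P (cm n (cm n L)) = orbK P L := hA.orbK_eq
    rw [hK₂] at ha₂K
    have hcomm1 : Commute ((a₁ ^ 2)⁻¹) (a * a₂) := by
      have c1 : Commute a₁ a := hcomm01.symm
      have c2 : Commute a₁ a₂ := hcomm12
      exact ((c1.mul_right c2).pow_left 2).inv_left
    have hueq : (a⁻¹ * a₁)⁻¹ * (n * (a⁻¹ * a₁) * n⁻¹) = (a₁ ^ 2)⁻¹ * (a * a₂) := by
      have e0 : n * (a⁻¹ * a₁) * n⁻¹ = a₁⁻¹ * a₂ := by
        rw [ha₂, ha₁]; group
      rw [e0]
      have c1 : a₁⁻¹ * a = a * a₁⁻¹ := by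
        have : Commute a₁ a := hcomm01.symm
        exact this.inv_left.eq
      calc (a⁻¹ * a₁)⁻¹ * (a₁⁻¹ * a₂) = a₁⁻¹ * a * a₁⁻¹ * a₂ := by group
        _ = a₁⁻¹ * (a * a₁⁻¹) * a₂ := by group
        _ = a₁⁻¹ * (a₁⁻¹ * a) * a₂ := by rw [c1]
        _ = (a₁ ^ 2)⁻¹ * (a * a₂) := by group
    rw [hueq, hcomm1.mul_pow] at hur
    have h5 : (a₁ ^ 2) ^ r = (a * a₂) ^ r := by
      have : ((a₁ ^ 2) ^ r)⁻¹ * (a * a₂) ^ r = 1 := by rw [← inv_pow]; exact hur
      have h6 := eq_of_inv_mul_eq_one this   -- hmm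
      exact h6
    have h6 : a₁ ^ (2 * r) ∈ Subgroup.centralizer (orbK P (cm n L) : Set G) := by
      rw [pow_mul, h5]
      apply Subgroup.pow_mem
      exact orbK_le_centralizer_orbK hL hL₁ hmove (Subgroup.mul_mem _ haK ha₂K)
    have hcop : (2 * r).Coprime p := by
      apply Nat.Coprime.mul_left _ hu
      rw [Nat.coprime_comm, Nat.Prime.coprime_iff_not_dvd hp.out]
      intro h
      exact hp2 ((Nat.prime_dvd_prime_iff_eq hp.out Nat.prime_two).mp h)
    have h7 := mem_of_pow_mem_of_coprime _ ha₁k hcop h6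
    apply haC
    have h8 : n⁻¹ * a₁ * n⁻¹⁻¹ ∈ cm n⁻¹ (Subgroup.centralizer (orbK P (cm n L) : Set G)) :=
      conj_mem_cm h7
    rw [cm_centralizer, ← cm_orbK_of_commute h1, cm_inv_cm] at h8
    have e : n⁻¹ * a₁ * n⁻¹⁻¹ = a := by rw [ha₁]; group
    rwa [e] at h8
  · exfalso
    -- Case A
    have hcomm02 : a * a₂ = a₂ * a := commute_of_not_inOrb hL hL₂ hA haK ha₂K
    have hcomm1 : Commute a (a₁⁻¹ * a₁⁻¹ * a₂) := by
      have c1 : Commute a a₁ := hcomm01
      have c2 : Commute a a₂ := hcomm02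
      exact (c1.inv_right.mul_right c1.inv_right).mul_right c2
    have hueq : (a⁻¹ * a₁)⁻¹ * (n * (a⁻¹ * a₁) * n⁻¹) = a * (a₁⁻¹ * a₁⁻¹ * a₂) := by
      have e0 : n * (a⁻¹ * a₁) * n⁻¹ = a₁⁻¹ * a₂ := by
        rw [ha₂, ha₁]; group
      rw [e0]
      have c1 : a₁⁻¹ * a = a * a₁⁻¹ := by
        have : Commute a₁ a := hcomm01.symm
        exact this.inv_left.eq
      calc (a⁻¹ * a₁)⁻¹ * (a₁⁻¹ * a₂) = (a₁⁻¹ * a) * a₁⁻¹ * a₂ := by group
        _ = (a * a₁⁻¹) * a₁⁻¹ * a₂ := by rw [c1]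
        _ = a * (a₁⁻¹ * a₁⁻¹ * a₂) := by group
    rw [hueq, hcomm1.mul_pow] at hur
    have h5 : a ^ r = ((a₁⁻¹ * a₁⁻¹ * a₂) ^ r)⁻¹ := eq_inv_of_mul_eq_one_left hur
    have h6 : a ^ r ∈ Subgroup.centralizer (orbK P L : Set G) := by
      rw [h5]
      apply Subgroup.inv_mem
      apply Subgroup.pow_mem
      have hc1 : a₁ ∈ Subgroup.centralizer (orbK P L : Set G) := by
        have hmv : ¬ InOrb P (cm n L) L := fun h => hmove h.symm
        exact orbK_le_centralizer_orbK hL₁ hL hmv ha₁K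
      have hc2 : a₂ ∈ Subgroup.centralizer (orbK P L : Set G) := by
        have hmv : ¬ InOrb P (cm n (cm n L)) L := fun h => hA h.symm
        exact orbK_le_centralizer_orbK hL₂ hL hmv ha₂K
      exact Subgroup.mul_mem _ (Subgroup.mul_mem _ (Subgroup.inv_mem _ hc1)
        (Subgroup.inv_mem _ hc1)) hc2
    exact haC (mem_of_pow_mem_of_coprime _ hak hu h6)

/-- **Key lemma.**  A `p'`-element `n` centralizing `P` and `O_p(G)`, and acting on `C_{E(G)}(P)`
with `p'`-commutators, normalizes every component of `G`. -/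
theorem cm_eq_of_coprime (h4 : (orderOf n).Coprime p) {L : Subgroup G} (hL : IsComponent L) :
    cm n L = L := by
  -- Step II: `n` fixes the `P`-orbit of `L`
  have horb : InOrb P L (cm n L) := by
    by_contra hmove
    obtain ⟨hsq, hp2⟩ := inOrb_sq_and_eq_two hO P hP h1 h2 h3 hL hmove
    apply hmove
    have hnn : ∀ x ∈ P, (n * n) * x = x * (n * n) := by
      intro x hx
      have := h1 x hx
      calc n * n * x = n * (n * x) := by group
        _ = n * (x * n) := by rw [this]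
        _ = (n * x) * n := by group
        _ = (x * n) * n := by rw [this]
        _ = x * (n * n) := by group
    have hsq' : InOrb P L (cm (n * n) L) := by rw [cm_mul]; exact hsq
    have h2' : (2 : ℕ).Coprime (orderOf n) := by
      rw [hp2] at h4
      exact h4.symm
    obtain ⟨j, hj⟩ := exists_pow_eq_self_of_coprime h2'
    have := inOrb_pow hnn hsq' j
    rwa [← pow_two, hj] at this
  -- Step III
  obtain ⟨y, hy, hyL⟩ := horb
  obtain ⟨k, hk⟩ := (IsPGroup.iff_orderOf.mp hP) ⟨y, hy⟩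
  have hyk : y ^ p ^ k = 1 := by
    have h5 : orderOf y = p ^ k := by rw [← hk]; exact (Subgroup.orderOf_mk y hy).symm
    rw [← h5]; exact pow_orderOf_eq_one y
  have h6 := cm_pow_eq (h1 y hy) hyL (p ^ k)
  rw [hyk, cm_one] at h6
  have h7 : n ^ p ^ k ∈ Subgroup.normalizer (L : Set G) := cm_eq_self_iff.mp h6
  have hcop : (p ^ k).Coprime (orderOf n) := Nat.Coprime.pow_left k h4.symm
  obtain ⟨j, hj⟩ := exists_pow_eq_self_of_coprime hcop
  rw [cm_eq_self_iff, ← hj]
  exact Subgroup.pow_mem _ h7 j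

end Key

/-! ### The kernel of the action on components -/

/-- The subgroup of elements normalizing every component. -/
def compNormalizer (G : Type*) [Group G] : Subgroup G :=
  ⨅ L : {K : Subgroup G // IsComponent K}, Subgroup.normalizer ((L : Subgroup G) : Set G)

theorem mem_compNormalizer {g : G} :
    g ∈ compNormalizer G ↔ ∀ L : Subgroup G, IsComponent L → cm g L = L := by
  unfold compNormalizer
  rw [Subgroup.mem_iInf]
  constructor
  · intro h L hL
    exact cm_eq_self_iff.mpr (h ⟨L, hL⟩)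
  · intro h L
    exact cm_eq_self_iff.mp (h L.1 L.2)

instance compNormalizer_normal : (compNormalizer G).Normal := by
  constructor
  intro n hn g
  rw [mem_compNormalizer] at hn ⊢
  intro L hL
  rw [cm_mul, cm_mul, hn _ (isComponent_cm hL g⁻¹), cm_cm_inv]

theorem layer_le_compNormalizer : layer G ≤ compNormalizer G := by
  intro g hg
  rw [mem_compNormalizer]
  intro L hL
  exact cm_eq_self_iff.mpr (Cfsg.Agent.Helper22.IsComponent.layer_le_normalizer hL hg)

/-- A subgroup `X` with `X = ⁅X, X⁆ O` lies in every normal subgroup `D ≥ O` containing the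
`p'`-elements of `X`. -/
theorem le_of_coprime_mem_of_le_commutator_sup {H : Type*} [Group H] [Finite H] (p : ℕ)
    [hp : Fact p.Prime] (X O D : Subgroup H) [D.Normal] (hOD : O ≤ D) (hX : X ≤ ⁅X, X⁆ ⊔ O)
    (hD : ∀ a ∈ X, (orderOf a).Coprime p → a ∈ D) : X ≤ D := by
  have hYp : IsPGroup p ↥(X.map (QuotientGroup.mk' D)) := by
    rintro ⟨_, g, hg, rfl⟩
    have hpos : 0 < orderOf g := orderOf_pos g
    obtain ⟨k, m, hm, hkm⟩ := Nat.exists_eq_pow_mul_and_not_dvd hpos.ne' p hp.out.ne_one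
    refine ⟨k, Subtype.ext ?_⟩
    simp only [Subgroup.coe_pow, Subgroup.coe_one]
    rw [← map_pow, QuotientGroup.mk'_apply, QuotientGroup.eq_one_iff]
    apply hD _ (Subgroup.pow_mem _ hg _)
    rw [orderOf_pow' g (pow_ne_zero k hp.out.ne_zero), hkm, Nat.gcd_eq_right (Dvd.intro _ rfl),
      Nat.mul_div_cancel_left _ (pow_pos hp.out.pos k)]
    exact ((Nat.Prime.coprime_iff_not_dvd hp.out).mpr hm).symm
  have hYY : X.map (QuotientGroup.mk' D) ≤
      ⁅X.map (QuotientGroup.mk' D), X.map (QuotientGroup.mk' D)⁆ := by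
    calc X.map (QuotientGroup.mk' D)
        ≤ (⁅X, X⁆ ⊔ O).map (QuotientGroup.mk' D) := Subgroup.map_mono hX
      _ = ⁅X.map (QuotientGroup.mk' D), X.map (QuotientGroup.mk' D)⁆ := by
          rw [Subgroup.map_sup, Subgroup.map_commutator]
          have : O.map (QuotientGroup.mk' D) = ⊥ := by
            rw [eq_bot_iff]
            rintro _ ⟨o, ho, rfl⟩
            rw [Subgroup.mem_bot, QuotientGroup.mk'_apply, QuotientGroup.eq_one_iff]
            exact hOD ho
          rw [this, sup_bot_eq]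
  have hperf : Group.IsPerfect ↥(X.map (QuotientGroup.mk' D)) := by
    rw [Subgroup.isPerfect_iff]
    exact le_antisymm (Subgroup.commutator_le.mpr fun a ha b hb =>
      Subgroup.mul_mem _ (Subgroup.mul_mem _ (Subgroup.mul_mem _ ha hb) (Subgroup.inv_mem _ ha))
        (Subgroup.inv_mem _ hb)) hYY
  have hsub : Subsingleton ↥(X.map (QuotientGroup.mk' D)) := by
    by_contra hns
    rw [not_subsingleton_iff_nontrivial] at hns
    haveI : Group.IsNilpotent ↥(X.map (QuotientGroup.mk' D)) := hYp.isNilpotent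
    have hsolv : Group.IsSolvable ↥(X.map (QuotientGroup.mk' D)) := inferInstance
    exact Group.IsPerfect.not_isSolvable _ hsolv
  intro x hx
  have h1 : QuotientGroup.mk' D x ∈ X.map (QuotientGroup.mk' D) :=
    Subgroup.mem_map_of_mem _ hx
  have h2 : (⟨QuotientGroup.mk' D x, h1⟩ : ↥(X.map (QuotientGroup.mk' D))) = 1 :=
    Subsingleton.elim _ _
  have h3 : QuotientGroup.mk' D x = 1 := congrArg Subtype.val h2
  rwa [QuotientGroup.mk'_apply, QuotientGroup.eq_one_iff] at h3

/-! ### The main theorem -/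

open Cfsg.Agent.Helper22 in
open scoped commutatorElement in
/-- **FGT 31.17.**  If `O_{p'}(G) = 1`, `P` is a `p`-subgroup and `N = N_G(P)`, then the preimage
in `N` of `E(N / O_{p'}(N))` normalizes every component of `G`. -/
theorem pLayerPre_normalizer_le_compNormalizer [Finite G] (p : ℕ) [hp : Fact p.Prime]
    (hO : pPrimeCore p G = ⊥) (P : Subgroup G) (hP : IsPGroup p ↥P) :
    (pLayerPre p ↥(Subgroup.normalizer (P : Set G))).map
        (Subgroup.normalizer (P : Set G)).subtype ≤ compNormalizer G := by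
  rw [Subgroup.map_le_iff_le_comap]
  set N := Subgroup.normalizer (P : Set G) with hN
  set D := pPrimeCore p ↥N with hD
  haveI hDn : D.Normal := by
    haveI := Cfsg.Agent.Lib.pPrimeCore_characteristic (G := ↥N) p
    infer_instance
  haveI hΛn : ((compNormalizer G).comap N.subtype).Normal := inferInstance
  have hPn : (P.subgroupOf N).Normal := Subgroup.normal_in_normalizer
  have hPp : IsPGroup p ↥(P.subgroupOf N) :=
    hP.comap_of_injective _ (Subgroup.subtype_injective _)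
  have hDcop : ∀ d ∈ D, (orderOf d).Coprime p := by
    intro d hd
    have h1 : orderOf d ∣ Nat.card ↥D := by
      rw [← Subgroup.orderOf_mk d hd]
      exact orderOf_dvd_natCard _
    exact Nat.Coprime.coprime_dvd_left h1 (Cfsg.Agent.Lib.card_pPrimeCore_coprime p)
  -- the key application
  have keyApp : ∀ a : ↥N, a ∈ pLayerPre p ↥N → (orderOf a).Coprime p →
      (∀ b : ↥N, (b : G) ∈ layer G → (∀ x ∈ P, (b : G) * x = x * b) →
        b⁻¹ * (a * b * a⁻¹) ∈ D) → a ∈ (compNormalizer G).comap N.subtype := by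
    intro a ha hcop hcomm
    rw [Subgroup.mem_comap, mem_compNormalizer]
    intro L hL
    apply cm_eq_of_coprime hO P hP (n := (a : G)) ?_ ?_ ?_ ?_ hL
    · intro x hx
      have hxN : x ∈ N := Subgroup.le_normalizer hx
      have := pLayerPre_commute_of_normal_pGroup p _ hPp ha
        (r := ⟨x, hxN⟩) (Subgroup.mem_subgroupOf.mpr hx)
      exact congrArg Subtype.val this
    · intro z hz
      have h1 := pLayerPre_normalizer_le_centralizer_pCore p P hP
        (Subgroup.mem_map_of_mem _ ha)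
      exact (Subgroup.mem_centralizer_iff.mp h1 z hz).symm
    · intro b hb hbP
      have hbN : b ∈ N := by
        apply Subgroup.centralizer_le_normalizer
        rw [Subgroup.mem_centralizer_iff]
        intro x hx
        exact (hbP x hx).symm
      have h1 := hcomm ⟨b, hbN⟩ hb hbP
      have h2 := hDcop _ h1
      rw [← Subgroup.orderOf_coe] at h2
      exact h2
    · rw [Subgroup.orderOf_coe]; exact hcop
  -- `D` normalizes every component
  have hDΛ : D ≤ (compNormalizer G).comap N.subtype := by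
    intro d hd
    apply keyApp d (pPrimeCore_le_pLayerPre p hd) (hDcop d hd)
    intro b _ _
    have h1 : b⁻¹ * d * b⁻¹⁻¹ ∈ D := hDn.conj_mem d hd b⁻¹
    have h2 : b⁻¹ * (d * b * d⁻¹) = (b⁻¹ * d * b⁻¹⁻¹) * d⁻¹ := by group
    rw [h2]
    exact D.mul_mem h1 (D.inv_mem hd)
  -- the normal subgroup `M = C_{E(G)}(P)` of `N`
  set M : Subgroup ↥N := (layer G ⊓ Subgroup.centralizer (P : Set G)).comap N.subtype with hM
  have hMn : M.Normal := by
    constructor
    intro m hm g
    rw [hM, Subgroup.mem_comap] at hm ⊢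
    haveI hEn : (layer G).Normal := Cfsg.Agent.Helper21.layer_normal
    have hm1 : (m : G) ∈ layer G := hm.1
    have hm2 : (m : G) ∈ Subgroup.centralizer (P : Set G) := hm.2
    apply Subgroup.mem_inf.mpr
    constructor
    · have := hEn.conj_mem _ hm1 (g : G)
      simpa using this
    · rw [Subgroup.mem_centralizer_iff]
      intro x hx
      have hgx : (g : G)⁻¹ * x * (g : G) ∈ P := by
        have := (Subgroup.mem_normalizer_iff.mp (Subgroup.inv_mem _ g.2) x).mp hx
        simpa using this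
      have h1 := Subgroup.mem_centralizer_iff.mp hm2 _ hgx
      simp only [Subgroup.coe_subtype, Subgroup.coe_mul, Subgroup.coe_inv]
      calc x * ((g : G) * (m : G) * (g : G)⁻¹)
          = (g : G) * (((g : G)⁻¹ * x * (g : G)) * (m : G)) * (g : G)⁻¹ := by group
        _ = (g : G) * ((m : G) * ((g : G)⁻¹ * x * (g : G))) * (g : G)⁻¹ := by rw [h1]
        _ = (g : G) * (m : G) * (g : G)⁻¹ * x := by group
  have hMΛ : M ≤ (compNormalizer G).comap N.subtype := by
    intro m hm
    rw [hM, Subgroup.mem_comap] at hm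
    exact layer_le_compNormalizer hm.1
  set π := QuotientGroup.mk' D with hπ
  have hπs : Function.Surjective π := QuotientGroup.mk'_surjective _
  haveI hMbn : (M.map π).Normal := hMn.map π hπs
  -- lifting through `π`
  have lift : ∀ (Y : Subgroup ↥N) (x : ↥N), π x ∈ Y.map π → ∃ y ∈ Y, y⁻¹ * x ∈ D := by
    intro Y x hx
    obtain ⟨y, hy, hyx⟩ := hx
    refine ⟨y, hy, ?_⟩
    rw [← QuotientGroup.eq_one_iff, ← QuotientGroup.mk'_apply, ← hπ, map_mul, map_inv, hyx,
      inv_mul_cancel]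
  -- every component of `N / D` lifts into the kernel
  have hcomp : ∀ Jb : Subgroup (↥N ⧸ D), IsComponent Jb →
      Jb.comap π ≤ (compNormalizer G).comap N.subtype := by
    intro Jb hJb
    have hJmap : (Jb.comap π).map π = Jb := Subgroup.map_comap_eq_self_of_surjective hπs _
    have hJpre : Jb.comap π ≤ pLayerPre p ↥N := by
      intro j hj
      rw [mem_pLayerPre]
      exact Cfsg.Agent.Helper21.IsComponent.le_layer hJb hj
    rcases Cfsg.Agent.Helper21.IsComponent.le_or_commutator_eq_bot hJb (M.map π)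
      (by rw [Subgroup.normalizer_eq_top]; exact le_top) with hle | hcomm
    · -- `J̄ ≤ M̄`
      intro j hj
      obtain ⟨m, hm, hmj⟩ := lift M j (hle hj)
      have : j = m * (m⁻¹ * j) := by group
      rw [this]
      exact Subgroup.mul_mem _ (hMΛ hm) (hDΛ hmj)
    · -- `[J̄, M̄] = 1`
      apply le_of_coprime_mem_of_le_commutator_sup p (Jb.comap π) D _ hDΛ
      · intro j hj
        have h1 : π j ∈ ⁅Jb, Jb⁆ := by
          rw [Cfsg.Agent.Helper22.IsComponent.commutator_self hJb]; exact hj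
        rw [← hJmap, ← Subgroup.map_commutator] at h1
        obtain ⟨y, hy, hyj⟩ := lift _ j h1
        have : j = y * (y⁻¹ * j) := by group
        rw [this]
        exact Subgroup.mul_mem_sup hy hyj
      · intro a ha hcop
        apply keyApp a (hJpre ha) hcop
        intro b hb hbP
        have hbM : b ∈ M := by
          rw [hM, Subgroup.mem_comap]
          apply Subgroup.mem_inf.mpr
          refine ⟨hb, ?_⟩
          show (b : G) ∈ Subgroup.centralizer (P : Set G)
          rw [Subgroup.mem_centralizer_iff]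
          intro x hx
          exact (hbP x hx).symm
        have h1 : ⁅π a, π b⁆ ∈ ⁅Jb, M.map π⁆ :=
          Subgroup.commutator_mem_commutator ha (Subgroup.mem_map_of_mem _ hbM)
        rw [hcomm, Subgroup.mem_bot, commutatorElement_def] at h1
        rw [← QuotientGroup.eq_one_iff, ← QuotientGroup.mk'_apply, ← hπ]
        have h2 : π (b⁻¹ * (a * b * a⁻¹)) = (π b)⁻¹ * (π a * π b * (π a)⁻¹ * (π b)⁻¹) * π b := by
          simp only [map_mul, map_inv]; group
        rw [h2, h1]; group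
  -- conclusion
  intro x hx
  rw [mem_pLayerPre] at hx
  have hlayer : layer (↥N ⧸ D) ≤ ((compNormalizer G).comap N.subtype).map π := by
    rw [Cfsg.Agent.Helper22.layer_le_iff]
    intro Jb hJb
    have hJmap : (Jb.comap π).map π = Jb := Subgroup.map_comap_eq_self_of_surjective hπs _
    rw [← hJmap]
    exact Subgroup.map_mono (hcomp Jb hJb)
  obtain ⟨y, hy, hyx⟩ := lift _ x (hlayer hx)
  have : x = y * (y⁻¹ * x) := by group
  rw [this]
  exact Subgroup.mul_mem _ hy (hDΛ hyx)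

end Cfsg.Agent.Helper31
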