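import Mathlib
import Cfsg.Agent.Helper21.Components
import Cfsg.Agent.Helper21.Layer
import Cfsg.Agent.Helper21.Radical
import Cfsg.Agent.Helper22.Layer
import Cfsg.Agent.Helper22.Radical
import Cfsg.Agent.Helper22.Subnormal
import Cfsg.Agent.Helper24.Coprime
import Cfsg.Agent.Helper65.Nilpotent
import Cfsg.Agent.Helper71.Fitting
import Cfsg.Agent.Helper91.SubnormalNilpotent
import Cfsg.Agent.Lib.Cores
import Cfsg.Agent.Helper31.LBalance

/-!
# A Bender-type lemma on large subnormal subgroups of `F*(M)`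

`S ≤ F*(M)` subnormal with `C_{F*(M)}(S) ≤ S`.
-/

set_option autoImplicit false

namespace Cfsg.Agent.Helper31

open Cfsg
open scoped commutatorElement

section Internal

variable {M : Type*} [Group M] [Finite M]

/-- `S` is a large subnormal subgroup of `F*(M)`. -/
structure LargeSub (S : Subgroup M) : Prop where
  le : S ≤ generalizedFittingSubgroup M
  sn : S.IsSubnormal
  cent : generalizedFittingSubgroup M ⊓ Subgroup.centralizer (S : Set M) ≤ S

theorem LargeSub.layer_le {S : Subgroup M} (h : LargeSub S) : layer M ≤ S := by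
  rw [Cfsg.Agent.Helper22.layer_le_iff]
  intro K hK
  rcases Cfsg.Agent.Helper21.IsComponent.le_or_commutator_eq_bot_of_isSubnormal hK h.sn with h1 | h1
  · exact h1
  · rw [Subgroup.commutator_eq_bot_iff_le_centralizer] at h1
    intro k hk
    exact h.cent ⟨Cfsg.Agent.Helper21.layer_le_generalizedFittingSubgroup
      (Cfsg.Agent.Helper21.IsComponent.le_layer hK hk), h1 hk⟩

/-- `r`-elements of `F(M)` lie in `O_r(M)`. -/
theorem mem_pCore_of_mem_fittingSubgroup {r : ℕ} [hr : Fact r.Prime] {x : M}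
    (hx : x ∈ fittingSubgroup M) (hxr : ∃ k : ℕ, x ^ r ^ k = 1) : x ∈ pCore r M := by
  haveI hFn : (fittingSubgroup M).Normal := Cfsg.Agent.Helper71.fittingSubgroup_normal
  haveI : Group.IsNilpotent ↥(fittingSubgroup M) := Cfsg.Agent.Lib.isNilpotent_fittingSubgroup
  have hle : Subgroup.zpowers x ≤ fittingSubgroup M := by
    rw [Subgroup.zpowers_le]; exact hx
  have h1 : ((Subgroup.zpowers x).subgroupOf (fittingSubgroup M)).IsSubnormal :=
    Cfsg.Agent.Helper91.isSubnormal_of_isNilpotent _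
  have hsub : (Subgroup.zpowers x).IsSubnormal :=
    Subgroup.IsSubnormal.trans hle h1 hFn.isSubnormal
  have hpg : IsPGroup r ↥(Subgroup.zpowers x) := by
    obtain ⟨k, hk⟩ := hxr
    have h2 : orderOf x ∣ r ^ k := orderOf_dvd_of_pow_eq_one hk
    obtain ⟨j, -, hj⟩ := (Nat.dvd_prime_pow hr.out).mp h2
    apply IsPGroup.of_card (n := j)
    rw [Nat.card_zpowers, hj]
  exact Cfsg.Agent.Helper22.le_pCore_of_isSubnormal hsub hpg (Subgroup.mem_zpowers x)

/-- Elements of coprime orders in `F(M)` commute. -/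
theorem commute_of_mem_fittingSubgroup_of_coprime {u v : M} (hu : u ∈ fittingSubgroup M)
    (hv : v ∈ fittingSubgroup M) (h : (orderOf u).Coprime (orderOf v)) : u * v = v * u := by
  haveI : Group.IsNilpotent ↥(fittingSubgroup M) := Cfsg.Agent.Lib.isNilpotent_fittingSubgroup
  have h1 := Cfsg.Agent.Helper65.commute_of_coprime_orderOf ↥(fittingSubgroup M) ⟨u, hu⟩ ⟨v, hv⟩
    (by rw [Subgroup.orderOf_mk, Subgroup.orderOf_mk]; exact h)
  exact congrArg Subtype.val h1.eq

/-- If `u` commutes with `f ^ a` and `f ^ b` for coprime `a`, `b`, it commutes with `f`. -/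
theorem commute_of_commute_pow_coprime {u f : M} {a b : ℕ} (hab : a.Coprime b)
    (h1 : Commute u (f ^ a)) (h2 : Commute u (f ^ b)) : Commute u f := by
  obtain ⟨α, β, hαβ⟩ := (Nat.isCoprime_iff_coprime.mpr hab)
  have hf : f = (f ^ a) ^ α * (f ^ b) ^ β := by
    rw [← zpow_natCast f a, ← zpow_natCast f b, ← zpow_mul, ← zpow_mul, ← zpow_add]
    have : (a : ℤ) * α + (b : ℤ) * β = 1 := by linarith
    rw [this, zpow_one]
  rw [hf]
  exact (h1.zpow_right α).mul_right (h2.zpow_right β)

/-- Elements of `O_r(M)` have `r`-power order. -/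
theorem exists_orderOf_eq_of_mem_pCore {r : ℕ} [hr : Fact r.Prime] {u : M} (hu : u ∈ pCore r M) :
    ∃ j : ℕ, orderOf u = r ^ j := by
  have hU : IsPGroup r ↥(pCore r M) := Cfsg.Agent.Helper71.pCore_isPGroup r
  obtain ⟨k, hk⟩ := hU ⟨u, hu⟩
  have hk' : u ^ r ^ k = 1 := by
    have := congrArg Subtype.val hk
    simpa using this
  have h2 : orderOf u ∣ r ^ k := orderOf_dvd_of_pow_eq_one hk'
  obtain ⟨j, -, hj⟩ := (Nat.dvd_prime_pow hr.out).mp h2
  exact ⟨j, hj⟩

/-- **(ii)** An element of `O_r(M)` centralizing `S ∩ O_r(M)` lies in `S`. -/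
theorem LargeSub.mem_of_commute_inf_pCore {S : Subgroup M} (h : LargeSub S) {r : ℕ}
    [hr : Fact r.Prime] {u : M} (hu : u ∈ pCore r M)
    (hc : ∀ s ∈ S, s ∈ pCore r M → s * u = u * s) : u ∈ S := by
  haveI hEn : (layer M).Normal := Cfsg.Agent.Helper21.layer_normal
  have huF : u ∈ fittingSubgroup M := Cfsg.Agent.Helper71.pCore_le_fittingSubgroup r hu
  refine h.cent ⟨Cfsg.Agent.Helper21.fittingSubgroup_le_generalizedFittingSubgroup huF, ?_⟩
  change u ∈ Subgroup.centralizer (S : Set M)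
  rw [Subgroup.mem_centralizer_iff]
  intro s hs
  have hs' : s ∈ layer M ⊔ fittingSubgroup M := h.le hs
  obtain ⟨e, he, f, hf, rfl⟩ := Subgroup.mem_sup_of_normal_left.mp hs'
  have hfS : f ∈ S := by
    have := S.mul_mem (S.inv_mem (h.layer_le he)) hs
    simpa using this
  -- `u` commutes with `e`
  have hue : Commute u e := by
    have h1 : ⁅e, u⁆ ∈ ⁅layer M, fittingSubgroup M⁆ := Subgroup.commutator_mem_commutator he huF
    rw [Cfsg.Agent.Helper22.layer_commutator_fittingSubgroup, Subgroup.mem_bot] at h1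
    exact (commutatorElement_eq_one_iff_commute.mp h1).symm
  -- `u` commutes with `f`
  have huf : Commute u f := by
    have hpos : 0 < orderOf f := orderOf_pos f
    obtain ⟨a, m, hm, ham⟩ := Nat.exists_eq_pow_mul_and_not_dvd hpos.ne' r hr.out.ne_one
    have hcop : m.Coprime (r ^ a) :=
      Nat.Coprime.pow_right a ((Nat.Prime.coprime_iff_not_dvd hr.out).mpr hm).symm
    apply commute_of_commute_pow_coprime hcop
    · -- `f ^ m` is an `r`-element of `S ∩ F(M)`
      have h1 : f ^ m ∈ pCore r M := by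
        apply mem_pCore_of_mem_fittingSubgroup (Subgroup.pow_mem _ hf m)
        refine ⟨a, ?_⟩
        rw [← pow_mul, mul_comm, ← ham, pow_orderOf_eq_one]
      exact (hc _ (S.pow_mem hfS m) h1).symm
    · -- `f ^ (r ^ a)` has order prime to `r`
      obtain ⟨j, hj⟩ := exists_orderOf_eq_of_mem_pCore hu
      have h2 : orderOf (f ^ r ^ a) ∣ m := by
        apply orderOf_dvd_of_pow_eq_one
        rw [← pow_mul, ← ham, pow_orderOf_eq_one]
      have h3 : (orderOf u).Coprime (orderOf (f ^ r ^ a)) := by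
        rw [hj]
        exact Nat.Coprime.coprime_dvd_right h2
          (Nat.Coprime.pow_left j ((Nat.Prime.coprime_iff_not_dvd hr.out).mpr hm))
      exact commute_of_mem_fittingSubgroup_of_coprime huF (Subgroup.pow_mem _ hf _) h3
  exact ((hue.mul_right huf).eq).symm

/-- **(iii)** `Z(O_r(M)) ≤ S`. -/
theorem LargeSub.mem_of_central_pCore {S : Subgroup M} (h : LargeSub S) {r : ℕ}
    [hr : Fact r.Prime] {z : M} (hz : z ∈ pCore r M)
    (hc : ∀ v ∈ pCore r M, v * z = z * v) : z ∈ S :=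
  h.mem_of_commute_inf_pCore hz (fun s _ hs => hc s hs)

/-- **L3a** A `p`-subgroup normalized by `S` centralizes `E(M)`. -/
theorem LargeSub.commute_layer_of_isPGroup {S : Subgroup M} (h : LargeSub S) {p : ℕ}
    [hp : Fact p.Prime] {Q : Subgroup M} (hQ : IsPGroup p Q)
    (hSQ : S ≤ Subgroup.normalizer (Q : Set M)) :
    ∀ x ∈ Q, ∀ e ∈ layer M, x * e = e * x := by
  haveI hEn : (layer M).Normal := Cfsg.Agent.Helper21.layer_normal
  have hEQ : layer M ≤ Subgroup.normalizer (Q : Set M) := h.layer_le.trans hSQ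
  have h1 : ⁅Q, layer M⁆ ≤ Q ⊓ layer M :=
    le_inf (Cfsg.Agent.Helper21.commutator_le_of_le_normalizer hEQ)
      (Subgroup.commutator_le_right _ _)
  have h2 : Q ⊓ layer M ≤ pCore p M := by
    apply Cfsg.Agent.Helper22.le_pCore_of_isSubnormal _ (hQ.to_le inf_le_left)
    have hn : ((Q ⊓ layer M).subgroupOf (layer M)).Normal := by
      rw [Subgroup.inf_subgroupOf_right]
      exact Subgroup.normal_subgroupOf_of_le_normalizer hEQ
    exact Subgroup.IsSubnormal.trans inf_le_right hn.isSubnormal hEn.isSubnormal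
  have h3 : ⁅⁅Q, layer M⁆, layer M⁆ = ⊥ := by
    rw [eq_bot_iff]
    calc ⁅⁅Q, layer M⁆, layer M⁆ ≤ ⁅fittingSubgroup M, layer M⁆ :=
          Subgroup.commutator_mono
            (h1.trans (h2.trans (Cfsg.Agent.Helper71.pCore_le_fittingSubgroup p))) le_rfl
      _ = ⁅layer M, fittingSubgroup M⁆ := Subgroup.commutator_comm _ _
      _ = ⊥ := Cfsg.Agent.Helper22.layer_commutator_fittingSubgroup
  have h4 := Cfsg.Agent.Helper21.commutator_eq_bot_of_perfect
    Cfsg.Agent.Helper22.layer_commutator_self h3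
  intro x hx e he
  have h5 : ⁅x, e⁆ ∈ ⁅Q, layer M⁆ := Subgroup.commutator_mem_commutator hx he
  rw [h4, Subgroup.mem_bot] at h5
  exact (commutatorElement_eq_one_iff_commute.mp h5).eq

/-- **L3b** A `p`-subgroup normalized by `S` centralizes `O_r(M)` for `r ≠ p`. -/
theorem LargeSub.commute_pCore_of_isPGroup {S : Subgroup M} (h : LargeSub S) {p : ℕ}
    [hp : Fact p.Prime] {Q : Subgroup M} (hQ : IsPGroup p Q)
    (hSQ : S ≤ Subgroup.normalizer (Q : Set M)) {r : ℕ} [hr : Fact r.Prime] (hrp : r ≠ p) :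
    ∀ x ∈ Q, ∀ u ∈ pCore r M, x * u = u * x := by
  haveI hUn : (pCore r M).Normal := Cfsg.Agent.Helper71.pCore_normal r
  have hU : IsPGroup r ↥(pCore r M) := Cfsg.Agent.Helper71.pCore_isPGroup r
  intro x hx
  -- the order of `x` is prime to `r`
  have hcop : (orderOf x).Coprime r := by
    obtain ⟨k, hk⟩ := hQ ⟨x, hx⟩
    have hk' : x ^ p ^ k = 1 := by
      have := congrArg Subtype.val hk
      simpa using this
    have h2 : orderOf x ∣ p ^ k := orderOf_dvd_of_pow_eq_one hk'
    exact Nat.Coprime.coprime_dvd_left h2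
      (Nat.Coprime.pow_left k ((Nat.coprime_primes hp.out hr.out).mpr hrp.symm))
  -- `x` centralizes `S ∩ O_r(M)`
  have haP : ∀ b ∈ S ⊓ pCore r M, x * b = b * x := by
    intro b hb
    have h1 : ⁅x, b⁆ ∈ Q := by
      rw [commutatorElement_def]
      have : b * x⁻¹ * b⁻¹ ∈ Q :=
        (Subgroup.mem_normalizer_iff.1 (hSQ hb.1) x⁻¹).1 (Q.inv_mem hx)
      have h2 : x * b * x⁻¹ * b⁻¹ = x * (b * x⁻¹ * b⁻¹) := by group
      rw [h2]
      exact Q.mul_mem hx this
    have h2 : ⁅x, b⁆ ∈ pCore r M := by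
      rw [commutatorElement_def]
      exact (pCore r M).mul_mem (hUn.conj_mem b hb.2 x) ((pCore r M).inv_mem hb.2)
    have h3 : Disjoint Q (pCore r M) := IsPGroup.disjoint_of_ne p r hrp.symm _ _ hQ hU
    have h4 : ⁅x, b⁆ ∈ Q ⊓ pCore r M := ⟨h1, h2⟩
    rw [h3.eq_bot, Subgroup.mem_bot] at h4
    exact (commutatorElement_eq_one_iff_commute.mp h4).eq
  refine Cfsg.Agent.Helper24.thompson_PxQ (p := r) (U := pCore r M) (P := S ⊓ pCore r M) hU
    (hU.to_le inf_le_right) ?_ ?_ hcop haP ?_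
  · rw [Subgroup.normalizer_eq_top]; exact le_top
  · rw [Subgroup.normalizer_eq_top]; exact Subgroup.mem_top x
  · intro u hu hub
    have huS : u ∈ S := h.mem_of_commute_inf_pCore hu (fun s hs hsr => hub s ⟨hs, hsr⟩)
    exact haP u ⟨huS, hu⟩

/-- **L2** If `O_q(M) = 1`, a `q`-subgroup normalized by `S` is trivial. -/
theorem LargeSub.eq_bot_of_isPGroup {S : Subgroup M} (h : LargeSub S) {q : ℕ}
    [hq : Fact q.Prime] {Q : Subgroup M} (hQ : IsPGroup q Q)
    (hSQ : S ≤ Subgroup.normalizer (Q : Set M)) (hq0 : pCore q M = ⊥) : Q = ⊥ := by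
  haveI hFsn : (generalizedFittingSubgroup M).Normal :=
    Cfsg.Agent.Helper21.generalizedFittingSubgroup_normal
  rw [eq_bot_iff]
  intro x hx
  rw [Subgroup.mem_bot]
  -- `x` centralizes `F(M)`
  have hxF : fittingSubgroup M ≤ Subgroup.centralizer ({x} : Set M) := by
    refine Cfsg.Agent.Helper71.fittingSubgroup_le_pCoreJoin.trans (iSup_le ?_)
    intro r
    haveI : Fact (r : ℕ).Prime := ⟨Nat.prime_of_mem_primeFactors r.2⟩
    intro u hu
    rw [Subgroup.mem_centralizer_iff]
    intro y hy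
    rw [Set.mem_singleton_iff.mp hy]
    by_cases hrq : (r : ℕ) = q
    · rw [hrq, hq0, Subgroup.mem_bot] at hu
      rw [hu, mul_one, one_mul]
    · exact h.commute_pCore_of_isPGroup hQ hSQ hrq x hx u hu
  have hxE : layer M ≤ Subgroup.centralizer ({x} : Set M) := by
    intro e he
    rw [Subgroup.mem_centralizer_iff]
    intro y hy
    rw [Set.mem_singleton_iff.mp hy]
    exact h.commute_layer_of_isPGroup hQ hSQ x hx e he
  have hxFs : x ∈ Subgroup.centralizer (generalizedFittingSubgroup M : Set M) := by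
    rw [Subgroup.mem_centralizer_iff]
    intro y hy
    have := (sup_le hxE hxF) hy
    rw [Subgroup.mem_centralizer_iff] at this
    exact (this x rfl).symm
  -- `C(F*)` is an abelian normal subgroup
  set C := Subgroup.centralizer (generalizedFittingSubgroup M : Set M) with hC
  haveI hCn : C.Normal := by rw [hC]; infer_instance
  have hCF : C ≤ generalizedFittingSubgroup M :=
    Cfsg.Agent.Helper21.centralizer_generalizedFittingSubgroup_le
  have hCcomm : IsMulCommutative ↥C := by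
    refine ⟨⟨?_⟩⟩
    intro a b
    apply Subtype.ext
    have := (Subgroup.mem_centralizer_iff.mp a.2) b.1 (hCF b.2)
    simpa using this.symm
  have hCnil : Group.IsNilpotent ↥C := by
    letI : CommGroup ↥C := { (inferInstance : Group ↥C) with mul_comm := hCcomm.is_comm.comm }
    exact CommGroup.isNilpotent
  have hxFit : x ∈ fittingSubgroup M := Cfsg.Agent.Helper71.le_fittingSubgroup C hCn hCnil hxFs
  have hxq : x ∈ pCore q M := by
    apply mem_pCore_of_mem_fittingSubgroup hxFit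
    obtain ⟨k, hk⟩ := hQ ⟨x, hx⟩
    refine ⟨k, ?_⟩
    have := congrArg Subtype.val hk
    simpa using this
  rw [hq0, Subgroup.mem_bot] at hxq
  exact hxq

/-- If `h ^ a` and `h ^ b` lie in `D` for coprime `a`, `b`, then `h ∈ D`. -/
theorem mem_of_pow_mem_of_pow_mem_coprime {D : Subgroup M} {f : M} {a b : ℕ} (hab : a.Coprime b)
    (h1 : f ^ a ∈ D) (h2 : f ^ b ∈ D) : f ∈ D := by
  obtain ⟨α, β, hαβ⟩ := (Nat.isCoprime_iff_coprime.mpr hab)
  have hf : f = (f ^ a) ^ α * (f ^ b) ^ β := by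
    rw [← zpow_natCast f a, ← zpow_natCast f b, ← zpow_mul, ← zpow_mul, ← zpow_add]
    have : (a : ℤ) * α + (b : ℤ) * β = 1 := by linarith
    rw [this, zpow_one]
  rw [hf]
  exact D.mul_mem (D.zpow_mem h1 α) (D.zpow_mem h2 β)

/-- A subgroup `S` normalizes `Q` as soon as `s Q s⁻¹ ⊆ Q` for all `s ∈ S`. -/
theorem le_normalizer_of_conj_mem {S Q : Subgroup M}
    (h : ∀ s ∈ S, ∀ y ∈ Q, s * y * s⁻¹ ∈ Q) : S ≤ Subgroup.normalizer (Q : Set M) := by
  intro s hs
  rw [Subgroup.mem_normalizer_iff]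
  intro y
  constructor
  · exact h s hs y
  · intro hy
    have := h s⁻¹ (S.inv_mem hs) _ hy
    have h2 : s⁻¹ * (s * y * s⁻¹) * s⁻¹⁻¹ = y := by group
    rwa [h2] at this

/-- **N3** `p'`-elements of `F(M)` lie in any subgroup containing `O_r(M)` for all `r ≠ p`. -/
theorem mem_of_mem_fittingSubgroup_of_coprime {p : ℕ} (D : Subgroup M)
    (hD : ∀ r : ℕ, r.Prime → r ≠ p → pCore r M ≤ D) :
    ∀ n : ℕ, ∀ f ∈ fittingSubgroup M, orderOf f = n → n.Coprime p → f ∈ D := by
  intro n
  induction n using Nat.strong_induction_on with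
  | _ n ih =>
    intro f hf hn hcop
    by_cases h1 : n = 1
    · rw [h1, orderOf_eq_one_iff] at hn
      rw [hn]
      exact D.one_mem
    · obtain ⟨r, hr, hrn⟩ := Nat.exists_prime_and_dvd h1
      haveI : Fact r.Prime := ⟨hr⟩
      have hrp : r ≠ p := by
        rintro rfl
        have := Nat.Coprime.eq_one_of_dvd hcop.symm hrn
        exact hr.ne_one this
      have hpos : 0 < n := hn ▸ orderOf_pos f
      obtain ⟨a, m, hm, ham⟩ := Nat.exists_eq_pow_mul_and_not_dvd hpos.ne' r hr.ne_one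
      have ha : a ≠ 0 := by
        rintro rfl
        rw [pow_zero, one_mul] at ham
        exact hm (ham ▸ hrn)
      have hmpos : 0 < m := by
        rcases Nat.eq_zero_or_pos m with h0 | h0
        · rw [h0, mul_zero] at ham; omega
        · exact h0
      have hmn : m < n := by
        rw [ham]
        have : 2 ≤ r ^ a := by
          calc 2 ≤ r := hr.two_le
            _ = r ^ 1 := (pow_one r).symm
            _ ≤ r ^ a := Nat.pow_le_pow_right hr.pos (Nat.one_le_iff_ne_zero.mpr ha)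
        nlinarith
      have h2 : f ^ m ∈ D := by
        apply hD r hr hrp
        apply mem_pCore_of_mem_fittingSubgroup (Subgroup.pow_mem _ hf m)
        refine ⟨a, ?_⟩
        rw [← pow_mul, mul_comm, ← ham, ← hn, pow_orderOf_eq_one]
      have h3 : f ^ r ^ a ∈ D := by
        apply ih m hmn (f ^ r ^ a) (Subgroup.pow_mem _ hf _)
        · rw [orderOf_pow' f (pow_ne_zero a hr.ne_zero), hn, ham,
            Nat.gcd_eq_right (Dvd.intro _ rfl), Nat.mul_div_cancel_left _ (pow_pos hr.pos a)]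
        · exact Nat.Coprime.coprime_dvd_left (Dvd.intro_left _ ham.symm) hcop
      have hcop2 : m.Coprime (r ^ a) :=
        Nat.Coprime.pow_right a ((Nat.Prime.coprime_iff_not_dvd hr).mpr hm).symm
      exact mem_of_pow_mem_of_pow_mem_coprime hcop2 h2 h3

/-- **N4** `p'`-elements of `F*(M)` lie in any subgroup containing `E(M)` and `O_r(M)` for all
`r ≠ p`. -/
theorem mem_of_mem_generalizedFittingSubgroup_of_coprime {p : ℕ} [hp : Fact p.Prime]
    (D : Subgroup M) (hE : layer M ≤ D) (hD : ∀ r : ℕ, r.Prime → r ≠ p → pCore r M ≤ D)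
    {g : M} (hg : g ∈ generalizedFittingSubgroup M) (hcop : (orderOf g).Coprime p) : g ∈ D := by
  haveI hEn : (layer M).Normal := Cfsg.Agent.Helper21.layer_normal
  have hg' : g ∈ layer M ⊔ fittingSubgroup M := hg
  obtain ⟨e, he, f, hf, rfl⟩ := Subgroup.mem_sup_of_normal_left.mp hg'
  have hef : Commute e f := by
    have h1 : ⁅e, f⁆ ∈ ⁅layer M, fittingSubgroup M⁆ := Subgroup.commutator_mem_commutator he hf
    rw [Cfsg.Agent.Helper22.layer_commutator_fittingSubgroup, Subgroup.mem_bot] at h1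
    exact commutatorElement_eq_one_iff_commute.mp h1
  have hpos : 0 < orderOf f := orderOf_pos f
  obtain ⟨a, m, hm, ham⟩ := Nat.exists_eq_pow_mul_and_not_dvd hpos.ne' p hp.out.ne_one
  have h1 : f ^ p ^ a ∈ D := by
    apply mem_of_mem_fittingSubgroup_of_coprime D hD m (f ^ p ^ a) (Subgroup.pow_mem _ hf _)
    · rw [orderOf_pow' f (pow_ne_zero a hp.out.ne_zero), ham,
        Nat.gcd_eq_right (Dvd.intro _ rfl), Nat.mul_div_cancel_left _ (pow_pos hp.out.pos a)]
    · exact ((Nat.Prime.coprime_iff_not_dvd hp.out).mpr hm).symm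
  have h2 : (e * f) ^ p ^ a ∈ D := by
    rw [hef.mul_pow]
    exact D.mul_mem (D.pow_mem (hE he) _) h1
  have h3 : (e * f) ^ orderOf (e * f) ∈ D := by
    rw [pow_orderOf_eq_one]; exact D.one_mem
  exact mem_of_pow_mem_of_pow_mem_coprime (Nat.Coprime.pow_left a hcop.symm) h2 h3

/-- A perfect subgroup `K` normalizing `X` whose `p'`-elements centralize `X` centralizes `X`. -/
theorem le_centralizer_of_perfect_of_coprime (p : ℕ) [hp : Fact p.Prime] {K X : Subgroup M}
    (hK : ⁅K, K⁆ = K) (hKX : K ≤ Subgroup.normalizer (X : Set M))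
    (hcop : ∀ k ∈ K, (orderOf k).Coprime p → k ∈ Subgroup.centralizer (X : Set M)) :
    K ≤ Subgroup.centralizer (X : Set M) := by
  set N := Subgroup.normalizer (X : Set M) with hN
  have hKN : (K.subgroupOf N).map N.subtype = K := Subgroup.map_subgroupOf_eq_of_le hKX
  have h1 : K.subgroupOf N ≤ ⁅K.subgroupOf N, K.subgroupOf N⁆ ⊔ ⊥ := by
    rw [sup_bot_eq]
    intro x hx
    have hx' : N.subtype x ∈ (⁅K.subgroupOf N, K.subgroupOf N⁆).map N.subtype := by
      rw [Subgroup.map_commutator, hKN, hK]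
      exact Subgroup.mem_subgroupOf.mp hx
    obtain ⟨y, hy, hyx⟩ := hx'
    have : y = x := N.subtype_injective hyx
    rwa [← this]
  have h2 := le_of_coprime_mem_of_le_commutator_sup p (K.subgroupOf N) ⊥
    ((Subgroup.centralizer (X : Set M)).subgroupOf N) bot_le h1 (by
      intro a ha hac
      rw [Subgroup.mem_subgroupOf]
      apply hcop _ (Subgroup.mem_subgroupOf.mp ha)
      rwa [Subgroup.orderOf_coe])
  intro k hk
  have := h2 (Subgroup.mem_subgroupOf.mpr (show ((⟨k, hKX hk⟩ : ↥N) : M) ∈ K from hk))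
  exact Subgroup.mem_subgroupOf.mp this

/-- `Z(O_r(M))` as a subgroup of `M`. -/
def zc (r : ℕ) (M : Type*) [Group M] : Subgroup M :=
  pCore r M ⊓ Subgroup.centralizer (pCore r M : Set M)

instance zc_normal (r : ℕ) : (zc r M).Normal := by
  haveI : (pCore r M).Normal := Cfsg.Agent.Helper71.pCore_normal r
  unfold zc
  infer_instance

theorem zc_le_pCore (r : ℕ) : zc r M ≤ pCore r M := inf_le_left

theorem LargeSub.zc_le {S : Subgroup M} (h : LargeSub S) (r : ℕ) [hr : Fact r.Prime] :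
    zc r M ≤ S := by
  intro z hz
  exact h.mem_of_central_pCore hz.1 (fun v hv => (Subgroup.mem_centralizer_iff.mp hz.2) v hv)

theorem zc_ne_bot {r : ℕ} [hr : Fact r.Prime] (h : pCore r M ≠ ⊥) : zc r M ≠ ⊥ := by
  have hU : IsPGroup r ↥(pCore r M) := Cfsg.Agent.Helper71.pCore_isPGroup r
  haveI : Nontrivial ↥(pCore r M) := (Subgroup.nontrivial_iff_ne_bot _).mpr h
  haveI := hU.center_nontrivial
  obtain ⟨z, hz⟩ := exists_ne (1 : ↥(Subgroup.center ↥(pCore r M)))
  intro hbot
  have hmem : ((z : ↥(pCore r M)) : M) ∈ zc r M := by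
    rw [zc, Subgroup.mem_inf]
    refine ⟨(z : ↥(pCore r M)).2, ?_⟩
    rw [Subgroup.mem_centralizer_iff]
    intro v hv
    have := (Subgroup.mem_center_iff.mp z.2) ⟨v, hv⟩
    exact congrArg Subtype.val this
  rw [hbot, Subgroup.mem_bot] at hmem
  apply hz
  apply Subtype.ext
  apply Subtype.ext
  simpa using hmem

/-- `p ∣ |F(M)|` forces `O_p(M) ≠ 1`. -/
theorem pCore_ne_bot_of_dvd_card_fittingSubgroup {p : ℕ} [hp : Fact p.Prime]
    (h : p ∣ Nat.card ↥(fittingSubgroup M)) : pCore p M ≠ ⊥ := by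
  obtain ⟨x, hx⟩ := exists_prime_orderOf_dvd_card' p h
  have hxp : (x : M) ∈ pCore p M := by
    apply mem_pCore_of_mem_fittingSubgroup x.2
    refine ⟨1, ?_⟩
    rw [pow_one, ← Subgroup.coe_pow, ← hx, pow_orderOf_eq_one, Subgroup.coe_one]
  intro hbot
  rw [hbot, Subgroup.mem_bot] at hxp
  have : x = 1 := Subtype.ext hxp
  rw [this, orderOf_one] at hx
  exact hp.out.ne_one hx.symm

/-- `p ∤ |F(M)|` forces `O_p(M) = 1`. -/
theorem pCore_eq_bot_of_not_dvd_card_fittingSubgroup {p : ℕ} [hp : Fact p.Prime]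
    (h : ¬ p ∣ Nat.card ↥(fittingSubgroup M)) : pCore p M = ⊥ := by
  have hU : IsPGroup p ↥(pCore p M) := Cfsg.Agent.Helper71.pCore_isPGroup p
  rcases hU.card_eq_or_dvd with h1 | h1
  · exact Subgroup.eq_bot_of_card_eq _ h1
  · exact absurd (h1.trans (Subgroup.card_dvd_of_le
      (Cfsg.Agent.Helper71.pCore_le_fittingSubgroup p))) h

end Internal

section Ambient

variable {G : Type*} [Group G] [Finite G]

/-- `E(M)` and `F(M)` commute elementwise. -/
theorem commute_layer_fittingSubgroup {M : Type*} [Group M] [Finite M] {e f : M}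
    (he : e ∈ layer M) (hf : f ∈ fittingSubgroup M) : e * f = f * e := by
  have h1 : ⁅e, f⁆ ∈ ⁅layer M, fittingSubgroup M⁆ := Subgroup.commutator_mem_commutator he hf
  rw [Cfsg.Agent.Helper22.layer_commutator_fittingSubgroup, Subgroup.mem_bot] at h1
  exact (commutatorElement_eq_one_iff_commute.mp h1).eq

/-- `B` normalizes the image in `G` of a normal subgroup of `↥B`. -/
theorem le_normalizer_map_subtype_of_normal (B : Subgroup G) (N : Subgroup ↥B) [hN : N.Normal] :
    B ≤ Subgroup.normalizer ((N.map B.subtype : Subgroup G) : Set G) := by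
  apply le_normalizer_of_conj_mem
  rintro b hb _ ⟨n, hn, rfl⟩
  exact ⟨⟨b, hb⟩ * n * ⟨b, hb⟩⁻¹, hN.conj_mem n hn ⟨b, hb⟩, by simp⟩

/-- The hypotheses of S1247 say that `S ∩ A` is a large subnormal subgroup of `F*(A)`. -/
theorem largeSub_subgroupOf (A S : Subgroup G)
    (hSF : S ≤ (generalizedFittingSubgroup ↥A).map A.subtype)
    (hSsn : (S.subgroupOf ((generalizedFittingSubgroup ↥A).map A.subtype)).IsSubnormal)
    (hSC : (generalizedFittingSubgroup ↥A).map A.subtype ⊓ Subgroup.centralizer (S : Set G) ≤ S) :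
    LargeSub (S.subgroupOf A) := by
  haveI hFsn : (generalizedFittingSubgroup ↥A).Normal :=
    Cfsg.Agent.Helper21.generalizedFittingSubgroup_normal
  have hle : S.subgroupOf A ≤ generalizedFittingSubgroup ↥A := by
    intro s hs
    rw [Subgroup.mem_subgroupOf] at hs
    obtain ⟨t, ht, hts⟩ := hSF hs
    have : t = s := Subtype.ext hts
    rwa [← this]
  refine ⟨hle, ?_, ?_⟩
  · have h1 := hSsn.comap ((generalizedFittingSubgroup ↥A).equivMapOfInjective A.subtype
      A.subtype_injective).toMonoidHom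
    have h2 : (S.subgroupOf ((generalizedFittingSubgroup ↥A).map A.subtype)).comap
        ((generalizedFittingSubgroup ↥A).equivMapOfInjective A.subtype
          A.subtype_injective).toMonoidHom =
        (S.subgroupOf A).subgroupOf (generalizedFittingSubgroup ↥A) := by
      ext x
      simp only [Subgroup.mem_comap, Subgroup.mem_subgroupOf]
      rfl
    rw [h2] at h1
    exact Subgroup.IsSubnormal.trans hle h1 hFsn.isSubnormal
  · intro t ht
    obtain ⟨ht1, ht2⟩ := Subgroup.mem_inf.mp ht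
    rw [Subgroup.mem_subgroupOf]
    apply hSC
    refine Subgroup.mem_inf.mpr ⟨⟨t, ht1, rfl⟩, ?_⟩
    rw [Subgroup.mem_centralizer_iff]
    intro s hs
    have hsA : s ∈ A := (Subgroup.map_subtype_le _) (hSF hs)
    have := (Subgroup.mem_centralizer_iff.mp ht2) ⟨s, hsA⟩ (Subgroup.mem_subgroupOf.mpr hs)
    exact congrArg Subtype.val this

/-- `S ∩ A` normalizes `X ∩ A` when `S` normalizes `X`. -/
theorem subgroupOf_le_normalizer_subgroupOf {A S X : Subgroup G}
    (hSX : S ≤ Subgroup.normalizer (X : Set G)) :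
    S.subgroupOf A ≤ Subgroup.normalizer ((X.subgroupOf A : Subgroup ↥A) : Set ↥A) := by
  apply le_normalizer_of_conj_mem
  intro s hs y hy
  rw [Subgroup.mem_subgroupOf] at hs hy ⊢
  have := (Subgroup.mem_normalizer_iff.1 (hSX hs) (y : G)).1 hy
  simpa using this

/-- **Part (a)**: if `O_q(A) = 1`, a `q`-subgroup of `G` normalized by `S` meets `A` trivially. -/
theorem ambient_inf_eq_bot (A S : Subgroup G) (h : LargeSub (S.subgroupOf A)) {q : ℕ}
    [hq : Fact q.Prime] (X : Subgroup G) (hX : IsPGroup q X)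
    (hSX : S ≤ Subgroup.normalizer (X : Set G)) (hq0 : pCore q ↥A = ⊥) : X ⊓ A = ⊥ := by
  have hQ : IsPGroup q ↥(X.subgroupOf A) := hX.comap_subtype
  have := h.eq_bot_of_isPGroup hQ (subgroupOf_le_normalizer_subgroupOf hSX) hq0
  rwa [Subgroup.subgroupOf_eq_bot, disjoint_iff] at this

/-- In a simple group, a nontrivial subgroup `Z` of a maximal subgroup `A` normalized by `A` has
normalizer exactly `A`. -/
theorem normalizer_eq_of_isCoatom [IsSimpleGroup G] {A : Subgroup G} (hA : IsCoatom A)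
    {Z : Subgroup G} (hZA : Z ≤ A) (hZ : Z ≠ ⊥) (hAZ : A ≤ Subgroup.normalizer (Z : Set G)) :
    Subgroup.normalizer (Z : Set G) = A := by
  rcases (hA.le_iff.mp hAZ) with h1 | h1
  · exfalso
    have hn : Z.Normal := Subgroup.normalizer_eq_top_iff.mp h1
    rcases hn.eq_bot_or_eq_top with h2 | h2
    · exact hZ h2
    · rw [h2, top_le_iff] at hZA
      exact hA.1 hZA
  · exact h1

theorem normalizer_map_zc [IsSimpleGroup G] {A : Subgroup G} (hA : IsCoatom A) {r : ℕ}
    [hr : Fact r.Prime] (hr0 : pCore r ↥A ≠ ⊥) :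
    Subgroup.normalizer (((zc r ↥A).map A.subtype : Subgroup G) : Set G) = A := by
  apply normalizer_eq_of_isCoatom hA (Subgroup.map_subtype_le _)
  · rw [Ne, Subgroup.map_eq_bot_iff_of_injective _ A.subtype_injective]
    exact zc_ne_bot hr0
  · exact le_normalizer_map_subtype_of_normal A (zc r ↥A)

/-- `C_X(Z(O_p(A)))`, as a subgroup of `↥A`. -/
def cX (A X : Subgroup G) (p : ℕ) : Subgroup ↥A :=
  X.subgroupOf A ⊓ Subgroup.centralizer (zc p ↥A : Set ↥A)

theorem isPGroup_cX {A X : Subgroup G} {p : ℕ} (hX : IsPGroup p X) : IsPGroup p ↥(cX A X p) :=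
  (hX.comap_subtype (K := A)).to_le inf_le_left

theorem le_normalizer_cX {A S X : Subgroup G} {p : ℕ}
    (hSX : S ≤ Subgroup.normalizer (X : Set G)) :
    S.subgroupOf A ≤ Subgroup.normalizer ((cX A X p : Subgroup ↥A) : Set ↥A) := by
  apply le_normalizer_of_conj_mem
  intro s hs y hy
  obtain ⟨hy1, hy2⟩ := Subgroup.mem_inf.mp hy
  refine Subgroup.mem_inf.mpr ⟨?_, ?_⟩
  · exact (Subgroup.mem_normalizer_iff.1 (subgroupOf_le_normalizer_subgroupOf hSX hs) y).1 hy1
  · have hn : (Subgroup.centralizer (zc p ↥A : Set ↥A)).Normal := inferInstance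
    exact hn.conj_mem y hy2 s

/-- **G1** Thompson's `P × Q` lemma applied in `G` to `Z(O_p(A)) × ⟨s⟩` acting on `X`. -/
theorem ambient_thompson [IsSimpleGroup G] {A S : Subgroup G} (hA : IsCoatom A)
    (h : LargeSub (S.subgroupOf A)) {p : ℕ} [hp : Fact p.Prime] {X : Subgroup G}
    (hX : IsPGroup p X) (hSX : S ≤ Subgroup.normalizer (X : Set G)) (hp0 : pCore p ↥A ≠ ⊥)
    {s : ↥A} (hs : s ∈ S.subgroupOf A) (hcop : (orderOf s).Coprime p)
    (hsz : ∀ z ∈ zc p ↥A, s * z = z * s) (hsQ : ∀ y ∈ cX A X p, s * y = y * s) :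
    ∀ x ∈ X, (s : G) * x = x * (s : G) := by
  have hZS : (zc p ↥A).map A.subtype ≤ S := by
    rintro _ ⟨z, hz, rfl⟩
    exact Subgroup.mem_subgroupOf.mp (h.zc_le p hz)
  have hN := normalizer_map_zc hA hp0
  refine Cfsg.Agent.Helper24.thompson_PxQ (p := p) (U := X) (P := (zc p ↥A).map A.subtype) hX
    ?_ (hZS.trans hSX) (hSX (Subgroup.mem_subgroupOf.mp hs)) ?_ ?_ ?_
  · exact ((Cfsg.Agent.Helper71.pCore_isPGroup p).to_le (zc_le_pCore p)).map _
  · rwa [Subgroup.orderOf_coe]
  · rintro _ ⟨z, hz, rfl⟩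
    exact congrArg Subtype.val (hsz z hz)
  · intro u hu hub
    have huC : u ∈ Subgroup.centralizer (((zc p ↥A).map A.subtype : Subgroup G) : Set G) := by
      rw [Subgroup.mem_centralizer_iff]; exact hub
    have huA : u ∈ A := by
      have := Subgroup.centralizer_le_normalizer _ huC
      rwa [hN] at this
    have hmem : (⟨u, huA⟩ : ↥A) ∈ cX A X p := by
      refine Subgroup.mem_inf.mpr ⟨Subgroup.mem_subgroupOf.mpr hu, ?_⟩
      rw [Subgroup.mem_centralizer_iff]
      intro z hz
      apply Subtype.ext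
      exact hub _ ⟨z, hz, rfl⟩
    exact congrArg Subtype.val (hsQ ⟨u, huA⟩ hmem)

/-- **G2** `E(A)` centralizes `X`. -/
theorem ambient_commute_layer [IsSimpleGroup G] {A S : Subgroup G} (hA : IsCoatom A)
    (h : LargeSub (S.subgroupOf A)) {p : ℕ} [hp : Fact p.Prime] {X : Subgroup G}
    (hX : IsPGroup p X) (hSX : S ≤ Subgroup.normalizer (X : Set G)) (hp0 : pCore p ↥A ≠ ⊥) :
    ∀ e ∈ layer ↥A, ∀ x ∈ X, (e : G) * x = x * (e : G) := by
  have hKS : (layer ↥A).map A.subtype ≤ S := by
    rintro _ ⟨e, he, rfl⟩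
    exact Subgroup.mem_subgroupOf.mp (h.layer_le he)
  have key := le_centralizer_of_perfect_of_coprime p (K := (layer ↥A).map A.subtype) (X := X)
    (by rw [← Subgroup.map_commutator, Cfsg.Agent.Helper22.layer_commutator_self])
    (hKS.trans hSX) (by
      rintro _ ⟨e, he, rfl⟩ hcop
      rw [Subgroup.mem_centralizer_iff]
      intro x hx
      refine (ambient_thompson hA h hX hSX hp0 (h.layer_le he) ?_ ?_ ?_ x hx).symm
      · rwa [Subgroup.coe_subtype, Subgroup.orderOf_coe] at hcop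
      · intro z hz
        exact commute_layer_fittingSubgroup he
          (Cfsg.Agent.Helper71.pCore_le_fittingSubgroup p (zc_le_pCore p hz))
      · intro y hy
        exact (h.commute_layer_of_isPGroup (isPGroup_cX hX) (le_normalizer_cX hSX) y hy e he).symm)
  intro e he x hx
  have := (Subgroup.mem_centralizer_iff.mp (key ⟨e, he, rfl⟩)) x hx
  exact this.symm

/-- **G3** `S ∩ O_r(A)` centralizes `X` for `r ≠ p`. -/
theorem ambient_commute_inf_pCore [IsSimpleGroup G] {A S : Subgroup G} (hA : IsCoatom A)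
    (h : LargeSub (S.subgroupOf A)) {p : ℕ} [hp : Fact p.Prime] {X : Subgroup G}
    (hX : IsPGroup p X) (hSX : S ≤ Subgroup.normalizer (X : Set G)) (hp0 : pCore p ↥A ≠ ⊥)
    {r : ℕ} [hr : Fact r.Prime] (hrp : r ≠ p) :
    ∀ s ∈ S.subgroupOf A, s ∈ pCore r ↥A → ∀ x ∈ X, (s : G) * x = x * (s : G) := by
  intro s hs hsr
  refine ambient_thompson hA h hX hSX hp0 hs ?_ ?_ ?_
  · obtain ⟨j, hj⟩ := exists_orderOf_eq_of_mem_pCore hsr
    rw [hj]
    exact Nat.Coprime.pow_left j ((Nat.coprime_primes hr.out hp.out).mpr hrp)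
  · intro z hz
    exact (Subgroup.commute_of_normal_of_disjoint _ _ (Cfsg.Agent.Helper71.pCore_normal r)
      (Cfsg.Agent.Helper71.pCore_normal p)
      (IsPGroup.disjoint_of_ne r p hrp _ _ (Cfsg.Agent.Helper71.pCore_isPGroup r)
        (Cfsg.Agent.Helper71.pCore_isPGroup p)) s z hsr (zc_le_pCore p hz)).eq
  · intro y hy
    exact (h.commute_pCore_of_isPGroup (isPGroup_cX hX) (le_normalizer_cX hSX) hrp y hy s hsr).symm

/-- **G4** `O_r(A)` centralizes `X` for `r ≠ p`. -/
theorem ambient_commute_pCore [IsSimpleGroup G] {A S : Subgroup G} (hA : IsCoatom A)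
    (h : LargeSub (S.subgroupOf A)) {p : ℕ} [hp : Fact p.Prime] {X : Subgroup G}
    (hX : IsPGroup p X) (hSX : S ≤ Subgroup.normalizer (X : Set G)) (hp0 : pCore p ↥A ≠ ⊥)
    {r : ℕ} [hr : Fact r.Prime] (hrp : r ≠ p) :
    ∀ u ∈ pCore r ↥A, ∀ x ∈ X, (u : G) * x = x * (u : G) := by
  intro u hu x hx
  by_cases hr0 : pCore r ↥A = ⊥
  · rw [hr0, Subgroup.mem_bot] at hu
    rw [hu, Subgroup.coe_one, one_mul, mul_one]
  · have hN := normalizer_map_zc hA hr0
    have hXA : X ≤ A := by
      intro x' hx'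
      have hxC : x' ∈ Subgroup.centralizer (((zc r ↥A).map A.subtype : Subgroup G) : Set G) := by
        rw [Subgroup.mem_centralizer_iff]
        rintro _ ⟨z, hz, rfl⟩
        exact ambient_commute_inf_pCore hA h hX hSX hp0 hrp z (h.zc_le r hz) (zc_le_pCore r hz)
          x' hx'
      have := Subgroup.centralizer_le_normalizer _ hxC
      rwa [hN] at this
    have hQ : IsPGroup p ↥(X.subgroupOf A) := hX.comap_subtype
    have := h.commute_pCore_of_isPGroup hQ (subgroupOf_le_normalizer_subgroupOf hSX) hrp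
      ⟨x, hXA hx⟩ (Subgroup.mem_subgroupOf.mpr hx) u hu
    exact (congrArg Subtype.val this).symm

/-- **Part (b)**: every `p'`-element of `F*(A)` centralizes `X`. -/
theorem ambient_commute_of_coprime [IsSimpleGroup G] {A S : Subgroup G} (hA : IsCoatom A)
    (h : LargeSub (S.subgroupOf A)) {p : ℕ} [hp : Fact p.Prime] {X : Subgroup G}
    (hX : IsPGroup p X) (hSX : S ≤ Subgroup.normalizer (X : Set G)) (hp0 : pCore p ↥A ≠ ⊥)
    {g : ↥A} (hg : g ∈ generalizedFittingSubgroup ↥A) (hcop : (orderOf g).Coprime p) :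
    ∀ x ∈ X, x * (g : G) = (g : G) * x := by
  have key := mem_of_mem_generalizedFittingSubgroup_of_coprime (p := p)
    ((Subgroup.centralizer (X : Set G)).subgroupOf A) (by
      intro e he
      rw [Subgroup.mem_subgroupOf, Subgroup.mem_centralizer_iff]
      intro x hx
      exact (ambient_commute_layer hA h hX hSX hp0 e he x hx).symm) (by
      intro r hr hrp
      haveI : Fact r.Prime := ⟨hr⟩
      intro u hu
      rw [Subgroup.mem_subgroupOf, Subgroup.mem_centralizer_iff]
      intro x hx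
      exact (ambient_commute_pCore hA h hX hSX hp0 hrp u hu x hx).symm) hg hcop
  rw [Subgroup.mem_subgroupOf, Subgroup.mem_centralizer_iff] at key
  exact key

end Ambient

end Cfsg.Agent.Helper31
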