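-- Coprime generation by centralizers of hyperplanes (built on the rank two theorem of Helper48).
import Cfsg.Agent.Helper48.CoprimeGen
import Mathlib.GroupTheory.Index
import Mathlib.GroupTheory.SpecificGroups.Cyclic
import Mathlib.Tactic

set_option autoImplicit false

namespace Cfsg.Agent.Helper31

section
variable {G : Type*} [Group G]

theorem relIndex_sup_right_of_le_normalizer' (H N : Subgroup G)
    (hLE : H ≤ Subgroup.normalizer (N : Set G)) : N.relIndex (H ⊔ N) = N.relIndex H := by
  let _i1 := Subgroup.normal_subgroupOf_of_le_normalizer hLE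
  let _i2 := Subgroup.normal_subgroupOf_sup_of_le_normalizer hLE
  exact Nat.card_congr (QuotientGroup.quotientInfEquivProdNormalizerQuotient H N hLE).toEquiv.symm

/-- product formula `|HN| |H ∩ N| = |H| |N|` when `H` normalises `N` -/
theorem card_sup_mul_card_inf' (H N : Subgroup G)
    (hLE : H ≤ Subgroup.normalizer (N : Set G)) :
    Nat.card (H ⊔ N : Subgroup G) * Nat.card (H ⊓ N : Subgroup G) = Nat.card H * Nat.card N := by
  have h1 : Nat.card (H ⊔ N : Subgroup G) = Nat.card N * N.relIndex H := by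
    rw [← relIndex_sup_right_of_le_normalizer' H N hLE, ← Subgroup.relIndex_bot_left,
      ← Subgroup.relIndex_bot_left, Subgroup.relIndex_mul_relIndex _ _ _ bot_le le_sup_right]
  have h2 : Nat.card H = Nat.card (H ⊓ N : Subgroup G) * N.relIndex H := by
    rw [← Subgroup.inf_relIndex_left, ← Subgroup.relIndex_bot_left, ← Subgroup.relIndex_bot_left,
      inf_comm, Subgroup.relIndex_mul_relIndex _ _ _ bot_le inf_le_right]
  rw [h1, h2]; ring

/-- an element of order `p` outside `H` generates a subgroup meeting `H` trivially -/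
theorem zpowers_inf_eq_bot {p : ℕ} [Fact p.Prime] (H : Subgroup G) (a : G) (hap : a ^ p = 1)
    (haH : a ∉ H) : Subgroup.zpowers a ⊓ H = ⊥ := by
  have hp : p.Prime := Fact.out
  rw [eq_bot_iff]
  rintro x ⟨⟨i, rfl⟩, hx⟩
  rw [Subgroup.mem_bot]
  change a ^ i ∈ H at hx
  change a ^ i = 1
  by_contra hne
  apply haH
  have hcop : IsCoprime i (p : ℤ) := by
    rw [Int.isCoprime_iff_gcd_eq_one]
    have hpi : ¬ (p : ℤ) ∣ i := by
      rintro ⟨j, rfl⟩
      apply hne
      rw [zpow_mul, zpow_natCast, hap, one_zpow]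
    have := (Nat.Prime.coprime_iff_not_dvd hp).mpr (fun h => hpi (Int.natCast_dvd.mpr h))
    rw [Int.gcd_comm]
    simpa [Int.gcd] using this
  obtain ⟨u, v, huv⟩ := hcop
  have : a = (a ^ i) ^ u := by
    calc a = a ^ (1 : ℤ) := (zpow_one a).symm
      _ = a ^ (u * i + v * p) := by rw [huv]
      _ = (a ^ i) ^ u := by
        rw [zpow_add, mul_comm u i, zpow_mul, mul_comm v (p : ℤ), zpow_mul, zpow_natCast, hap, one_zpow,
          mul_one]
  rw [this]
  exact H.zpow_mem hx u

theorem card_zpowers_of_pow_eq_one {p : ℕ} [Fact p.Prime] (a : G) (hap : a ^ p = 1) (ha : a ≠ 1) :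
    Nat.card ↥(Subgroup.zpowers a) = p := by
  have hp : p.Prime := Fact.out
  rw [Nat.card_zpowers]
  have := orderOf_dvd_of_pow_eq_one hap
  rcases (Nat.dvd_prime hp).mp this with h | h
  · exact absurd (orderOf_eq_one_iff.mp h) ha
  · exact h

/-- `|H⟨a⟩| = |H| p` for `a` of order `p` outside `H` and commuting with `H` -/
theorem card_sup_zpowers {p : ℕ} [Fact p.Prime] (H : Subgroup G) (a : G) (hap : a ^ p = 1)
    (haH : a ∉ H) (hcomm : ∀ h ∈ H, a * h = h * a) :
    Nat.card ↥(H ⊔ Subgroup.zpowers a) = Nat.card ↥H * p := by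
  have ha : a ≠ 1 := fun h => haH (h ▸ H.one_mem)
  have hnorm : Subgroup.zpowers a ≤ Subgroup.normalizer (H : Set G) := by
    rw [Subgroup.zpowers_le]
    rw [Subgroup.mem_normalizer_iff]
    intro h
    constructor
    · intro hh
      have : a * h * a⁻¹ = h := by rw [hcomm h hh, mul_inv_cancel_right]
      rwa [this]
    · intro hh
      have h1 := hcomm _ hh
      have : a * h * a⁻¹ = h := by
        have h2 : a * (a * h * a⁻¹) = a * h := by rw [h1]; group
        exact mul_left_cancel h2
      rwa [this] at hh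
  have h1 := card_sup_mul_card_inf' (Subgroup.zpowers a) H hnorm
  rw [zpowers_inf_eq_bot H a hap haH, Subgroup.card_bot, mul_one, card_zpowers_of_pow_eq_one a hap ha,
    sup_comm] at h1
  rw [h1, mul_comm]

theorem mem_sup_zpowers {H : Subgroup G} {a x : G} (hcomm : ∀ h ∈ H, a * h = h * a)
    (hx : x ∈ H ⊔ Subgroup.zpowers a) : ∃ h ∈ H, ∃ i : ℤ, x = h * a ^ i := by
  have hnorm : Subgroup.zpowers a ≤ Subgroup.normalizer (H : Set G) := by
    rw [Subgroup.zpowers_le]
    rw [Subgroup.mem_normalizer_iff]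
    intro h
    constructor
    · intro hh
      have : a * h * a⁻¹ = h := by rw [hcomm h hh, mul_inv_cancel_right]
      rwa [this]
    · intro hh
      have h1 := hcomm _ hh
      have : a * h * a⁻¹ = h := by
        have h2 : a * (a * h * a⁻¹) = a * h := by rw [h1]; group
        exact mul_left_cancel h2
      rwa [this] at hh
  rw [← SetLike.mem_coe, Subgroup.coe_mul_of_right_le_normalizer_left H _ hnorm, Set.mem_mul] at hx
  obtain ⟨h, hh, z, ⟨i, rfl⟩, rfl⟩ := hx
  exact ⟨h, hh, i, rfl⟩

/-- In an elementary abelian `p`-group every non-identity element is avoided by a subgroup of index `p`. -/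
theorem exists_compl_zpowers [Finite G] {p : ℕ} [Fact p.Prime] (E : Subgroup G)
    (hcomm : ∀ x ∈ E, ∀ y ∈ E, x * y = y * x) (hexp : ∀ x ∈ E, x ^ p = 1) (a : G) (haE : a ∈ E)
    (ha : a ≠ 1) : ∃ E₁ : Subgroup G, E₁ ≤ E ∧ a ∉ E₁ ∧ Nat.card ↥E₁ * p = Nat.card ↥E := by
  classical
  have hp : p.Prime := Fact.out
  have hfin : Set.Finite {H : Subgroup G | H ≤ E ∧ a ∉ H} := Set.toFinite _
  have hne : Set.Nonempty {H : Subgroup G | H ≤ E ∧ a ∉ H} :=
    ⟨⊥, bot_le, fun h => ha (Subgroup.mem_bot.mp h)⟩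
  obtain ⟨H, ⟨hHE, haH⟩, hmax⟩ := Set.exists_max_image _ (fun H : Subgroup G => Nat.card ↥H) hfin hne
  have hsup : E ≤ H ⊔ Subgroup.zpowers a := by
    intro x hxE
    by_contra hx
    have hxH : x ∉ H := fun h => hx (Subgroup.mem_sup_left h)
    have hcx : ∀ h ∈ H, x * h = h * x := fun h hh => hcomm x hxE h (hHE hh)
    have hcard := card_sup_zpowers H x (hexp x hxE) hxH hcx
    have hle : H ⊔ Subgroup.zpowers x ≤ E := sup_le hHE (by rw [Subgroup.zpowers_le]; exact hxE)
    have hnot : a ∉ H ⊔ Subgroup.zpowers x := by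
      intro hmem
      obtain ⟨h, hh, i, hi⟩ := mem_sup_zpowers hcx hmem
      by_cases hpi : (p : ℤ) ∣ i
      · obtain ⟨j, rfl⟩ := hpi
        rw [zpow_mul, zpow_natCast, hexp x hxE, one_zpow, mul_one] at hi
        exact haH (hi ▸ hh)
      · have hcop : IsCoprime i (p : ℤ) := by
          rw [Int.isCoprime_iff_gcd_eq_one]
          have := (Nat.Prime.coprime_iff_not_dvd hp).mpr (fun h => hpi (Int.natCast_dvd.mpr h))
          rw [Int.gcd_comm]
          simpa [Int.gcd] using this
        obtain ⟨u, v, huv⟩ := hcop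
        have hxi : x ^ i = h⁻¹ * a := by rw [hi]; group
        have hxx : x = (x ^ i) ^ u := by
          calc x = x ^ (1 : ℤ) := (zpow_one x).symm
            _ = x ^ (u * i + v * p) := by rw [huv]
            _ = (x ^ i) ^ u := by
              rw [zpow_add, mul_comm u i, zpow_mul, mul_comm v (p : ℤ), zpow_mul, zpow_natCast,
                hexp x hxE, one_zpow, mul_one]
        apply hx
        rw [hxx, hxi]
        apply Subgroup.zpow_mem
        exact Subgroup.mul_mem _ (Subgroup.mem_sup_left (H.inv_mem hh))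
          (Subgroup.mem_sup_right (Subgroup.mem_zpowers a))
    have := hmax _ ⟨hle, hnot⟩
    rw [hcard] at this
    have hpos : 0 < Nat.card ↥H := Nat.card_pos
    have h2 : 2 ≤ p := hp.two_le
    nlinarith
  have heq : H ⊔ Subgroup.zpowers a = E :=
    le_antisymm (sup_le hHE (by rw [Subgroup.zpowers_le]; exact haE)) hsup
  refine ⟨H, hHE, haH, ?_⟩
  rw [← card_sup_zpowers H a (hexp a haE) haH (fun h hh => hcomm a haE h (hHE hh)), heq]

theorem isPGroup_of_exponent {p : ℕ} (E : Subgroup G) (hexp : ∀ x ∈ E, x ^ p = 1) : IsPGroup p ↥E := by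
  intro x
  refine ⟨1, Subtype.ext ?_⟩
  simpa using hexp x x.2

theorem centralizer_singleton_le_centralizer_zpowers (a : G) :
    Subgroup.centralizer ({a} : Set G) ≤ Subgroup.centralizer (Subgroup.zpowers a : Set G) := by
  intro x hx
  rw [Subgroup.mem_centralizer_iff] at hx ⊢
  rintro _ ⟨i, rfl⟩
  have h1 : Commute a x := hx a rfl
  exact (h1.zpow_left i).eq

theorem inf_centralizer_le_centralizer_sup (F : Subgroup G) (a : G) :
    Subgroup.centralizer ({a} : Set G) ⊓ Subgroup.centralizer (F : Set G) ≤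
      Subgroup.centralizer ((F ⊔ Subgroup.zpowers a : Subgroup G) : Set G) := by
  intro x hx
  have hxa : x ∈ Subgroup.centralizer ({a} : Set G) := hx.1
  have hxF : x ∈ Subgroup.centralizer (F : Set G) := hx.2
  have h1 : F ⊔ Subgroup.zpowers a ≤ Subgroup.centralizer ({x} : Set G) := by
    apply sup_le
    · intro y hy
      rw [Subgroup.mem_centralizer_singleton_iff]
      rw [Subgroup.mem_centralizer_iff] at hxF
      exact hxF y hy
    · rw [Subgroup.zpowers_le, Subgroup.mem_centralizer_singleton_iff]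
      rw [Subgroup.mem_centralizer_singleton_iff] at hxa
      exact hxa.symm
  rw [Subgroup.mem_centralizer_iff]
  intro y hy
  have := h1 hy
  rw [Subgroup.mem_centralizer_singleton_iff] at this
  exact this

/-- **Coprime generation, hyperplane form.** If the elementary abelian `p`-group `E` of order at least `p ^ 2`
normalizes the `p'`-subgroup `K`, then `K` is generated by the centralizers `C_K(F)`, `F` of index `p` in `E`. -/
theorem le_iSup_hyperplane {p : ℕ} [Fact p.Prime] [Finite G] :
    ∀ (n : ℕ) (K E : Subgroup G), Nat.card ↥E = n → ¬ p ∣ Nat.card ↥K →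
      E ≤ Subgroup.normalizer (K : Set G) → (∀ x ∈ E, ∀ y ∈ E, x * y = y * x) → (∀ x ∈ E, x ^ p = 1) →
      p ^ 2 ≤ Nat.card ↥E →
      K ≤ ⨆ F : {F : Subgroup G // F ≤ E ∧ Nat.card ↥F * p = Nat.card ↥E},
        K ⊓ Subgroup.centralizer ((F : Subgroup G) : Set G) := by
  intro n
  induction n using Nat.strong_induction_on with
  | _ n ih =>
  intro K E hn hpK hEK hcomm hexp hcard
  have hp : p.Prime := Fact.out
  refine (Cfsg.Agent.Helper48.le_cgen_of_le_card K E hpK hEK hcomm hexp hcard).trans ?_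
  unfold Cfsg.Agent.Helper48.cgen
  apply iSup_le
  rintro ⟨a, haE, ha1⟩
  obtain ⟨E₁, hE₁E, haE₁, hE₁card⟩ := exists_compl_zpowers E hcomm hexp a haE ha1
  by_cases hbig : p ^ 2 ≤ Nat.card ↥E₁
  · -- induction
    have hlt : Nat.card ↥E₁ < n := by
      rw [← hn, ← hE₁card]
      have hpos : 0 < Nat.card ↥E₁ := Nat.card_pos
      have h2 : 2 ≤ p := hp.two_le
      nlinarith
    have hpKa : ¬ p ∣ Nat.card ↥(K ⊓ Subgroup.centralizer ({a} : Set G)) := fun h =>
      hpK (h.trans (Subgroup.card_dvd_of_le inf_le_left))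
    have hnorm : E₁ ≤ Subgroup.normalizer ((K ⊓ Subgroup.centralizer ({a} : Set G) : Subgroup G) : Set G) := by
      intro e he
      have heK := hEK (hE₁E he)
      rw [Subgroup.mem_normalizer_iff] at heK ⊢
      have hea : e * a = a * e := hcomm e (hE₁E he) a haE
      intro x
      rw [Subgroup.mem_inf, Subgroup.mem_inf, ← heK x, Subgroup.mem_centralizer_singleton_iff,
        Subgroup.mem_centralizer_singleton_iff]
      constructor
      · rintro ⟨h1, h2⟩
        refine ⟨h1, ?_⟩
        calc e * x * e⁻¹ * a = e * x * (e⁻¹ * a) := by group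
          _ = e * x * (a * e⁻¹) := by
            have : e⁻¹ * a = a * e⁻¹ := by
              rw [eq_mul_inv_iff_mul_eq, mul_assoc, ← hea, inv_mul_cancel_left]
            rw [this]
          _ = e * (x * a) * e⁻¹ := by group
          _ = e * (a * x) * e⁻¹ := by rw [h2]
          _ = (e * a) * x * e⁻¹ := by group
          _ = (a * e) * x * e⁻¹ := by rw [hea]
          _ = a * (e * x * e⁻¹) := by group
      · rintro ⟨h1, h2⟩
        refine ⟨h1, ?_⟩
        have h3 : e * (x * a) * e⁻¹ = e * (a * x) * e⁻¹ := by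
          calc e * (x * a) * e⁻¹ = e * x * e⁻¹ * (e * a * e⁻¹) := by group
            _ = e * x * e⁻¹ * a := by rw [hea, mul_inv_cancel_right]
            _ = a * (e * x * e⁻¹) := h2
            _ = (e * a * e⁻¹) * (e * x * e⁻¹) := by rw [hea, mul_inv_cancel_right]
            _ = e * (a * x) * e⁻¹ := by group
        exact mul_left_cancel (mul_right_cancel h3)
    have hIH := ih (Nat.card ↥E₁) hlt (K ⊓ Subgroup.centralizer ({a} : Set G)) E₁ rfl hpKa hnorm
      (fun x hx y hy => hcomm x (hE₁E hx) y (hE₁E hy)) (fun x hx => hexp x (hE₁E hx)) hbig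
    refine hIH.trans ?_
    apply iSup_le
    rintro ⟨F, hFE₁, hFcard⟩
    have haF : a ∉ F := fun h => haE₁ (hFE₁ h)
    have hF'card : Nat.card ↥(F ⊔ Subgroup.zpowers a) = Nat.card ↥F * p :=
      card_sup_zpowers F a (hexp a haE) haF (fun h hh => hcomm a haE h (hE₁E (hFE₁ hh)))
    have hF'E : F ⊔ Subgroup.zpowers a ≤ E :=
      sup_le (hFE₁.trans hE₁E) (by rw [Subgroup.zpowers_le]; exact haE)
    have hF' : Nat.card ↥(F ⊔ Subgroup.zpowers a) * p = Nat.card ↥E := by
      rw [hF'card, hFcard, hE₁card]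
    refine le_trans ?_ (le_iSup (fun F : {F : Subgroup G // F ≤ E ∧ Nat.card ↥F * p = Nat.card ↥E} =>
      K ⊓ Subgroup.centralizer ((F : Subgroup G) : Set G)) ⟨F ⊔ Subgroup.zpowers a, hF'E, hF'⟩)
    rw [inf_assoc]
    exact inf_le_inf_left K (inf_centralizer_le_centralizer_sup F a)
  · -- `E` has order `p ^ 2`
    have hE₁p : IsPGroup p ↥E₁ := isPGroup_of_exponent E₁ (fun x hx => hexp x (hE₁E hx))
    obtain ⟨m, hm⟩ := IsPGroup.iff_card.mp hE₁p
    have hm1 : m = 1 := by
      rw [hm] at hbig hE₁card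
      have h1 : m < 2 := by
        by_contra h
        exact hbig (Nat.pow_le_pow_right hp.pos (not_lt.mp h))
      have h2 : m ≠ 0 := by
        rintro rfl
        rw [pow_zero, one_mul] at hE₁card
        rw [← hE₁card] at hcard
        have h2 : 2 ≤ p := hp.two_le
        nlinarith
      omega
    rw [hm1, pow_one] at hm
    have hZcard : Nat.card ↥(Subgroup.zpowers a) * p = Nat.card ↥E := by
      rw [card_zpowers_of_pow_eq_one a (hexp a haE) ha1, ← hE₁card, hm]
    refine le_trans ?_ (le_iSup (fun F : {F : Subgroup G // F ≤ E ∧ Nat.card ↥F * p = Nat.card ↥E} =>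
      K ⊓ Subgroup.centralizer ((F : Subgroup G) : Set G))
        ⟨Subgroup.zpowers a, by rw [Subgroup.zpowers_le]; exact haE, hZcard⟩)
    exact inf_le_inf_left K (centralizer_singleton_le_centralizer_zpowers a)

end

end Cfsg.Agent.Helper31
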