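-- Characteristic p is inherited by centralizers and normalizers of p-subgroups containing a good element.
import Cfsg.Agent.Helper49.CharP
import Cfsg.Agent.Helper24.Coprime
import Mathlib.GroupTheory.Nilpotent
import Mathlib.Tactic

set_option autoImplicit false

namespace Cfsg.Agent.Helper31

open Cfsg Cfsg.Agent.Helper49

section
variable {G : Type*} [Group G]

theorem mem_normalizer_of_conj_mem' {Q : Subgroup G} {x : G} (h1 : ∀ r ∈ Q, x * r * x⁻¹ ∈ Q)
    (h2 : ∀ r ∈ Q, x⁻¹ * r * x ∈ Q) : x ∈ Subgroup.normalizer (Q : Set G) := by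
  rw [Subgroup.mem_normalizer_iff]
  intro n
  constructor
  · exact h1 n
  · intro h
    have := h2 _ h
    have h3 : x⁻¹ * (x * n * x⁻¹) * x = n := by group
    rwa [h3] at this

theorem centralizer_zpowers_eq (z : G) :
    Subgroup.centralizer (Subgroup.zpowers z : Set G) = Subgroup.centralizer ({z} : Set G) := by
  apply le_antisymm
  · apply Subgroup.centralizer_le
    intro y hy
    rw [Set.mem_singleton_iff.mp hy]
    exact Subgroup.mem_zpowers z
  · intro x hx
    rw [Subgroup.mem_centralizer_iff] at hx ⊢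
    rintro _ ⟨i, rfl⟩
    have h1 : Commute z x := hx z rfl
    exact (h1.zpow_left i).eq

/-- an element normalizing `P` normalizes `C_G(P)` -/
theorem conj_mem_centralizer_of_mem_normalizer {P : Subgroup G} {b h : G}
    (hb : b ∈ Subgroup.normalizer (P : Set G)) (hh : h ∈ Subgroup.centralizer (P : Set G)) :
    b * h * b⁻¹ ∈ Subgroup.centralizer (P : Set G) := by
  rw [Subgroup.mem_centralizer_iff] at hh ⊢
  intro y hy
  have hb' : b⁻¹ ∈ Subgroup.normalizer (P : Set G) := Subgroup.inv_mem _ hb
  have hy' : b⁻¹ * y * b⁻¹⁻¹ ∈ P := (Subgroup.mem_normalizer_iff.mp hb' y).mp hy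
  have := hh _ hy'
  calc y * (b * h * b⁻¹) = b * ((b⁻¹ * y * b⁻¹⁻¹) * h) * b⁻¹ := by group
    _ = b * (h * (b⁻¹ * y * b⁻¹⁻¹)) * b⁻¹ := by rw [this]
    _ = b * h * b⁻¹ * y := by group

variable {p : ℕ}

/-- conjugation by an element normalizing `Y` preserves `O_p(Y)` -/
theorem coreIn_conj_mem_of_mem_normalizer {Y : Subgroup G} {x r : G}
    (hx : x ∈ Subgroup.normalizer (Y : Set G)) (hr : r ∈ coreIn p Y) : x * r * x⁻¹ ∈ coreIn p Y := by
  set N : Subgroup G := (coreIn p Y).map (MulAut.conj x).toMonoidHom with hN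
  have hNY : N ≤ Y := by
    rintro _ ⟨n, hn, rfl⟩
    exact (Subgroup.mem_normalizer_iff.mp hx n).mp (coreIn_le Y hn)
  have hNp : IsPGroup p N := (coreIn_isPGroup Y).map _
  have hNnorm : ∀ l ∈ Y, ∀ n ∈ N, l * n * l⁻¹ ∈ N := by
    rintro l hl _ ⟨n, hn, rfl⟩
    have hx' : x⁻¹ ∈ Subgroup.normalizer (Y : Set G) := Subgroup.inv_mem _ hx
    have hl' : x⁻¹ * l * x⁻¹⁻¹ ∈ Y := (Subgroup.mem_normalizer_iff.mp hx' l).mp hl
    refine ⟨(x⁻¹ * l * x⁻¹⁻¹) * n * (x⁻¹ * l * x⁻¹⁻¹)⁻¹, coreIn_conj_mem hl' hn, ?_⟩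
    simp only [MulEquiv.coe_toMonoidHom, MulAut.conj_apply]
    group
  have hle : N ≤ coreIn p Y := le_coreIn hNY hNnorm hNp
  exact hle ⟨r, hr, rfl⟩

variable [Finite G] [Fact p.Prime]

/-- Step of the chain: if `P ⊴ P'` are `p`-groups and `C_G(P)` has characteristic `p`, so has `C_G(P')`.
(Thompson's `P × Q` lemma.) -/
theorem charPIn_centralizer_step {P P' : Subgroup G} (hP' : IsPGroup p ↥P') (hPP' : P ≤ P')
    (hnorm : P' ≤ Subgroup.normalizer (P : Set G)) (h : CharPIn p (Subgroup.centralizer (P : Set G))) :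
    CharPIn p (Subgroup.centralizer (P' : Set G)) := by
  set H := Subgroup.centralizer (P : Set G) with hH
  set H' := Subgroup.centralizer (P' : Set G) with hH'
  have hH'H : H' ≤ H := Subgroup.centralizer_le (by exact_mod_cast hPP')
  have hP'H : P' ≤ Subgroup.normalizer (H : Set G) := by
    intro b hb
    apply mem_normalizer_of_conj_mem'
    · intro r hr
      exact conj_mem_centralizer_of_mem_normalizer (hnorm hb) hr
    · intro r hr
      have := conj_mem_centralizer_of_mem_normalizer (Subgroup.inv_mem _ (hnorm hb)) hr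
      simpa using this
  have hP'Q : P' ≤ Subgroup.normalizer ((coreIn p H : Subgroup G) : Set G) := by
    intro b hb
    apply mem_normalizer_of_conj_mem'
    · intro r hr
      exact coreIn_conj_mem_of_mem_normalizer (hP'H hb) hr
    · intro r hr
      have := coreIn_conj_mem_of_mem_normalizer (Subgroup.inv_mem _ (hP'H hb)) hr
      simpa using this
  have hQH' : coreIn p H ⊓ H' ≤ coreIn p H' := by
    apply le_coreIn inf_le_right
    · intro l hl n hn
      exact ⟨coreIn_conj_mem (hH'H hl) hn.1, H'.mul_mem (H'.mul_mem hl hn.2) (H'.inv_mem hl)⟩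
    · exact (coreIn_isPGroup H).to_inf_left
  apply charPIn_of_forall
  intro c hcH' hcR hcop
  have hcH : c ∈ H := hH'H hcH'
  have hcQ : c ∈ Subgroup.normalizer ((coreIn p H : Subgroup G) : Set G) := by
    apply mem_normalizer_of_conj_mem'
    · intro r hr
      exact coreIn_conj_mem hcH hr
    · intro r hr
      have := coreIn_conj_mem (H.inv_mem hcH) hr
      simpa using this
  have hcP' : ∀ b ∈ P', c * b = b * c := by
    intro b hb
    have := (Subgroup.mem_centralizer_iff.mp hcH') b hb
    exact this.symm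
  have hall := Cfsg.Agent.Helper24.thompson_PxQ (coreIn_isPGroup H) hP' hP'Q hcQ hcop hcP'
    (fun u hu hub => by
      apply hcR
      apply hQH'
      have huH' : u ∈ H' := by
        rw [hH', Subgroup.mem_centralizer_iff]
        intro b hb
        exact hub b hb
      exact ⟨hu, huH'⟩)
  have hcmem : c ∈ coreIn p H := h c hcH hall
  exact eq_one_of_mem_pGroup_of_coprime (coreIn_isPGroup H) hcmem hcop

/-- normalizer condition inside a `p`-subgroup -/
theorem exists_mem_normalizer_not_mem' {P A : Subgroup G} (hP : IsPGroup p ↥P) (hAP : A ≤ P)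
    (hne : A ≠ P) : ∃ x, x ∈ P ⊓ Subgroup.normalizer (A : Set G) ∧ x ∉ A := by
  have : Group.IsNilpotent ↥P := hP.isNilpotent
  have hlt : A.subgroupOf P < ⊤ := by
    rw [lt_top_iff_ne_top]
    intro h
    apply hne
    exact le_antisymm hAP (Subgroup.subgroupOf_eq_top.mp h)
  have := normalizerCondition_of_isNilpotent _ hlt
  obtain ⟨x, hx1, hx2⟩ := SetLike.exists_of_lt this
  rw [Subgroup.mem_normalizer_iff] at hx1
  have hxn : (x : G) ∈ Subgroup.normalizer (A : Set G) := by
    rw [Subgroup.mem_normalizer_iff]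
    intro g
    constructor
    · intro hg
      have := (hx1 ⟨g, hAP hg⟩).mp (Subgroup.mem_subgroupOf.mpr hg)
      exact Subgroup.mem_subgroupOf.mp this
    · intro hg
      have hgP : g ∈ P := by
        have h1 := hAP hg
        have h2 := P.mul_mem (P.mul_mem (P.inv_mem x.2) h1) x.2
        have h3 : (x : G)⁻¹ * ((x : G) * g * (x : G)⁻¹) * (x : G) = g := by group
        rwa [h3] at h2
      have := (hx1 ⟨g, hgP⟩).mpr (Subgroup.mem_subgroupOf.mpr hg)
      exact Subgroup.mem_subgroupOf.mp this
  exact ⟨(x : G), ⟨x.2, hxn⟩, fun h => hx2 (Subgroup.mem_subgroupOf.mpr h)⟩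

/-- If `C_G(z)` has characteristic `p`, so has `C_G(P)` for every `p`-subgroup `P` containing `z`. -/
theorem charPIn_centralizer_of_mem {z : G} (hz : CharPIn p (Subgroup.centralizer ({z} : Set G)))
    (P : Subgroup G) (hP : IsPGroup p ↥P) (hzP : z ∈ P) :
    CharPIn p (Subgroup.centralizer (P : Set G)) := by
  classical
  have hfin : Set.Finite {R : Subgroup G | R ≤ P ∧ z ∈ R ∧ CharPIn p (Subgroup.centralizer (R : Set G))} :=
    Set.toFinite _
  have hne : Set.Nonempty {R : Subgroup G | R ≤ P ∧ z ∈ R ∧ CharPIn p (Subgroup.centralizer (R : Set G))} := by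
    refine ⟨Subgroup.zpowers z, ?_, Subgroup.mem_zpowers z, ?_⟩
    · rw [Subgroup.zpowers_le]; exact hzP
    · rw [centralizer_zpowers_eq]; exact hz
  obtain ⟨R, ⟨hRP, hzR, hR⟩, hmax⟩ := Set.exists_max_image _ (fun R : Subgroup G => Nat.card ↥R) hfin hne
  by_cases hRne : R = P
  · rw [← hRne]; exact hR
  · exfalso
    obtain ⟨x, hx1, hx2⟩ := exists_mem_normalizer_not_mem' hP hRP hRne
    set R' : Subgroup G := P ⊓ Subgroup.normalizer (R : Set G) with hR'
    have hRR' : R ≤ R' := le_inf hRP Subgroup.le_normalizer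
    have hR'p : IsPGroup p ↥R' := hP.to_le inf_le_left
    have hstep := charPIn_centralizer_step hR'p hRR' inf_le_right hR
    have hle := hmax R' ⟨inf_le_left, hRR' hzR, hstep⟩
    have hcard : Nat.card ↥R' ≤ Nat.card ↥R := hle
    have := Subgroup.eq_of_le_of_card_ge hRR' hcard
    exact hx2 (this ▸ hx1)

/-- If `U` is a `p`-group and `C_G(U)` has characteristic `p`, then so has `N_G(U)`. -/
theorem charPIn_normalizer_of_centralizer {U : Subgroup G} (hU : IsPGroup p ↥U)
    (h : CharPIn p (Subgroup.centralizer (U : Set G))) : CharPIn p (Subgroup.normalizer (U : Set G)) := by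
  set X := Subgroup.normalizer (U : Set G) with hX
  set Y := Subgroup.centralizer (U : Set G) with hY
  have hYX : Y ≤ X := Subgroup.centralizer_le_normalizer _
  have hUcore : U ≤ coreIn p X := by
    apply le_coreIn Subgroup.le_normalizer
    · intro l hl n hn
      exact (Subgroup.mem_normalizer_iff.mp hl n).mp hn
    · exact hU
  have hXY : X ≤ Subgroup.normalizer (Y : Set G) := by
    intro b hb
    apply mem_normalizer_of_conj_mem'
    · intro r hr
      exact conj_mem_centralizer_of_mem_normalizer hb hr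
    · intro r hr
      have := conj_mem_centralizer_of_mem_normalizer (Subgroup.inv_mem _ hb) hr
      simpa using this
  have hcore : coreIn p Y ≤ coreIn p X := by
    apply le_coreIn ((coreIn_le Y).trans hYX)
    · intro l hl n hn
      exact coreIn_conj_mem_of_mem_normalizer (hXY hl) hn
    · exact coreIn_isPGroup Y
  apply charPIn_of_forall
  intro c hcX hcR hcop
  have hcY : c ∈ Y := by
    rw [hY, Subgroup.mem_centralizer_iff]
    intro u hu
    exact (hcR u (hUcore hu)).symm
  have hcmem : c ∈ coreIn p Y := h c hcY (fun r hr => hcR r (hcore hr))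
  exact eq_one_of_mem_pGroup_of_coprime (coreIn_isPGroup Y) hcmem hcop

end

end Cfsg.Agent.Helper31
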