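-- Hyperplane coprime generation, `relIndex` form, and intersections of hyperplanes.
import Cfsg.Agent.Helper31.CoprimeHyp

set_option autoImplicit false

namespace Cfsg.Agent.Helper31

section
variable {G : Type*} [Group G] [Finite G] {p : ℕ} [Fact p.Prime]

theorem relIndex_mul_card'' {H K : Subgroup G} (h : H ≤ K) : H.relIndex K * Nat.card ↥H = Nat.card ↥K := by
  have := Subgroup.relIndex_mul_relIndex ⊥ H K bot_le h
  rw [Subgroup.relIndex_bot_left, Subgroup.relIndex_bot_left] at this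
  rw [mul_comm]; exact this

omit [Fact p.Prime] in
theorem relIndex_eq_of_card_mul {F E : Subgroup G} (hFE : F ≤ E) (h : Nat.card ↥F * p = Nat.card ↥E) :
    F.relIndex E = p := by
  have h1 := relIndex_mul_card'' hFE
  rw [← h, mul_comm] at h1
  have hpos : 0 < Nat.card ↥F := Nat.card_pos
  exact Nat.eq_of_mul_eq_mul_left hpos h1

omit [Fact p.Prime] in
theorem card_mul_of_relIndex_eq {F E : Subgroup G} (hFE : F ≤ E) (h : F.relIndex E = p) :
    Nat.card ↥F * p = Nat.card ↥E := by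
  have h1 := relIndex_mul_card'' hFE
  rw [h, mul_comm] at h1
  exact h1

/-- hyperplane generation, `relIndex` form -/
theorem le_iSup_hyperplane_relIndex (K E : Subgroup G) (hpK : ¬ p ∣ Nat.card ↥K)
    (hEK : E ≤ Subgroup.normalizer (K : Set G)) (hcomm : ∀ x ∈ E, ∀ y ∈ E, x * y = y * x)
    (hexp : ∀ x ∈ E, x ^ p = 1) (hcard : p ^ 2 ≤ Nat.card ↥E) :
    K ≤ ⨆ F : {F : Subgroup G // F ≤ E ∧ F.relIndex E = p},
      K ⊓ Subgroup.centralizer ((F : Subgroup G) : Set G) := by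
  refine (le_iSup_hyperplane (p := p) _ K E rfl hpK hEK hcomm hexp hcard).trans ?_
  apply iSup_le
  rintro ⟨F, hFE, hF⟩
  exact le_iSup (fun F : {F : Subgroup G // F ≤ E ∧ F.relIndex E = p} =>
    K ⊓ Subgroup.centralizer ((F : Subgroup G) : Set G)) ⟨F, hFE, relIndex_eq_of_card_mul hFE hF⟩

/-- if `K` is not contained in `D`, some hyperplane centralizer in `K` is not contained in `D` -/
theorem exists_hyperplane_not_le (K E D : Subgroup G) (hpK : ¬ p ∣ Nat.card ↥K)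
    (hEK : E ≤ Subgroup.normalizer (K : Set G)) (hcomm : ∀ x ∈ E, ∀ y ∈ E, x * y = y * x)
    (hexp : ∀ x ∈ E, x ^ p = 1) (hcard : p ^ 2 ≤ Nat.card ↥E) (hKD : ¬ K ≤ D) :
    ∃ F : Subgroup G, F ≤ E ∧ Nat.card ↥F * p = Nat.card ↥E ∧
      ¬ K ⊓ Subgroup.centralizer (F : Set G) ≤ D := by
  by_contra hcon
  push_neg at hcon
  apply hKD
  refine (le_iSup_hyperplane (p := p) _ K E rfl hpK hEK hcomm hexp hcard).trans ?_
  apply iSup_le
  rintro ⟨F, hFE, hF⟩
  exact hcon F hFE hF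

/-- two hyperplanes of an elementary abelian group of order at least `p ^ 3` share a non-identity element -/
theorem exists_mem_inf_hyperplanes (E F₁ F₂ : Subgroup G) (hcomm : ∀ x ∈ E, ∀ y ∈ E, x * y = y * x)
    (hcard : p ^ 3 ≤ Nat.card ↥E) (h₁ : F₁ ≤ E) (h₂ : F₂ ≤ E) (hc₁ : Nat.card ↥F₁ * p = Nat.card ↥E)
    (hc₂ : Nat.card ↥F₂ * p = Nat.card ↥E) : ∃ a, a ∈ F₁ ∧ a ∈ F₂ ∧ a ≠ 1 := by
  have hp : p.Prime := Fact.out
  have hnorm : F₁ ≤ Subgroup.normalizer (F₂ : Set G) := by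
    intro x hx
    rw [Subgroup.mem_normalizer_iff]
    intro y
    constructor
    · intro hy
      have : x * y * x⁻¹ = y := by rw [hcomm x (h₁ hx) y (h₂ hy), mul_inv_cancel_right]
      rwa [this]
    · intro hy
      have h3 := hcomm x (h₁ hx) _ (h₂ hy)
      have : x * y * x⁻¹ = y := by
        have h4 : x * (x * y * x⁻¹) = x * y := by rw [h3]; group
        exact mul_left_cancel h4
      rwa [this] at hy
  have hprod := card_sup_mul_card_inf' F₁ F₂ hnorm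
  have hle : Nat.card ↥(F₁ ⊔ F₂) ≤ Nat.card ↥E := Subgroup.card_le_of_le (sup_le h₁ h₂)
  -- |F₁ ∩ F₂| ≥ p
  have hinf : 1 < Nat.card ↥(F₁ ⊓ F₂) := by
    by_contra hcon
    have hpos : 0 < Nat.card ↥(F₁ ⊓ F₂) := Nat.card_pos
    have h1 : Nat.card ↥(F₁ ⊓ F₂) = 1 := by omega
    rw [h1, mul_one] at hprod
    -- |F₁||F₂| ≤ |E| but |F₁||F₂| p² = |E|²
    have hE : Nat.card ↥F₁ * Nat.card ↥F₂ ≤ Nat.card ↥E := hprod ▸ hle
    have h2 : (Nat.card ↥F₁ * Nat.card ↥F₂) * (p * p) = Nat.card ↥E * Nat.card ↥E := by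
      calc (Nat.card ↥F₁ * Nat.card ↥F₂) * (p * p) = (Nat.card ↥F₁ * p) * (Nat.card ↥F₂ * p) := by ring
        _ = Nat.card ↥E * Nat.card ↥E := by rw [hc₁, hc₂]
    have hEpos : 0 < Nat.card ↥E := Nat.card_pos
    have h3 : Nat.card ↥E * Nat.card ↥E ≤ Nat.card ↥E * (p * p) := by
      rw [← h2]; exact Nat.mul_le_mul_right _ hE
    have h4 : Nat.card ↥E ≤ p * p := Nat.le_of_mul_le_mul_left h3 hEpos
    have h5 : p ^ 3 ≤ p * p := hcard.trans h4
    have h6 : p ^ 3 = p * p * p := by ring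
    have h7 : 2 ≤ p := hp.two_le
    have h8 : 0 < p * p := Nat.mul_pos hp.pos hp.pos
    nlinarith
  have hne : F₁ ⊓ F₂ ≠ ⊥ := (Subgroup.one_lt_card_iff_ne_bot _).mp hinf
  obtain ⟨a, ha1⟩ := (Subgroup.ne_bot_iff_exists_ne_one).mp hne
  exact ⟨a, a.2.1, a.2.2, fun h => ha1 (Subtype.ext h)⟩

end

end Cfsg.Agent.Helper31
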