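-- Transitivity theorem for solvable signalizer functors (Gorenstein 6.3.1 / GLS).
import Cfsg.Agent.S1280
import Cfsg.Agent.S1282
import Cfsg.Agent.Helper29.CoprimeCount
import Cfsg.Agent.Helper1.CoprimeSylow

set_option autoImplicit false
open Cfsg

namespace Cfsg.Agent.Helper31

open scoped Pointwise

section Transitivity

variable {G : Type*} [Group G]

/-- `A`-invariance in the form used by `signalizerFamily`. -/
def AInv (A U : Subgroup G) : Prop := ∀ b ∈ A, ∀ u ∈ U, b * u * b⁻¹ ∈ U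

theorem AInv.le_normalizer {A U : Subgroup G} (h : AInv A U) :
    A ≤ Subgroup.normalizer (U : Set G) := by
  intro b hb
  rw [Subgroup.mem_normalizer_iff]
  intro u
  constructor
  · exact h b hb u
  · intro hu
    have := h b⁻¹ (A.inv_mem hb) _ hu
    simpa [mul_assoc] using this

theorem AInv.inf {A U V : Subgroup G} (hU : AInv A U) (hV : AInv A V) : AInv A (U ⊓ V) :=
  fun b hb u hu => ⟨hU b hb u hu.1, hV b hb u hu.2⟩

theorem ainv_of_le_normalizer {A U : Subgroup G} (h : A ≤ Subgroup.normalizer (U : Set G)) :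
    AInv A U :=
  fun b hb u hu => (Subgroup.mem_normalizer_iff.mp (h hb) u).mp hu

theorem AInv.normalizer {A U : Subgroup G} (h : AInv A U) :
    AInv A (Subgroup.normalizer (U : Set G)) := by
  intro b hb n hn
  have hbN := h.le_normalizer hb
  exact Subgroup.mul_mem _ (Subgroup.mul_mem _ hbN hn) (Subgroup.inv_mem _ hbN)

theorem mem_signalizerInf_iff {A : Subgroup G} {θ : G → Subgroup G} {c : G} :
    c ∈ signalizerInf A θ ↔ ∀ a ∈ A, a ≠ 1 → c ∈ θ a := by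
  unfold signalizerInf
  rw [Subgroup.mem_iInf]
  constructor
  · intro h a ha ha1
    exact h ⟨a, ha, ha1⟩
  · rintro h ⟨a, ha, ha1⟩
    exact h a ha ha1

theorem signalizerFamily_of_le {p : ℕ} {A : Subgroup G} {θ : G → Subgroup G} {U V : Subgroup G}
    (hU : U ∈ signalizerFamily p A θ) (hVU : V ≤ U) (hV : AInv A V) :
    V ∈ signalizerFamily p A θ := by
  obtain ⟨h1, h2, h3, h4⟩ := hU
  refine ⟨?_, ?_, hV, ?_⟩
  · haveI := h1
    exact solvable_of_solvable_injective (Subgroup.inclusion_injective hVU)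
  · intro h
    exact h2 (h.trans (Subgroup.card_dvd_of_le hVU))
  · intro a ha ha1
    exact (inf_le_inf_right _ hVU).trans (h4 a ha ha1)

theorem theta_mem_signalizerFamily {p : ℕ} {A : Subgroup G} {θ : G → Subgroup G}
    (hθ : IsSolvableSignalizerFunctor p A θ) {a : G} (ha : a ∈ A) (ha1 : a ≠ 1) :
    θ a ∈ signalizerFamily p A θ :=
  ⟨hθ.2 a ha ha1, hθ.1.2.1 a ha ha1, hθ.1.2.2.1 a ha ha1,
    fun b hb hb1 => hθ.1.2.2.2 a ha ha1 b hb hb1⟩

theorem bot_mem_signalizerFamily {p : ℕ} [Fact p.Prime] {A : Subgroup G} {θ : G → Subgroup G} :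
    (⊥ : Subgroup G) ∈ signalizerFamily p A θ := by
  have hp : p.Prime := Fact.out
  refine ⟨inferInstance, ?_, ?_, ?_⟩
  · rw [Subgroup.card_bot]
    exact hp.one_lt.ne' ∘ Nat.dvd_one.mp
  · intro b _ u hu
    rw [Subgroup.mem_bot] at hu ⊢
    subst hu
    group
  · intro a _ _
    exact inf_le_left.trans bot_le

theorem commute_of_mem_signalizerInf {p : ℕ} {A : Subgroup G} {θ : G → Subgroup G}
    (hθ : IsSignalizerFunctor p A θ) {c : G} (hc : c ∈ signalizerInf A θ) {a : G} (ha : a ∈ A) :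
    Commute a c := by
  by_cases ha1 : a = 1
  · subst ha1
    exact Commute.one_left c
  · have h1 : c ∈ θ a := mem_signalizerInf_iff.mp hc a ha ha1
    have h2 := hθ.1 a ha ha1 h1
    rw [Subgroup.mem_centralizer_iff] at h2
    exact h2 a rfl

theorem mem_map_conj_iff {U : Subgroup G} {c x : G} :
    x ∈ U.map (MulAut.conj c).toMonoidHom ↔ c⁻¹ * x * c ∈ U := by
  rw [Subgroup.mem_map_equiv, MulAut.conj_symm_apply]

theorem map_conj_mul (U : Subgroup G) (c d : G) :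
    (U.map (MulAut.conj d).toMonoidHom).map (MulAut.conj c).toMonoidHom =
      U.map (MulAut.conj (c * d)).toMonoidHom := by
  ext x
  simp only [mem_map_conj_iff, mul_inv_rev, mul_assoc]

theorem map_conj_one (U : Subgroup G) : U.map (MulAut.conj (1 : G)).toMonoidHom = U := by
  ext x
  simp [mem_map_conj_iff]

theorem map_conj_mem_signalizerFamily {p : ℕ} {A : Subgroup G} {θ : G → Subgroup G}
    (hθ : IsSignalizerFunctor p A θ) {c : G} (hc : c ∈ signalizerInf A θ) {U : Subgroup G}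
    (hU : U ∈ signalizerFamily p A θ) :
    U.map (MulAut.conj c).toMonoidHom ∈ signalizerFamily p A θ := by
  obtain ⟨h1, h2, h3, h4⟩ := hU
  have hinj : Function.Injective (MulAut.conj c).toMonoidHom := (MulAut.conj c).injective
  refine ⟨?_, ?_, ?_, ?_⟩
  · haveI := h1
    exact solvable_of_surjective (f := (U.equivMapOfInjective _ hinj).toMonoidHom)
      (U.equivMapOfInjective _ hinj).surjective
  · rw [Subgroup.card_map_of_injective hinj]
    exact h2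
  · intro b hb x hx
    rw [mem_map_conj_iff] at hx ⊢
    have hbc : Commute b c := commute_of_mem_signalizerInf hθ hc hb
    have := h3 b hb _ hx
    have e : c⁻¹ * (b * x * b⁻¹) * c = b * (c⁻¹ * x * c) * b⁻¹ := by
      have e1 : c⁻¹ * b = b * c⁻¹ := (hbc.inv_right).eq.symm
      have e2 : b⁻¹ * c = c * b⁻¹ := (hbc.inv_left).eq
      calc c⁻¹ * (b * x * b⁻¹) * c = (c⁻¹ * b) * x * (b⁻¹ * c) := by group
        _ = (b * c⁻¹) * x * (c * b⁻¹) := by rw [e1, e2]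
        _ = b * (c⁻¹ * x * c) * b⁻¹ := by group
    rw [e]
    exact this
  · intro a ha ha1 x hx
    obtain ⟨hx1, hx2⟩ := Subgroup.mem_inf.mp hx
    rw [mem_map_conj_iff] at hx1
    have hca : c ∈ θ a := mem_signalizerInf_iff.mp hc a ha ha1
    have hac : Commute a c := commute_of_mem_signalizerInf hθ hc ha
    rw [Subgroup.mem_centralizer_iff] at hx2
    have hax : Commute a x := hx2 a rfl
    have h5 : c⁻¹ * x * c ∈ θ a := by
      refine h4 a ha ha1 (Subgroup.mem_inf.mpr ⟨hx1, ?_⟩)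
      rw [Subgroup.mem_centralizer_iff]
      intro y hy
      rw [Set.mem_singleton_iff] at hy
      subst hy
      exact ((hac.inv_right.mul_right hax).mul_right hac).eq
    have e : x = c * (c⁻¹ * x * c) * c⁻¹ := by group
    rw [e]
    exact (θ a).mul_mem ((θ a).mul_mem hca h5) ((θ a).inv_mem hca)

/-- `Q` is maximal among the `q`-subgroups in the family of `θ`. -/
structure IsMaxQ (p : ℕ) (A : Subgroup G) (θ : G → Subgroup G) (q : ℕ) (Q : Subgroup G) :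
    Prop where
  mem : Q ∈ signalizerFamily p A θ
  isPGroup : IsPGroup q ↥Q
  max : ∀ R ∈ signalizerFamily p A θ, IsPGroup q ↥R → Q ≤ R → R = Q

theorem isPGroup_map_conj {q : ℕ} {Q : Subgroup G} (hQ : IsPGroup q ↥Q) (c : G) :
    IsPGroup q ↥(Q.map (MulAut.conj c).toMonoidHom) :=
  hQ.map _

theorem IsMaxQ.map_conj {p : ℕ} {A : Subgroup G} {θ : G → Subgroup G} {q : ℕ} {Q : Subgroup G}
    (hθ : IsSignalizerFunctor p A θ) (hQ : IsMaxQ p A θ q Q) {c : G}
    (hc : c ∈ signalizerInf A θ) : IsMaxQ p A θ q (Q.map (MulAut.conj c).toMonoidHom) := by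
  refine ⟨map_conj_mem_signalizerFamily hθ hc hQ.mem, isPGroup_map_conj hQ.isPGroup c, ?_⟩
  intro R hR hRq hle
  have hc' : c⁻¹ ∈ signalizerInf A θ := Subgroup.inv_mem _ hc
  have h1 := hQ.max _ (map_conj_mem_signalizerFamily hθ hc' hR) (isPGroup_map_conj hRq c⁻¹) (by
    intro x hx
    rw [mem_map_conj_iff]
    apply hle
    rw [mem_map_conj_iff]
    simpa [mul_assoc] using hx)
  rw [← h1, map_conj_mul, mul_inv_cancel, map_conj_one]

theorem exists_isMaxQ_ge [Finite G] {p : ℕ} {A : Subgroup G} {θ : G → Subgroup G} {q : ℕ}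
    {U : Subgroup G} (hU : U ∈ signalizerFamily p A θ) (hUq : IsPGroup q ↥U) :
    ∃ Q : Subgroup G, U ≤ Q ∧ IsMaxQ p A θ q Q := by
  have hfin : {R : Subgroup G | R ∈ signalizerFamily p A θ ∧ IsPGroup q ↥R}.Finite :=
    Set.toFinite _
  obtain ⟨Q, hUQ, hQ⟩ := hfin.exists_le_maximal (a := U) ⟨hU, hUq⟩
  refine ⟨Q, hUQ, hQ.prop.1, hQ.prop.2, ?_⟩
  intro R hR hRq hQR
  exact le_antisymm (hQ.le_of_ge ⟨hR, hRq⟩ hQR) hQR


theorem card_lt_card_of_lt [Finite G] {D E : Subgroup G} (h : D < E) :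
    Nat.card ↥D < Nat.card ↥E := by
  by_contra hcon
  exact h.ne (Subgroup.eq_of_le_of_card_ge h.le (not_lt.mp hcon))

theorem card_coprime_of_signalizerFamily [Finite G] {p : ℕ} [Fact p.Prime] {A : Subgroup G}
    (hA : IsElementaryAbelian p A) {θ : G → Subgroup G} {H : Subgroup G}
    (hH : H ∈ signalizerFamily p A θ) : (Nat.card ↥A).Coprime (Nat.card ↥H) := by
  have hp : p.Prime := Fact.out
  obtain ⟨n, hn⟩ := IsPGroup.iff_card.mp (Cfsg.Agent.Lib.isElementaryAbelian_isPGroup hA)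
  rw [hn]
  exact Nat.Coprime.pow_left n ((Nat.Prime.coprime_iff_not_dvd hp).mpr hH.2.1)

/-- An `A`-invariant Sylow `q`-subgroup of a member `H` containing a given `A`-invariant
`q`-subgroup, packaged as a `Sylow`. -/
theorem exists_invariant_sylow_ge_member [Finite G] {p : ℕ} [Fact p.Prime] {A : Subgroup G}
    (hA : IsElementaryAbelian p A) {θ : G → Subgroup G} {H : Subgroup G}
    (hH : H ∈ signalizerFamily p A θ) {q : ℕ} [Fact q.Prime] {R : Subgroup G} (hRH : R ≤ H)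
    (hRq : IsPGroup q ↥R) (hRA : AInv A R) :
    ∃ P : Sylow q ↥H, R ≤ (P : Subgroup ↥H).map H.subtype ∧
      A ≤ Subgroup.normalizer (((P : Subgroup ↥H).map H.subtype : Subgroup G) : Set G) := by
  obtain ⟨T, hRT, hTH, hTq, hAT, hTcard⟩ :=
    Cfsg.Agent.Helper29.exists_invariant_sylow_ge
      (Cfsg.Agent.Lib.isElementaryAbelian_isPGroup hA) (AInv.le_normalizer hH.2.2.1)
      (card_coprime_of_signalizerFamily hA hH) hRH hRq hRA.le_normalizer
  have hcard : Nat.card ↥(T.subgroupOf H) = q ^ (Nat.card ↥H).factorization q := by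
    rw [Cfsg.Agent.Helper1.card_subgroupOf_of_le hTH, hTcard]
  refine ⟨Sylow.ofCard _ hcard, ?_, ?_⟩
  · rw [Sylow.coe_ofCard, Subgroup.subgroupOf_map_subtype, inf_eq_left.mpr hTH]
    exact hRT
  · rw [Sylow.coe_ofCard, Subgroup.subgroupOf_map_subtype, inf_eq_left.mpr hTH]
    exact hAT

theorem conj_smul_eq_map (U : Subgroup G) (c : G) :
    MulAut.conj c • U = U.map (MulAut.conj c).toMonoidHom := rfl

/-- The inductive step of the transitivity theorem. -/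
theorem transitivity_step [Finite G] (p : ℕ) [Fact p.Prime] (A : Subgroup G)
    (hA : IsElementaryAbelian p A) (hA3 : p ^ 3 ≤ Nat.card ↥A) (θ : G → Subgroup G)
    (hθ : IsSolvableSignalizerFunctor p A θ) (q : ℕ) [Fact q.Prime] (hqp : q ≠ p)
    {Q₁ Q₂ : Subgroup G} (hQ₁ : IsMaxQ p A θ q Q₁) (hQ₂ : IsMaxQ p A θ q Q₂) (hne : Q₁ ≠ Q₂) :
    ∃ R : Subgroup G, IsMaxQ p A θ q R ∧ ∃ h ∈ signalizerInf A θ,
      Nat.card ↥(Q₁ ⊓ Q₂) < Nat.card ↥(Q₁ ⊓ R) ∧
      Nat.card ↥(Q₁ ⊓ Q₂) < Nat.card ↥(R.map (MulAut.conj h).toMonoidHom ⊓ Q₂) := by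
  have hp : p.Prime := Fact.out
  have hA2 : p ^ 2 ≤ Nat.card ↥A :=
    le_trans (Nat.pow_le_pow_right hp.pos (by omega)) hA3
  set D : Subgroup G := Q₁ ⊓ Q₂ with hD
  have hD₁ : D ≠ Q₁ := by
    intro h
    have hle : Q₁ ≤ Q₂ := by rw [← h]; exact inf_le_right
    exact hne (hQ₁.max Q₂ hQ₂.mem hQ₂.isPGroup hle).symm
  have hD₂ : D ≠ Q₂ := by
    intro h
    have hle : Q₂ ≤ Q₁ := by rw [← h]; exact inf_le_left
    exact hne (hQ₂.max Q₁ hQ₁.mem hQ₁.isPGroup hle)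
  have hQ₁A : AInv A Q₁ := hQ₁.mem.2.2.1
  have hQ₂A : AInv A Q₂ := hQ₂.mem.2.2.1
  obtain ⟨a, ha, ha1, hn₁, hn₂⟩ := Cfsg.Agent.S1282.result p A hA hA3 q hqp Q₁ Q₂ hQ₁.isPGroup
    hQ₂.isPGroup hQ₁A.le_normalizer hQ₂A.le_normalizer hD₁ hD₂
  have hDA : AInv A D := hQ₁A.inf hQ₂A
  have hDmem : D ∈ signalizerFamily p A θ := signalizerFamily_of_le hQ₁.mem inf_le_left hDA
  set Y : Subgroup G := θ a ⊓ Subgroup.normalizer (D : Set G) with hY
  have hθa : θ a ∈ signalizerFamily p A θ := theta_mem_signalizerFamily hθ ha ha1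
  have hYA : AInv A Y := AInv.inf (U := θ a) hθa.2.2.1 hDA.normalizer
  have hYmem : Y ∈ signalizerFamily p A θ := signalizerFamily_of_le hθa inf_le_left hYA
  set H : Subgroup G := D ⊔ Y with hHdef
  have hH : H ∈ signalizerFamily p A θ :=
    Cfsg.Agent.S1280.result p A hA hA2 θ hθ D Y hDmem hYmem inf_le_right
  have hHA : AInv A H := hH.2.2.1
  -- both `Q_i ∩ H` are strictly bigger than `D`
  have key : ∀ Q : Subgroup G, Q ∈ signalizerFamily p A θ → D ≤ Q →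
      ¬ (Subgroup.normalizer (D : Set G) ⊓ Q ⊓ Subgroup.centralizer {a} ≤ D) → D < Q ⊓ H := by
    intro Q hQ hDQ hnot
    refine lt_of_le_of_ne (le_inf hDQ le_sup_left) ?_
    intro heq
    apply hnot
    intro x hx
    obtain ⟨hx12, hx3⟩ := Subgroup.mem_inf.mp hx
    obtain ⟨hx1, hx2⟩ := Subgroup.mem_inf.mp hx12
    rw [heq]
    refine Subgroup.mem_inf.mpr ⟨hx2, ?_⟩
    have hxθ : x ∈ θ a := hQ.2.2.2 a ha ha1 (Subgroup.mem_inf.mpr ⟨hx2, hx3⟩)
    exact (le_sup_right : Y ≤ H) (Subgroup.mem_inf.mpr ⟨hxθ, hx1⟩)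
  have hlt₁ : D < Q₁ ⊓ H := key Q₁ hQ₁.mem inf_le_left hn₁
  have hlt₂ : D < Q₂ ⊓ H := key Q₂ hQ₂.mem inf_le_right hn₂
  obtain ⟨P₁, hRP₁, hAP₁⟩ := exists_invariant_sylow_ge_member hA hH (inf_le_right : Q₁ ⊓ H ≤ H)
    (hQ₁.isPGroup.to_le inf_le_left) (hQ₁A.inf hHA)
  obtain ⟨P₂, hRP₂, hAP₂⟩ := exists_invariant_sylow_ge_member hA hH (inf_le_right : Q₂ ⊓ H ≤ H)
    (hQ₂.isPGroup.to_le inf_le_left) (hQ₂A.inf hHA)
  obtain ⟨h, hh, hconj⟩ := Cfsg.Agent.Helper1.invariant_sylow_conj A H hHA.le_normalizer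
    (card_coprime_of_signalizerFamily hA hH) (Or.inr hH.1) q P₁ P₂ hAP₁ hAP₂
  have hhInf : h ∈ signalizerInf A θ := by
    rw [mem_signalizerInf_iff]
    intro a' ha' ha'1
    obtain ⟨hh1, hh2⟩ := Subgroup.mem_inf.mp hh
    refine hH.2.2.2 a' ha' ha'1 (Subgroup.mem_inf.mpr ⟨hh1, ?_⟩)
    exact Subgroup.centralizer_le (Set.singleton_subset_iff.mpr ha') hh2
  set T₁ : Subgroup G := (P₁ : Subgroup ↥H).map H.subtype with hT₁
  set T₂ : Subgroup G := (P₂ : Subgroup ↥H).map H.subtype with hT₂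
  have hT₁H : T₁ ≤ H := Subgroup.map_subtype_le _
  have hT₁q : IsPGroup q ↥T₁ := P₁.isPGroup'.map _
  have hT₁mem : T₁ ∈ signalizerFamily p A θ :=
    signalizerFamily_of_le hH hT₁H (ainv_of_le_normalizer hAP₁)
  obtain ⟨R, hT₁R, hR⟩ := exists_isMaxQ_ge hT₁mem hT₁q
  refine ⟨R, hR, h, hhInf, ?_, ?_⟩
  · refine lt_of_lt_of_le (card_lt_card_of_lt hlt₁) (Subgroup.card_le_of_le ?_)
    exact le_inf inf_le_left (hRP₁.trans hT₁R)
  · refine lt_of_lt_of_le (card_lt_card_of_lt hlt₂) (Subgroup.card_le_of_le ?_)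
    refine le_inf ?_ inf_le_left
    refine hRP₂.trans ?_
    rw [← hconj, conj_smul_eq_map]
    exact Subgroup.map_mono hT₁R

/-- **Transitivity theorem** (measure form). -/
theorem transitivity_aux [Finite G] (p : ℕ) [Fact p.Prime] (A : Subgroup G)
    (hA : IsElementaryAbelian p A) (hA3 : p ^ 3 ≤ Nat.card ↥A) (θ : G → Subgroup G)
    (hθ : IsSolvableSignalizerFunctor p A θ) (q : ℕ) [Fact q.Prime] (hqp : q ≠ p) :
    ∀ (n : ℕ) (Q₁ Q₂ : Subgroup G), Nat.card G - Nat.card ↥(Q₁ ⊓ Q₂) = n →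
      IsMaxQ p A θ q Q₁ → IsMaxQ p A θ q Q₂ →
      ∃ c ∈ signalizerInf A θ, Q₁.map (MulAut.conj c).toMonoidHom = Q₂ := by
  intro n
  induction n using Nat.strong_induction_on with
  | _ n ih =>
    intro Q₁ Q₂ hn hQ₁ hQ₂
    by_cases hne : Q₁ = Q₂
    · exact ⟨1, Subgroup.one_mem _, by rw [map_conj_one, hne]⟩
    · obtain ⟨R, hR, h, hh, hc₁, hc₂⟩ := transitivity_step p A hA hA3 θ hθ q hqp hQ₁ hQ₂ hne
      have hb₁ : Nat.card ↥(Q₁ ⊓ R) ≤ Nat.card G := Subgroup.card_le_card_group _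
      have hb₂ : Nat.card ↥(R.map (MulAut.conj h).toMonoidHom ⊓ Q₂) ≤ Nat.card G :=
        Subgroup.card_le_card_group _
      obtain ⟨c₁, hc₁m, hc₁e⟩ := ih _ (by omega) Q₁ R rfl hQ₁ hR
      obtain ⟨c₂, hc₂m, hc₂e⟩ := ih _ (by omega) (R.map (MulAut.conj h).toMonoidHom) Q₂ rfl
        (hR.map_conj hθ.1 hh) hQ₂
      refine ⟨c₂ * (h * c₁), Subgroup.mul_mem _ hc₂m (Subgroup.mul_mem _ hh hc₁m), ?_⟩
      rw [← map_conj_mul, ← map_conj_mul, hc₁e, hc₂e]

theorem eq_bot_of_isPGroup_of_not_dvd [Finite G] {p : ℕ} [Fact p.Prime] {Q : Subgroup G}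
    (hQ : IsPGroup p ↥Q) (hp : ¬ p ∣ Nat.card ↥Q) : Q = ⊥ := by
  obtain ⟨n, hn⟩ := IsPGroup.iff_card.mp hQ
  rcases Nat.eq_zero_or_pos n with h0 | h0
  · subst h0
    rw [pow_zero] at hn
    exact Subgroup.card_eq_one.mp hn
  · exact absurd (hn ▸ dvd_pow_self p h0.ne') hp

/-- **Transitivity theorem** for solvable signalizer functors. -/
theorem transitivity [Finite G] (p : ℕ) [Fact p.Prime] (A : Subgroup G)
    (hA : IsElementaryAbelian p A) (hA3 : p ^ 3 ≤ Nat.card ↥A) (θ : G → Subgroup G)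
    (hθ : IsSolvableSignalizerFunctor p A θ) (q : ℕ) [Fact q.Prime] {Q₁ Q₂ : Subgroup G}
    (hQ₁ : IsMaxQ p A θ q Q₁) (hQ₂ : IsMaxQ p A θ q Q₂) :
    ∃ c ∈ signalizerInf A θ, Q₁.map (MulAut.conj c).toMonoidHom = Q₂ := by
  by_cases hqp : q = p
  · subst hqp
    have h1 : Q₁ = ⊥ := eq_bot_of_isPGroup_of_not_dvd hQ₁.isPGroup hQ₁.mem.2.1
    have h2 : Q₂ = ⊥ := eq_bot_of_isPGroup_of_not_dvd hQ₂.isPGroup hQ₂.mem.2.1
    exact ⟨1, Subgroup.one_mem _, by rw [map_conj_one, h1, h2]⟩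
  · exact transitivity_aux p A hA hA3 θ hθ q hqp _ Q₁ Q₂ rfl hQ₁ hQ₂

end Transitivity

end Cfsg.Agent.Helper31
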