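import Cfsg.Prelude.Def_OddOrderLocal
import Cfsg.Agent.S0025
import Cfsg.Agent.S1886
import Cfsg.Agent.Helper1.CoprimeSylow
import Cfsg.Agent.Helper31.Transitivity
import Cfsg.Agent.Helper31.CoprimeHyp

/-!
# Bender–Glauberman §7: the transitivity theorem in a minimal simple group of odd order (helper31)

`bg_transitivity_of_common`: Theorem 7.2;  `bg_transitivity_rank3`: Theorem 7.3;
`bg_transitivity_rank2`: Theorem 7.4.
-/

set_option autoImplicit false
open Cfsg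

namespace Cfsg.Agent.Helper31

variable {G : Type*} [Group G]

/-! ### Sets of primes -/

theorem coprime_card_of_primesNotDvd [Finite G] {A Y : Subgroup G}
    (hY : ∀ p : ℕ, p.Prime → p ∣ Nat.card Y → p ∈ primesNotDvd (Nat.card A)) :
    (Nat.card A).Coprime (Nat.card Y) := by
  by_contra h
  obtain ⟨p, hp, h1, h2⟩ := Nat.Prime.not_coprime_iff_dvd.mp h
  exact (hY p hp h2).2 h1

theorem isPGroup_of_primes_singleton [Finite G] {q : ℕ} (hq : q.Prime) {Y : Subgroup G}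
    (hY : ∀ p : ℕ, p.Prime → p ∣ Nat.card Y → p ∈ ({q} : Set ℕ)) : IsPGroup q Y := by
  have _hqf : Fact q.Prime := ⟨hq⟩
  rw [IsPGroup.iff_card]
  exact ⟨_, Nat.eq_prime_pow_of_unique_prime_dvd Nat.card_pos.ne'
    (fun {d} hd hdvd => hY d hd hdvd)⟩

theorem primes_singleton_of_isPGroup [Finite G] {q : ℕ} (hq : q.Prime) {Y : Subgroup G}
    (hY : IsPGroup q Y) : ∀ p : ℕ, p.Prime → p ∣ Nat.card Y → p ∈ ({q} : Set ℕ) := by
  have _hqf : Fact q.Prime := ⟨hq⟩
  intro p hp hdvd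
  obtain ⟨n, hn⟩ := IsPGroup.iff_card.mp hY
  rw [hn] at hdvd
  exact (Nat.prime_dvd_prime_iff_eq hp hq).mp (hp.dvd_of_dvd_pow hdvd)

theorem primesNotDvd_of_isPGroup [Finite G] {q : ℕ} (hq : q.Prime) {A Y : Subgroup G}
    (hqA : ¬ q ∣ Nat.card A) (hY : IsPGroup q Y) :
    ∀ p : ℕ, p.Prime → p ∣ Nat.card Y → p ∈ primesNotDvd (Nat.card A) := by
  intro p hp hdvd
  have h : p = q := primes_singleton_of_isPGroup hq hY p hp hdvd
  subst h
  exact ⟨hp, hqA⟩

/-! ### `piCoreOf` -/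

theorem piCoreOf_le (π : Set ℕ) (X : Subgroup G) : piCoreOf π X ≤ X :=
  Subgroup.map_subtype_le _

theorem piCoreOf_primes [Finite G] (π : Set ℕ) (X : Subgroup G) :
    ∀ p : ℕ, p.Prime → p ∣ Nat.card (piCoreOf π X) → p ∈ π := by
  intro p hp hdvd
  have h : Nat.card (piCoreOf π X) = Nat.card (piCore π ↥X) :=
    Subgroup.card_map_of_injective X.subtype_injective
  rw [h] at hdvd
  exact Cfsg.Agent.S1886.piCore_isPi π p hp hdvd

theorem conj_mem_piCoreOf {π : Set ℕ} {X : Subgroup G} {x o : G} (hx : x ∈ X)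
    (ho : o ∈ piCoreOf π X) : x * o * x⁻¹ ∈ piCoreOf π X := by
  obtain ⟨o', ho', rfl⟩ := ho
  refine ⟨⟨x, hx⟩ * o' * ⟨x, hx⟩⁻¹, ?_, by simp⟩
  exact (Cfsg.piCore_normal π ↥X).conj_mem o' ho' ⟨x, hx⟩

theorem le_normalizer_piCoreOf (π : Set ℕ) (X : Subgroup G) :
    X ≤ Subgroup.normalizer ((piCoreOf π X : Subgroup G) : Set G) := by
  apply AInv.le_normalizer
  intro x hx o ho
  exact conj_mem_piCoreOf hx ho

theorem le_piCoreOf_of_normal [Finite G] {π : Set ℕ} {X O : Subgroup G} (hOX : O ≤ X)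
    (hn : X ≤ Subgroup.normalizer (O : Set G))
    (hπ : ∀ p : ℕ, p.Prime → p ∣ Nat.card O → p ∈ π) : O ≤ piCoreOf π X := by
  haveI : (O.subgroupOf X).Normal := Subgroup.normal_subgroupOf_of_le_normalizer hn
  have hcard : Nat.card (O.subgroupOf X) = Nat.card O :=
    Cfsg.Agent.Helper1.card_subgroupOf_of_le hOX
  have h1 : O.subgroupOf X ≤ piCore π ↥X :=
    Cfsg.Agent.S1886.le_piCore π inferInstance (by rw [hcard]; exact hπ)
  have h2 : (O.subgroupOf X).map X.subtype ≤ piCoreOf π X := Subgroup.map_mono h1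
  rwa [Subgroup.subgroupOf_map_subtype, inf_eq_left.mpr hOX] at h2

/-! ### Invariant subgroups -/

theorem bgt_card_map_conj [Finite G] (Y : Subgroup G) (k : G) :
    Nat.card (Y.map (MulAut.conj k).toMonoidHom) = Nat.card Y :=
  Subgroup.card_map_of_injective (MulAut.conj k).injective

theorem bgt_le_normalizer_map_conj {A Y : Subgroup G} (hY : A ≤ Subgroup.normalizer (Y : Set G))
    {k : G} (hk : k ∈ Subgroup.centralizer (A : Set G)) :
    A ≤ Subgroup.normalizer ((Y.map (MulAut.conj k).toMonoidHom : Subgroup G) : Set G) := by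
  apply AInv.le_normalizer
  intro a ha y hy
  rw [mem_map_conj_iff] at hy ⊢
  have hc : a * k = k * a := (Subgroup.mem_centralizer_iff.mp hk a ha)
  have hc' : k⁻¹ * a = a * k⁻¹ := by
    calc k⁻¹ * a = k⁻¹ * (a * k) * k⁻¹ := by group
      _ = k⁻¹ * (k * a) * k⁻¹ := by rw [hc]
      _ = a * k⁻¹ := by group
  have h1 := ainv_of_le_normalizer hY a ha _ hy
  have e : k⁻¹ * (a * y * a⁻¹) * k = a * (k⁻¹ * y * k) * a⁻¹ := by
    have hc'' : a⁻¹ * k = k * a⁻¹ := by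
      calc a⁻¹ * k = a⁻¹ * (k * a) * a⁻¹ := by group
        _ = a⁻¹ * (a * k) * a⁻¹ := by rw [hc]
        _ = k * a⁻¹ := by group
    calc k⁻¹ * (a * y * a⁻¹) * k = (k⁻¹ * a) * y * (a⁻¹ * k) := by group
      _ = (a * k⁻¹) * y * (k * a⁻¹) := by rw [hc', hc'']
      _ = a * (k⁻¹ * y * k) * a⁻¹ := by group
  rw [e]
  exact h1

theorem invSubgroups_map_conj [Finite G] {A Y : Subgroup G} {π : Set ℕ}
    (hY : Y ∈ invSubgroups ⊤ A π) {k : G} (hk : k ∈ Subgroup.centralizer (A : Set G)) :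
    Y.map (MulAut.conj k).toMonoidHom ∈ invSubgroups ⊤ A π := by
  refine ⟨le_top, ?_, bgt_le_normalizer_map_conj hY.2.2 hk⟩
  rw [bgt_card_map_conj]
  exact hY.2.1

theorem maxInvSubgroups_map_conj [Finite G] {A Q : Subgroup G} {π : Set ℕ}
    (hQ : Q ∈ maxInvSubgroups ⊤ A π) {k : G} (hk : k ∈ Subgroup.centralizer (A : Set G)) :
    Q.map (MulAut.conj k).toMonoidHom ∈ maxInvSubgroups ⊤ A π := by
  refine ⟨invSubgroups_map_conj hQ.1 hk, ?_⟩
  intro R hR hle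
  have hk' : k⁻¹ ∈ Subgroup.centralizer (A : Set G) := Subgroup.inv_mem _ hk
  have h1 := hQ.2 _ (invSubgroups_map_conj hR hk') (by
    intro x hx
    rw [mem_map_conj_iff]
    apply hle
    rw [mem_map_conj_iff]
    simpa [mul_assoc] using hx)
  rw [← h1, map_conj_mul, mul_inv_cancel, map_conj_one]

theorem exists_maxInv_ge [Finite G] {A U : Subgroup G} {π : Set ℕ}
    (hU : U ∈ invSubgroups ⊤ A π) : ∃ Q ∈ maxInvSubgroups ⊤ A π, U ≤ Q := by
  have hfin : (invSubgroups ⊤ A π).Finite := Set.toFinite _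
  obtain ⟨Q, hUQ, hQ⟩ := hfin.exists_le_maximal (a := U) hU
  refine ⟨Q, ⟨hQ.prop, ?_⟩, hUQ⟩
  intro R hR hQR
  exact le_antisymm (hQ.le_of_ge hR hQR) hQR

theorem mem_invSubgroups_of_isPGroup [Finite G] {A U : Subgroup G} {q : ℕ} (hq : q.Prime)
    (hU : IsPGroup q U) (hAU : A ≤ Subgroup.normalizer (U : Set G)) :
    U ∈ invSubgroups ⊤ A {q} :=
  ⟨le_top, primes_singleton_of_isPGroup hq hU, hAU⟩

theorem isPGroup_of_mem_maxInv [Finite G] {A Q : Subgroup G} {q : ℕ} (hq : q.Prime)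
    (hQ : Q ∈ maxInvSubgroups ⊤ A {q}) : IsPGroup q Q :=
  isPGroup_of_primes_singleton hq hQ.1.2.1

/-! ### Normalizers grow in `q`-groups -/

theorem bgt_lt_inf_normalizer_of_lt [Finite G] {q : ℕ} [Fact q.Prime] {Q D : Subgroup G}
    (hQ : IsPGroup q Q) (hlt : D < Q) : D < Q ⊓ Subgroup.normalizer (D : Set G) := by
  haveI : Group.IsNilpotent ↥Q := hQ.isNilpotent
  have hne : D.subgroupOf Q < ⊤ := by
    rw [lt_top_iff_ne_top]
    intro h
    rw [Subgroup.subgroupOf_eq_top] at h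
    exact hlt.not_ge h
  have hnc := Group.normalizerCondition_of_isNilpotent (G := ↥Q) (D.subgroupOf Q) hne
  obtain ⟨y, hyN, hyD⟩ := SetLike.exists_of_lt hnc
  refine lt_of_le_of_ne (le_inf hlt.le Subgroup.le_normalizer) ?_
  intro heq
  apply hyD
  rw [Subgroup.mem_subgroupOf, heq]
  refine Subgroup.mem_inf.mpr ⟨y.2, ?_⟩
  rw [Subgroup.mem_normalizer_iff]
  intro h
  rw [Subgroup.mem_normalizer_iff] at hyN
  constructor
  · intro hh
    have hhQ : h ∈ Q := hlt.le hh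
    have := (hyN ⟨h, hhQ⟩).mp (by rw [Subgroup.mem_subgroupOf]; exact hh)
    rw [Subgroup.mem_subgroupOf] at this
    simpa using this
  · intro hh
    have hhQ : h ∈ Q := by
      have h1 : (y : G) * h * (y : G)⁻¹ ∈ Q := hlt.le hh
      have : h = (y : G)⁻¹ * ((y : G) * h * (y : G)⁻¹) * (y : G) := by group
      rw [this]
      exact Q.mul_mem (Q.mul_mem (Q.inv_mem y.2) h1) y.2
    have := (hyN ⟨h, hhQ⟩).mpr (by rw [Subgroup.mem_subgroupOf]; simpa using hh)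
    rw [Subgroup.mem_subgroupOf] at this
    exact this

/-! ### Consequences of the transitivity hypothesis -/

theorem le_piCoreOf_of_transitivityHypothesis {A : Subgroup G} (hA : TransitivityHypothesis A)
    {X Y : Subgroup G} (hX : X ≠ ⊤) (hAX : A ≤ X) (hYX : Y ≤ X)
    (hY : ∀ p : ℕ, p.Prime → p ∣ Nat.card Y → p ∈ primesNotDvd (Nat.card A))
    (hAY : A ≤ Subgroup.normalizer (Y : Set G)) :
    Y ≤ piCoreOf (primesNotDvd (Nat.card A)) X := by
  rw [← hA.2.2 X hX hAX]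
  exact le_sSup ⟨hYX, hY, hAY⟩

theorem bgt_normalizer_ne_top_of_simple [IsSimpleGroup G] {D : Subgroup G} (h0 : D ≠ ⊥)
    (h1 : D ≠ ⊤) : Subgroup.normalizer (D : Set G) ≠ ⊤ := by
  intro h
  have hn : D.Normal := Subgroup.normalizer_eq_top_iff.mp h
  rcases hn.eq_bot_or_eq_top with h | h
  · exact h0 h
  · exact h1 h

theorem centralizer_singleton_ne_top_of_simple [IsSimpleGroup G] (hnc : ¬ IsMulCommutative G)
    {a : G} (ha : a ≠ 1) : Subgroup.centralizer ({a} : Set G) ≠ ⊤ := by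
  intro h
  have hac : a ∈ Subgroup.center G := by
    rw [Subgroup.mem_center_iff]
    intro g
    have hg : g ∈ Subgroup.centralizer ({a} : Set G) := by rw [h]; trivial
    exact (Subgroup.mem_centralizer_iff.mp hg a rfl).symm
  rcases (inferInstance : (Subgroup.center G).Normal).eq_bot_or_eq_top with h | h
  · rw [h, Subgroup.mem_bot] at hac
    exact ha hac
  · apply hnc
    refine ⟨⟨fun x y => ?_⟩⟩
    have hx : x ∈ Subgroup.center G := by rw [h]; trivial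
    exact ((Subgroup.mem_center_iff.mp hx) y).symm

/-- `O_{π'}(X) ∩ C(A) ≤ O_{π'}(C_G(A))` for every proper `X ≥ A`. -/
theorem piCoreOf_inf_centralizer_le [Finite G] [IsSimpleGroup G] {A : Subgroup G}
    (hA : TransitivityHypothesis A) {X : Subgroup G} (hX : X ≠ ⊤) (hAX : A ≤ X) :
    piCoreOf (primesNotDvd (Nat.card A)) X ⊓ Subgroup.centralizer (A : Set G) ≤
      piCoreOf (primesNotDvd (Nat.card A)) (Subgroup.centralizer (A : Set G)) := by
  set π' := primesNotDvd (Nat.card A) with hπ'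
  set Y : Subgroup G := piCoreOf π' X ⊓ Subgroup.centralizer (A : Set G) with hYdef
  set N : Subgroup G := Subgroup.normalizer (A : Set G) with hN
  set C : Subgroup G := Subgroup.centralizer (A : Set G) with hC
  have hNtop : N ≠ ⊤ := bgt_normalizer_ne_top_of_simple hA.1 hA.2.1
  have hAN : A ≤ N := Subgroup.le_normalizer
  have hCN : C ≤ N := Subgroup.centralizer_le_normalizer (A : Set G)
  have hYN : Y ≤ N := inf_le_right.trans hCN
  have hYπ : ∀ p : ℕ, p.Prime → p ∣ Nat.card Y → p ∈ π' := by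
    intro p hp hdvd
    exact piCoreOf_primes π' X p hp
      (hdvd.trans (Subgroup.card_dvd_of_le (inf_le_left : Y ≤ piCoreOf π' X)))
  have hAY : A ≤ Subgroup.normalizer (Y : Set G) := by
    apply AInv.le_normalizer
    intro a ha y hy
    have hyC : y ∈ C := hy.2
    have : a * y * a⁻¹ = y := by
      rw [(Subgroup.mem_centralizer_iff.mp hyC a ha), mul_inv_cancel_right]
    rw [this]
    exact hy
  have hYO : Y ≤ piCoreOf π' N :=
    le_piCoreOf_of_transitivityHypothesis hA hNtop hAN hYN hYπ hAY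
  set O : Subgroup G := piCoreOf π' N with hO
  have hON : O ≤ N := piCoreOf_le π' N
  have hcop : (Nat.card A).Coprime (Nat.card O) :=
    coprime_card_of_primesNotDvd (piCoreOf_primes π' N)
  have hAO : A ⊓ O = ⊥ := Subgroup.inf_eq_bot_of_coprime hcop
  have hOC : O ≤ C := by
    intro o ho
    rw [hC, Subgroup.mem_centralizer_iff]
    intro a ha
    have h1 : o * a * o⁻¹ ∈ A := by
      have := (Subgroup.mem_normalizer_iff.mp (hON ho) a).mp ha
      exact this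
    have h2 : a * o⁻¹ * a⁻¹ ∈ O := conj_mem_piCoreOf (hAN ha) (O.inv_mem ho)
    have h3 : o * a * o⁻¹ * a⁻¹ ∈ A ⊓ O := by
      refine Subgroup.mem_inf.mpr ⟨A.mul_mem h1 (A.inv_mem ha), ?_⟩
      have : o * a * o⁻¹ * a⁻¹ = o * (a * o⁻¹ * a⁻¹) := by group
      rw [this]
      exact O.mul_mem ho h2
    rw [hAO, Subgroup.mem_bot] at h3
    have : o * a = a * o := by
      have h4 : o * a * o⁻¹ * a⁻¹ * a * o = a * o := by rw [h3, one_mul]
      rw [← h4]; group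
    exact this.symm
  have hOK : O ≤ piCoreOf π' C := by
    apply le_piCoreOf_of_normal hOC _ (piCoreOf_primes π' N)
    exact hCN.trans (le_normalizer_piCoreOf π' N)
  exact hYO.trans hOK

/-- Two `A`-invariant `q`-subgroups of a proper subgroup `H ≥ A` lie in `R` and `R^k` for
some maximal `A`-invariant `q`-subgroup `R` and `k ∈ O_{π'}(C_G(A))`. -/
theorem bg_common [Finite G] (hG : IsMinSimpleOddOrder G) {A : Subgroup G}
    (hA : TransitivityHypothesis A) {q : ℕ} (hq : q.Prime) (hqA : ¬ q ∣ Nat.card A)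
    {H : Subgroup G} (hH : H ≠ ⊤) (hAH : A ≤ H) {R₁ R₂ : Subgroup G} (hR₁H : R₁ ≤ H)
    (hR₂H : R₂ ≤ H) (hR₁q : IsPGroup q R₁) (hR₂q : IsPGroup q R₂)
    (hAR₁ : A ≤ Subgroup.normalizer (R₁ : Set G)) (hAR₂ : A ≤ Subgroup.normalizer (R₂ : Set G)) :
    ∃ R ∈ maxInvSubgroups ⊤ A {q},
      ∃ k ∈ piCoreOf (primesNotDvd (Nat.card A)) (Subgroup.centralizer (A : Set G)),
        R₁ ≤ R ∧ R₂ ≤ R.map (MulAut.conj k).toMonoidHom := by
  have _hs : IsSimpleGroup G := hG.2.1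
  have _hqf : Fact q.Prime := ⟨hq⟩
  set π' := primesNotDvd (Nat.card A) with hπ'
  set O : Subgroup G := piCoreOf π' H with hO
  have hOH : O ≤ H := piCoreOf_le π' H
  have hR₁O : R₁ ≤ O := le_piCoreOf_of_transitivityHypothesis hA hH hAH hR₁H
    (primesNotDvd_of_isPGroup hq hqA hR₁q) hAR₁
  have hR₂O : R₂ ≤ O := le_piCoreOf_of_transitivityHypothesis hA hH hAH hR₂H
    (primesNotDvd_of_isPGroup hq hqA hR₂q) hAR₂
  have hHsolv : Group.IsSolvable ↥H := hG.2.2.2 H hH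
  have hOsolv : Group.IsSolvable ↥O :=
    Group.isSolvable_of_isSolvable_injective (Subgroup.inclusion_injective hOH)
  have hcop : (Nat.card A).Coprime (Nat.card O) :=
    coprime_card_of_primesNotDvd (piCoreOf_primes π' H)
  have hAO : A ≤ Subgroup.normalizer (O : Set G) := hAH.trans (le_normalizer_piCoreOf π' H)
  obtain ⟨P₁, hRP₁, hAP₁⟩ := Cfsg.Agent.S0025.result A O hAO hcop (Or.inr hOsolv) q R₁ hR₁O
    hR₁q hAR₁
  obtain ⟨P₂, hRP₂, hAP₂⟩ := Cfsg.Agent.S0025.result A O hAO hcop (Or.inr hOsolv) q R₂ hR₂O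
    hR₂q hAR₂
  obtain ⟨c, hc, hconj⟩ := Cfsg.Agent.Helper1.invariant_sylow_conj A O hAO hcop (Or.inr hOsolv)
    q P₁ P₂ hAP₁ hAP₂
  have hcK : c ∈ piCoreOf π' (Subgroup.centralizer (A : Set G)) :=
    piCoreOf_inf_centralizer_le hA hH hAH hc
  set T₁ : Subgroup G := (P₁ : Subgroup ↥O).map O.subtype with hT₁
  have hT₁q : IsPGroup q ↥T₁ := P₁.isPGroup'.map _
  obtain ⟨R, hR, hT₁R⟩ := exists_maxInv_ge (mem_invSubgroups_of_isPGroup hq hT₁q hAP₁)
  refine ⟨R, hR, c, hcK, hRP₁.trans hT₁R, ?_⟩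
  refine hRP₂.trans ?_
  rw [← hconj, conj_smul_eq_map]
  exact Subgroup.map_mono hT₁R

/-- Inductive step. -/
theorem bg_transitivity_aux [Finite G] (hG : IsMinSimpleOddOrder G) {A : Subgroup G}
    (hA : TransitivityHypothesis A) {q : ℕ} (hq : q.Prime) (hqA : ¬ q ∣ Nat.card A) :
    ∀ (n : ℕ) (Q₁ Q₂ : Subgroup G), Nat.card G - Nat.card ↥(Q₁ ⊓ Q₂) = n →
      Q₁ ∈ maxInvSubgroups ⊤ A {q} → Q₂ ∈ maxInvSubgroups ⊤ A {q} → Q₁ ⊓ Q₂ ≠ ⊥ →
      ∃ k ∈ piCoreOf (primesNotDvd (Nat.card A)) (Subgroup.centralizer (A : Set G)),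
        Q₁.map (MulAut.conj k).toMonoidHom = Q₂ := by
  have _hs : IsSimpleGroup G := hG.2.1
  have _hqf : Fact q.Prime := ⟨hq⟩
  intro n
  induction n using Nat.strong_induction_on with
  | _ n ih =>
    intro Q₁ Q₂ hn hQ₁ hQ₂ hD0
    by_cases hne : Q₁ = Q₂
    · exact ⟨1, Subgroup.one_mem _, by rw [map_conj_one, hne]⟩
    · set D : Subgroup G := Q₁ ⊓ Q₂ with hD
      have hQ₁q := isPGroup_of_mem_maxInv hq hQ₁
      have hQ₂q := isPGroup_of_mem_maxInv hq hQ₂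
      have hAQ₁ : A ≤ Subgroup.normalizer (Q₁ : Set G) := hQ₁.1.2.2
      have hAQ₂ : A ≤ Subgroup.normalizer (Q₂ : Set G) := hQ₂.1.2.2
      have hD₁ : D < Q₁ := by
        refine lt_of_le_of_ne inf_le_left ?_
        intro h
        have hle : Q₁ ≤ Q₂ := by rw [← h]; exact inf_le_right
        exact hne (hQ₁.2 Q₂ hQ₂.1 hle).symm
      have hD₂ : D < Q₂ := by
        refine lt_of_le_of_ne inf_le_right ?_
        intro h
        have hle : Q₂ ≤ Q₁ := by rw [← h]; exact inf_le_left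
        exact hne (hQ₂.2 Q₁ hQ₁.1 hle)
      have hDA : AInv A D := (ainv_of_le_normalizer hAQ₁).inf (ainv_of_le_normalizer hAQ₂)
      have hDtop : D ≠ ⊤ := by
        intro h
        rw [h] at hD₁
        exact not_top_lt hD₁
      set N : Subgroup G := Subgroup.normalizer (D : Set G) with hN
      have hNtop : N ≠ ⊤ := bgt_normalizer_ne_top_of_simple hD0 hDtop
      have hAN : A ≤ N := hDA.le_normalizer
      have hNA : AInv A N := hDA.normalizer
      have hlt₁ : D < Q₁ ⊓ N := bgt_lt_inf_normalizer_of_lt hQ₁q hD₁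
      have hlt₂ : D < Q₂ ⊓ N := bgt_lt_inf_normalizer_of_lt hQ₂q hD₂
      obtain ⟨R, hR, k, hk, hR₁, hR₂⟩ := bg_common hG hA hq hqA hNtop hAN
        (inf_le_right : Q₁ ⊓ N ≤ N) (inf_le_right : Q₂ ⊓ N ≤ N) (hQ₁q.to_le inf_le_left)
        (hQ₂q.to_le inf_le_left) ((ainv_of_le_normalizer hAQ₁).inf hNA).le_normalizer
        ((ainv_of_le_normalizer hAQ₂).inf hNA).le_normalizer
      have hkC : k ∈ Subgroup.centralizer (A : Set G) := piCoreOf_le _ _ hk
      have hRk := maxInvSubgroups_map_conj hR hkC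
      have hc₁ : Nat.card ↥D < Nat.card ↥(Q₁ ⊓ R) :=
        lt_of_lt_of_le (card_lt_card_of_lt hlt₁)
          (Subgroup.card_le_of_le (le_inf inf_le_left hR₁))
      have hc₂ : Nat.card ↥D < Nat.card ↥(R.map (MulAut.conj k).toMonoidHom ⊓ Q₂) :=
        lt_of_lt_of_le (card_lt_card_of_lt hlt₂)
          (Subgroup.card_le_of_le (le_inf hR₂ inf_le_left))
      have hDpos : 1 ≤ Nat.card ↥D := Nat.card_pos
      have hne₁ : Q₁ ⊓ R ≠ ⊥ := by
        intro h
        rw [h, Subgroup.card_bot] at hc₁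
        omega
      have hne₂ : R.map (MulAut.conj k).toMonoidHom ⊓ Q₂ ≠ ⊥ := by
        intro h
        rw [h, Subgroup.card_bot] at hc₂
        omega
      have hb₁ : Nat.card ↥(Q₁ ⊓ R) ≤ Nat.card G := Subgroup.card_le_card_group _
      have hb₂ : Nat.card ↥(R.map (MulAut.conj k).toMonoidHom ⊓ Q₂) ≤ Nat.card G :=
        Subgroup.card_le_card_group _
      obtain ⟨c₁, hc₁m, hc₁e⟩ := ih _ (by omega) Q₁ R rfl hQ₁ hR hne₁
      obtain ⟨c₂, hc₂m, hc₂e⟩ := ih _ (by omega) (R.map (MulAut.conj k).toMonoidHom) Q₂ rfl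
        hRk hQ₂ hne₂
      refine ⟨c₂ * (k * c₁), Subgroup.mul_mem _ hc₂m (Subgroup.mul_mem _ hk hc₁m), ?_⟩
      rw [← map_conj_mul, ← map_conj_mul, hc₁e, hc₂e]

/-- **Bender–Glauberman, Theorem 7.2.** -/
theorem bg_transitivity_of_common [Finite G] (hG : IsMinSimpleOddOrder G) {A : Subgroup G}
    (hA : TransitivityHypothesis A) {q : ℕ} (hq : q.Prime) (hqA : ¬ q ∣ Nat.card A)
    {Q₁ Q₂ : Subgroup G} (h₁ : Q₁ ∈ maxInvSubgroups ⊤ A {q}) (h₂ : Q₂ ∈ maxInvSubgroups ⊤ A {q})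
    {H : Subgroup G} (hH : H ≠ ⊤) (hAH : A ≤ H) (hH₁ : H ⊓ Q₁ ≠ ⊥) (hH₂ : H ⊓ Q₂ ≠ ⊥) :
    ∃ k ∈ piCoreOf (primesNotDvd (Nat.card A)) (Subgroup.centralizer (A : Set G)),
      Q₁.map (MulAut.conj k).toMonoidHom = Q₂ := by
  have hQ₁q := isPGroup_of_mem_maxInv hq h₁
  have hQ₂q := isPGroup_of_mem_maxInv hq h₂
  have hAQ₁ : A ≤ Subgroup.normalizer (Q₁ : Set G) := h₁.1.2.2
  have hAQ₂ : A ≤ Subgroup.normalizer (Q₂ : Set G) := h₂.1.2.2
  have hHA : AInv A H := fun a ha h hh => H.mul_mem (H.mul_mem (hAH ha) hh) (H.inv_mem (hAH ha))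
  obtain ⟨R, hR, k, hk, hR₁, hR₂⟩ := bg_common hG hA hq hqA hH hAH
    (inf_le_left : H ⊓ Q₁ ≤ H) (inf_le_left : H ⊓ Q₂ ≤ H) (hQ₁q.to_le inf_le_right)
    (hQ₂q.to_le inf_le_right) (hHA.inf (ainv_of_le_normalizer hAQ₁)).le_normalizer
    (hHA.inf (ainv_of_le_normalizer hAQ₂)).le_normalizer
  have hkC : k ∈ Subgroup.centralizer (A : Set G) := piCoreOf_le _ _ hk
  have hRk := maxInvSubgroups_map_conj hR hkC
  have hne₁ : Q₁ ⊓ R ≠ ⊥ := by
    intro h
    apply hH₁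
    rw [eq_bot_iff, ← h]
    exact le_inf inf_le_right hR₁
  have hne₂ : R.map (MulAut.conj k).toMonoidHom ⊓ Q₂ ≠ ⊥ := by
    intro h
    apply hH₂
    rw [eq_bot_iff, ← h]
    exact le_inf hR₂ inf_le_right
  obtain ⟨c₁, hc₁m, hc₁e⟩ := bg_transitivity_aux hG hA hq hqA _ Q₁ R rfl h₁ hR hne₁
  obtain ⟨c₂, hc₂m, hc₂e⟩ := bg_transitivity_aux hG hA hq hqA _
    (R.map (MulAut.conj k).toMonoidHom) Q₂ rfl hRk h₂ hne₂
  refine ⟨c₂ * (k * c₁), Subgroup.mul_mem _ hc₂m (Subgroup.mul_mem _ hk hc₁m), ?_⟩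
  rw [← map_conj_mul, ← map_conj_mul, hc₁e, hc₂e]

end Cfsg.Agent.Helper31
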