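-- Conjugation families: abstract machinery for Alperin-type fusion theorems.
import Mathlib.GroupTheory.Sylow
import Mathlib.GroupTheory.Nilpotent
import Mathlib.Tactic

set_option autoImplicit false

namespace Cfsg.Agent.Helper31

variable {G : Type*} [Group G]

/-- right conjugate `x⁻¹ R x` of a subgroup -/
def cj (R : Subgroup G) (x : G) : Subgroup G := R.map (MulAut.conj x⁻¹).toMonoidHom

theorem mem_cj {R : Subgroup G} {x y : G} : y ∈ cj R x ↔ x * y * x⁻¹ ∈ R := by
  unfold cj
  rw [Subgroup.mem_map_equiv]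
  simp [MulAut.conj_symm_apply]

theorem conj_mem_cj {R : Subgroup G} {x a : G} (ha : a ∈ R) : x⁻¹ * a * x ∈ cj R x := by
  rw [mem_cj]
  have : x * (x⁻¹ * a * x) * x⁻¹ = a := by group
  rwa [this]

theorem cj_one (R : Subgroup G) : cj R 1 = R := by
  ext y; rw [mem_cj]; simp

theorem cj_mul (R : Subgroup G) (x y : G) : cj R (x * y) = cj (cj R x) y := by
  ext z
  rw [mem_cj, mem_cj, mem_cj]
  have : x * y * z * (x * y)⁻¹ = x * (y * z * y⁻¹) * x⁻¹ := by group
  rw [this]

theorem cj_mono {R R' : Subgroup G} (h : R ≤ R') (x : G) : cj R x ≤ cj R' x := by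
  intro y hy
  rw [mem_cj] at hy ⊢
  exact h hy

theorem cj_inv_cancel (R : Subgroup G) (x : G) : cj (cj R x) x⁻¹ = R := by
  rw [← cj_mul, mul_inv_cancel, cj_one]

theorem cj_inv_cancel' (R : Subgroup G) (x : G) : cj (cj R x⁻¹) x = R := by
  rw [← cj_mul, inv_mul_cancel, cj_one]

theorem cj_eq_self_of_mem_normalizer {R : Subgroup G} {x : G}
    (hx : x ∈ Subgroup.normalizer (R : Set G)) : cj R x = R := by
  ext y
  rw [mem_cj]
  rw [Subgroup.mem_normalizer_iff] at hx
  exact (hx y).symm

theorem cj_eq_self_of_mem_centralizer {R : Subgroup G} {c : G}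
    (hc : c ∈ Subgroup.centralizer (R : Set G)) : cj R c = R :=
  cj_eq_self_of_mem_normalizer (Subgroup.centralizer_le_normalizer _ hc)

theorem card_cj (R : Subgroup G) (x : G) : Nat.card ↥(cj R x) = Nat.card ↥R := by
  unfold cj
  exact Subgroup.card_map_of_injective (MulAut.conj x⁻¹).injective

theorem cj_le_iff {R R' : Subgroup G} {x : G} : cj R x ≤ R' ↔ R ≤ cj R' x⁻¹ := by
  constructor
  · intro h
    have := cj_mono h x⁻¹
    rwa [cj_inv_cancel] at this
  · intro h
    have := cj_mono h x
    rwa [cj_inv_cancel'] at this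

theorem mem_normalizer_cj {R : Subgroup G} {x n : G}
    (hn : n ∈ Subgroup.normalizer (R : Set G)) : x⁻¹ * n * x ∈ Subgroup.normalizer (cj R x : Set G) := by
  rw [Subgroup.mem_normalizer_iff] at hn ⊢
  intro y
  rw [mem_cj, mem_cj]
  have h1 : x * (x⁻¹ * n * x * y * (x⁻¹ * n * x)⁻¹) * x⁻¹ = n * (x * y * x⁻¹) * n⁻¹ := by group
  rw [h1]
  exact hn _

theorem mem_centralizer_cj {R : Subgroup G} {x c : G}
    (hc : c ∈ Subgroup.centralizer (R : Set G)) :
    x⁻¹ * c * x ∈ Subgroup.centralizer (cj R x : Set G) := by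
  rw [Subgroup.mem_centralizer_iff] at hc ⊢
  intro y hy
  have hy' : x * y * x⁻¹ ∈ R := mem_cj.mp hy
  have h2 := hc _ hy'
  calc y * (x⁻¹ * c * x) = x⁻¹ * ((x * y * x⁻¹) * c) * x := by group
    _ = x⁻¹ * (c * (x * y * x⁻¹)) * x := by rw [h2]
    _ = x⁻¹ * c * x * y := by group

/-! ### Decomposable conjugations -/

/-- `Dec Good A g`: conjugation by `g` on `A` is a composite of conjugations by elements centralizing
the current subgroup and elements normalizing a `Good` subgroup containing the current subgroup. -/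
inductive Dec (Good : Subgroup G → Prop) : Subgroup G → G → Prop
  | cent {A : Subgroup G} {c : G} : c ∈ Subgroup.centralizer (A : Set G) → Dec Good A c
  | norm {A D : Subgroup G} {x : G} : Good D → x ∈ Subgroup.normalizer (D : Set G) → A ≤ D →
      Dec Good A x
  | comp {A : Subgroup G} {g h : G} : Dec Good A g → Dec Good (cj A g) h → Dec Good A (g * h)

variable {Good : Subgroup G → Prop}

theorem Dec.one (A : Subgroup G) : Dec Good A 1 := Dec.cent (Subgroup.one_mem _)

theorem Dec.mono {A B : Subgroup G} {g : G} (h : Dec Good A g) (hBA : B ≤ A) : Dec Good B g := by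
  induction h generalizing B with
  | cent hc => exact Dec.cent (Subgroup.centralizer_le (by exact_mod_cast hBA) hc)
  | norm hD hx hAD => exact Dec.norm hD hx (le_trans hBA hAD)
  | comp _ _ ih1 ih2 => exact Dec.comp (ih1 hBA) (ih2 (cj_mono hBA _))

theorem Dec.inv {A : Subgroup G} {g : G} (h : Dec Good A g) : Dec Good (cj A g) g⁻¹ := by
  induction h with
  | @cent A c hc =>
    rw [cj_eq_self_of_mem_centralizer hc]
    exact Dec.cent (Subgroup.inv_mem _ hc)
  | @norm A D x hD hx hAD =>
    refine Dec.norm hD (Subgroup.inv_mem _ hx) ?_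
    have := cj_mono hAD x
    rwa [cj_eq_self_of_mem_normalizer hx] at this
  | @comp A g h _ _ ih1 ih2 =>
    rw [mul_inv_rev]
    rw [← cj_mul] at ih2
    refine Dec.comp ih2 ?_
    rw [cj_mul, cj_inv_cancel]
    exact ih1

/-- the chain condition of a conjugation family along a list of (subgroup, element) pairs -/
def Chain (Good : Subgroup G → Prop) : Subgroup G → List (Subgroup G × G) → Prop
  | _, [] => True
  | A, q :: l => Good q.1 ∧ q.2 ∈ Subgroup.normalizer (q.1 : Set G) ∧ A ≤ q.1 ∧ Chain Good (cj A q.2) l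

theorem Chain.append {A : Subgroup G} {l₁ l₂ : List (Subgroup G × G)} (h₁ : Chain Good A l₁)
    (h₂ : Chain Good (cj A (l₁.map Prod.snd).prod) l₂) : Chain Good A (l₁ ++ l₂) := by
  induction l₁ generalizing A with
  | nil => simpa [cj_one] using h₂
  | cons q l ih =>
    obtain ⟨hq1, hq2, hq3, hq4⟩ := h₁
    refine ⟨hq1, hq2, hq3, ?_⟩
    apply ih hq4
    rw [List.map_cons, List.prod_cons, cj_mul] at h₂
    exact h₂

/-- list form of a decomposable conjugation -/
theorem Dec.exists_list {A : Subgroup G} {g : G} (h : Dec Good A g) :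
    ∃ (l : List (Subgroup G × G)) (c : G), c ∈ Subgroup.centralizer (A : Set G) ∧
      g = c * (l.map Prod.snd).prod ∧ Chain Good A l := by
  induction h with
  | @cent A c hc => exact ⟨[], c, hc, by simp, trivial⟩
  | @norm A D x hD hx hAD =>
    exact ⟨[(D, x)], 1, Subgroup.one_mem _, by simp, hD, hx, hAD, trivial⟩
  | @comp A g h _ _ ih1 ih2 =>
    obtain ⟨l₁, c₁, hc₁, hg, hl₁⟩ := ih1
    obtain ⟨l₂, c₂, hc₂, hh, hl₂⟩ := ih2
    set x := (l₁.map Prod.snd).prod with hx
    have hAg : cj A g = cj A x := by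
      rw [hg, cj_mul, cj_eq_self_of_mem_centralizer hc₁]
    refine ⟨l₁ ++ l₂, c₁ * (x * c₂ * x⁻¹), ?_, ?_, ?_⟩
    · refine Subgroup.mul_mem _ hc₁ ?_
      rw [hAg] at hc₂
      have := mem_centralizer_cj (x := x⁻¹) hc₂
      rw [cj_inv_cancel, inv_inv] at this
      exact this
    · rw [List.map_append, List.prod_append, ← hx, hg, hh]
      group
    · apply Chain.append hl₁
      rw [← hx, ← hAg]
      exact hl₂

theorem Chain.props {A : Subgroup G} {l : List (Subgroup G × G)} (h : Chain Good A l) :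
    (∀ i : Fin l.length, Good (l.get i).1 ∧ (l.get i).2 ∈ Subgroup.normalizer ((l.get i).1 : Set G)) ∧
    (∀ h0 : 0 < l.length, A ≤ (l.get ⟨0, h0⟩).1) ∧
    (∀ (j : ℕ) (hj : j + 1 < l.length),
      cj A (((l.map Prod.snd).take (j + 1)).prod) ≤ (l.get ⟨j + 1, hj⟩).1) := by
  induction l generalizing A with
  | nil =>
    refine ⟨fun i => i.elim0, fun h0 => absurd h0 (by simp), fun j hj => absurd hj (by simp)⟩
  | cons q l ih =>
    obtain ⟨hq1, hq2, hq3, hq4⟩ := h
    obtain ⟨ih1, ih2, ih3⟩ := ih hq4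
    refine ⟨?_, fun _ => hq3, ?_⟩
    · intro i
      refine Fin.cases ?_ (fun i' => ?_) i
      · exact ⟨hq1, hq2⟩
      · exact ih1 i'
    · intro j hj
      have hj' : j < l.length := by simpa using hj
      cases j with
      | zero =>
        have := ih2 hj'
        simpa using this
      | succ j' =>
        have := ih3 j' hj'
        simp only [List.map_cons, List.take_succ_cons, List.prod_cons, cj_mul]
        simpa using this

/-! ### Sylow facts in relative form -/

section sylow
variable [Finite G] {p : ℕ} [Fact p.Prime]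

theorem normalizer_cj (A : Subgroup G) (u : G) :
    Subgroup.normalizer (cj A u : Set G) = cj (Subgroup.normalizer (A : Set G)) u := by
  ext y
  rw [mem_cj]
  constructor
  · intro h
    have := mem_normalizer_cj (x := u⁻¹) h
    rwa [cj_inv_cancel, inv_inv] at this
  · intro h
    have := mem_normalizer_cj (x := u) h
    have h2 : u⁻¹ * (u * y * u⁻¹) * u = y := by group
    rwa [h2] at this

theorem relIndex_cj (S L : Subgroup G) (u : G) : (cj S u).relIndex (cj L u) = S.relIndex L := by
  unfold cj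
  exact Subgroup.relIndex_map_map_of_injective _ _ (MulAut.conj u⁻¹).injective

theorem isPGroup_cj {S : Subgroup G} (hS : IsPGroup p ↥S) (u : G) : IsPGroup p ↥(cj S u) := by
  unfold cj
  exact hS.map _

/-- every `p`-subgroup is conjugate into a given Sylow `p`-subgroup -/
theorem exists_cj_le_sylow (P : Sylow p G) (Q : Subgroup G) (hQ : IsPGroup p ↥Q) :
    ∃ u : G, cj Q u ≤ (P : Subgroup G) := by
  obtain ⟨Q', hQQ'⟩ := hQ.exists_le_sylow
  obtain ⟨h, hh⟩ := MulAction.exists_smul_eq G Q' P
  refine ⟨h⁻¹, fun y hy => ?_⟩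
  rw [mem_cj] at hy
  have hx' : h⁻¹ * y * h⁻¹⁻¹ ∈ (Q' : Subgroup G) := hQQ' hy
  have h2 : h * (h⁻¹ * y * h⁻¹⁻¹) * h⁻¹ ∈ ((h • Q' : Sylow p G) : Subgroup G) := by
    rw [Sylow.coe_subgroup_smul]
    have := Subgroup.smul_mem_pointwise_smul _ (MulAut.conj h) (Q' : Subgroup G) hx'
    rw [MulAut.smul_def, MulAut.conj_apply] at this
    exact this
  rw [hh] at h2
  have h3 : h * (h⁻¹ * y * h⁻¹⁻¹) * h⁻¹ = y := by group
  rwa [h3] at h2

/-- relative form: inside `L`, every `p`-subgroup is conjugate (by an element of `L`) into a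
`p`-subgroup `S` of `L` whose index in `L` is prime to `p` -/
theorem exists_cj_le_of_relIndex (L S H : Subgroup G) (hSp : IsPGroup p ↥S)
    (hSyl : ¬ p ∣ S.relIndex L) (hHL : H ≤ L) (hHp : IsPGroup p ↥H) :
    ∃ n ∈ L, cj H n ≤ S := by
  have hS' : IsPGroup p ↥(S.subgroupOf L) := hSp.comap_subtype
  let S' : Sylow p ↥L := hS'.toSylow hSyl
  have hH' : IsPGroup p ↥(H.subgroupOf L) := hHp.comap_subtype
  obtain ⟨u, hu⟩ := exists_cj_le_sylow S' _ hH'
  refine ⟨(u : G), u.2, fun y hy => ?_⟩
  rw [mem_cj] at hy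
  have hyL : y ∈ L := by
    have h1 : (u : G) * y * (u : G)⁻¹ ∈ L := hHL hy
    have h2 := L.mul_mem (L.mul_mem (L.inv_mem u.2) h1) u.2
    have h3 : (u : G)⁻¹ * ((u : G) * y * (u : G)⁻¹) * (u : G) = y := by group
    rwa [h3] at h2
  have h4 : (⟨y, hyL⟩ : ↥L) ∈ cj (H.subgroupOf L) u := by
    rw [mem_cj, Subgroup.mem_subgroupOf]
    exact hy
  have h5 := hu h4
  exact Subgroup.mem_subgroupOf.mp h5

/-- a proper subgroup of a Sylow subgroup is properly contained in its normalizer in it -/
theorem exists_mem_normalizer_not_mem (P : Sylow p G) (A : Subgroup G) (hAP : A ≤ (P : Subgroup G))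
    (hne : A ≠ (P : Subgroup G)) :
    ∃ x, x ∈ (P : Subgroup G) ⊓ Subgroup.normalizer (A : Set G) ∧ x ∉ A := by
  have : Group.IsNilpotent ↥(P : Subgroup G) := P.isPGroup'.isNilpotent
  have hlt : A.subgroupOf (P : Subgroup G) < ⊤ := by
    rw [lt_top_iff_ne_top]
    intro h
    apply hne
    exact le_antisymm hAP (Subgroup.subgroupOf_eq_top.mp h)
  have := normalizerCondition_of_isNilpotent _ hlt
  obtain ⟨x, hx1, hx2⟩ := SetLike.exists_of_lt this
  rw [Subgroup.mem_normalizer_iff] at hx1
  have hxn : (x : G) ∈ Subgroup.normalizer (A : Set G) := by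
    rw [Subgroup.mem_normalizer_iff]
    intro g
    constructor
    · intro hg
      have := (hx1 ⟨g, hAP hg⟩).mp (Subgroup.mem_subgroupOf.mpr hg)
      exact Subgroup.mem_subgroupOf.mp this
    · intro hg
      have hgP : g ∈ (P : Subgroup G) := by
        have h1 := hAP hg
        have h2 := (P : Subgroup G).mul_mem ((P : Subgroup G).mul_mem ((P : Subgroup G).inv_mem x.2) h1) x.2
        have h3 : (x : G)⁻¹ * ((x : G) * g * (x : G)⁻¹) * (x : G) = g := by group
        rwa [h3] at h2
      have := (hx1 ⟨g, hgP⟩).mpr (Subgroup.mem_subgroupOf.mpr hg)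
      exact Subgroup.mem_subgroupOf.mp this
  exact ⟨(x : G), ⟨x.2, hxn⟩, fun h => hx2 (Subgroup.mem_subgroupOf.mpr h)⟩

theorem card_lt_card_normalizer (P : Sylow p G) (A : Subgroup G) (hAP : A ≤ (P : Subgroup G))
    (hne : A ≠ (P : Subgroup G)) (hAn : A ≤ Subgroup.normalizer (A : Set G) := Subgroup.le_normalizer) :
    Nat.card ↥A < Nat.card ↥((P : Subgroup G) ⊓ Subgroup.normalizer (A : Set G)) := by
  obtain ⟨x, hx1, hx2⟩ := exists_mem_normalizer_not_mem P A hAP hne
  have hle : A ≤ (P : Subgroup G) ⊓ Subgroup.normalizer (A : Set G) := le_inf hAP hAn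
  by_contra hcon
  rw [not_lt] at hcon
  have := Subgroup.eq_of_le_of_card_ge hle hcon
  exact hx2 (this ▸ hx1)

/-- `Q` is fully normalized in `P`: `N_P(Q)` has index prime to `p` in `N_G(Q)`. -/
def FullyNormalized (P : Sylow p G) (Q : Subgroup G) : Prop :=
  ¬ p ∣ ((P : Subgroup G) ⊓ Subgroup.normalizer (Q : Set G)).relIndex (Subgroup.normalizer (Q : Set G))

/-- every subgroup of `P` has a fully normalized conjugate in `P` that also receives `N_P(A)` -/
theorem exists_fullyNormalized (P : Sylow p G) (A : Subgroup G) (hA : A ≤ (P : Subgroup G)) :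
    ∃ u : G, cj A u ≤ (P : Subgroup G) ∧
      cj ((P : Subgroup G) ⊓ Subgroup.normalizer (A : Set G)) u ≤ (P : Subgroup G) ∧
      FullyNormalized P (cj A u) := by
  set L := Subgroup.normalizer (A : Set G) with hL
  have hNPp : IsPGroup p ↥(((P : Subgroup G) ⊓ L).subgroupOf L) :=
    (P.isPGroup'.to_le inf_le_left).comap_subtype
  obtain ⟨S₀, hS₀⟩ := hNPp.exists_le_sylow
  set S : Subgroup G := (S₀ : Subgroup ↥L).map L.subtype with hS
  have hSL : S ≤ L := Subgroup.map_subtype_le _
  have hSp : IsPGroup p ↥S := S₀.isPGroup'.map _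
  have hSyl : ¬ p ∣ S.relIndex L := by
    rw [Subgroup.relIndex, hS, Subgroup.subgroupOf,
      Subgroup.comap_map_eq_self_of_injective (Subgroup.subtype_injective L)]
    exact S₀.not_dvd_index
  have hNPS : (P : Subgroup G) ⊓ L ≤ S := by
    intro x hx
    exact ⟨⟨x, hx.2⟩, hS₀ (Subgroup.mem_subgroupOf.mpr hx), rfl⟩
  obtain ⟨u, hu⟩ := exists_cj_le_sylow P S hSp
  have hAS : A ≤ S := le_trans (le_inf hA Subgroup.le_normalizer) hNPS
  refine ⟨u, le_trans (cj_mono hAS u) hu, le_trans (cj_mono hNPS u) hu, ?_⟩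
  unfold FullyNormalized
  have h1 : cj S u ≤ (P : Subgroup G) ⊓ Subgroup.normalizer (cj A u : Set G) := by
    refine le_inf hu ?_
    rw [normalizer_cj]
    exact cj_mono hSL u
  have h2 := Subgroup.relIndex_dvd_of_le_left (Subgroup.normalizer (cj A u : Set G)) h1
  intro h3
  apply hSyl
  have h4 := dvd_trans h3 h2
  rwa [normalizer_cj, relIndex_cj] at h4

/-- The main induction: if `P` is good and every fully normalized proper subgroup `Q` of `P` whose
normalizer is not generated by "extendable" elements is good, then the good subgroups form a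
conjugation family. -/
theorem dec_of_step (P : Sylow p G) (Good : Subgroup G → Prop) (hP : Good (P : Subgroup G))
    (hstep : ∀ Q : Subgroup G, Q ≤ (P : Subgroup G) → Q ≠ (P : Subgroup G) → FullyNormalized P Q →
      ∀ N₀ : Subgroup G, N₀ ≤ Subgroup.normalizer (Q : Set G) →
        Subgroup.centralizer (Q : Set G) ≤ N₀ →
        (∀ R : Subgroup G, Q ≤ R → Q ≠ R → R ≤ (P : Subgroup G) ⊓ Subgroup.normalizer (Q : Set G) →
          Subgroup.normalizer (Q : Set G) ⊓ Subgroup.normalizer (R : Set G) ≤ N₀) →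
        N₀ ≠ Subgroup.normalizer (Q : Set G) → Good Q)
    (A : Subgroup G) (hA : A ≤ (P : Subgroup G)) (g : G) (hAg : cj A g ≤ (P : Subgroup G)) :
    Dec Good A g := by
  induction hm : Nat.card ↥(P : Subgroup G) - Nat.card ↥A using Nat.strong_induction_on
    generalizing A g with
  | _ m ih =>
  -- the induction hypothesis in usable form
  have IH : ∀ (R : Subgroup G), R ≤ (P : Subgroup G) → ∀ h : G, cj R h ≤ (P : Subgroup G) →
      Nat.card ↥A < Nat.card ↥R → Dec Good R h := by
    intro R hR h hRh hlt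
    have hRP : Nat.card ↥R ≤ Nat.card ↥(P : Subgroup G) := Subgroup.card_le_of_le hR
    exact ih (Nat.card ↥(P : Subgroup G) - Nat.card ↥R) (by omega) R hR h hRh rfl
  by_cases hAP : A = (P : Subgroup G)
  · -- base case
    subst hAP
    have hcard : Nat.card ↥(cj (P : Subgroup G) g) = Nat.card ↥(P : Subgroup G) := card_cj _ _
    have heq : cj (P : Subgroup G) g = (P : Subgroup G) :=
      Subgroup.eq_of_le_of_card_ge hAg (le_of_eq hcard.symm)
    have hgN : g ∈ Subgroup.normalizer ((P : Subgroup G) : Set G) := by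
      rw [Subgroup.mem_normalizer_iff]
      intro y
      rw [← mem_cj, heq]
    exact Dec.norm hP hgN le_rfl
  · -- inductive step
    obtain ⟨u, huA, huN, hfull⟩ := exists_fullyNormalized P A hA
    set Q := cj A u with hQ
    have hcardQ : Nat.card ↥Q = Nat.card ↥A := card_cj _ _
    have hQne : Q ≠ (P : Subgroup G) := by
      intro h
      apply hAP
      apply Subgroup.eq_of_le_of_card_ge hA
      rw [← hcardQ, h]
    -- step 2
    have hdecu : Dec Good A u :=
      (IH _ inf_le_left u huN (card_lt_card_normalizer P A hA hAP)).mono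
        (le_inf hA Subgroup.le_normalizer)
    -- step 3
    set B := cj A g with hB
    have hcardB : Nat.card ↥B = Nat.card ↥A := card_cj _ _
    have hBne : B ≠ (P : Subgroup G) := by
      intro h
      apply hAP
      apply Subgroup.eq_of_le_of_card_ge hA
      rw [← hcardB, h]
    have hBt : cj B (g⁻¹ * u) = Q := by
      rw [hB, ← cj_mul, hQ]
      congr 1
      group
    have hNBp : IsPGroup p ↥(cj ((P : Subgroup G) ⊓ Subgroup.normalizer (B : Set G)) (g⁻¹ * u)) :=
      isPGroup_cj (P.isPGroup'.to_le inf_le_left) _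
    have hNBle : cj ((P : Subgroup G) ⊓ Subgroup.normalizer (B : Set G)) (g⁻¹ * u) ≤
        Subgroup.normalizer (Q : Set G) := by
      have hnq : Subgroup.normalizer (Q : Set G) =
          cj (Subgroup.normalizer (B : Set G)) (g⁻¹ * u) := by
        rw [← hBt]; exact normalizer_cj B _
      rw [hnq]
      exact cj_mono (inf_le_right : (P : Subgroup G) ⊓ Subgroup.normalizer (B : Set G) ≤
        Subgroup.normalizer (B : Set G)) _
    obtain ⟨n, hnN, hn⟩ := exists_cj_le_of_relIndex (Subgroup.normalizer (Q : Set G))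
      ((P : Subgroup G) ⊓ Subgroup.normalizer (Q : Set G)) _ (P.isPGroup'.to_le inf_le_left)
      hfull hNBle hNBp
    rw [← cj_mul] at hn
    set w := g⁻¹ * u * n with hw
    have hBw : cj B w = Q := by
      rw [hw, cj_mul, hBt, cj_eq_self_of_mem_normalizer hnN]
    have hdecw : Dec Good B w := by
      refine (IH _ inf_le_left w (le_trans hn inf_le_left) ?_).mono
        (le_inf hAg Subgroup.le_normalizer)
      rw [← hcardB]
      exact card_lt_card_normalizer P B hAg hBne
    -- step 4: every element of the normalizer of `Q` is decomposable on `Q`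
    have hclaim : ∀ n ∈ Subgroup.normalizer (Q : Set G), Dec Good Q n := by
      let N₀ : Subgroup G :=
        { carrier := {n | n ∈ Subgroup.normalizer (Q : Set G) ∧ Dec Good Q n}
          one_mem' := ⟨Subgroup.one_mem _, Dec.one Q⟩
          mul_mem' := by
            rintro a b ⟨ha1, ha2⟩ ⟨hb1, hb2⟩
            refine ⟨Subgroup.mul_mem _ ha1 hb1, Dec.comp ha2 ?_⟩
            rw [cj_eq_self_of_mem_normalizer ha1]
            exact hb2
          inv_mem' := by
            rintro a ⟨ha1, ha2⟩
            refine ⟨Subgroup.inv_mem _ ha1, ?_⟩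
            have := ha2.inv
            rwa [cj_eq_self_of_mem_normalizer ha1] at this }
      have hN₀le : N₀ ≤ Subgroup.normalizer (Q : Set G) := fun n hn => hn.1
      by_cases hN₀ : N₀ = Subgroup.normalizer (Q : Set G)
      · intro n hn
        have : n ∈ N₀ := hN₀ ▸ hn
        exact this.2
      · have hgood : Good Q := by
          apply hstep Q huA hQne hfull N₀ hN₀le
          · intro c hc
            exact ⟨Subgroup.centralizer_le_normalizer _ hc, Dec.cent hc⟩
          · intro R hQR hQR' hRle n hn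
            refine ⟨hn.1, ?_⟩
            have hRn : cj R n = R := cj_eq_self_of_mem_normalizer hn.2
            have hRP : R ≤ (P : Subgroup G) := le_trans hRle inf_le_left
            refine (IH R hRP n (by rw [hRn]; exact hRP) ?_).mono hQR
            rw [← hcardQ]
            by_contra hcon
            rw [not_lt] at hcon
            exact hQR' (Subgroup.eq_of_le_of_card_ge hQR hcon)
          · exact hN₀
        intro n hn
        exact Dec.norm hgood hn le_rfl
    -- step 5: assemble
    have hg : g = u * n * w⁻¹ := by rw [hw]; group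
    rw [hg]
    refine Dec.comp (Dec.comp hdecu (hclaim n hnN)) ?_
    rw [cj_mul, ← hQ, cj_eq_self_of_mem_normalizer hnN]
    have := hdecw.inv
    rwa [hBw] at this

end sylow

end Cfsg.Agent.Helper31
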