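-- Local structure lemmas used for the Alperin-Goldschmidt conjugation family.
import Cfsg.Agent.Lib.Cores
import Cfsg.Agent.Helper31.Fusion
import Cfsg.Prelude.Def_Local
import Cfsg.Prelude.Def_TwoFusion

set_option autoImplicit false

namespace Cfsg.Agent.Helper31

section gamma
variable {Γ : Type*} [Group Γ] [Finite Γ] {p : ℕ} [Fact p.Prime]

theorem pPrimeCore_le_pPrimePCore : Cfsg.pPrimeCore p Γ ≤ Cfsg.pPrimePCore p Γ := by
  intro x hx
  unfold Cfsg.pPrimePCore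
  rw [Subgroup.mem_comap]
  have : (QuotientGroup.mk' (Cfsg.pPrimeCore p Γ)) x = 1 := by
    rw [QuotientGroup.mk'_apply, QuotientGroup.eq_one_iff]; exact hx
  rw [this]
  exact Subgroup.one_mem _

theorem le_pPrimePCore_of_normal_pGroup (Q : Subgroup Γ) [Q.Normal] (hQ : IsPGroup p ↥Q) :
    Q ≤ Cfsg.pPrimePCore p Γ := by
  intro x hx
  unfold Cfsg.pPrimePCore
  rw [Subgroup.mem_comap]
  have hn : (Q.map (QuotientGroup.mk' (Cfsg.pPrimeCore p Γ))).Normal :=
    Subgroup.Normal.map inferInstance _ (QuotientGroup.mk'_surjective _)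
  have hp : IsPGroup p ↥(Q.map (QuotientGroup.mk' (Cfsg.pPrimeCore p Γ))) := hQ.map _
  exact Cfsg.Agent.Lib.le_pCore hn hp ⟨x, hx, rfl⟩

theorem coprime_card_of_isPGroup {Q : Subgroup Γ} (hQ : IsPGroup p ↥Q) {m : ℕ} (hm : m.Coprime p) :
    m.Coprime (Nat.card ↥Q) := by
  obtain ⟨k, hk⟩ := IsPGroup.iff_card.mp hQ
  rw [hk]
  exact Nat.Coprime.pow_right k hm

theorem pPrimeCore_inf_eq_bot (Q : Subgroup Γ) (hQ : IsPGroup p ↥Q) :
    Cfsg.pPrimeCore p Γ ⊓ Q = ⊥ :=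
  Subgroup.inf_eq_bot_of_coprime (coprime_card_of_isPGroup hQ (Cfsg.Agent.Lib.card_pPrimeCore_coprime p))

theorem pPrimeCore_commute (Q : Subgroup Γ) [Q.Normal] (hQ : IsPGroup p ↥Q) :
    ∀ a ∈ Cfsg.pPrimeCore p Γ, ∀ b ∈ Q, a * b = b * a := by
  intro a ha b hb
  exact Subgroup.commute_of_normal_of_disjoint _ _ inferInstance inferInstance
    (disjoint_iff.mpr (pPrimeCore_inf_eq_bot Q hQ)) a b ha hb

theorem pPrimeCore_le_centralizer (Q : Subgroup Γ) [Q.Normal] (hQ : IsPGroup p ↥Q) :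
    Cfsg.pPrimeCore p Γ ≤ Subgroup.centralizer (Q : Set Γ) := by
  intro a ha
  rw [Subgroup.mem_centralizer_iff]
  intro b hb
  exact (pPrimeCore_commute Q hQ a ha b hb).symm

omit [Finite Γ] in
theorem relIndex_mul_card' {H K : Subgroup Γ} (h : H ≤ K) : H.relIndex K * Nat.card ↥H = Nat.card ↥K := by
  have := Subgroup.relIndex_mul_relIndex ⊥ H K bot_le h
  rw [Subgroup.relIndex_bot_left, Subgroup.relIndex_bot_left] at this
  rw [mul_comm]; exact this

/-- the index of `O_{p'}` in `O_{p',p}` is a power of `p` -/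
theorem relIndex_pPrimeCore_pPrimePCore :
    ∃ a : ℕ, (Cfsg.pPrimeCore p Γ).relIndex (Cfsg.pPrimePCore p Γ) = p ^ a := by
  have h2 : (Cfsg.pPrimeCore p Γ).relIndex (Cfsg.pPrimePCore p Γ) =
      Nat.card ↥(Cfsg.pCore p (Γ ⧸ Cfsg.pPrimeCore p Γ)) := by
    have h1 := Subgroup.relIndex_ker (K := Cfsg.pPrimePCore p Γ) (QuotientGroup.mk' (Cfsg.pPrimeCore p Γ))
    rw [QuotientGroup.ker_mk'] at h1
    rw [h1]
    unfold Cfsg.pPrimePCore
    rw [Subgroup.map_comap_eq_self_of_surjective (QuotientGroup.mk'_surjective _)]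
  rw [h2]
  exact IsPGroup.iff_card.mp (Cfsg.Agent.Lib.isPGroup_pCore p)

/-- a `p`-subgroup of `O_{p',p}` of index prime to `p` generates it together with `O_{p'}` -/
theorem pPrimeCore_sup_eq (T : Subgroup Γ) (hT : IsPGroup p ↥T) (hTW : T ≤ Cfsg.pPrimePCore p Γ)
    (hSyl : ¬ p ∣ T.relIndex (Cfsg.pPrimePCore p Γ)) :
    Cfsg.pPrimeCore p Γ ⊔ T = Cfsg.pPrimePCore p Γ := by
  have hp : p.Prime := Fact.out
  have hle : Cfsg.pPrimeCore p Γ ⊔ T ≤ Cfsg.pPrimePCore p Γ :=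
    sup_le pPrimeCore_le_pPrimePCore hTW
  apply Subgroup.eq_of_le_of_card_ge hle
  obtain ⟨a, ha⟩ := relIndex_pPrimeCore_pPrimePCore (Γ := Γ) (p := p)
  obtain ⟨b, hb⟩ := IsPGroup.iff_card.mp hT
  have hO := Cfsg.Agent.Lib.card_pPrimeCore_coprime (G := Γ) p
  -- card of the join
  have hcard1 : Nat.card ↥(Cfsg.pPrimeCore p Γ ⊔ T) = Nat.card ↥T * Nat.card ↥(Cfsg.pPrimeCore p Γ) := by
    have h1 := relIndex_mul_card' (le_sup_left : Cfsg.pPrimeCore p Γ ≤ Cfsg.pPrimeCore p Γ ⊔ T)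
    rw [sup_comm, Subgroup.relIndex_sup_right, ← Subgroup.inf_relIndex_right,
      pPrimeCore_inf_eq_bot T hT, Subgroup.relIndex_bot_left] at h1
    rw [sup_comm]; exact h1.symm
  have hcard2 : Nat.card ↥(Cfsg.pPrimePCore p Γ) = p ^ a * Nat.card ↥(Cfsg.pPrimeCore p Γ) := by
    rw [← ha]; exact (relIndex_mul_card' pPrimeCore_le_pPrimePCore).symm
  have hcard3 : Nat.card ↥(Cfsg.pPrimePCore p Γ) = T.relIndex (Cfsg.pPrimePCore p Γ) * p ^ b := by
    rw [← hb]; exact (relIndex_mul_card' hTW).symm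
  have hcop : (T.relIndex (Cfsg.pPrimePCore p Γ)).Coprime p :=
    (Nat.Coprime.symm ((Nat.Prime.coprime_iff_not_dvd hp).mpr hSyl))
  have hab : p ^ a ∣ p ^ b := by
    have : p ^ a ∣ T.relIndex (Cfsg.pPrimePCore p Γ) * p ^ b := by
      rw [← hcard3, hcard2]; exact dvd_mul_right _ _
    exact (Nat.Coprime.dvd_mul_left (Nat.Coprime.pow_left a hcop.symm)).mp this
  rw [hcard1, hcard2, hb]
  exact Nat.mul_le_mul_right _ (Nat.le_of_dvd (pow_pos hp.pos b) hab)

/-- a `p`-element whose order is prime to `p` is trivial -/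
theorem eq_one_of_isPGroup_of_pow_eq_one {Z : Subgroup Γ} (hZ : IsPGroup p ↥Z) {z : Γ} (hz : z ∈ Z)
    {n : ℕ} (hn : n.Coprime p) (hzn : z ^ n = 1) : z = 1 := by
  obtain ⟨k, hk⟩ := hZ ⟨z, hz⟩
  have hk' : z ^ p ^ k = 1 := by
    have := congrArg Subtype.val hk
    simpa using this
  have h1 : orderOf z ∣ n := orderOf_dvd_of_pow_eq_one hzn
  have h2 : orderOf z ∣ p ^ k := orderOf_dvd_of_pow_eq_one hk'
  have h3 : (n).Coprime (p ^ k) := Nat.Coprime.pow_right k hn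
  have h4 : orderOf z = 1 := Nat.eq_one_of_dvd_coprimes h3 h1 h2
  exact orderOf_eq_one_iff.mp h4

/-- If a normal `p`-subgroup `Q` has index prime to `p` in `Q C(Q)`, then `C(Q) ≤ O_{p'} Q`. -/
theorem centralizer_le_of_relIndex (Q : Subgroup Γ) [Q.Normal] (hQ : IsPGroup p ↥Q)
    (hSyl : ¬ p ∣ Q.relIndex (Q ⊔ Subgroup.centralizer (Q : Set Γ))) :
    Subgroup.centralizer (Q : Set Γ) ≤ Cfsg.pPrimeCore p Γ ⊔ Q := by
  have hp : p.Prime := Fact.out
  set C := Subgroup.centralizer (Q : Set Γ) with hC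
  -- the centre of `Q` inside `C`
  set Z' : Subgroup ↥C := (Q ⊓ C).subgroupOf C with hZ'
  have hZcentral : ∀ (c z : ↥C), z ∈ Z' → c * z = z * c := by
    intro c z hz
    have hzQ : (z : Γ) ∈ Q := (Subgroup.mem_subgroupOf.mp hz).1
    have hc : (c : Γ) ∈ Subgroup.centralizer (Q : Set Γ) := c.2
    rw [Subgroup.mem_centralizer_iff] at hc
    apply Subtype.ext
    exact (hc _ hzQ).symm
  haveI hZn : Z'.Normal := by
    refine ⟨fun z hz c => ?_⟩
    have : c * z * c⁻¹ = z := by rw [hZcentral c z hz]; group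
    rwa [this]
  have hZp : IsPGroup p ↥Z' := (hQ.to_le inf_le_left).comap_subtype
  have hZidx : Z'.index = Q.relIndex (Q ⊔ C) := by
    rw [hZ', ← Subgroup.relIndex, Subgroup.inf_relIndex_right, sup_comm, Subgroup.relIndex_sup_right]
  have hcop : Nat.Coprime (Nat.card ↥Z') Z'.index := by
    rw [hZidx]
    exact (coprime_card_of_isPGroup hZp
      (Nat.Coprime.symm ((Nat.Prime.coprime_iff_not_dvd hp).mpr hSyl))).symm
  obtain ⟨K', hK'⟩ := Subgroup.exists_right_complement'_of_coprime hcop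
  have hK'card : (Nat.card ↥K').Coprime p := by
    have h1 := hK'.symm.index_eq_card
    rw [← h1, hZidx]
    exact Nat.Coprime.symm ((Nat.Prime.coprime_iff_not_dvd hp).mpr hSyl)
  -- every element of `C` of order prime to `p` lies in `K'`
  have hkey : ∀ y : ↥C, (orderOf y).Coprime p → y ∈ K' := by
    intro y hy
    obtain ⟨⟨⟨z, hz⟩, ⟨k, hk⟩⟩, hzk, _⟩ := (Subgroup.isComplement'_def.mp hK').existsUnique y
    simp only at hzk
    have hcomm : Commute z k := (hZcentral k z hz).symm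
    have hkord : k ^ Nat.card ↥K' = 1 := by
      have h0 : (⟨k, hk⟩ : ↥K') ^ Nat.card ↥K' = 1 := pow_card_eq_one'
      have h1 : ((⟨k, hk⟩ : ↥K') ^ Nat.card ↥K' : ↥K').val = k ^ Nat.card ↥K' := by
        rw [Subgroup.coe_pow]
      rw [← h1, h0]; rfl
    have hzpow : z ^ (Nat.card ↥K' * orderOf y) = 1 := by
      have h1 : (z * k) ^ (Nat.card ↥K' * orderOf y) = 1 := by
        rw [hzk, mul_comm, pow_mul, pow_orderOf_eq_one, one_pow]
      rw [hcomm.mul_pow, pow_mul k, hkord, one_pow, mul_one] at h1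
      exact h1
    have hz1 : z = 1 :=
      eq_one_of_isPGroup_of_pow_eq_one hZp hz (Nat.Coprime.mul_left hK'card hy) hzpow
    rw [hz1, one_mul] at hzk
    rw [← hzk]; exact hk
  -- the complement, viewed in `Γ`, is normal of order prime to `p`
  set K : Subgroup Γ := K'.map C.subtype with hK
  have hKcard : (Nat.card ↥K).Coprime p := by
    rw [hK, Subgroup.card_map_of_injective (Subgroup.subtype_injective C)]
    exact hK'card
  have hKn : K.Normal := by
    refine ⟨fun k hk g => ?_⟩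
    obtain ⟨k', hk', rfl⟩ := hk
    have hgk : g * (k' : Γ) * g⁻¹ ∈ C :=
      (inferInstance : C.Normal).conj_mem _ k'.2 g
    refine ⟨⟨g * (k' : Γ) * g⁻¹, hgk⟩, hkey _ ?_, rfl⟩
    have h1 : orderOf (⟨g * (k' : Γ) * g⁻¹, hgk⟩ : ↥C) = orderOf k' := by
      rw [Subgroup.orderOf_mk]
      have : g * (k' : Γ) * g⁻¹ = (MulAut.conj g) (k' : Γ) := by simp
      rw [this, MulEquiv.orderOf_eq, Subgroup.orderOf_coe]
    rw [h1]
    have h2 : orderOf k' ∣ Nat.card ↥K' := by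
      have := orderOf_dvd_natCard (⟨k', hk'⟩ : ↥K')
      rwa [Subgroup.orderOf_mk] at this
    exact Nat.Coprime.coprime_dvd_left h2 hK'card
  have hKO : K ≤ Cfsg.pPrimeCore p Γ := Cfsg.Agent.Lib.le_pPrimeCore hKn hKcard
  -- conclude
  intro y hy
  obtain ⟨⟨⟨z, hz⟩, ⟨k, hk⟩⟩, hzk, _⟩ := (Subgroup.isComplement'_def.mp hK').existsUnique ⟨y, hy⟩
  simp only at hzk
  have hy' : y = (z : Γ) * (k : Γ) := by
    have := congrArg Subtype.val hzk
    simpa using this.symm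
  rw [hy', sup_comm]
  exact Subgroup.mul_mem_sup (Subgroup.mem_subgroupOf.mp hz).1 (hKO ⟨k, hk, rfl⟩)

/-- Frattini argument in relative form -/
theorem frattini_rel (H : Subgroup Γ) [H.Normal] (T : Subgroup Γ) (hTH : T ≤ H)
    (hT : IsPGroup p ↥T) (hSyl : ¬ p ∣ T.relIndex H) :
    Subgroup.normalizer (T : Set Γ) ⊔ H = ⊤ := by
  have hT' : IsPGroup p ↥(T.subgroupOf H) := hT.comap_subtype
  have h1 := Sylow.normalizer_sup_eq_top (hT'.toSylow hSyl)
  have h0 : ((hT'.toSylow hSyl : Sylow p ↥H) : Subgroup ↥H) = T.subgroupOf H := rfl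
  rw [h0, Subgroup.subgroupOf_map_subtype, inf_of_le_left hTH] at h1
  exact h1

/-- the intersection of a Sylow subgroup with a normal subgroup is a Sylow subgroup of it -/
theorem not_dvd_relIndex_inf_normal (S : Subgroup Γ) (hS : IsPGroup p ↥S) (hSyl : ¬ p ∣ S.index)
    (H : Subgroup Γ) [H.Normal] : ¬ p ∣ (S ⊓ H).relIndex H := by
  obtain ⟨P₀⟩ : Nonempty (Sylow p ↥H) := inferInstance
  set PH : Subgroup Γ := (P₀ : Subgroup ↥H).map H.subtype with hPH
  have hPHle : PH ≤ H := Subgroup.map_subtype_le _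
  have hPHp : IsPGroup p ↥PH := P₀.isPGroup'.map _
  have hPHsyl : ¬ p ∣ PH.relIndex H := by
    rw [Subgroup.relIndex, hPH, Subgroup.subgroupOf,
      Subgroup.comap_map_eq_self_of_injective (Subgroup.subtype_injective H)]
    exact P₀.not_dvd_index
  obtain ⟨u, hu⟩ := exists_cj_le_sylow (hS.toSylow hSyl) PH hPHp
  have h0 : ((hS.toSylow hSyl : Sylow p Γ) : Subgroup Γ) = S := rfl
  rw [h0] at hu
  have hHu : cj H u = H := cj_eq_self_of_mem_normalizer (by
    rw [Subgroup.normalizer_eq_top]; exact Subgroup.mem_top u)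
  have h1 : cj PH u ≤ S ⊓ H := le_inf hu (hHu ▸ cj_mono hPHle u)
  have h2 := Subgroup.relIndex_dvd_of_le_left H h1
  intro h3
  apply hPHsyl
  have h4 := dvd_trans h3 h2
  rw [← relIndex_cj PH H u, hHu]
  exact h4

/-- dichotomy for `O_{p',p}`: if the normalizers of the subgroups properly between `Q` and the
Sylow subgroup `S`, and the centralizer of `Q`, all lie in a proper subgroup, then `Q` has index
prime to `p` in `O_{p',p}`. -/
theorem not_dvd_relIndex_pPrimePCore (Q : Subgroup Γ) [Q.Normal] (hQ : IsPGroup p ↥Q)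
    (S : Subgroup Γ) (hS : IsPGroup p ↥S) (hSyl : ¬ p ∣ S.index) (hQS : Q ≤ S)
    (N₀ : Subgroup Γ) (hC : Subgroup.centralizer (Q : Set Γ) ≤ N₀)
    (hN : ∀ R : Subgroup Γ, Q ≤ R → Q ≠ R → R ≤ S → Subgroup.normalizer (R : Set Γ) ≤ N₀)
    (hne : N₀ ≠ ⊤) : ¬ p ∣ Q.relIndex (Cfsg.pPrimePCore p Γ) := by
  have : (Cfsg.pPrimePCore p Γ).Normal := by
    unfold Cfsg.pPrimePCore; exact Subgroup.Normal.comap inferInstance _
  set T := S ⊓ Cfsg.pPrimePCore p Γ with hT
  have hTsyl : ¬ p ∣ T.relIndex (Cfsg.pPrimePCore p Γ) :=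
    not_dvd_relIndex_inf_normal S hS hSyl _
  have hQT : Q ≤ T := le_inf hQS (le_pPrimePCore_of_normal_pGroup Q hQ)
  by_cases hQT' : Q = T
  · rw [hQT']; exact hTsyl
  · exfalso
    apply hne
    have hTp : IsPGroup p ↥T := hS.to_le inf_le_left
    have h1 := hN T hQT hQT' inf_le_left
    have h2 := frattini_rel (Cfsg.pPrimePCore p Γ) T inf_le_right hTp hTsyl
    have h3 := pPrimeCore_sup_eq T hTp inf_le_right hTsyl
    rw [eq_top_iff, ← h2, ← h3]
    refine sup_le h1 (sup_le ?_ (le_trans Subgroup.le_normalizer h1))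
    exact le_trans (pPrimeCore_le_centralizer Q hQ) hC

/-- dichotomy for `Q C(Q)` -/
theorem not_dvd_relIndex_sup_centralizer (Q : Subgroup Γ) [Q.Normal] (hQ : IsPGroup p ↥Q)
    (S : Subgroup Γ) (hS : IsPGroup p ↥S) (hSyl : ¬ p ∣ S.index) (hQS : Q ≤ S)
    (N₀ : Subgroup Γ) (hC : Subgroup.centralizer (Q : Set Γ) ≤ N₀)
    (hN : ∀ R : Subgroup Γ, Q ≤ R → Q ≠ R → R ≤ S → Subgroup.normalizer (R : Set Γ) ≤ N₀)
    (hne : N₀ ≠ ⊤) : ¬ p ∣ Q.relIndex (Q ⊔ Subgroup.centralizer (Q : Set Γ)) := by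
  have : (Q ⊔ Subgroup.centralizer (Q : Set Γ)).Normal := Subgroup.sup_normal _ _
  set H := Q ⊔ Subgroup.centralizer (Q : Set Γ) with hH
  set R := S ⊓ H with hR
  have hRsyl : ¬ p ∣ R.relIndex H := not_dvd_relIndex_inf_normal S hS hSyl _
  have hQR : Q ≤ R := le_inf hQS le_sup_left
  by_cases hQR' : Q = R
  · rw [hQR']; exact hRsyl
  · exfalso
    apply hne
    have hRp : IsPGroup p ↥R := hS.to_le inf_le_left
    have h1 := hN R hQR hQR' inf_le_left
    have hQS' : Q ≠ S := by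
      intro h
      apply hQR'
      apply le_antisymm hQR
      rw [h]; exact inf_le_left
    have h0 := hN S hQS hQS' le_rfl
    have h2 := frattini_rel H R inf_le_right hRp hRsyl
    rw [eq_top_iff, ← h2]
    refine sup_le h1 (sup_le ?_ hC)
    exact le_trans hQS (le_trans Subgroup.le_normalizer h0)

/-- the Goldschmidt conditions from the two index conditions -/
theorem goldschmidt_of_relIndex (Q : Subgroup Γ) [Q.Normal] (hQ : IsPGroup p ↥Q)
    (h1 : ¬ p ∣ Q.relIndex (Cfsg.pPrimePCore p Γ))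
    (h2 : ¬ p ∣ Q.relIndex (Q ⊔ Subgroup.centralizer (Q : Set Γ))) :
    Subgroup.centralizer (Q : Set Γ) ≤ Cfsg.pPrimePCore p Γ ∧
      Cfsg.IsInternalDirectProduct (Cfsg.pPrimeCore p Γ) Q (Cfsg.pPrimePCore p Γ) := by
  have hQW := le_pPrimePCore_of_normal_pGroup Q hQ
  have hsup := pPrimeCore_sup_eq Q hQ hQW h1
  refine ⟨?_, pPrimeCore_le_pPrimePCore, hQW, pPrimeCore_commute Q hQ, pPrimeCore_inf_eq_bot Q hQ, hsup⟩
  rw [← hsup]
  exact centralizer_le_of_relIndex Q hQ h2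

end gamma

end Cfsg.Agent.Helper31
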