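import Cfsg.Agent.Helper31.BGTrans

/-!
# Bender–Glauberman Theorems 7.3 and 7.4 (helper31)
-/

set_option autoImplicit false
open Cfsg

namespace Cfsg.Agent.Helper31

variable {G : Type*} [Group G]

/-- A subgroup of rank more than `k` contains an elementary abelian `p`-subgroup of order at
least `p ^ (k + 1)`. -/
theorem exists_elemAb_of_not_rankLE [Finite G] {Z : Subgroup G} {k : ℕ} (h : ¬ RankLE k ↥Z) :
    ∃ p : ℕ, p.Prime ∧ ∃ B : Subgroup G, B ≤ Z ∧ IsElementaryAbelian p B ∧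
      p ^ (k + 1) ≤ Nat.card B := by
  unfold RankLE PRankLE at h
  push Not at h
  obtain ⟨p, hp, B, hBc, hBe, hBcard⟩ := h
  haveI : Fact p.Prime := ⟨hp⟩
  refine ⟨p, hp, B.map Z.subtype, Subgroup.map_subtype_le _, ⟨?_, ?_⟩, ?_⟩
  · haveI := hBc
    infer_instance
  · rintro _ ⟨b, hb, rfl⟩
    have := hBe b hb
    rw [← map_pow, this, map_one]
  · have hcard : Nat.card (B.map Z.subtype) = Nat.card B :=
      Subgroup.card_map_of_injective Z.subtype_injective
    rw [hcard]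
    have hBp : IsPGroup p ↥B := isPGroup_of_exponent B hBe
    obtain ⟨n, hn⟩ := IsPGroup.iff_card.mp hBp
    rw [hn] at hBcard ⊢
    apply Nat.pow_le_pow_right hp.pos
    by_contra hcon
    apply absurd hBcard
    rw [not_lt]
    exact Nat.pow_le_pow_right hp.pos (by omega)

/-- **Bender–Glauberman, Theorem 7.3.** -/
theorem bg_transitivity_rank3 [Finite G] (hG : IsMinSimpleOddOrder G) {A : Subgroup G}
    (hA : TransitivityHypothesis A)
    (hZ : ¬ RankLE 2 ↥(A ⊓ Subgroup.centralizer (A : Set G))) {q : ℕ} (hq : q.Prime)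
    (hqA : ¬ q ∣ Nat.card A) {Q₁ Q₂ : Subgroup G} (h₁ : Q₁ ∈ maxInvSubgroups ⊤ A {q})
    (h₂ : Q₂ ∈ maxInvSubgroups ⊤ A {q}) :
    ∃ k ∈ piCoreOf (primesNotDvd (Nat.card A)) (Subgroup.centralizer (A : Set G)),
      Q₁.map (MulAut.conj k).toMonoidHom = Q₂ := by
  have _hs : IsSimpleGroup G := hG.2.1
  have _hqf : Fact q.Prime := ⟨hq⟩
  by_cases hne : Q₁ = Q₂
  · exact ⟨1, Subgroup.one_mem _, by rw [map_conj_one, hne]⟩
  obtain ⟨p, hp, B, hBZ, hBel, hBcard⟩ := exists_elemAb_of_not_rankLE hZ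
  have _hpf : Fact p.Prime := ⟨hp⟩
  have hBA : B ≤ A := hBZ.trans inf_le_left
  have hQ₁q := isPGroup_of_mem_maxInv hq h₁
  have hQ₂q := isPGroup_of_mem_maxInv hq h₂
  have hAQ₁ : A ≤ Subgroup.normalizer (Q₁ : Set G) := h₁.1.2.2
  have hAQ₂ : A ≤ Subgroup.normalizer (Q₂ : Set G) := h₂.1.2.2
  have hqp : q ≠ p := by
    rintro rfl
    apply hqA
    have h1 : q ∣ Nat.card B := dvd_trans (dvd_pow_self q (Nat.succ_ne_zero _)) (by
      have hBp : IsPGroup q ↥B := isPGroup_of_exponent B hBel.2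
      obtain ⟨n, hn⟩ := IsPGroup.iff_card.mp hBp
      rw [hn] at hBcard ⊢
      exact pow_dvd_pow q ((Nat.pow_le_pow_iff_right hp.one_lt).mp hBcard))
    exact h1.trans (Subgroup.card_dvd_of_le hBA)
  have hD₁ : Q₁ ⊓ Q₂ ≠ Q₁ := by
    intro h
    have hle : Q₁ ≤ Q₂ := by rw [← h]; exact inf_le_right
    exact hne (h₁.2 Q₂ h₂.1 hle).symm
  have hD₂ : Q₁ ⊓ Q₂ ≠ Q₂ := by
    intro h
    have hle : Q₂ ≤ Q₁ := by rw [← h]; exact inf_le_left
    exact hne (h₂.2 Q₁ h₁.1 hle)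
  obtain ⟨a, ha, ha1, hn₁, hn₂⟩ := Cfsg.Agent.S1282.result p B hBel hBcard q hqp Q₁ Q₂ hQ₁q hQ₂q
    (hBA.trans hAQ₁) (hBA.trans hAQ₂) hD₁ hD₂
  have hH : Subgroup.centralizer ({a} : Set G) ≠ ⊤ :=
    centralizer_singleton_ne_top_of_simple hG.2.2.1 ha1
  have hAH : A ≤ Subgroup.centralizer ({a} : Set G) := by
    intro x hx
    rw [Subgroup.mem_centralizer_iff]
    intro y hy
    rw [Set.mem_singleton_iff] at hy
    subst hy
    have haC : y ∈ Subgroup.centralizer (A : Set G) := (hBZ ha).2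
    exact (Subgroup.mem_centralizer_iff.mp haC x hx).symm
  have hH₁ : Subgroup.centralizer ({a} : Set G) ⊓ Q₁ ≠ ⊥ := by
    intro h
    apply hn₁
    intro x hx
    have : x ∈ Subgroup.centralizer ({a} : Set G) ⊓ Q₁ :=
      Subgroup.mem_inf.mpr ⟨hx.2, hx.1.2⟩
    rw [h, Subgroup.mem_bot] at this
    rw [this]
    exact Subgroup.one_mem _
  have hH₂ : Subgroup.centralizer ({a} : Set G) ⊓ Q₂ ≠ ⊥ := by
    intro h
    apply hn₂
    intro x hx
    have : x ∈ Subgroup.centralizer ({a} : Set G) ⊓ Q₂ :=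
      Subgroup.mem_inf.mpr ⟨hx.2, hx.1.2⟩
    rw [h, Subgroup.mem_bot] at this
    rw [this]
    exact Subgroup.one_mem _
  exact bg_transitivity_of_common hG hA hq hqA h₁ h₂ hH hAH hH₁ hH₂

/-- A noncyclic elementary abelian `p`-group acting on a nontrivial `p'`-group `Q`
has a non-identity element with nontrivial centralizer in `Q`. -/
theorem exists_centralizer_inf_ne_bot [Finite G] {p : ℕ} [Fact p.Prime] {B Q : Subgroup G}
    (hB : IsElementaryAbelian p B) (hBcard : p ^ 2 ≤ Nat.card B)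
    (hBQ : B ≤ Subgroup.normalizer (Q : Set G)) (hpQ : ¬ p ∣ Nat.card Q) (hQ : Q ≠ ⊥) :
    ∃ b ∈ B, b ≠ 1 ∧ Subgroup.centralizer ({b} : Set G) ⊓ Q ≠ ⊥ := by
  have hp : p.Prime := Fact.out
  have hcomm : ∀ x ∈ B, ∀ y ∈ B, x * y = y * x := by
    intro x hx y hy
    have := hB.1.is_comm.comm (⟨x, hx⟩ : B) ⟨y, hy⟩
    simpa using congrArg Subtype.val this
  have hle := le_iSup_hyperplane (p := p) (Nat.card B) Q B rfl hpQ hBQ hcomm hB.2 hBcard
  by_contra hcon
  push Not at hcon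
  apply hQ
  rw [eq_bot_iff]
  refine hle.trans (iSup_le ?_)
  rintro ⟨F, hFB, hFcard⟩
  -- `F` is nontrivial
  have hF1 : 1 < Nat.card F := by
    by_contra h1
    have h2 : Nat.card F = 1 := by
      have : 0 < Nat.card F := Nat.card_pos
      omega
    rw [h2, one_mul] at hFcard
    rw [← hFcard] at hBcard
    have : p < p ^ 2 := by
      calc p = p ^ 1 := (pow_one p).symm
        _ < p ^ 2 := Nat.pow_lt_pow_right hp.one_lt (by omega)
    omega
  obtain ⟨b, hb, hb1⟩ : ∃ b ∈ F, b ≠ 1 := by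
    by_contra hnone
    push Not at hnone
    have : F = ⊥ := by
      rw [eq_bot_iff]
      intro x hx
      rw [Subgroup.mem_bot]
      exact hnone x hx
    rw [this, Subgroup.card_bot] at hF1
    omega
  have h3 := hcon b (hFB hb) hb1
  rw [← h3]
  intro x hx
  refine Subgroup.mem_inf.mpr ⟨?_, hx.1⟩
  exact Subgroup.centralizer_le (Set.singleton_subset_iff.mpr hb) hx.2

/-- **Bender–Glauberman, Theorem 7.4.** -/
theorem bg_transitivity_rank2 [Finite G] (hG : IsMinSimpleOddOrder G) {A : Subgroup G}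
    (hA : TransitivityHypothesis A)
    (hZ : ¬ RankLE 1 ↥(A ⊓ Subgroup.centralizer (A : Set G))) {q : ℕ} (hq : q.Prime)
    (hqA : ¬ q ∣ Nat.card A) (hqC : q ∣ Nat.card (Subgroup.centralizer (A : Set G)))
    {Q₁ Q₂ : Subgroup G} (h₁ : Q₁ ∈ maxInvSubgroups ⊤ A {q})
    (h₂ : Q₂ ∈ maxInvSubgroups ⊤ A {q}) :
    ∃ k ∈ piCoreOf (primesNotDvd (Nat.card A)) (Subgroup.centralizer (A : Set G)),
      Q₁.map (MulAut.conj k).toMonoidHom = Q₂ := by
  have _hs : IsSimpleGroup G := hG.2.1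
  have _hqf : Fact q.Prime := ⟨hq⟩
  obtain ⟨p, hp, B, hBZ, hBel, hBcard⟩ := exists_elemAb_of_not_rankLE hZ
  have _hpf : Fact p.Prime := ⟨hp⟩
  have hBA : B ≤ A := hBZ.trans inf_le_left
  -- a nontrivial `A`-invariant `q`-subgroup: a Sylow `q`-subgroup of `C_G(A)`
  set C : Subgroup G := Subgroup.centralizer (A : Set G) with hC
  obtain ⟨S⟩ : Nonempty (Sylow q ↥C) := inferInstance
  set S' : Subgroup G := (S : Subgroup ↥C).map C.subtype with hS'
  have hS'C : S' ≤ C := Subgroup.map_subtype_le _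
  have hS'q : IsPGroup q ↥S' := S.isPGroup'.map _
  have hS'ne : S' ≠ ⊥ := by
    intro h
    have hcard : Nat.card S' = Nat.card (S : Subgroup ↥C) :=
      Subgroup.card_map_of_injective C.subtype_injective
    rw [h, Subgroup.card_bot] at hcard
    have h2 : q ∣ Nat.card (S : Subgroup ↥C) := by
      rw [Sylow.card_eq_multiplicity]
      exact dvd_pow_self q (Nat.Prime.factorization_pos_of_dvd hq Nat.card_pos.ne' hqC).ne'
    rw [← hcard] at h2
    exact hq.one_lt.ne' (Nat.dvd_one.mp h2)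
  have hAS' : A ≤ Subgroup.normalizer (S' : Set G) := by
    apply AInv.le_normalizer
    intro a ha y hy
    have hyC : y ∈ C := hS'C hy
    have : a * y * a⁻¹ = y := by
      rw [(Subgroup.mem_centralizer_iff.mp hyC a ha), mul_inv_cancel_right]
    rw [this]
    exact hy
  obtain ⟨Q₀, hQ₀, hS'Q₀⟩ := exists_maxInv_ge (mem_invSubgroups_of_isPGroup hq hS'q hAS')
  have hpA : p ∣ Nat.card A := by
    have h1 : p ∣ Nat.card B := dvd_trans (dvd_pow_self p (Nat.succ_ne_zero _)) (by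
      have hBp : IsPGroup p ↥B := isPGroup_of_exponent B hBel.2
      obtain ⟨n, hn⟩ := IsPGroup.iff_card.mp hBp
      rw [hn] at hBcard ⊢
      exact pow_dvd_pow p ((Nat.pow_le_pow_iff_right hp.one_lt).mp hBcard))
    exact h1.trans (Subgroup.card_dvd_of_le hBA)
  -- every maximal member is conjugate to `Q₀`
  have key : ∀ Q ∈ maxInvSubgroups ⊤ A {q},
      ∃ k ∈ piCoreOf (primesNotDvd (Nat.card A)) C, Q.map (MulAut.conj k).toMonoidHom = Q₀ := by
    intro Q hQ
    have hQq := isPGroup_of_mem_maxInv hq hQ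
    have hAQ : A ≤ Subgroup.normalizer (Q : Set G) := hQ.1.2.2
    have hQne : Q ≠ ⊥ := by
      intro h
      have := hQ.2 S' (mem_invSubgroups_of_isPGroup hq hS'q hAS') (by rw [h]; exact bot_le)
      exact hS'ne (this.trans h)
    have hpQ : ¬ p ∣ Nat.card Q := by
      intro hdvd
      have := primes_singleton_of_isPGroup hq hQq p hp hdvd
      rw [Set.mem_singleton_iff] at this
      subst this
      exact hqA hpA
    obtain ⟨b, hb, hb1, hbQ⟩ := exists_centralizer_inf_ne_bot hBel hBcard (hBA.trans hAQ) hpQ hQne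
    have hH : Subgroup.centralizer ({b} : Set G) ≠ ⊤ :=
      centralizer_singleton_ne_top_of_simple hG.2.2.1 hb1
    have hAH : A ≤ Subgroup.centralizer ({b} : Set G) := by
      intro x hx
      rw [Subgroup.mem_centralizer_iff]
      intro y hy
      rw [Set.mem_singleton_iff] at hy
      subst hy
      have haC : y ∈ Subgroup.centralizer (A : Set G) := (hBZ hb).2
      exact (Subgroup.mem_centralizer_iff.mp haC x hx).symm
    have hH₀ : Subgroup.centralizer ({b} : Set G) ⊓ Q₀ ≠ ⊥ := by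
      intro h
      apply hS'ne
      rw [eq_bot_iff, ← h]
      refine le_inf ?_ hS'Q₀
      exact hS'C.trans (Subgroup.centralizer_le (Set.singleton_subset_iff.mpr (hBA hb)))
    exact bg_transitivity_of_common hG hA hq hqA hQ hQ₀ hH hAH hbQ hH₀
  obtain ⟨k₁, hk₁, he₁⟩ := key Q₁ h₁
  obtain ⟨k₂, hk₂, he₂⟩ := key Q₂ h₂
  refine ⟨k₂⁻¹ * k₁, Subgroup.mul_mem _ (Subgroup.inv_mem _ hk₂) hk₁, ?_⟩
  rw [← map_conj_mul, he₁, ← he₂, map_conj_mul, inv_mul_cancel, map_conj_one]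

end Cfsg.Agent.Helper31
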