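import Cfsg.Agent.Helper31.BGTrans2

/-!
# Bender–Glauberman Theorem 7.5 (helper31)
-/

set_option autoImplicit false
open Cfsg

namespace Cfsg.Agent.Helper31

open scoped commutatorElement
open scoped Pointwise

variable {G : Type*} [Group G]

/-! ### Conjugation by elements of the normalizer -/

theorem le_normalizer_map_conj_of_mem_normalizer {A Y : Subgroup G}
    (hY : A ≤ Subgroup.normalizer (Y : Set G)) {x : G}
    (hx : x ∈ Subgroup.normalizer (A : Set G)) :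
    A ≤ Subgroup.normalizer ((Y.map (MulAut.conj x).toMonoidHom : Subgroup G) : Set G) := by
  apply AInv.le_normalizer
  intro a ha y hy
  rw [mem_map_conj_iff] at hy ⊢
  have ha' : x⁻¹ * a * x ∈ A := (Subgroup.mem_normalizer_iff''.mp hx a).mp ha
  have h1 := ainv_of_le_normalizer hY _ ha' _ hy
  have e : x⁻¹ * (a * y * a⁻¹) * x = x⁻¹ * a * x * (x⁻¹ * y * x) * (x⁻¹ * a * x)⁻¹ := by group
  rw [e]
  exact h1

theorem invSubgroups_map_conj_of_normalizer [Finite G] {A Y : Subgroup G} {π : Set ℕ}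
    (hY : Y ∈ invSubgroups ⊤ A π) {x : G} (hx : x ∈ Subgroup.normalizer (A : Set G)) :
    Y.map (MulAut.conj x).toMonoidHom ∈ invSubgroups ⊤ A π := by
  refine ⟨le_top, ?_, le_normalizer_map_conj_of_mem_normalizer hY.2.2 hx⟩
  rw [bgt_card_map_conj]
  exact hY.2.1

theorem maxInvSubgroups_map_conj_of_normalizer [Finite G] {A Q : Subgroup G} {π : Set ℕ}
    (hQ : Q ∈ maxInvSubgroups ⊤ A π) {x : G} (hx : x ∈ Subgroup.normalizer (A : Set G)) :
    Q.map (MulAut.conj x).toMonoidHom ∈ maxInvSubgroups ⊤ A π := by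
  refine ⟨invSubgroups_map_conj_of_normalizer hQ.1 hx, ?_⟩
  intro R hR hle
  have hx' : x⁻¹ ∈ Subgroup.normalizer (A : Set G) := Subgroup.inv_mem _ hx
  have h1 := hQ.2 _ (invSubgroups_map_conj_of_normalizer hR hx') (by
    intro y hy
    rw [mem_map_conj_iff]
    apply hle
    rw [mem_map_conj_iff]
    simpa [mul_assoc] using hy)
  rw [← h1, map_conj_mul, mul_inv_cancel, map_conj_one]

theorem normalizer_le_normalizer_centralizer (A : Subgroup G) :
    Subgroup.normalizer (A : Set G) ≤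
      Subgroup.normalizer ((Subgroup.centralizer (A : Set G) : Subgroup G) : Set G) := by
  apply AInv.le_normalizer
  intro x hx c hc
  rw [Subgroup.mem_centralizer_iff] at hc ⊢
  intro a ha
  have ha' : x⁻¹ * a * x ∈ A := (Subgroup.mem_normalizer_iff''.mp hx a).mp ha
  have h1 := hc _ ha'
  calc a * (x * c * x⁻¹) = x * ((x⁻¹ * a * x) * c) * x⁻¹ := by group
    _ = x * (c * (x⁻¹ * a * x)) * x⁻¹ := by rw [h1]
    _ = x * c * x⁻¹ * a := by group

theorem normalizer_le_normalizer_piCoreOf [Finite G] (π : Set ℕ) (X : Subgroup G) :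
    Subgroup.normalizer (X : Set G) ≤
      Subgroup.normalizer ((piCoreOf π X : Subgroup G) : Set G) := by
  apply AInv.le_normalizer
  intro g hg o ho
  set O' : Subgroup G := (piCoreOf π X).map (MulAut.conj g).toMonoidHom with hO'
  have hO'X : O' ≤ X := by
    intro y hy
    rw [mem_map_conj_iff] at hy
    have h1 : g⁻¹ * y * g ∈ X := piCoreOf_le π X hy
    have h2 := (Subgroup.mem_normalizer_iff.mp hg (g⁻¹ * y * g)).mp h1
    have e : g * (g⁻¹ * y * g) * g⁻¹ = y := by group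
    rwa [e] at h2
  have hXO' : X ≤ Subgroup.normalizer (O' : Set G) := by
    apply AInv.le_normalizer
    intro x hx y hy
    rw [mem_map_conj_iff] at hy ⊢
    have hx' : g⁻¹ * x * g ∈ X := (Subgroup.mem_normalizer_iff''.mp hg x).mp hx
    have h1 := conj_mem_piCoreOf hx' hy
    have e : g⁻¹ * (x * y * x⁻¹) * g = g⁻¹ * x * g * (g⁻¹ * y * g) * (g⁻¹ * x * g)⁻¹ := by group
    rw [e]
    exact h1
  have hle : O' ≤ piCoreOf π X := by
    apply le_piCoreOf_of_normal hO'X hXO'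
    rw [bgt_card_map_conj]
    exact piCoreOf_primes π X
  apply hle
  rw [mem_map_conj_iff]
  have e : g⁻¹ * (g * o * g⁻¹) * g = o := by group
  rw [e]
  exact ho

/-! ### Sets of primes -/

theorem coprime_card_of_primes [Finite G] {A P Y : Subgroup G}
    (hP : ∀ r : ℕ, r.Prime → r ∣ Nat.card P → r ∣ Nat.card A)
    (hY : ∀ r : ℕ, r.Prime → r ∣ Nat.card Y → r ∈ primesNotDvd (Nat.card A)) :
    (Nat.card P).Coprime (Nat.card Y) := by
  by_contra h
  obtain ⟨r, hr, h1, h2⟩ := Nat.Prime.not_coprime_iff_dvd.mp h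
  exact (hY r hr h2).2 (hP r hr h1)

theorem primesNotDvd_eq_of_le [Finite G] {A B P : Subgroup G} (hAB : A ≤ B) (hBP : B ≤ P)
    (hP : ∀ r : ℕ, r.Prime → r ∣ Nat.card P → r ∣ Nat.card A) :
    primesNotDvd (Nat.card B) = primesNotDvd (Nat.card A) := by
  ext r
  constructor
  · rintro ⟨hr, h⟩
    exact ⟨hr, fun h' => h (h'.trans (Subgroup.card_dvd_of_le hAB))⟩
  · rintro ⟨hr, h⟩
    exact ⟨hr, fun h' => h (hP r hr (h'.trans (Subgroup.card_dvd_of_le hBP)))⟩

/-- The transitivity hypothesis passes to overgroups with the same prime divisors. -/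
theorem transitivityHypothesis_of_le [Finite G] {A B P : Subgroup G}
    (hA : TransitivityHypothesis A) (hAB : A ≤ B) (hBP : B ≤ P) (hPtop : P ≠ ⊤)
    (hP : ∀ r : ℕ, r.Prime → r ∣ Nat.card P → r ∣ Nat.card A) : TransitivityHypothesis B := by
  have hπ := primesNotDvd_eq_of_le hAB hBP hP
  refine ⟨?_, ?_, ?_⟩
  · intro h
    apply hA.1
    rw [eq_bot_iff, ← h]
    exact hAB
  · intro h
    apply hPtop
    rw [eq_top_iff, ← h]
    exact hBP
  · intro X hX hBX
    rw [hπ]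
    apply le_antisymm
    · apply sSup_le
      rintro Y ⟨hYX, hYπ, hBY⟩
      exact le_piCoreOf_of_transitivityHypothesis hA hX (hAB.trans hBX) hYX hYπ (hAB.trans hBY)
    · apply le_sSup
      exact ⟨piCoreOf_le _ X, piCoreOf_primes _ X, hBX.trans (le_normalizer_piCoreOf _ X)⟩

/-- Theorem 7.5 (a). -/
theorem bg_core_centralizer [Finite G] [IsSimpleGroup G] {A P : Subgroup G}
    (hA : TransitivityHypothesis A) (hAP : A ≤ P) :
    piCoreOf (primesNotDvd (Nat.card A)) (Subgroup.centralizer (A : Set G)) ⊓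
        Subgroup.centralizer (P : Set G) =
      piCoreOf (primesNotDvd (Nat.card A)) (Subgroup.centralizer (P : Set G)) := by
  set π' := primesNotDvd (Nat.card A) with hπ'
  have hCC : Subgroup.centralizer (P : Set G) ≤ Subgroup.centralizer (A : Set G) :=
    Subgroup.centralizer_le hAP
  apply le_antisymm
  · apply le_piCoreOf_of_normal inf_le_right
    · apply AInv.le_normalizer
      intro c hc o ho
      refine Subgroup.mem_inf.mpr ⟨conj_mem_piCoreOf (hCC hc) ho.1, ?_⟩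
      exact Subgroup.mul_mem _ (Subgroup.mul_mem _ hc ho.2) (Subgroup.inv_mem _ hc)
    · intro r hr hdvd
      exact piCoreOf_primes π' _ r hr (hdvd.trans (Subgroup.card_dvd_of_le inf_le_left))
  · refine le_inf ?_ (piCoreOf_le _ _)
    set N : Subgroup G := Subgroup.normalizer (A : Set G) with hN
    have hNtop : N ≠ ⊤ := bgt_normalizer_ne_top_of_simple hA.1 hA.2.1
    have hAN : A ≤ N := Subgroup.le_normalizer
    set KP := piCoreOf π' (Subgroup.centralizer (P : Set G)) with hKP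
    have hKPC : KP ≤ Subgroup.centralizer (A : Set G) := (piCoreOf_le _ _).trans hCC
    have hKPN : KP ≤ N := hKPC.trans (Subgroup.centralizer_le_normalizer (A : Set G))
    have hAKP : A ≤ Subgroup.normalizer (KP : Set G) := by
      apply AInv.le_normalizer
      intro a ha y hy
      have hyC : y ∈ Subgroup.centralizer (A : Set G) := hKPC hy
      have : a * y * a⁻¹ = y := by
        rw [(Subgroup.mem_centralizer_iff.mp hyC a ha), mul_inv_cancel_right]
      rw [this]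
      exact hy
    have h1 : KP ≤ piCoreOf π' N :=
      le_piCoreOf_of_transitivityHypothesis hA hNtop hAN hKPN (piCoreOf_primes π' _) hAKP
    exact (le_inf h1 hKPC).trans (piCoreOf_inf_centralizer_le hA hNtop hAN)

/-! ### The normal case -/

theorem le_normalizer_bot (A : Subgroup G) :
    A ≤ Subgroup.normalizer (((⊥ : Subgroup G) : Subgroup G) : Set G) := by
  apply AInv.le_normalizer
  intro b _ u hu
  rw [Subgroup.mem_bot] at hu ⊢
  rw [hu, mul_one, mul_inv_cancel]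

/-- If `A ⊴ P`, then `P` fixes a maximal `A`-invariant `q`-subgroup, and the fixed ones are
conjugate under `O_{π'}(C_G(A)) ∩ C_G(P)`. -/
theorem bg_normal_fixed [Finite G] (hG : IsMinSimpleOddOrder G) {A P : Subgroup G}
    {q : ℕ} (hP : P ≠ ⊤) (hPN : P ≤ Subgroup.normalizer (A : Set G))
    (hPπ : ∀ r : ℕ, r.Prime → r ∣ Nat.card P → r ∣ Nat.card A)
    (htr : ∀ Q₁ ∈ maxInvSubgroups ⊤ A {q}, ∀ Q₂ ∈ maxInvSubgroups ⊤ A {q},
      ∃ k ∈ piCoreOf (primesNotDvd (Nat.card A)) (Subgroup.centralizer (A : Set G)),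
        Q₂ = Q₁.map (MulAut.conj k).toMonoidHom) :
    (∃ Q ∈ maxInvSubgroups ⊤ A {q}, P ≤ Subgroup.normalizer (Q : Set G)) ∧
    (∀ Q₁ ∈ maxInvSubgroups ⊤ A {q}, ∀ Q₂ ∈ maxInvSubgroups ⊤ A {q},
      P ≤ Subgroup.normalizer (Q₁ : Set G) → P ≤ Subgroup.normalizer (Q₂ : Set G) →
      ∃ c ∈ piCoreOf (primesNotDvd (Nat.card A)) (Subgroup.centralizer (A : Set G)) ⊓
          Subgroup.centralizer (P : Set G), Q₂ = Q₁.map (MulAut.conj c).toMonoidHom) := by
  set π' := primesNotDvd (Nat.card A) with hπ'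
  set K : Subgroup G := piCoreOf π' (Subgroup.centralizer (A : Set G)) with hK
  have hKC : K ≤ Subgroup.centralizer (A : Set G) := piCoreOf_le _ _
  have hPK : P ≤ Subgroup.normalizer (K : Set G) :=
    hPN.trans ((normalizer_le_normalizer_centralizer A).trans
      (normalizer_le_normalizer_piCoreOf π' _))
  have hcop : (Nat.card P).Coprime (Nat.card K) :=
    coprime_card_of_primes hPπ (piCoreOf_primes π' _)
  have hPsolv : Group.IsSolvable ↥P := hG.2.2.2 P hP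
  letI := Cfsg.Agent.Helper1.conjActSubgroup G
  have hsmul : ∀ (g : G) (S : Subgroup G), g • S = S.map (MulAut.conj g).toMonoidHom :=
    fun _ _ => rfl
  obtain ⟨⟨Q, hQ, hfix⟩, h2⟩ := Cfsg.Agent.Helper1.glauberman_ambient (Ω := Subgroup G) P K hPK
    hcop (Or.inl hPsolv) (maxInvSubgroups ⊤ A {q})
    (by
      obtain ⟨Q, hQ, -⟩ := exists_maxInv_ge (A := A) (U := ⊥) (π := {q})
        ⟨le_top, by
          intro r hr hdvd
          rw [Subgroup.card_bot] at hdvd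
          exact absurd (Nat.dvd_one.mp hdvd) hr.one_lt.ne', le_normalizer_bot A⟩
      exact ⟨Q, hQ⟩)
    (fun k hk S hS => by
      rw [hsmul]; exact maxInvSubgroups_map_conj hS (hKC hk))
    (fun a ha S hS => by
      rw [hsmul]; exact maxInvSubgroups_map_conj_of_normalizer hS (hPN ha))
    (by
      intro Q₁ hQ₁ Q₂ hQ₂
      obtain ⟨k, hk, hke⟩ := htr Q₁ hQ₁ Q₂ hQ₂
      exact ⟨k, hk, by rw [hsmul, hke]⟩)
  refine ⟨⟨Q, hQ, fun x hx => Cfsg.Agent.Helper1.mem_normalizer_of_conj_smul_eq ?_⟩, ?_⟩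
  · have := hfix x hx
    rw [hsmul] at this
    exact this
  · intro Q₁ hQ₁ Q₂ hQ₂ hPQ₁ hPQ₂
    obtain ⟨c, hc, hce⟩ := h2 Q₁ hQ₁ Q₂ hQ₂
      (fun a ha => by
        rw [hsmul]; exact Cfsg.Agent.Helper1.conj_smul_eq_of_mem_normalizer (hPQ₁ ha))
      (fun a ha => by
        rw [hsmul]; exact Cfsg.Agent.Helper1.conj_smul_eq_of_mem_normalizer (hPQ₂ ha))
    refine ⟨c, hc, ?_⟩
    rw [← hce, hsmul]

theorem le_map_conj_of_mem_normalizer {Q T : Subgroup G} {k : G}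
    (hk : k ∈ Subgroup.normalizer (Q : Set G)) (h : Q ≤ T) :
    Q ≤ T.map (MulAut.conj k).toMonoidHom := by
  have h1 := Cfsg.Agent.Helper1.conj_smul_eq_of_mem_normalizer hk
  rw [conj_smul_eq_map] at h1
  rw [← h1]
  exact Subgroup.map_mono h

/-- If `A ⊴ P`, every maximal `P`-invariant `q`-subgroup is a maximal `A`-invariant one. -/
theorem bg_normal_max_sub [Finite G] (hG : IsMinSimpleOddOrder G) {A P : Subgroup G}
    (hA : TransitivityHypothesis A) {q : ℕ} (hq : q.Prime) (hqA : ¬ q ∣ Nat.card A)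
    (hP : P ≠ ⊤) (hAP : A ≤ P) (hPN : P ≤ Subgroup.normalizer (A : Set G))
    (hPπ : ∀ r : ℕ, r.Prime → r ∣ Nat.card P → r ∣ Nat.card A)
    (htr : ∀ Q₁ ∈ maxInvSubgroups ⊤ A {q}, ∀ Q₂ ∈ maxInvSubgroups ⊤ A {q},
      ∃ k ∈ piCoreOf (primesNotDvd (Nat.card A)) (Subgroup.centralizer (A : Set G)),
        Q₂ = Q₁.map (MulAut.conj k).toMonoidHom) :
    maxInvSubgroups ⊤ P {q} ⊆ maxInvSubgroups ⊤ A {q} := by
  have _hs : IsSimpleGroup G := hG.2.1
  have _hqf : Fact q.Prime := ⟨hq⟩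
  intro Q₁ hQ₁
  have hPQ₁ : P ≤ Subgroup.normalizer (Q₁ : Set G) := hQ₁.1.2.2
  have hAQ₁ : A ≤ Subgroup.normalizer (Q₁ : Set G) := hAP.trans hPQ₁
  have hQ₁q : IsPGroup q Q₁ := isPGroup_of_primes_singleton hq hQ₁.1.2.1
  have hQ₁invA : Q₁ ∈ invSubgroups ⊤ A {q} := ⟨le_top, hQ₁.1.2.1, hAQ₁⟩
  by_contra hnot
  have hex : ∃ R ∈ invSubgroups ⊤ A {q}, Q₁ ≤ R ∧ R ≠ Q₁ := by
    by_contra h
    push Not at h
    exact hnot ⟨hQ₁invA, h⟩
  obtain ⟨R, hR, hQ₁R, hRne⟩ := hex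
  have hlt : Q₁ < R := lt_of_le_of_ne hQ₁R (Ne.symm hRne)
  by_cases hbot : Q₁ = ⊥
  · obtain ⟨⟨Q, hQ, hPQ⟩, -⟩ := bg_normal_fixed hG hP hPN hPπ htr
    have hQinvP : Q ∈ invSubgroups ⊤ P {q} := ⟨le_top, hQ.1.2.1, hPQ⟩
    have := hQ₁.2 Q hQinvP (by rw [hbot]; exact bot_le)
    rw [this] at hQ
    exact hnot hQ
  · have hQ₁top : Q₁ ≠ ⊤ := by
      intro h
      have hAq : IsPGroup q A := hQ₁q.to_le (by rw [h]; exact le_top)
      obtain ⟨n, hn⟩ := IsPGroup.iff_card.mp hAq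
      rcases Nat.eq_zero_or_pos n with h0 | h0
      · subst h0
        rw [pow_zero] at hn
        exact hA.1 (Subgroup.card_eq_one.mp hn)
      · exact hqA (hn ▸ dvd_pow_self q h0.ne')
    set N : Subgroup G := Subgroup.normalizer (Q₁ : Set G) with hN
    have hNtop : N ≠ ⊤ := bgt_normalizer_ne_top_of_simple hbot hQ₁top
    have hAN : A ≤ N := hAQ₁
    set π' := primesNotDvd (Nat.card A) with hπ'
    set O : Subgroup G := piCoreOf π' N with hO
    have hON : O ≤ N := piCoreOf_le π' N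
    have hNsolv : Group.IsSolvable ↥N := hG.2.2.2 N hNtop
    have hOsolv : Group.IsSolvable ↥O :=
      Group.isSolvable_of_isSolvable_injective (Subgroup.inclusion_injective hON)
    have hPsolv : Group.IsSolvable ↥P := hG.2.2.2 P hP
    have hcopA : (Nat.card A).Coprime (Nat.card O) :=
      coprime_card_of_primesNotDvd (piCoreOf_primes π' N)
    have hNO : N ≤ Subgroup.normalizer (O : Set G) := le_normalizer_piCoreOf π' N
    have hAO : A ≤ Subgroup.normalizer (O : Set G) := hAN.trans hNO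
    have hPO : P ≤ Subgroup.normalizer (O : Set G) := hPQ₁.trans hNO
    have hQ₁O : Q₁ ≤ O := le_piCoreOf_of_transitivityHypothesis hA hNtop hAN
      Subgroup.le_normalizer (primesNotDvd_of_isPGroup hq hqA hQ₁q) hAQ₁
    have hRq : IsPGroup q R := isPGroup_of_primes_singleton hq hR.2.1
    have hAR : A ≤ Subgroup.normalizer (R : Set G) := hR.2.2
    set R₁ : Subgroup G := R ⊓ N with hR₁
    have hlt₁ : Q₁ < R₁ := bgt_lt_inf_normalizer_of_lt hRq hlt
    have hR₁q : IsPGroup q R₁ := hRq.to_le inf_le_left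
    have hR₁A : A ≤ Subgroup.normalizer (R₁ : Set G) :=
      ((ainv_of_le_normalizer hAR).inf (ainv_of_le_normalizer hAQ₁).normalizer).le_normalizer
    have hR₁O : R₁ ≤ O := le_piCoreOf_of_transitivityHypothesis hA hNtop hAN inf_le_right
      (primesNotDvd_of_isPGroup hq hqA hR₁q) hR₁A
    set K' : Subgroup G := O ⊓ Subgroup.centralizer (A : Set G) with hK'
    have hPK' : P ≤ Subgroup.normalizer (K' : Set G) :=
      ((ainv_of_le_normalizer hPO).inf (ainv_of_le_normalizer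
        (hPN.trans (normalizer_le_normalizer_centralizer A)))).le_normalizer
    have hcopP : (Nat.card P).Coprime (Nat.card K') :=
      coprime_card_of_primes hPπ (fun r hr hdvd =>
        piCoreOf_primes π' N r hr (hdvd.trans (Subgroup.card_dvd_of_le inf_le_left)))
    letI := Cfsg.Agent.Helper1.conjActSubgroup G
    have hsmul : ∀ (g : G) (S : Subgroup G), g • S = MulAut.conj g • S := fun _ _ => rfl
    obtain ⟨⟨S₀, hS₀, hfix⟩, -⟩ := Cfsg.Agent.Helper1.glauberman_ambient (Ω := Subgroup G) P K'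
      hPK' hcopP (Or.inl hPsolv)
      {T | T ∈ Cfsg.Agent.Helper1.sylowSet q O ∧ A ≤ Subgroup.normalizer (T : Set G) ∧ Q₁ ≤ T}
      (by
        obtain ⟨P', hQP', hAP'⟩ := Cfsg.Agent.S0025.result A O hAO hcopA (Or.inr hOsolv) q Q₁
          hQ₁O hQ₁q hAQ₁
        exact ⟨_, ⟨P', rfl⟩, hAP', hQP'⟩)
      (fun k hk T hT => by
        rw [hsmul]
        refine ⟨Cfsg.Agent.Helper1.conj_mem_sylowSet (Subgroup.le_normalizer hk.1) hT.1, ?_, ?_⟩
        · exact bgt_le_normalizer_map_conj hT.2.1 hk.2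
        · exact le_map_conj_of_mem_normalizer (hON hk.1) hT.2.2)
      (fun a ha T hT => by
        rw [hsmul]
        refine ⟨Cfsg.Agent.Helper1.conj_mem_sylowSet (hPO ha) hT.1, ?_, ?_⟩
        · exact le_normalizer_map_conj_of_mem_normalizer hT.2.1 (hPN ha)
        · exact le_map_conj_of_mem_normalizer (hPQ₁ ha) hT.2.2)
      (by
        rintro T ⟨⟨P₁, rfl⟩, h1, -⟩ T' ⟨⟨P₂, rfl⟩, h2, -⟩
        obtain ⟨c, hc, hce⟩ := Cfsg.Agent.Helper1.invariant_sylow_conj A O hAO hcopA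
          (Or.inr hOsolv) q P₁ P₂ h1 h2
        exact ⟨c, hc, hce⟩)
    obtain ⟨⟨P₀, rfl⟩, hAS₀, hQ₁S₀⟩ := hS₀
    have hPS₀ : P ≤ Subgroup.normalizer
        ((((P₀ : Subgroup ↥O).map O.subtype : Subgroup G)) : Set G) := fun a ha =>
      Cfsg.Agent.Helper1.mem_normalizer_of_conj_smul_eq (hfix a ha)
    have hS₀q : IsPGroup q ↥((P₀ : Subgroup ↥O).map O.subtype) := P₀.isPGroup'.map _
    have hS₀eq : (P₀ : Subgroup ↥O).map O.subtype = Q₁ :=
      hQ₁.2 _ ⟨le_top, primes_singleton_of_isPGroup hq hS₀q, hPS₀⟩ hQ₁S₀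
    obtain ⟨P'', hR₁P'', -⟩ := Cfsg.Agent.S0025.result A O hAO hcopA (Or.inr hOsolv) q R₁
      hR₁O hR₁q hR₁A
    have hc1 : Nat.card ((P'' : Subgroup ↥O).map O.subtype) = Nat.card (P'' : Subgroup ↥O) :=
      Subgroup.card_map_of_injective O.subtype_injective
    have hc0 : Nat.card ((P₀ : Subgroup ↥O).map O.subtype) = Nat.card (P₀ : Subgroup ↥O) :=
      Subgroup.card_map_of_injective O.subtype_injective
    have hc2 : Nat.card (P'' : Subgroup ↥O) = Nat.card (P₀ : Subgroup ↥O) := by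
      rw [Sylow.card_eq_multiplicity, Sylow.card_eq_multiplicity]
    have h3 : Nat.card R₁ ≤ Nat.card Q₁ := by
      calc Nat.card R₁ ≤ Nat.card ((P'' : Subgroup ↥O).map O.subtype) :=
            Subgroup.card_le_of_le hR₁P''
        _ = Nat.card Q₁ := by rw [hc1, hc2, ← hc0, hS₀eq]
    exact absurd (card_lt_card_of_lt hlt₁) (not_lt.mpr h3)

/-- Normal case of Theorem 7.5 (b). -/
theorem bg_normal_trans [Finite G] (hG : IsMinSimpleOddOrder G) {A P : Subgroup G}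
    (hA : TransitivityHypothesis A) {q : ℕ} (hq : q.Prime) (hqA : ¬ q ∣ Nat.card A)
    (hP : P ≠ ⊤) (hAP : A ≤ P) (hPN : P ≤ Subgroup.normalizer (A : Set G))
    (hPπ : ∀ r : ℕ, r.Prime → r ∣ Nat.card P → r ∣ Nat.card A)
    (htr : ∀ Q₁ ∈ maxInvSubgroups ⊤ A {q}, ∀ Q₂ ∈ maxInvSubgroups ⊤ A {q},
      ∃ k ∈ piCoreOf (primesNotDvd (Nat.card A)) (Subgroup.centralizer (A : Set G)),
        Q₂ = Q₁.map (MulAut.conj k).toMonoidHom) :
    ∀ Q₁ ∈ maxInvSubgroups ⊤ P {q}, ∀ Q₂ ∈ maxInvSubgroups ⊤ P {q},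
      ∃ k ∈ piCoreOf (primesNotDvd (Nat.card A)) (Subgroup.centralizer (P : Set G)),
        Q₂ = Q₁.map (MulAut.conj k).toMonoidHom := by
  have _hs : IsSimpleGroup G := hG.2.1
  intro Q₁ hQ₁ Q₂ hQ₂
  have hsub := bg_normal_max_sub hG hA hq hqA hP hAP hPN hPπ htr
  obtain ⟨c, hc, hce⟩ := (bg_normal_fixed hG hP hPN hPπ htr).2 Q₁ (hsub hQ₁) Q₂ (hsub hQ₂)
    hQ₁.1.2.2 hQ₂.1.2.2
  rw [bg_core_centralizer hA hAP] at hc
  exact ⟨c, hc, hce⟩

/-- Theorem 7.5 (b), (c) by induction along a subnormal chain. -/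
theorem bg_subnormal_aux [Finite G] (hG : IsMinSimpleOddOrder G) {q : ℕ} (hq : q.Prime)
    {P : Subgroup G} (hP : P ≠ ⊤) :
    ∀ H : Subgroup ↥P, H.IsSubnormal → ∀ A : Subgroup G, A = H.map P.subtype →
      TransitivityHypothesis A → ¬ q ∣ Nat.card A →
      (∀ r : ℕ, r.Prime → r ∣ Nat.card P → r ∣ Nat.card A) →
      (∀ Q₁ ∈ maxInvSubgroups ⊤ A {q}, ∀ Q₂ ∈ maxInvSubgroups ⊤ A {q},
        ∃ k ∈ piCoreOf (primesNotDvd (Nat.card A)) (Subgroup.centralizer (A : Set G)),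
          Q₂ = Q₁.map (MulAut.conj k).toMonoidHom) →
      (∀ Q₁ ∈ maxInvSubgroups ⊤ P {q}, ∀ Q₂ ∈ maxInvSubgroups ⊤ P {q},
        ∃ k ∈ piCoreOf (primesNotDvd (Nat.card A)) (Subgroup.centralizer (P : Set G)),
          Q₂ = Q₁.map (MulAut.conj k).toMonoidHom) ∧
      maxInvSubgroups ⊤ P {q} ⊆ maxInvSubgroups ⊤ A {q} := by
  intro H hH
  induction hH with
  | top =>
    intro A hAeq hA hqA hPπ htr
    have hAP : A = P := by
      rw [hAeq, ← MonoidHom.range_eq_map, Subgroup.range_subtype]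
    subst hAP
    exact ⟨htr, subset_rfl⟩
  | step H K hHK hK hN ih =>
    intro A hAeq hA hqA hPπ htr
    subst hAeq
    set B : Subgroup G := K.map P.subtype with hB
    have hAB : H.map P.subtype ≤ B := Subgroup.map_mono hHK
    have hBP : B ≤ P := Subgroup.map_subtype_le _
    have hBN : B ≤ Subgroup.normalizer ((H.map P.subtype : Subgroup G) : Set G) := by
      rw [Subgroup.normal_subgroupOf_iff_le_normalizer hHK] at hN
      apply AInv.le_normalizer
      rintro _ ⟨k, hk, rfl⟩ _ ⟨h, hh, rfl⟩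
      have h1 := (Subgroup.mem_normalizer_iff.mp (hN hk) h).mp hh
      exact ⟨k * h * k⁻¹, h1, by simp⟩
    have hBtop : B ≠ ⊤ := fun h => hP (eq_top_iff.mpr (h ▸ hBP))
    have hBπ : ∀ r : ℕ, r.Prime → r ∣ Nat.card B → r ∣ Nat.card (H.map P.subtype) :=
      fun r hr h => hPπ r hr (h.trans (Subgroup.card_dvd_of_le hBP))
    have hπeq := primesNotDvd_eq_of_le hAB hBP hPπ
    have hBhyp : TransitivityHypothesis B := transitivityHypothesis_of_le hA hAB hBP hP hPπ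
    have htrB := bg_normal_trans hG hA hq hqA hBtop hAB hBN hBπ htr
    have hsubB := bg_normal_max_sub hG hA hq hqA hBtop hAB hBN hBπ htr
    have hqB : ¬ q ∣ Nat.card B := fun h => hqA (hBπ q hq h)
    have hPπB : ∀ r : ℕ, r.Prime → r ∣ Nat.card P → r ∣ Nat.card B :=
      fun r hr h => (hPπ r hr h).trans (Subgroup.card_dvd_of_le hAB)
    obtain ⟨h1, h2⟩ := ih B rfl hBhyp hqB hPπB (by rw [hπeq]; exact htrB)
    rw [hπeq] at h1
    exact ⟨h1, h2.trans hsubB⟩

/-! ### Theorem 7.5 (d) -/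

/-- Frattini argument. -/
theorem bg_frattini [Finite G] {P Q : Subgroup G} {q : ℕ} {π : Set ℕ}
    (hb : ∀ Q₁ ∈ maxInvSubgroups ⊤ P {q}, ∀ Q₂ ∈ maxInvSubgroups ⊤ P {q},
      ∃ k ∈ piCoreOf π (Subgroup.centralizer (P : Set G)),
        Q₂ = Q₁.map (MulAut.conj k).toMonoidHom)
    (hQ : Q ∈ maxInvSubgroups ⊤ P {q}) :
    Subgroup.normalizer (P : Set G) =
      piCoreOf π (Subgroup.centralizer (P : Set G)) ⊔
        (Subgroup.normalizer (P : Set G) ⊓ Subgroup.normalizer (Q : Set G)) := by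
  have hKN : piCoreOf π (Subgroup.centralizer (P : Set G)) ≤ Subgroup.normalizer (P : Set G) :=
    (piCoreOf_le _ _).trans (Subgroup.centralizer_le_normalizer (P : Set G))
  apply le_antisymm
  · intro n hn
    have hQ' := maxInvSubgroups_map_conj_of_normalizer hQ hn
    obtain ⟨k, hk, hke⟩ := hb Q hQ _ hQ'
    have hm : Q.map (MulAut.conj (k⁻¹ * n)).toMonoidHom = Q := by
      rw [← map_conj_mul, hke, map_conj_mul, inv_mul_cancel, map_conj_one]
    have hmQ : k⁻¹ * n ∈ Subgroup.normalizer (Q : Set G) :=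
      Cfsg.Agent.Helper1.mem_normalizer_of_conj_smul_eq hm
    have hmP : k⁻¹ * n ∈ Subgroup.normalizer (P : Set G) :=
      Subgroup.mul_mem _ (Subgroup.inv_mem _ (hKN hk)) hn
    have e : n = k * (k⁻¹ * n) := by group
    rw [e]
    exact Subgroup.mul_mem_sup hk (Subgroup.mem_inf.mpr ⟨hmP, hmQ⟩)
  · exact sup_le hKN inf_le_left

theorem commutator_self_le (M : Subgroup G) : ⁅M, M⁆ ≤ M := by
  rw [Subgroup.commutator_le]
  intro a ha b hb
  rw [commutatorElement_def]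
  exact M.mul_mem (M.mul_mem (M.mul_mem ha hb) (M.inv_mem ha)) (M.inv_mem hb)

theorem le_normalizer_commutator_self (M : Subgroup G) :
    M ≤ Subgroup.normalizer ((⁅M, M⁆ : Subgroup G) : Set G) := by
  apply AInv.le_normalizer
  intro m hm d hd
  have hdM : d ∈ M := commutator_self_le M hd
  have h1 : ⁅m, d⁆ ∈ ⁅M, M⁆ := Subgroup.commutator_mem_commutator hm hdM
  have e : m * d * m⁻¹ = ⁅m, d⁆ * d := by
    rw [commutatorElement_def]; group
  rw [e]
  exact Subgroup.mul_mem _ h1 hd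

theorem bg_derived [Finite G] {P Q C : Subgroup G}
    (hNC : Subgroup.normalizer (P : Set G) ≤ Subgroup.normalizer (C : Set G))
    (hcop : (Nat.card P).Coprime (Nat.card C))
    (hfr : Subgroup.normalizer (P : Set G) =
      C ⊔ (Subgroup.normalizer (P : Set G) ⊓ Subgroup.normalizer (Q : Set G)))
    (hPQ : P ≤ Subgroup.normalizer (Q : Set G)) :
    P ⊓ ⁅Subgroup.normalizer (P : Set G), Subgroup.normalizer (P : Set G)⁆ ≤
      ⁅Subgroup.normalizer (Q : Set G), Subgroup.normalizer (Q : Set G)⁆ := by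
  set N : Subgroup G := Subgroup.normalizer (P : Set G) with hN
  set M : Subgroup G := N ⊓ Subgroup.normalizer (Q : Set G) with hM
  set D : Subgroup G := ⁅M, M⁆ with hD
  have hPM : P ≤ M := le_inf Subgroup.le_normalizer hPQ
  have hMC : M ≤ Subgroup.normalizer (C : Set G) := inf_le_left.trans hNC
  have hDM : D ≤ M := commutator_self_le M
  have hMD : M ≤ Subgroup.normalizer (D : Set G) := le_normalizer_commutator_self M
  have hconjC : ∀ m ∈ M, ∀ c ∈ C, m * c * m⁻¹ ∈ C := fun m hm c hc =>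
    (Subgroup.mem_normalizer_iff.mp (hMC hm) c).mp hc
  have hdecomp : ∀ g ∈ N, ∃ c ∈ C, ∃ m ∈ M, c * m = g := by
    intro g hg
    have : g ∈ ((C ⊔ M : Subgroup G) : Set G) := by rw [← hfr]; exact hg
    rw [Subgroup.coe_mul_of_right_le_normalizer_left C M hMC] at this
    obtain ⟨c, hc, m, hm, hcm⟩ := Set.mem_mul.mp this
    exact ⟨c, hc, m, hm, hcm⟩
  -- Step A
  have hA : ⁅N, N⁆ ≤ C ⊔ D := by
    rw [Subgroup.commutator_le]
    intro g₁ hg₁ g₂ hg₂
    obtain ⟨c₁, hc₁, m₁, hm₁, rfl⟩ := hdecomp g₁ hg₁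
    obtain ⟨c₂, hc₂, m₂, hm₂, rfl⟩ := hdecomp g₂ hg₂
    have hu : m₁ * m₂ * m₁⁻¹ ∈ M := M.mul_mem (M.mul_mem hm₁ hm₂) (M.inv_mem hm₁)
    have hw : m₁ * m₂ * m₁⁻¹ * m₂⁻¹ ∈ M := M.mul_mem hu (M.inv_mem hm₂)
    have h1 : m₁ * c₂ * m₁⁻¹ ∈ C := hconjC m₁ hm₁ c₂ hc₂
    have h2 : (m₁ * m₂ * m₁⁻¹) * c₁⁻¹ * (m₁ * m₂ * m₁⁻¹)⁻¹ ∈ C :=
      hconjC _ hu _ (C.inv_mem hc₁)
    have h3 : (m₁ * m₂ * m₁⁻¹ * m₂⁻¹) * c₂⁻¹ * (m₁ * m₂ * m₁⁻¹ * m₂⁻¹)⁻¹ ∈ C :=
      hconjC _ hw _ (C.inv_mem hc₂)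
    have e : ⁅c₁ * m₁, c₂ * m₂⁆ =
        (c₁ * (m₁ * c₂ * m₁⁻¹) * ((m₁ * m₂ * m₁⁻¹) * c₁⁻¹ * (m₁ * m₂ * m₁⁻¹)⁻¹) *
          ((m₁ * m₂ * m₁⁻¹ * m₂⁻¹) * c₂⁻¹ * (m₁ * m₂ * m₁⁻¹ * m₂⁻¹)⁻¹)) * ⁅m₁, m₂⁆ := by
      rw [commutatorElement_def, commutatorElement_def]; group
    rw [e]
    exact Subgroup.mul_mem_sup (C.mul_mem (C.mul_mem (C.mul_mem hc₁ h1) h2) h3)
      (Subgroup.commutator_mem_commutator hm₁ hm₂)
  intro x hx
  obtain ⟨hxP, hxN⟩ := Subgroup.mem_inf.mp hx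
  have hxCD : x ∈ ((C ⊔ D : Subgroup G) : Set G) := hA hxN
  rw [Subgroup.coe_mul_of_right_le_normalizer_left C D (hDM.trans hMC)] at hxCD
  obtain ⟨c, hc, d, hd, hcd⟩ := Set.mem_mul.mp hxCD
  have hcM : c ∈ M := by
    have : c = x * d⁻¹ := by rw [← hcd]; group
    rw [this]
    exact M.mul_mem (hPM hxP) (M.inv_mem (hDM hd))
  -- Step C
  have hpow : ∀ k : ℕ, ∃ d' ∈ D, (c * d) ^ k = c ^ k * d' := by
    intro k
    induction k with
    | zero => exact ⟨1, D.one_mem, by simp⟩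
    | succ k ih =>
      obtain ⟨d', hd', hk⟩ := ih
      have h1 : c⁻¹ * d' * c ∈ D := by
        have := (Subgroup.mem_normalizer_iff.mp (hMD (M.inv_mem hcM)) d').mp hd'
        simpa using this
      refine ⟨c⁻¹ * d' * c * d, D.mul_mem h1 hd, ?_⟩
      rw [pow_succ, hk, pow_succ]; group
  obtain ⟨d', hd', hk⟩ := hpow (orderOf c)
  rw [pow_orderOf_eq_one, one_mul, hcd] at hk
  have hxe : x ^ orderOf c ∈ D := hk ▸ hd'
  have hcop' : (orderOf c).Coprime (orderOf x) := by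
    have h1 : orderOf x ∣ Nat.card P := Subgroup.orderOf_dvd_natCard P hxP
    have h2 : orderOf c ∣ Nat.card C := Subgroup.orderOf_dvd_natCard C hc
    exact (Nat.Coprime.coprime_dvd_left h1 (Nat.Coprime.coprime_dvd_right h2 hcop)).symm
  obtain ⟨j, hj⟩ := exists_pow_eq_self_of_coprime hcop'
  have hxD : x ∈ D := by
    rw [← hj]
    exact D.pow_mem hxe j
  exact Subgroup.commutator_mono inf_le_right inf_le_right hxD

end Cfsg.Agent.Helper31
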