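import Mathlib
import Cfsg.Agent.S1394
import Cfsg.Agent.S1395
import Cfsg.Agent.S1396
import Cfsg.Agent.Helper31.BGTrans3
import Cfsg.Agent.Helper22.BG117
import Cfsg.Agent.Helper50.DerivedKillsAction
import Cfsg.Agent.Helper32.Narrow
import Cfsg.Agent.Helper23.RankTwo

set_option autoImplicit false
set_option linter.unusedSectionVars false
set_option linter.unusedVariables false
set_option linter.style.haveILetI false

/-!
# B-G Proposition 10.11 (the "signalizer" lemma SIG of board #2910) (helper31)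

`A` elementary abelian of order `p ^ 2`, maximal elementary abelian in the minimal simple group of odd
order `G`; `r ≠ p` a prime dividing `|C_G(A)|`; `R` an `A`-invariant `r`-subgroup containing an
elementary abelian subgroup `W` of order `r ^ 2` which is maximal elementary abelian in `G`.
Then `A` centralizes `R`.

The proof uses B-G 7.4 (S1394), 7.5 (S1395), 7.6 (S1396), the statement shapes of S1410 (`hPL`) and
S1411 (`h1411`), and the fact that the derived group of an odd order solvable group acting on a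
"narrow" `r`-group acts as an `r`-group (helper50 `commutator_centralizes_of_rank_two`, helper32
`narrow_commutator_aut`).
-/

namespace Cfsg.Agent.Helper31.BGSig

open Cfsg Cfsg.Agent.Helper31
open scoped commutatorElement

variable {G : Type*} [Group G] [Finite G]

/-- An elementary abelian subgroup commuting elementwise with a maximal elementary abelian subgroup
`W` lies in `W`. -/
theorem le_of_commute_of_maximal {r : ℕ} {W B : Subgroup G} (hW : IsElementaryAbelian r W)
    (hWmax : ∀ B : Subgroup G, IsElementaryAbelian r B → W ≤ B → B = W)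
    (hB : IsElementaryAbelian r B) (hc : ∀ w ∈ W, ∀ b ∈ B, w * b = b * w) : B ≤ W := by
  have h1 := Cfsg.Agent.Helper23.isElementaryAbelian_sup_of_commute hW hB hc
  have h2 := hWmax _ h1 le_sup_left
  rw [← h2]
  exact le_sup_right

/-- `x ^ r = 1` makes `⟨x⟩` elementary abelian. -/
theorem isElementaryAbelian_zpowers' {r : ℕ} {x : G} (hx : x ^ r = 1) :
    IsElementaryAbelian r (Subgroup.zpowers x) := by
  refine ⟨?_, ?_⟩
  · rw [Cfsg.Agent.Helper23.isMulCommutative_subgroup_iff]
    intro a ha b hb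
    obtain ⟨i, rfl⟩ := Subgroup.mem_zpowers_iff.mp ha
    obtain ⟨j, rfl⟩ := Subgroup.mem_zpowers_iff.mp hb
    rw [← zpow_add, ← zpow_add, add_comm]
  · intro a ha
    obtain ⟨i, rfl⟩ := Subgroup.mem_zpowers_iff.mp ha
    rw [← zpow_natCast, ← zpow_mul, mul_comm, zpow_mul, zpow_natCast, hx, one_zpow]

/-- **Narrow action lemma.** `Q` an `r`-subgroup (`r` odd) containing a subgroup `W` of order `r ^ 2`
which is a maximal elementary abelian subgroup of `G`; `N_G(Q)` solvable of odd order.  Then every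
`r'`-element of the derived group of `N_G(Q)` centralizes `Q`. -/
theorem centralizes_of_mem_commutator_normalizer {r : ℕ} [Fact r.Prime] (hr2 : r ≠ 2)
    (Q : Subgroup G) (hQ : IsPGroup r Q)
    (hNsolv : Group.IsSolvable ↥(Subgroup.normalizer (Q : Set G)))
    (hNodd : Odd (Nat.card ↥(Subgroup.normalizer (Q : Set G))))
    (W : Subgroup G) (hW : IsElementaryAbelian r W) (hW2 : Nat.card W = r ^ 2) (hWQ : W ≤ Q)
    (hWmax : ∀ B : Subgroup G, IsElementaryAbelian r B → W ≤ B → B = W)
    (a : G)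
    (ha : a ∈ ⁅Subgroup.normalizer (Q : Set G), Subgroup.normalizer (Q : Set G)⁆)
    (hcop : (orderOf a).Coprime r) : ∀ x ∈ Q, a * x = x * a := by
  classical
  by_cases hrk : PRankLE r 2 ↥Q
  · exact Cfsg.Agent.Helper50.commutator_centralizes_of_rank_two hr2 _ Q hNsolv hNodd le_rfl hQ
      hrk a ha hcop
  · -- the narrow case
    set E : Subgroup ↥Q := W.subgroupOf Q with hE
    have hWc := (Cfsg.Agent.Helper23.isMulCommutative_subgroup_iff W).mp hW.1
    have hEel : IsElementaryAbelian r E := by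
      refine ⟨?_, ?_⟩
      · rw [Cfsg.Agent.Helper23.isMulCommutative_subgroup_iff]
        intro x hx y hy
        apply Subtype.ext
        exact hWc _ (Subgroup.mem_subgroupOf.mp hx) _ (Subgroup.mem_subgroupOf.mp hy)
      · intro x hx
        apply Subtype.ext
        have := hW.2 _ (Subgroup.mem_subgroupOf.mp hx)
        simpa using this
    have hCE : PRankLE r 2 ↥(Subgroup.centralizer (E : Set ↥Q)) := by
      intro B hBc hBe
      let f : ↥(Subgroup.centralizer (E : Set ↥Q)) →* G :=
        Q.subtype.comp (Subgroup.centralizer (E : Set ↥Q)).subtype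
      have hf : Function.Injective f := by
        intro x y hxy
        apply Subtype.ext
        apply Subtype.ext
        exact hxy
      have hcard : Nat.card (B.map f) = Nat.card B :=
        Nat.card_congr (B.equivMapOfInjective f hf).symm.toEquiv
      rw [Cfsg.Agent.Helper23.isMulCommutative_subgroup_iff] at hBc
      have hB' : IsElementaryAbelian r (B.map f) := by
        refine ⟨?_, ?_⟩
        · rw [Cfsg.Agent.Helper23.isMulCommutative_subgroup_iff]
          rintro _ ⟨x, hx, rfl⟩ _ ⟨y, hy, rfl⟩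
          rw [← map_mul, ← map_mul, hBc x hx y hy]
        · rintro _ ⟨x, hx, rfl⟩
          rw [← map_pow, hBe x hx, map_one]
      have hcomm : ∀ w ∈ W, ∀ b ∈ B.map f, w * b = b * w := by
        rintro w hw _ ⟨x, hx, rfl⟩
        have hwE : (⟨w, hWQ hw⟩ : ↥Q) ∈ E := Subgroup.mem_subgroupOf.mpr hw
        have h1 := Subgroup.mem_centralizer_iff.mp x.2 ⟨w, hWQ hw⟩ hwE
        exact congrArg Subtype.val h1
      have hle := le_of_commute_of_maximal hW hWmax hB' hcomm
      calc Nat.card B = Nat.card (B.map f) := hcard.symm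
        _ ≤ Nat.card W := Subgroup.card_le_of_le hle
        _ = r ^ 2 := hW2
    have key := Cfsg.Agent.Helper32.Narrow.narrow_commutator_aut r hr2 hQ hrk E hEel hCE
    let φ : ↥(Subgroup.normalizer (Q : Set G)) →* MulAut ↥Q := Q.normalizerMonoidHom
    have hφ_apply : ∀ (n : ↥(Subgroup.normalizer (Q : Set G))) (x : ↥Q),
        ((φ n x : ↥Q) : G) = n * x * (n : G)⁻¹ := by
      intro n x
      rfl
    rw [← Subgroup.map_subtype_commutator (Subgroup.normalizer (Q : Set G))] at ha
    obtain ⟨a', ha', rfl⟩ := ha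
    have hφa : φ a' ∈ commutator (MulAut ↥Q) := by
      have h1 : (commutator ↥(Subgroup.normalizer (Q : Set G))).map φ ≤ commutator (MulAut ↥Q) := by
        rw [commutator_def, commutator_def, Subgroup.map_commutator]
        exact Subgroup.commutator_mono le_top le_top
      exact h1 (Subgroup.mem_map_of_mem _ ha')
    obtain ⟨i, hi⟩ := key _ hφa
    have ho : orderOf (φ a') ∣ orderOf ((a' : ↥(Subgroup.normalizer (Q : Set G))) : G) := by
      rw [Subgroup.orderOf_coe]
      exact orderOf_map_dvd _ a'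
    have h1 : orderOf (φ a') = 1 :=
      Nat.Coprime.eq_one_of_dvd ((hcop.coprime_dvd_left ho).pow_right i)
        (orderOf_dvd_of_pow_eq_one hi)
    have hφ1 : φ a' = 1 := orderOf_eq_one_iff.mp h1
    intro x hx
    have h2 : φ a' ⟨x, hx⟩ = ⟨x, hx⟩ := by rw [hφ1]; rfl
    have h3 : ((a' : ↥(Subgroup.normalizer (Q : Set G))) : G) * x *
        ((a' : ↥(Subgroup.normalizer (Q : Set G))) : G)⁻¹ = x := by
      have := congrArg Subtype.val h2
      rwa [hφ_apply] at this
    calc ((a' : ↥(Subgroup.normalizer (Q : Set G))) : G) * x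
        = (((a' : ↥(Subgroup.normalizer (Q : Set G))) : G) * x *
            ((a' : ↥(Subgroup.normalizer (Q : Set G))) : G)⁻¹) * a' := by group
      _ = x * a' := by rw [h3]

/-- **SIG (B-G Proposition 10.11).** -/
theorem sig (hG : IsMinSimpleOddOrder G)
    (hPL : ∀ (q : ℕ) [Fact q.Prime] (H : Subgroup G), H ≠ ⊤ → PLengthLE q 1 ↥H)
    (h1411 : ∀ (q : ℕ) [Fact q.Prime] (P : Sylow q G),
      (P : Subgroup G) ≤ ⁅Subgroup.normalizer ((P : Subgroup G) : Set G),
        Subgroup.normalizer ((P : Subgroup G) : Set G)⁆)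
    {p : ℕ} [Fact p.Prime] (A : Subgroup G) (hA : IsElementaryAbelian p A)
    (hA2 : Nat.card A = p ^ 2)
    (hAmax : ∀ B : Subgroup G, IsElementaryAbelian p B → A ≤ B → B = A)
    {r : ℕ} (hr : r.Prime) (hrp : r ≠ p)
    (hrC : r ∣ Nat.card (Subgroup.centralizer (A : Set G)))
    (R : Subgroup G) (hR : IsPGroup r R) (hAR : A ≤ Subgroup.normalizer (R : Set G))
    (W : Subgroup G) (hW : IsElementaryAbelian r W) (hW2 : Nat.card W = r ^ 2) (hWR : W ≤ R)
    (hWmax : ∀ B : Subgroup G, IsElementaryAbelian r B → W ≤ B → B = W) :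
    A ≤ Subgroup.centralizer (R : Set G) := by
  classical
  have hpp : p.Prime := Fact.out
  haveI : Fact r.Prime := ⟨hr⟩
  haveI : IsSimpleGroup G := hG.2.1
  have hr2 : r ≠ 2 := by
    rintro rfl
    have h2 : 2 ∣ Nat.card G := hrC.trans (Subgroup.card_subgroup_dvd_card _)
    exact (Nat.not_even_iff_odd.mpr hG.1) (even_iff_two_dvd.mpr h2)
  have hAp : IsPGroup p A := IsPGroup.of_card hA2
  have hAc : IsMulCommutative A := hA.1
  have hAcc := (Cfsg.Agent.Helper23.isMulCommutative_subgroup_iff A).mp hAc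
  have hAcomm : A ≤ Subgroup.centralizer (A : Set G) := by
    intro a ha
    rw [Subgroup.mem_centralizer_iff]
    intro b hb
    exact hAcc b hb a ha
  have hA1 : ∀ x ∈ Subgroup.centralizer (A : Set G), x ^ p = 1 ↔ x ∈ A := by
    intro x hx
    constructor
    · intro hxp
      have hz := isElementaryAbelian_zpowers' (r := p) hxp
      have hc : ∀ a ∈ A, ∀ b ∈ Subgroup.zpowers x, a * b = b * a := by
        intro a ha b hb
        obtain ⟨i, rfl⟩ := Subgroup.mem_zpowers_iff.mp hb
        have h0 : a * x = x * a := Subgroup.mem_centralizer_iff.mp hx a ha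
        exact ((Commute.zpow_right h0 i : Commute a (x ^ i))).eq
      exact le_of_commute_of_maximal hA hAmax hz hc (Subgroup.mem_zpowers x)
    · exact hA.2 x
  have hp2lt : p < p ^ 2 := by
    have := hpp.two_le
    nlinarith
  have hArk : ¬ PRankLE p 1 ↥A := by
    intro h
    have h1 := h ⊤ (by
      rw [Cfsg.Agent.Helper23.isMulCommutative_subgroup_iff]
      intro a _ b _
      exact hAc.is_comm.comm a b) (by
      intro a _
      apply Subtype.ext
      have := hA.2 a.1 a.2
      simpa using this)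
    rw [Subgroup.card_top, hA2, pow_one] at h1
    omega
  have hpA : p ∣ Nat.card A := by rw [hA2]; exact dvd_pow_self p (by norm_num)
  have hpG : p ∣ Nat.card G := hpA.trans (Subgroup.card_subgroup_dvd_card A)
  have hTH : TransitivityHypothesis A :=
    Cfsg.Agent.S1396.result hG p hpG A hAp hAc (Or.inl ⟨hA1, fun H hH => hPL p H hH⟩)
  have hAeq : A ⊓ Subgroup.centralizer (A : Set G) = A := inf_of_le_left hAcomm
  have hZ' : ¬ RankLE 1 ↥(A ⊓ Subgroup.centralizer (A : Set G)) := by
    rw [hAeq]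
    intro h
    exact hArk (h p hpp)
  have hrA : ¬ r ∣ Nat.card A := by
    rw [hA2]
    intro hd
    exact hrp ((Nat.prime_dvd_prime_iff_eq hr hpp).mp (hr.dvd_of_dvd_pow hd))
  have htr := Cfsg.Agent.S1394.result hG A hTH hZ' r hr hrA hrC
  obtain ⟨Phat, hAP⟩ := hAp.exists_le_sylow
  have hPtop : (Phat : Subgroup G) ≠ ⊤ :=
    Cfsg.Agent.Helper29.BG10.isPGroup_ne_top hG Phat.isPGroup'
  have hPπ : ∀ s : ℕ, s.Prime → s ∣ Nat.card (Phat : Subgroup G) → s ∣ Nat.card A := by
    intro s hs hd
    obtain ⟨j, hj⟩ := IsPGroup.iff_card.mp Phat.isPGroup'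
    rw [hj] at hd
    have : s = p := (Nat.prime_dvd_prime_iff_eq hs hpp).mp (hs.dvd_of_dvd_pow hd)
    rw [this]
    exact hpA
  have hsn : (A.subgroupOf (Phat : Subgroup G)).IsSubnormal := by
    haveI : Group.IsNilpotent ↥(Phat : Subgroup G) := Phat.isPGroup'.isNilpotent
    exact Cfsg.Agent.Helper22.BG117.isSubnormal_of_isNilpotent _
  obtain ⟨-, -, hc, hd⟩ :=
    Cfsg.Agent.S1395.result hG A hTH r hr hrA (Phat : Subgroup G) hPtop hPπ hAP hsn htr
  obtain ⟨Qt, hQt, -⟩ := exists_maxInv_ge (A := (Phat : Subgroup G)) (π := {r})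
    (mem_invSubgroups_of_isPGroup hr (IsPGroup.of_bot : IsPGroup r (⊥ : Subgroup G))
      (le_normalizer_bot (Phat : Subgroup G)))
  have hQtA : Qt ∈ maxInvSubgroups ⊤ A {r} := hc hQt
  obtain ⟨Q₁, hQ₁, hRQ₁⟩ := exists_maxInv_ge (mem_invSubgroups_of_isPGroup hr hR hAR)
  obtain ⟨c, hcK, hce⟩ := htr Q₁ hQ₁ Qt hQtA
  have hcC : c ∈ Subgroup.centralizer (A : Set G) := piCoreOf_le _ _ hcK
  have hAN : A ≤ ⁅Subgroup.normalizer (Qt : Set G), Subgroup.normalizer (Qt : Set G)⁆ :=
    (hAP.trans (le_inf le_rfl (h1411 p Phat))).trans (hd Qt hQt).1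
  -- transport to `Q₁` by conjugation with `c⁻¹`
  set f : G ≃* G := MulAut.conj c⁻¹ with hf
  have hQ₁eq : Qt.map f.toMonoidHom = Q₁ := by
    rw [hce, Subgroup.map_map]
    have hid : f.toMonoidHom.comp (MulAut.conj c).toMonoidHom = MonoidHom.id G := by
      ext y
      simp [hf, MulAut.conj_apply]
      group
    rw [hid, Subgroup.map_id]
  have hmap : (⁅Subgroup.normalizer (Qt : Set G), Subgroup.normalizer (Qt : Set G)⁆).map
      f.toMonoidHom =
      ⁅Subgroup.normalizer (Q₁ : Set G), Subgroup.normalizer (Q₁ : Set G)⁆ := by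
    rw [Subgroup.map_commutator, Subgroup.map_equiv_normalizer_eq, hQ₁eq]
  have hAN₁ : A ≤ ⁅Subgroup.normalizer (Q₁ : Set G), Subgroup.normalizer (Q₁ : Set G)⁆ := by
    intro a ha
    rw [← hmap]
    refine ⟨a, hAN ha, ?_⟩
    have h0 : a * c = c * a := Subgroup.mem_centralizer_iff.mp hcC a ha
    show f a = a
    simp only [hf, MulAut.conj_apply, inv_inv]
    calc c⁻¹ * a * c = c⁻¹ * (a * c) := by group
      _ = c⁻¹ * (c * a) := by rw [h0]
      _ = a := by group
  have hQ₁p : IsPGroup r Q₁ := isPGroup_of_mem_maxInv hr hQ₁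
  intro a ha
  rw [Subgroup.mem_centralizer_iff]
  intro x hx
  by_cases hQbot : Q₁ = ⊥
  · have : x = 1 := by
      have := hRQ₁ hx
      rw [hQbot, Subgroup.mem_bot] at this
      exact this
    rw [this, one_mul, mul_one]
  have hQtop : Q₁ ≠ ⊤ := Cfsg.Agent.Helper29.BG10.isPGroup_ne_top hG hQ₁p
  have hNtop : Subgroup.normalizer (Q₁ : Set G) ≠ ⊤ := bgt_normalizer_ne_top_of_simple hQbot hQtop
  have hNsolv : Group.IsSolvable ↥(Subgroup.normalizer (Q₁ : Set G)) := hG.2.2.2 _ hNtop
  have hNodd : Odd (Nat.card ↥(Subgroup.normalizer (Q₁ : Set G))) :=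
    Odd.of_dvd_nat hG.1 (Subgroup.card_subgroup_dvd_card _)
  have hcop : (orderOf a).Coprime r := by
    obtain ⟨k, hk⟩ := hAp ⟨a, ha⟩
    have hk' : a ^ p ^ k = 1 := by simpa using congrArg Subtype.val hk
    have hdvd : orderOf a ∣ p ^ k := orderOf_dvd_of_pow_eq_one hk'
    have hcp : (p ^ k).Coprime r :=
      Nat.Coprime.pow_left k ((Nat.coprime_primes hpp hr).mpr (Ne.symm hrp))
    exact hcp.coprime_dvd_left hdvd
  have := centralizes_of_mem_commutator_normalizer hr2 Q₁ hQ₁p hNsolv hNodd W hW hW2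
    (hWR.trans hRQ₁) hWmax a (hAN₁ ha) hcop x (hRQ₁ hx)
  exact this.symm

/-- **SIG**, with the Uniqueness Theorem (S1403 shape) and S1410 shape as hypotheses (S1411 is then
helper22's `sylow_le_commutator_normalizer`). -/
theorem sig_of_uniqueness (hG : IsMinSimpleOddOrder G)
    (hU : Cfsg.Agent.Helper29.BG10.UniquenessThm G)
    (hPL : Cfsg.Agent.Helper22.BGCor107.PLenOne G)
    {p : ℕ} [Fact p.Prime] (A : Subgroup G) (hA : IsElementaryAbelian p A)
    (hA2 : Nat.card A = p ^ 2)
    (hAmax : ∀ B : Subgroup G, IsElementaryAbelian p B → A ≤ B → B = A)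
    {r : ℕ} (hr : r.Prime) (hrp : r ≠ p)
    (hrC : r ∣ Nat.card (Subgroup.centralizer (A : Set G)))
    (R : Subgroup G) (hR : IsPGroup r R) (hAR : A ≤ Subgroup.normalizer (R : Set G))
    (W : Subgroup G) (hW : IsElementaryAbelian r W) (hW2 : Nat.card W = r ^ 2) (hWR : W ≤ R)
    (hWmax : ∀ B : Subgroup G, IsElementaryAbelian r B → W ≤ B → B = W) :
    A ≤ Subgroup.centralizer (R : Set G) :=
  sig hG (fun q _ H hH => hPL q H hH)
    (fun q _ P => Cfsg.Agent.Helper22.BGCor107.sylow_le_commutator_normalizer hG hU hPL P)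
    A hA hA2 hAmax hr hrp hrC R hR hAR W hW hW2 hWR hWmax

end Cfsg.Agent.Helper31.BGSig
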