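import Mathlib

/-!
# The norm map of a group acting on an abelian subgroup (helper31; for Ward's theorem S3796, pieces W3/W4)

`exists_norm_map`: for `D ≤ N_H(V)`, `V` abelian, the map `e(v) = ∏_{d ∈ D} d v d⁻¹` and its properties,
stated elementwise in the ambient group.
-/

set_option autoImplicit false
set_option linter.unusedSectionVars false
set_option linter.unusedVariables false
set_option linter.style.haveILetI false

namespace Cfsg.Agent.Helper31.Ward

open Subgroup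
open scoped commutatorElement

variable {H : Type*} [Group H] [Finite H]

theorem exists_norm_map (V D : Subgroup H) (hVab : ∀ u ∈ V, ∀ v ∈ V, u * v = v * u)
    (hDV : D ≤ normalizer (V : Set H)) :
    ∃ e : H → H, (∀ v ∈ V, e v ∈ V) ∧ (∀ v ∈ V, ∀ w ∈ V, e (v * w) = e v * e w) ∧
      (∀ v ∈ V, ∀ d ∈ D, d * e v * d⁻¹ = e v) ∧
      (∀ v ∈ V, (∀ d ∈ D, d * v * d⁻¹ = v) → e v = v ^ Nat.card D) ∧
      (∀ v ∈ V, ∀ d ∈ D, e (d * v * d⁻¹) = e v) ∧
      (∀ g : H, g ∈ normalizer (V : Set H) →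
        (∀ d ∈ D, ∀ v ∈ V, (g * d * g⁻¹) * v * (g * d * g⁻¹)⁻¹ = d * v * d⁻¹) →
        ∀ v ∈ V, e (g * v * g⁻¹) = g * e v * g⁻¹) ∧
      (∀ v ∈ V, ∃ c ∈ ⁅V, D⁆, v ^ Nat.card D = e v * c) := by
  classical
  letI : CommGroup ↥V :=
    { (inferInstance : Group ↥V) with mul_comm := fun a b => Subtype.ext (hVab a a.2 b b.2) }
  haveI : Fintype ↥D := Fintype.ofFinite _
  have hconj : ∀ d : H, d ∈ normalizer (V : Set H) → ∀ v ∈ V, d * v * d⁻¹ ∈ V :=
    fun d hd v hv => (mem_normalizer_iff.1 hd v).1 hv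
  -- conjugation by an element of the normalizer, as an endomorphism of `V`
  let cg : ∀ g : H, g ∈ normalizer (V : Set H) → ↥V →* ↥V := fun g hg =>
    { toFun := fun v => ⟨g * v * g⁻¹, hconj g hg v v.2⟩
      map_one' := by
        apply Subtype.ext
        simp
      map_mul' := by
        intro a b
        apply Subtype.ext
        show g * ((a : H) * (b : H)) * g⁻¹ = (g * a * g⁻¹) * (g * b * g⁻¹)
        group }
  have hcg : ∀ (g : H) (hg : g ∈ normalizer (V : Set H)) (v : ↥V),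
      ((cg g hg v : ↥V) : H) = g * v * g⁻¹ := fun g hg v => rfl
  let c : ↥D → ↥V →* ↥V := fun d => cg d (hDV d.2)
  have hc : ∀ (d : ↥D) (v : ↥V), ((c d v : ↥V) : H) = d * v * (d : H)⁻¹ := fun d v => rfl
  let π : ↥V →* ↥V := ∏ d : ↥D, c d
  have hπ : ∀ v, π v = ∏ d : ↥D, c d v := fun v => MonoidHom.finset_prod_apply _ _ _
  have hcc : ∀ (d₁ d₂ : ↥D) (v : ↥V), c d₁ (c d₂ v) = c (d₁ * d₂) v := by
    intro d₁ d₂ v
    apply Subtype.ext
    rw [hc, hc, hc]
    show (d₁ : H) * ((d₂ : H) * v * (d₂ : H)⁻¹) * (d₁ : H)⁻¹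
      = ((d₁ : H) * (d₂ : H)) * v * ((d₁ : H) * (d₂ : H))⁻¹
    group
  refine ⟨fun x => if hx : x ∈ V then (π ⟨x, hx⟩ : H) else 1, ?_, ?_, ?_, ?_, ?_, ?_, ?_⟩
  · intro v hv
    simp only [hv, dif_pos]
    exact (π ⟨v, hv⟩).2
  · intro v hv w hw
    have hvw : v * w ∈ V := V.mul_mem hv hw
    simp only [hv, hw, hvw, dif_pos]
    have : (⟨v * w, hvw⟩ : ↥V) = ⟨v, hv⟩ * ⟨w, hw⟩ := rfl
    rw [this, map_mul]
    rfl
  · intro v hv d hd
    simp only [hv, dif_pos]
    have h1 : c ⟨d, hd⟩ (π ⟨v, hv⟩) = π ⟨v, hv⟩ := by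
      rw [hπ, map_prod]
      simp only [hcc]
      exact Fintype.prod_equiv (Equiv.mulLeft ⟨d, hd⟩) _ _ (fun x => rfl)
    have := congrArg (fun z : ↥V => (z : H)) h1
    simpa [hc] using this
  · intro v hv hfix
    simp only [hv, dif_pos]
    have h1 : ∀ d : ↥D, c d ⟨v, hv⟩ = ⟨v, hv⟩ := by
      intro d
      apply Subtype.ext
      rw [hc]
      exact hfix d d.2
    rw [hπ]
    simp only [h1, Finset.prod_const, Finset.card_univ, Nat.card_eq_fintype_card]
    rfl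
  · intro v hv d hd
    have hdv : d * v * d⁻¹ ∈ V := hconj d (hDV hd) v hv
    simp only [hv, hdv, dif_pos]
    have h1 : π ⟨d * v * d⁻¹, hdv⟩ = π ⟨v, hv⟩ := by
      have e1 : (⟨d * v * d⁻¹, hdv⟩ : ↥V) = c ⟨d, hd⟩ ⟨v, hv⟩ := rfl
      rw [e1, hπ, hπ]
      simp only [hcc]
      exact Fintype.prod_equiv (Equiv.mulRight ⟨d, hd⟩) _ _ (fun x => rfl)
    rw [h1]
  · intro g hg hact v hv
    have hgv : g * v * g⁻¹ ∈ V := hconj g hg v hv
    simp only [hv, hgv, dif_pos]
    have e1 : (⟨g * v * g⁻¹, hgv⟩ : ↥V) = cg g hg ⟨v, hv⟩ := rfl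
    have h1 : π (cg g hg ⟨v, hv⟩) = cg g hg (π ⟨v, hv⟩) := by
      rw [hπ, hπ, map_prod]
      apply Finset.prod_congr rfl
      intro d _
      apply Subtype.ext
      rw [hc, hcg g hg, hcg g hg, hc]
      have := hact d d.2 (g * v * g⁻¹) hgv
      rw [← this]
      group
    rw [e1, h1, hcg g hg]
  · intro v hv
    simp only [hv, dif_pos]
    set v' : ↥V := ⟨v, hv⟩ with hv'
    refine ⟨((∏ d : ↥D, v' * (c d v')⁻¹ : ↥V) : H), ?_, ?_⟩
    · have hle : ⁅V, D⁆ ≤ V := by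
        rw [Subgroup.commutator_le]
        intro a ha b hb
        rw [commutatorElement_def]
        have : a * b * a⁻¹ * b⁻¹ = a * (b * a⁻¹ * b⁻¹) := by group
        rw [this]
        exact V.mul_mem ha (hconj b (hDV hb) _ (V.inv_mem ha))
      have hmem : (∏ d : ↥D, v' * (c d v')⁻¹ : ↥V) ∈ (⁅V, D⁆).subgroupOf V := by
        apply Subgroup.prod_mem
        intro d _
        rw [Subgroup.mem_subgroupOf]
        have : ((v' * (c d v')⁻¹ : ↥V) : H) = ⁅v, (d : H)⁆ := by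
          rw [commutatorElement_def]
          show v * ((d : H) * v * (d : H)⁻¹)⁻¹ = v * d * v⁻¹ * (d : H)⁻¹
          group
        rw [this]
        exact Subgroup.commutator_mem_commutator hv d.2
      exact Subgroup.mem_subgroupOf.1 hmem
    · have h1 : (∏ d : ↥D, v' * (c d v')⁻¹ : ↥V) = v' ^ Nat.card D * (π v')⁻¹ := by
        rw [Finset.prod_mul_distrib, Finset.prod_inv_distrib, hπ]
        simp only [Finset.prod_const, Finset.card_univ, Nat.card_eq_fintype_card]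
      have h2 : v' ^ Nat.card D = π v' * (∏ d : ↥D, v' * (c d v')⁻¹ : ↥V) := by
        rw [h1]
        rw [mul_comm (v' ^ Nat.card D), ← mul_assoc, mul_inv_cancel, one_mul]
      have := congrArg (fun z : ↥V => (z : H)) h2
      simpa using this

end Cfsg.Agent.Helper31.Ward
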