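import Mathlib
import Cfsg.Agent.Helper31.WardNorm

/-!
# Ward's theorem S3796, pieces (W4) and (W3) (helper31, for helper21)

* `abelian_coprime_split` (W4): `V = C_V(T) × [V,T]` for an abelian `V` acted on coprimely by `T`.
* `ind_hyperplanes` (W3): independence of the fixed-point subgroups of the hyperplanes.
-/

set_option autoImplicit false
set_option linter.unusedSectionVars false
set_option linter.unusedVariables false
set_option linter.style.haveILetI false

namespace Cfsg.Agent.Helper31.Ward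

open Subgroup
open scoped commutatorElement

variable {H : Type*} [Group H] [Finite H]

/-- the kernel of a multiplicative map on `V`, as a subgroup of the ambient group -/
theorem exists_kernel (V : Subgroup H) (e : H → H)
    (hemul : ∀ v ∈ V, ∀ w ∈ V, e (v * w) = e v * e w) :
    ∃ K : Subgroup H, ∀ y : H, y ∈ K ↔ y ∈ V ∧ e y = 1 := by
  have he1 : e 1 = 1 := by
    have := hemul 1 V.one_mem 1 V.one_mem
    rw [mul_one] at this
    exact (mul_eq_left.1 this.symm)
  refine ⟨{ carrier := {y | y ∈ V ∧ e y = 1}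
            mul_mem' := ?_
            one_mem' := ⟨V.one_mem, he1⟩
            inv_mem' := ?_ }, fun y => Iff.rfl⟩
  · rintro a b ⟨ha, ha1⟩ ⟨hb, hb1⟩
    exact ⟨V.mul_mem ha hb, by rw [hemul a ha b hb, ha1, hb1, mul_one]⟩
  · rintro a ⟨ha, ha1⟩
    refine ⟨V.inv_mem ha, ?_⟩
    have := hemul a ha a⁻¹ (V.inv_mem ha)
    rw [mul_inv_cancel, he1, ha1, one_mul] at this
    exact this.symm

/-- **(W4)** coprime splitting, abelian case -/
theorem abelian_coprime_split (V T : Subgroup H)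
    (hVab : ∀ u ∈ V, ∀ v ∈ V, u * v = v * u) (hTV : T ≤ normalizer (V : Set H))
    (hcop : (Nat.card V).Coprime (Nat.card T)) :
    V ≤ (V ⊓ centralizer (T : Set H)) ⊔ ⁅V, T⁆ ∧ (V ⊓ centralizer (T : Set H)) ⊓ ⁅V, T⁆ = ⊥ := by
  obtain ⟨e, heV, hemul, hefix, hepow, heconj, -, hedec⟩ := exists_norm_map V T hVab hTV
  constructor
  · intro v hv
    obtain ⟨c, hc, hvc⟩ := hedec v hv
    have h1 : e v ∈ V ⊓ centralizer (T : Set H) := by
      refine mem_inf.2 ⟨heV v hv, ?_⟩
      rw [mem_centralizer_iff]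
      intro t ht
      have := hefix v hv t ht
      calc t * e v = t * e v * t⁻¹ * t := by group
        _ = e v * t := by rw [this]
    have h2 : v ^ Nat.card T ∈ (V ⊓ centralizer (T : Set H)) ⊔ ⁅V, T⁆ := by
      rw [hvc]
      exact mul_mem (mem_sup_left h1) (mem_sup_right hc)
    have hcop' : (Nat.card T).Coprime (orderOf v) :=
      (hcop.symm).coprime_dvd_right (Subgroup.orderOf_dvd_natCard V hv)
    obtain ⟨m, hm⟩ := exists_pow_eq_self_of_coprime hcop'
    rw [← hm]
    exact pow_mem h2 m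
  · rw [eq_bot_iff]
    intro x hx
    rw [mem_bot]
    obtain ⟨hx1, hxK⟩ := mem_inf.1 hx
    obtain ⟨hxV, hxC⟩ := mem_inf.1 hx1
    obtain ⟨K, hK⟩ := exists_kernel V e hemul
    have hle : ⁅V, T⁆ ≤ K := by
      rw [Subgroup.commutator_le]
      intro v hv t ht
      rw [hK, commutatorElement_def]
      have hconj : t * v⁻¹ * t⁻¹ ∈ V := (mem_normalizer_iff.1 (hTV ht) v⁻¹).1 (V.inv_mem hv)
      have e1 : v * t * v⁻¹ * t⁻¹ = v * (t * v⁻¹ * t⁻¹) := by group
      rw [e1]
      refine ⟨V.mul_mem hv hconj, ?_⟩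
      rw [hemul v hv _ hconj, heconj v⁻¹ (V.inv_mem hv) t ht, ← hemul v hv v⁻¹ (V.inv_mem hv),
        mul_inv_cancel]
      have := hemul 1 V.one_mem 1 V.one_mem
      rw [mul_one] at this
      exact (mul_eq_left.1 this.symm)
    have hex1 : e x = 1 := ((hK x).1 (hle hxK)).2
    have hfix : ∀ d ∈ T, d * x * d⁻¹ = x := by
      intro d hd
      have := mem_centralizer_iff.1 hxC d hd
      rw [this]; group
    have hpow : x ^ Nat.card T = 1 := by rw [← hepow x hxV hfix, hex1]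
    have h1 : orderOf x ∣ Nat.card T := orderOf_dvd_of_pow_eq_one hpow
    have h2 : orderOf x ∣ Nat.card V := Subgroup.orderOf_dvd_natCard V hxV
    exact orderOf_eq_one_iff.1 (Nat.eq_one_of_dvd_coprimes hcop h2 h1)

/-- two distinct subgroups of prime index generate -/
theorem le_sup_of_relIndex_prime {s : ℕ} (hs : s.Prime) {T D D' : Subgroup H} (hDT : D ≤ T)
    (hD'T : D' ≤ T) (hD : D.relIndex T = s) (hD' : D'.relIndex T = s) (hne : D' ≠ D) :
    T ≤ D ⊔ D' := by
  have hle : D ⊔ D' ≤ T := sup_le hDT hD'T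
  have h1 : D.relIndex (D ⊔ D') * (D ⊔ D').relIndex T = s := by
    rw [Subgroup.relIndex_mul_relIndex D (D ⊔ D') T le_sup_left hle, hD]
  have h2 : D.relIndex (D ⊔ D') ∣ s := Dvd.intro _ h1
  rcases (Nat.dvd_prime hs).1 h2 with h | h
  · exfalso
    have h3 : D ⊔ D' ≤ D := Subgroup.relIndex_eq_one.1 h
    have h4 : D' ≤ D := le_sup_right.trans h3
    have h5 : D'.relIndex D * D.relIndex T = D'.relIndex T :=
      Subgroup.relIndex_mul_relIndex D' D T h4 hDT
    rw [hD, hD'] at h5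
    have h6 : D'.relIndex D = 1 := by
      have : D'.relIndex D * s = 1 * s := by rw [h5, one_mul]
      exact Nat.eq_of_mul_eq_mul_right hs.pos this
    exact hne (le_antisymm h4 (Subgroup.relIndex_eq_one.1 h6))
  · rw [h] at h1
    have h3 : (D ⊔ D').relIndex T = 1 := by
      have : s * (D ⊔ D').relIndex T = s * 1 := by rw [h1, mul_one]
      exact Nat.eq_of_mul_eq_mul_left hs.pos this
    exact Subgroup.relIndex_eq_one.1 h3

/-- **(W3)** hyperplane independence -/
theorem ind_hyperplanes {s : ℕ} [Fact s.Prime] (V T S0 : Subgroup H)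
    (hVab : ∀ u ∈ V, ∀ v ∈ V, u * v = v * u) (hTV : T ≤ normalizer (V : Set H)) (hTs : IsPGroup s T)
    (hcop : (Nat.card V).Coprime s) (hS0T : S0 ≤ T) (hS0 : S0 ≤ centralizer (V : Set H))
    (hcomm : ∀ t ∈ T, ∀ u ∈ T, t * u * t⁻¹ * u⁻¹ ∈ S0)
    (hfix : V ⊓ centralizer (T : Set H) = ⊥)
    (D : Subgroup H) (hD : S0 ≤ D ∧ D ≤ T ∧ D.relIndex T = s) :
    (V ⊓ centralizer (D : Set H)) ⊓
      (⨆ D' : {D' : Subgroup H // (S0 ≤ D' ∧ D' ≤ T ∧ D'.relIndex T = s) ∧ D' ≠ D},
        V ⊓ centralizer ((D' : Subgroup H) : Set H)) = ⊥ := by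
  have hsp : s.Prime := Fact.out
  obtain ⟨hS0D, hDT, hDidx⟩ := hD
  obtain ⟨e, heV, hemul, hefix, hepow, -, hequiv, -⟩ := exists_norm_map V D hVab (hDT.trans hTV)
  obtain ⟨K, hK⟩ := exists_kernel V e hemul
  have hsup : (⨆ D' : {D' : Subgroup H // (S0 ≤ D' ∧ D' ≤ T ∧ D'.relIndex T = s) ∧ D' ≠ D},
      V ⊓ centralizer ((D' : Subgroup H) : Set H)) ≤ K := by
    apply iSup_le
    rintro ⟨D', ⟨hS0D', hD'T, hD'idx⟩, hne⟩
    intro v hv
    obtain ⟨hvV, hvC⟩ := mem_inf.1 hv
    rw [hK]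
    refine ⟨hvV, ?_⟩
    have hTle : T ≤ D ⊔ D' := le_sup_of_relIndex_prime hsp hDT hD'T hDidx hD'idx hne
    -- `e v` is fixed by `D`
    have h1 : ∀ d ∈ D, d * e v * d⁻¹ = e v := hefix v hvV
    -- `e v` is fixed by `D'`
    have h2 : ∀ d' ∈ D', d' * e v * d'⁻¹ = e v := by
      intro d' hd'
      have hact : ∀ d ∈ D, ∀ w ∈ V, (d' * d * d'⁻¹) * w * (d' * d * d'⁻¹)⁻¹ = d * w * d⁻¹ := by
        intro d hd w hw
        have hz : d' * d * d'⁻¹ * d⁻¹ ∈ S0 := hcomm d' (hD'T hd') d (hDT hd)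
        have hdw : d * w * d⁻¹ ∈ V := (mem_normalizer_iff.1 (hTV (hDT hd)) w).1 hw
        have hzc := mem_centralizer_iff.1 (hS0 hz) (d * w * d⁻¹) hdw
        calc (d' * d * d'⁻¹) * w * (d' * d * d'⁻¹)⁻¹
            = (d' * d * d'⁻¹ * d⁻¹) * (d * w * d⁻¹) * (d' * d * d'⁻¹ * d⁻¹)⁻¹ := by group
          _ = (d * w * d⁻¹) * (d' * d * d'⁻¹ * d⁻¹) * (d' * d * d'⁻¹ * d⁻¹)⁻¹ := by rw [hzc]
          _ = d * w * d⁻¹ := by group
      have h3 := hequiv d' (hTV (hD'T hd')) hact v hvV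
      have h4 : d' * v * d'⁻¹ = v := by
        have := mem_centralizer_iff.1 hvC d' hd'
        rw [this]; group
      rw [h4] at h3
      exact h3.symm
    -- so `e v ∈ V ⊓ C(T) = ⊥`
    have h5 : e v ∈ V ⊓ centralizer (T : Set H) := by
      refine mem_inf.2 ⟨heV v hvV, ?_⟩
      have h6 : D ⊔ D' ≤ centralizer ({e v} : Set H) := by
        apply sup_le
        · intro d hd
          rw [mem_centralizer_iff]
          intro z hz
          rw [Set.mem_singleton_iff.1 hz]
          have := h1 d hd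
          calc e v * d = d * e v * d⁻¹ * d := by rw [this]
            _ = d * e v := by group
        · intro d hd
          rw [mem_centralizer_iff]
          intro z hz
          rw [Set.mem_singleton_iff.1 hz]
          have := h2 d hd
          calc e v * d = d * e v * d⁻¹ * d := by rw [this]
            _ = d * e v := by group
      rw [mem_centralizer_iff]
      intro t ht
      have := mem_centralizer_iff.1 (h6 (hTle ht)) (e v) (Set.mem_singleton _)
      exact this.symm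
    rw [hfix, mem_bot] at h5
    exact h5
  rw [eq_bot_iff]
  intro w hw
  rw [mem_bot]
  obtain ⟨hw1, hw2⟩ := mem_inf.1 hw
  obtain ⟨hwV, hwC⟩ := mem_inf.1 hw1
  have hew : e w = 1 := ((hK w).1 (hsup hw2)).2
  have hfixw : ∀ d ∈ D, d * w * d⁻¹ = w := by
    intro d hd
    have := mem_centralizer_iff.1 hwC d hd
    rw [this]; group
  have hpow : w ^ Nat.card D = 1 := by rw [← hepow w hwV hfixw, hew]
  obtain ⟨k, hk⟩ := IsPGroup.iff_card.1 (hTs.to_le hDT)
  have h1 : orderOf w ∣ s ^ k := by rw [← hk]; exact orderOf_dvd_of_pow_eq_one hpow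
  have h2 : orderOf w ∣ Nat.card V := Subgroup.orderOf_dvd_natCard V hwV
  exact orderOf_eq_one_iff.1 (Nat.eq_one_of_dvd_coprimes (Nat.Coprime.pow_right k hcop) h2 h1)

end Cfsg.Agent.Helper31.Ward
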