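import Mathlib

/-!
# Fixed-point-free coprime action and element orders (pieces (T1), (T3) of the S2490 plan)
-/

set_option autoImplicit false

namespace Cfsg.Agent.Helper31.Fpf7920

open Subgroup

variable {G : Type*} [Group G]

/-- commuting nontrivial `q`- and `r`-elements give an element of order `q r` -/
theorem exists_orderOf_eq_mul {q r : ℕ} [Fact q.Prime] [Fact r.Prime] (hqr : q ≠ r)
    {x y : G} (hx : ∃ i, orderOf x = q ^ i) (hy : ∃ k, orderOf y = r ^ k) (hx1 : x ≠ 1)
    (hy1 : y ≠ 1) (hc : Commute x y) : ∃ g : G, orderOf g = q * r := by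
  have hq : q.Prime := Fact.out
  have hr : r.Prime := Fact.out
  obtain ⟨i, hi⟩ := hx
  obtain ⟨k, hk⟩ := hy
  have hi0 : i ≠ 0 := by
    rintro rfl
    rw [pow_zero, orderOf_eq_one_iff] at hi
    exact hx1 hi
  have hk0 : k ≠ 0 := by
    rintro rfl
    rw [pow_zero, orderOf_eq_one_iff] at hk
    exact hy1 hk
  have hqx : q ∣ orderOf x := by rw [hi]; exact dvd_pow_self q hi0
  have hry : r ∣ orderOf y := by rw [hk]; exact dvd_pow_self r hk0
  have hox : orderOf x ≠ 0 := by rw [hi]; exact pow_ne_zero _ hq.ne_zero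
  have hoy : orderOf y ≠ 0 := by rw [hk]; exact pow_ne_zero _ hr.ne_zero
  have h1 : orderOf (x ^ (orderOf x / q)) = q := orderOf_pow_orderOf_div hox hqx
  have h2 : orderOf (y ^ (orderOf y / r)) = r := orderOf_pow_orderOf_div hoy hry
  refine ⟨x ^ (orderOf x / q) * y ^ (orderOf y / r), ?_⟩
  have hc' : Commute (x ^ (orderOf x / q)) (y ^ (orderOf y / r)) := hc.pow_pow _ _
  rw [hc'.orderOf_mul_eq_mul_orderOf_of_coprime (by
    rw [h1, h2]; exact (Nat.coprime_primes hq hr).2 hqr), h1, h2]

/-- the conjugation action of `Q ≤ N(R)` on the nonidentity elements of `R` -/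
@[reducible] def conjActionNe (Q R : Subgroup G) (hQR : Q ≤ normalizer (R : Set G)) :
    MulAction Q {y : R // y ≠ 1} where
  smul x y := ⟨⟨(x : G) * (y.1 : G) * (x : G)⁻¹,
      (mem_normalizer_iff.1 (hQR x.2) _).1 y.1.2⟩, by
    intro h
    apply y.2
    have h' : (x : G) * (y.1 : G) * (x : G)⁻¹ = 1 := congrArg Subtype.val h
    have : (y.1 : G) = 1 := by
      have := congrArg (fun g => (x : G)⁻¹ * g * (x : G)) h'
      simpa [mul_assoc] using this
    exact Subtype.ext this⟩
  one_smul y := by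
    apply Subtype.ext
    apply Subtype.ext
    show ((1 : Q) : G) * (y.1 : G) * ((1 : Q) : G)⁻¹ = (y.1 : G)
    simp
  mul_smul a b y := by
    apply Subtype.ext
    apply Subtype.ext
    show ((a * b : Q) : G) * (y.1 : G) * ((a * b : Q) : G)⁻¹
      = (a : G) * ((b : G) * (y.1 : G) * (b : G)⁻¹) * (a : G)⁻¹
    simp [mul_assoc]

/-- (T1): a `q`-group normalising an `r`-group, no elements of order `q r`: `|Q|` divides
`|R| - 1`. -/
theorem card_dvd_card_sub_one [Finite G] {q r : ℕ} [Fact q.Prime] [Fact r.Prime]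
    (hqr : q ≠ r) (hno : ∀ g : G, orderOf g ≠ q * r) (Q R : Subgroup G) (hQ : IsPGroup q Q)
    (hR : IsPGroup r R) (hQR : Q ≤ normalizer (R : Set G)) :
    Nat.card Q ∣ Nat.card R - 1 := by
  classical
  let _ := conjActionNe Q R hQR
  have hfree : ∀ y : {y : R // y ≠ 1}, MulAction.stabilizer Q y = ⊥ := by
    intro y
    rw [eq_bot_iff]
    intro x hx
    rw [mem_bot]
    by_contra hx1
    have hxy : x • y = y := hx
    have h' : (x : G) * (y.1 : G) * (x : G)⁻¹ = (y.1 : G) :=
      congrArg (fun z : {y : R // y ≠ 1} => ((z.1 : R) : G)) hxy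
    have hc : Commute (x : G) (y.1 : G) := by
      have := congrArg (fun g => g * (x : G)) h'
      have h'' : (x : G) * (y.1 : G) = (y.1 : G) * (x : G) := by simpa [mul_assoc] using this
      exact h''
    obtain ⟨i, hi⟩ := (IsPGroup.iff_orderOf.1 hQ) x
    obtain ⟨k, hk⟩ := (IsPGroup.iff_orderOf.1 hR) y.1
    rw [← Subgroup.orderOf_coe] at hi hk
    obtain ⟨g, hg⟩ := exists_orderOf_eq_mul hqr ⟨i, hi⟩ ⟨k, hk⟩
      (fun h => hx1 (Subtype.ext h)) (fun h => y.2 (Subtype.ext h)) hc
    exact hno g hg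
  have h1 : Nat.card Q ∣ Nat.card {y : R // y ≠ 1} := by
    rw [Nat.card_congr (MulAction.selfEquivOrbitsQuotientProd hfree), Nat.card_prod]
    exact dvd_mul_left _ _
  have h2 : Nat.card {y : R // y ≠ 1} = Nat.card R - 1 := by
    have : Fintype R := Fintype.ofFinite R
    rw [Nat.card_eq_fintype_card, Nat.card_eq_fintype_card, Fintype.card_subtype_compl,
      Fintype.card_subtype_eq]
  rwa [h2] at h1

/-- order of a Sylow subgroup from the factorised order -/
theorem card_sylow_of_card_eq [Finite G] {p : ℕ} [Fact p.Prime] {k m : ℕ}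
    (hG : Nat.card G = p ^ k * m) (hm : ¬ p ∣ m) (P : Sylow p G) :
    Nat.card (P : Subgroup G) = p ^ k := by
  have hp : p.Prime := Fact.out
  rw [P.card_eq_multiplicity, hG]
  congr 1
  have hm0 : m ≠ 0 := fun h => hm (h ▸ dvd_zero p)
  rw [Nat.factorization_mul (pow_ne_zero _ hp.ne_zero) hm0]
  simp [hp.factorization, Nat.factorization_eq_zero_of_not_dvd hm]

/-- (T3): abelian self-normalising Sylow `p`-subgroup, no elements of order `p r`: `|P|` divides
`r ^ a - 1`, where `r ^ a` is the `r`-part of the group order (Burnside transfer). -/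
theorem burnside_fpf {N : Type*} [Group N] [Finite N] {p r : ℕ} [Fact p.Prime] [Fact r.Prime]
    (hpr : p ≠ r) (hno : ∀ g : N, orderOf g ≠ p * r) (P : Sylow p N)
    (hab : ∀ a ∈ (P : Subgroup N), ∀ b ∈ (P : Subgroup N), a * b = b * a)
    (hself : Nat.card (Subgroup.normalizer ((P : Subgroup N) : Set N))
      = Nat.card (P : Subgroup N)) (a m : ℕ) (hN : Nat.card N = r ^ a * m) (hm : ¬ r ∣ m) :
    Nat.card (P : Subgroup N) ∣ r ^ a - 1 := by
  classical
  have hp : p.Prime := Fact.out
  have hr : r.Prime := Fact.out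
  -- N(P) = P ≤ C(P)
  have hNP : Subgroup.normalizer ((P : Subgroup N) : Set N) = (P : Subgroup N) :=
    (Subgroup.eq_of_le_of_card_ge Subgroup.le_normalizer hself.le).symm
  have hP : Subgroup.normalizer ((P : Subgroup N) : Set N)
      ≤ Subgroup.centralizer ((P : Subgroup N) : Set N) := by
    rw [hNP]
    intro x hx
    rw [Subgroup.mem_centralizer_iff]
    intro y hy
    exact hab y hy x hx
  -- the normal p-complement
  set L : Subgroup N := (MonoidHom.transferSylow P hP).ker with hL
  have hcompl : IsComplement' L (P : Subgroup N) := MonoidHom.ker_transferSylow_isComplement' P hP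
  have hpL : ¬ p ∣ Nat.card L := MonoidHom.not_dvd_card_ker_transferSylow P hP
  have hcard : Nat.card L * Nat.card (P : Subgroup N) = Nat.card N := hcompl.card_mul_card
  -- the order of L
  obtain ⟨k, hk⟩ := IsPGroup.iff_card.1 P.2
  have hcop : Nat.Coprime (Nat.card (P : Subgroup N)) (r ^ a) := by
    rw [hk]
    exact Nat.Coprime.pow _ _ ((Nat.coprime_primes hp hr).2 hpr)
  have hPm : Nat.card (P : Subgroup N) ∣ m := by
    have : Nat.card (P : Subgroup N) ∣ r ^ a * m := by
      rw [← hN, ← hcard]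
      exact dvd_mul_left _ _
    exact hcop.dvd_of_dvd_mul_left this
  obtain ⟨m', hm'⟩ := hPm
  have hLcard : Nat.card L = r ^ a * m' := by
    have hpos : 0 < Nat.card (P : Subgroup N) := Nat.card_pos
    have : Nat.card L * Nat.card (P : Subgroup N) = r ^ a * m' * Nat.card (P : Subgroup N) := by
      rw [hcard, hN, hm']
      ring
    exact Nat.eq_of_mul_eq_mul_right hpos this
  have hm'r : ¬ r ∣ m' := fun h => hm (hm' ▸ Dvd.dvd.mul_left h _)
  -- P acts on the Sylow r-subgroups of L
  let _ : MulDistribMulAction (P : Subgroup N) L :=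
    MulDistribMulAction.compHom L ((MulAut.conjNormal (H := L)).comp (P : Subgroup N).subtype)
  have hnd : ¬ p ∣ Nat.card (Sylow r L) := by
    intro h
    obtain ⟨R⟩ : Nonempty (Sylow r L) := inferInstance
    exact hpL (h.trans ((Sylow.card_dvd_index R).trans (Subgroup.index_dvd_card _)))
  obtain ⟨R, hR⟩ := IsPGroup.nonempty_fixed_point_of_prime_not_dvd_card P.2 (Sylow r L) hnd
  have hRcard : Nat.card (R : Subgroup L) = r ^ a := card_sylow_of_card_eq hLcard hm'r R
  have hnorm : (P : Subgroup N) ≤ Subgroup.normalizer (((R : Subgroup L).map L.subtype : Subgroup N) : Set N) := by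
    have key : ∀ x ∈ (P : Subgroup N), ∀ g ∈ (R : Subgroup L).map L.subtype,
        x * g * x⁻¹ ∈ (R : Subgroup L).map L.subtype := by
      intro x hx g hg
      obtain ⟨ℓ, hℓ, rfl⟩ := hg
      have h1 : (⟨x, hx⟩ : (P : Subgroup N)) • R = R := hR ⟨x, hx⟩
      have h2 : (⟨x, hx⟩ : (P : Subgroup N)) • ℓ ∈ ((⟨x, hx⟩ : (P : Subgroup N)) • R : Sylow r L) :=
        Subgroup.smul_mem_pointwise_smul ℓ _ (R : Subgroup L) hℓ
      rw [h1] at h2
      refine ⟨_, h2, ?_⟩
      rfl
    intro x hx
    rw [Subgroup.mem_normalizer_iff]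
    intro g
    constructor
    · exact key x hx g
    · intro h
      have := key x⁻¹ (inv_mem hx) _ h
      simpa [mul_assoc] using this
  have := card_dvd_card_sub_one hpr hno (P : Subgroup N) ((R : Subgroup L).map L.subtype) P.2
    (R.2.map L.subtype) hnorm
  rwa [Subgroup.card_map_of_injective L.subtype_injective, hRcard] at this

end Cfsg.Agent.Helper31.Fpf7920
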