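import Cfsg.Agent.Helper43.PsuM.RDefs

/-!
# Pieces (KILL), (KILL'), (COMM) of helper43's S2089 block R (#14254).
-/

set_option autoImplicit false

namespace Cfsg.Agent.Helper31.PsuM

open scoped commutatorElement
open Cfsg.Agent.Helper96.StLift
open Cfsg.Agent.Helper43.PsuM

universe u

section central

variable {Γ G : Type u} [Group Γ] [Group G] (τ : Γ →* G) (hτ : Function.Surjective τ)
  (hc : τ.ker ≤ Subgroup.center Γ)

include hτ hc

/-- (KILL) "a torus element kills the pairing". -/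
theorem lc_eq_one_of_torus (h : G) (X Y : Subgroup G) (hXY : ∀ x ∈ X, ∀ y ∈ Y, Commute x y)
    (hhY : ∀ y ∈ Y, h * y * h⁻¹ = y) (hhX : ∀ x' ∈ X, h * x' * h⁻¹ ∈ X)
    (hsurj : ∀ x ∈ X, ∃ x' ∈ X, h * x' * h⁻¹ * x'⁻¹ = x) :
    ∀ x ∈ X, ∀ y ∈ Y, lc hτ x y = 1 := by
  intro x hx y hy
  obtain ⟨x', hx', rfl⟩ := hsurj x hx
  obtain ⟨g, rfl⟩ := hτ h
  have hcomm : Commute x' y := hXY x' hx' y hy
  have hcomm' : Commute x'⁻¹ y := hXY x'⁻¹ (X.inv_mem hx') y hy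
  -- `lc x'⁻¹ y = (lc x' y)⁻¹`
  have h1 : lc hτ x'⁻¹ y = (lc hτ x' y)⁻¹ := by
    have h2 := lc_mul_left_of_commute hτ hc (a := x'⁻¹) (a' := x') (b := y) hcomm
    rw [inv_mul_cancel, lc_one_left hτ hc] at h2
    exact (inv_eq_of_mul_eq_one_right h2.symm).symm
  -- `lc (h x' h⁻¹) y = lc x' y`
  have h3 : lc hτ (τ g * x' * (τ g)⁻¹) y = lc hτ x' y := by
    have h4 := lc_conj hτ hc g x' y
    rw [hhY y hy] at h4
    rw [← h4]
    have hz := lc_mem_center hτ hc hcomm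
    rw [Subgroup.mem_center_iff] at hz
    rw [hz g, mul_inv_cancel_right]
  rw [lc_mul_left_of_commute hτ hc hcomm', h1, h3, inv_mul_cancel]

/-- (KILL') the symmetric version -/
theorem lc_eq_one_of_torus' (h : G) (X Y : Subgroup G) (hXY : ∀ x ∈ X, ∀ y ∈ Y, Commute x y)
    (hhX : ∀ x ∈ X, h * x * h⁻¹ = x) (hhY : ∀ y' ∈ Y, h * y' * h⁻¹ ∈ Y)
    (hsurj : ∀ y ∈ Y, ∃ y' ∈ Y, h * y' * h⁻¹ * y'⁻¹ = y) :
    ∀ x ∈ X, ∀ y ∈ Y, lc hτ x y = 1 := by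
  intro x hx y hy
  have h1 := lc_eq_one_of_torus τ hτ hc h Y X (fun y hy x hx => (hXY x hx y hy).symm) hhX hhY hsurj
    y hy x hx
  rw [← lc_inv hτ y x, h1, inv_one]

/-- (COMM) lifts commute iff `lc = 1` -/
theorem commute_of_lc_eq_one {x y : G} (h : lc hτ x y = 1) (a b : Γ) (ha : τ a = x) (hb : τ b = y) :
    Commute a b := by
  rw [← commutatorElement_eq_one_iff_commute, lc_eq' hτ hc ha hb]
  exact h

end central

end Cfsg.Agent.Helper31.PsuM
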