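import Cfsg.Agent.Helper70.PSolvable
import Cfsg.Agent.Helper11.PSolvable
import Cfsg.Agent.Helper54.PConstrained2
import Cfsg.Agent.Lib.Cores

/-!
# Extensions of `p`-solvable groups (helper31)

* `isPSolvable_of_quotient_of_card`: `N ⊴ G` of `p`-power order or of order prime to `p`, `G ⧸ N`
  `p`-solvable ⟹ `G` `p`-solvable;
* `isPSolvable_of_solvable_normal`: `N ⊴ G` solvable, `G ⧸ N` `p`-solvable ⟹ `G` `p`-solvable.
-/

set_option autoImplicit false
open Cfsg

namespace Cfsg.Agent.Helper31

universe u

/-- If `N` is a normal subgroup whose order is a power of `p` or prime to `p` and `G ⧸ N` is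
`p`-solvable then `G` is `p`-solvable. -/
theorem isPSolvable_of_quotient_of_card {G : Type*} [Group G] [Finite G] {p : ℕ}
    (N : Subgroup G) [N.Normal]
    (hN : (∃ m : ℕ, Nat.card N = p ^ m) ∨ (Nat.card N).Coprime p)
    (h : IsPSolvable p (G ⧸ N)) : IsPSolvable p G := by
  obtain ⟨n, H', h0, hlast, hmono, hnorm, hstep⟩ := h
  have hsurj := QuotientGroup.mk'_surjective N
  refine ⟨n + 1, Fin.cons ⊥ (fun i => (H' i).comap (QuotientGroup.mk' N)), ?_, ?_, ?_, ?_, ?_⟩
  · rfl
  · have : Fin.last (n + 1) = Fin.succ (Fin.last n) := rfl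
    rw [this, Fin.cons_succ, hlast, Subgroup.comap_top]
  · intro i j hij
    induction i using Fin.cases with
    | zero => rw [Fin.cons_zero]; exact bot_le
    | succ i =>
      induction j using Fin.cases with
      | zero => exact absurd hij (by simp)
      | succ j =>
        rw [Fin.cons_succ, Fin.cons_succ]
        exact Subgroup.comap_mono (hmono (Fin.succ_le_succ_iff.mp hij))
  · intro i
    induction i using Fin.cases with
    | zero => rw [Fin.cons_zero]; infer_instance
    | succ i =>
      rw [Fin.cons_succ]
      haveI := hnorm i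
      infer_instance
  · intro i
    induction i using Fin.cases with
    | zero =>
      have h1 : (Fin.cons ⊥ (fun i => (H' i).comap (QuotientGroup.mk' N)) :
          Fin (n + 2) → Subgroup G) (Fin.castSucc (0 : Fin (n + 1))) = ⊥ := rfl
      have h2 : (Fin.cons ⊥ (fun i => (H' i).comap (QuotientGroup.mk' N)) :
          Fin (n + 2) → Subgroup G) (Fin.succ (0 : Fin (n + 1))) = N := by
        rw [Fin.cons_succ, h0, MonoidHom.comap_bot, QuotientGroup.ker_mk']
      rw [h1, h2, Subgroup.relIndex_bot_left]
      exact hN
    | succ i =>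
      have h1 : (Fin.cons ⊥ (fun i => (H' i).comap (QuotientGroup.mk' N)) :
          Fin (n + 2) → Subgroup G) (Fin.castSucc (Fin.succ i)) =
          (H' (Fin.castSucc i)).comap (QuotientGroup.mk' N) := by
        rw [← Fin.succ_castSucc, Fin.cons_succ]
      have h2 : (Fin.cons ⊥ (fun i => (H' i).comap (QuotientGroup.mk' N)) :
          Fin (n + 2) → Subgroup G) (Fin.succ (Fin.succ i)) =
          (H' (Fin.succ i)).comap (QuotientGroup.mk' N) := by
        rw [Fin.cons_succ]
      rw [h1, h2, Subgroup.relIndex_comap, Subgroup.map_comap_eq_self_of_surjective hsurj]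
      exact hstep i

/-- A group of `p`-power order, or of order prime to `p`, is `p`-solvable. -/
theorem isPSolvable_of_card {G : Type*} [Group G] [Finite G] {p : ℕ}
    (hG : (∃ m : ℕ, Nat.card G = p ^ m) ∨ (Nat.card G).Coprime p) : IsPSolvable p G := by
  apply isPSolvable_of_quotient_of_card (⊤ : Subgroup G)
  · rwa [Subgroup.card_top]
  · haveI : Subsingleton (G ⧸ (⊤ : Subgroup G)) := QuotientGroup.subsingleton_quotient_top
    refine ⟨0, fun _ => ⊥, rfl, Subsingleton.elim _ _, fun _ _ _ => le_rfl,
      fun _ => inferInstance, ?_⟩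
    intro i
    exact i.elim0

/-- An extension of a solvable normal subgroup by a `p`-solvable group is `p`-solvable. -/
theorem isPSolvable_of_solvable_normal_aux {p : ℕ} [hp : Fact p.Prime] :
    ∀ (n : ℕ) (G : Type u) [Group G] [Finite G], Nat.card G = n →
      ∀ (N : Subgroup G) [N.Normal], Group.IsSolvable N → IsPSolvable p (G ⧸ N) →
        IsPSolvable p G := by
  intro n
  induction n using Nat.strong_induction_on with
  | _ n ih =>
    intro G _ _ hn N _ hsol hquot
    by_cases hbot : N = ⊥
    · subst hbot
      exact Cfsg.Agent.Helper11.isPSolvable_of_mulEquiv QuotientGroup.quotientBot hquot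
    · have hnt : Nontrivial ↥N := (Subgroup.nontrivial_iff_ne_bot N).mpr hbot
      obtain ⟨q, N₀, hq, hN₀n, hN₀ne, hN₀q⟩ :=
        Cfsg.Agent.Helper70.exists_normal_pGroup_of_isSolvable hnt
      haveI : Fact q.Prime := ⟨hq⟩
      set T : Subgroup G := pCore q G with hT
      haveI hTchar : T.Characteristic := Cfsg.Agent.Lib.pCore_characteristic q
      haveI hTn : T.Normal := inferInstance
      have hTq : IsPGroup q T := Cfsg.Agent.Lib.isPGroup_pCore q
      have hle : N₀.map N.subtype ≤ T :=
        (Subgroup.map_mono (Cfsg.Agent.Lib.le_pCore hN₀n hN₀q)).trans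
          (Cfsg.Agent.Helper54.map_pCore_subtype_le N)
      have hTne : T ≠ ⊥ := by
        intro h
        apply hN₀ne
        rw [h, le_bot_iff] at hle
        exact (Subgroup.map_eq_bot_iff_of_injective _ N.subtype_injective).mp hle
      have hlt : Nat.card (G ⧸ T) < n := by
        rw [← hn, ← Subgroup.index_eq_card, ← Subgroup.index_mul_card T]
        have h1 : 1 < Nat.card T := by
          rw [Subgroup.one_lt_card_iff_ne_bot]; exact hTne
        have : 0 < T.index := Nat.pos_of_ne_zero Subgroup.index_ne_zero_of_finite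
        nlinarith
      set N' : Subgroup (G ⧸ T) := N.map (QuotientGroup.mk' T) with hN'
      haveI hN'n : N'.Normal :=
        Subgroup.Normal.map inferInstance _ (QuotientGroup.mk'_surjective T)
      have hN'sol : Group.IsSolvable ↥N' :=
        solvable_of_surjective (f := (QuotientGroup.mk' T).subgroupMap N)
          ((QuotientGroup.mk' T).subgroupMap_surjective N)
      have hq' : IsPSolvable p ((G ⧸ T) ⧸ N') := by
        have hle' : N ≤ N'.comap (QuotientGroup.mk' T) := Subgroup.le_comap_map _ _
        refine Cfsg.Agent.Helper11.isPSolvable_of_surjective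
          (QuotientGroup.map N N' (QuotientGroup.mk' T) hle') ?_ hquot
        intro y
        obtain ⟨y', rfl⟩ := QuotientGroup.mk'_surjective N' y
        obtain ⟨g, rfl⟩ := QuotientGroup.mk'_surjective T y'
        exact ⟨QuotientGroup.mk' N g, rfl⟩
      have h1 := ih _ hlt (G ⧸ T) rfl N' hN'sol hq'
      exact Cfsg.Agent.Helper70.isPSolvable_of_quotient hp.out hq T hTq h1

theorem isPSolvable_of_solvable_normal {G : Type u} [Group G] [Finite G] {p : ℕ} [Fact p.Prime]
    (N : Subgroup G) [N.Normal] (hN : Group.IsSolvable N) (h : IsPSolvable p (G ⧸ N)) :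
    IsPSolvable p G :=
  isPSolvable_of_solvable_normal_aux _ G rfl N hN h

end Cfsg.Agent.Helper31
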