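import Mathlib
import Cfsg.Agent.Helper13.FExtDefs
import Cfsg.Agent.Helper13.Symp
import Cfsg.Agent.Helper13.SympTrans

set_option autoImplicit false

/-! # Piece (E1) of S5975 (helper13): the square of an isometry is `± 1` if it is a scalar -/

namespace Cfsg.Agent.Helper31.FExtE1

open Matrix Cfsg Cfsg.Geo
open Cfsg.Agent.Helper13.FExt

variable {F : Type*} [Field F]

/-- (E1) the square of an isometry is `± 1` if it is a scalar -/
theorem sq_scalar_cases (d : ℕ) (hd : 1 ≤ d) (x : GL (Fin d ⊕ Fin d) F) (hx : x ∈ spGL d F)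
    (z : F) (hxz : ((x ^ 2 : GL (Fin d ⊕ Fin d) F) : Matrix (Fin d ⊕ Fin d) (Fin d ⊕ Fin d) F) =
      z • (1 : Matrix (Fin d ⊕ Fin d) (Fin d ⊕ Fin d) F)) : z = 1 ∨ z = -1 := by
  have hx2 : x ^ 2 ∈ spGL d F := Subgroup.pow_mem _ hx 2
  set u : Fin d ⊕ Fin d → F := Pi.single (Sum.inl ⟨0, hd⟩) 1 with hu
  have hu0 : u ≠ 0 := by
    intro h
    have h1 := congrFun h (Sum.inl ⟨0, hd⟩)
    rw [hu, Pi.single_eq_same, Pi.zero_apply] at h1
    exact one_ne_zero h1
  obtain ⟨w, hw⟩ := Cfsg.Agent.Helper13.sympForm_nondeg_left hu0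
  have h : sympForm d F (((x ^ 2 : GL (Fin d ⊕ Fin d) F) :
      Matrix (Fin d ⊕ Fin d) (Fin d ⊕ Fin d) F) *ᵥ w)
      (((x ^ 2 : GL (Fin d ⊕ Fin d) F) : Matrix (Fin d ⊕ Fin d) (Fin d ⊕ Fin d) F) *ᵥ u) =
      sympForm d F w u := hx2 w u
  rw [hxz, Matrix.smul_mulVec, Matrix.one_mulVec, Matrix.smul_mulVec, Matrix.one_mulVec,
    Cfsg.Agent.Helper13.sympForm_smul_left, Cfsg.Agent.Helper13.sympForm_smul_right] at h
  have hz : z * z = 1 := by
    have h1 : (z * z - 1) * sympForm d F w u = 0 := by linear_combination h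
    rcases mul_eq_zero.mp h1 with h2 | h2
    · linear_combination h2
    · exact absurd h2 hw
  exact mul_self_eq_one_iff.mp hz

end Cfsg.Agent.Helper31.FExtE1
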