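import Mathlib
import Cfsg.Agent.Helper13.FExtDefs
import Cfsg.Agent.Helper13.SpMax1
import Cfsg.Agent.Helper13.SympTrans

set_option autoImplicit false

/-! # Piece (T1a) of S5975 (helper13): a symplectic transvection -/

namespace Cfsg.Agent.Helper31.FExtT1a

open Matrix Cfsg Cfsg.Geo
open Cfsg.Agent.Helper13.FExt Cfsg.Agent.Helper13

variable {F : Type*} [Field F]

theorem tvGL_one_pow {d : ℕ} (v : Fin d ⊕ Fin d → F) (n : ℕ) :
    (tvGL v (1 : F)) ^ n = tvGL v (n : F) := by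
  induction n with
  | zero =>
    apply Units.ext
    rw [pow_zero, Nat.cast_zero, tvGL_coe, sympTransvection_zero]
    rfl
  | succ n ih =>
    rw [pow_succ, ih]
    apply Units.ext
    rw [Units.val_mul, tvGL_coe, tvGL_coe, tvGL_coe, sympTransvection_mul, Nat.cast_succ]

theorem supp_tvGL_one {d : ℕ} (v : Fin d ⊕ Fin d → F) (hv0 : v ≠ 0) :
    supp ((tvGL v (1 : F) : GL (Fin d ⊕ Fin d) F) : Matrix (Fin d ⊕ Fin d) (Fin d ⊕ Fin d) F) =
      Submodule.span F {v} := by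
  have hmv : ∀ y : Fin d ⊕ Fin d → F,
      (((tvGL v (1 : F) : GL (Fin d ⊕ Fin d) F) : Matrix (Fin d ⊕ Fin d) (Fin d ⊕ Fin d) F) - 1)
        *ᵥ y = (sympForm d F y v) • v := by
    intro y
    rw [Matrix.sub_mulVec, tvGL_coe, sympTransvection_mulVec, Matrix.one_mulVec, one_mul,
      add_sub_cancel_left]
  unfold supp
  apply le_antisymm
  · rintro _ ⟨y, rfl⟩
    rw [Matrix.mulVecLin_apply, hmv]
    exact Submodule.smul_mem _ _ (Submodule.mem_span_singleton_self v)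
  · rw [Submodule.span_singleton_le_iff_mem]
    obtain ⟨y0, hy0⟩ := sympForm_nondeg_left hv0
    refine ⟨(sympForm d F y0 v)⁻¹ • y0, ?_⟩
    rw [Matrix.mulVecLin_apply, hmv, sympForm_smul_left, inv_mul_cancel₀ hy0, one_smul]

/-- (T1a) a transvection -/
theorem exists_transvection (p : ℕ) [Fact p.Prime] [CharP F p] (d : ℕ) (hd : 1 ≤ d) :
    ∃ x ∈ spGL d F, x ^ p = 1 ∧
      Module.finrank F (supp (x : Matrix (Fin d ⊕ Fin d) (Fin d ⊕ Fin d) F)) = 1 := by
  set v : Fin d ⊕ Fin d → F := Pi.single (Sum.inl ⟨0, hd⟩) 1 with hv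
  have hv0 : v ≠ 0 := by
    intro h
    have h1 := congrFun h (Sum.inl ⟨0, hd⟩)
    rw [hv, Pi.single_eq_same, Pi.zero_apply] at h1
    exact one_ne_zero h1
  refine ⟨tvGL v 1, tvGL_mem_spGL v 1, ?_, ?_⟩
  · rw [tvGL_one_pow, CharP.cast_eq_zero]
    apply Units.ext
    rw [tvGL_coe, sympTransvection_zero]
    rfl
  · rw [supp_tvGL_one v hv0, finrank_span_singleton hv0]

end Cfsg.Agent.Helper31.FExtT1a
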