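import Mathlib
import Cfsg.Agent.Helper13.MonoA

set_option autoImplicit false

/-! # Piece (M2a) of S5634: a non-block-monomial element produces a transvection meeting two blocks -/

namespace Cfsg.Agent.Helper31.MonoM2a

open Matrix Cfsg.Agent.Helper13.Mono

variable {τ κ : Type*} [Fintype τ] [DecidableEq τ] [Fintype κ] [DecidableEq κ] {F : Type*} [Field F]

/-- Conjugating a block transvection `1 + w χᵀ` (both vectors supported in the block `b`) by `x`. -/
theorem conj_rk1_matIn (M : Subgroup (GL (τ × κ) F))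
    (hN : ∀ g : GL (τ × κ) F, IsBlockMono (Prod.fst : τ × κ → τ) (g : Matrix (τ × κ) (τ × κ) F) →
      (g : Matrix (τ × κ) (τ × κ) F).det = 1 → g ∈ M)
    (x : GL (τ × κ) F) (hx : x ∈ M) (w χ : τ × κ → F) (b : τ) (hw : ∀ k, w k ≠ 0 → k.1 = b)
    (hχ : ∀ k, χ k ≠ 0 → k.1 = b) (hχw : χ ⬝ᵥ w = 0) (hχ0 : χ ≠ 0) :
    (χ ᵥ* ((x⁻¹ : GL (τ × κ) F) : Matrix (τ × κ) (τ × κ) F)) ⬝ᵥ
        ((x : Matrix (τ × κ) (τ × κ) F) *ᵥ w) = 0 ∧
      χ ᵥ* ((x⁻¹ : GL (τ × κ) F) : Matrix (τ × κ) (τ × κ) F) ≠ 0 ∧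
      MatIn M (1 + vecMulVec ((x : Matrix (τ × κ) (τ × κ) F) *ᵥ w)
        (χ ᵥ* ((x⁻¹ : GL (τ × κ) F) : Matrix (τ × κ) (τ × κ) F))) := by
  have hXXi : (x : Matrix (τ × κ) (τ × κ) F) * ((x⁻¹ : GL (τ × κ) F) : Matrix (τ × κ) (τ × κ) F) = 1 := by
    rw [← Units.val_mul, mul_inv_cancel, Units.val_one]
  have hXiX : ((x⁻¹ : GL (τ × κ) F) : Matrix (τ × κ) (τ × κ) F) * (x : Matrix (τ × κ) (τ × κ) F) = 1 := by
    rw [← Units.val_mul, inv_mul_cancel, Units.val_one]
  have h1 : 1 + χ ⬝ᵥ w ≠ 0 := by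
    rw [hχw, add_zero]
    exact one_ne_zero
  have hρM : rk1 w χ h1 ∈ M := by
    apply hN
    · refine ⟨1, fun i j hij => ?_⟩
      rw [Equiv.Perm.one_apply]
      rw [rk1_val, Matrix.add_apply, vecMulVec_apply] at hij
      by_cases hijeq : i = j
      · rw [hijeq]
      · rw [Matrix.one_apply_ne hijeq, zero_add] at hij
        have hwi : w i ≠ 0 := left_ne_zero_of_mul hij
        have hχj : χ j ≠ 0 := right_ne_zero_of_mul hij
        rw [hw i hwi, hχ j hχj]
    · rw [det_rk1, hχw, add_zero]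
  refine ⟨?_, ?_, ?_⟩
  · rw [dotProduct_mulVec, vecMul_vecMul, hXiX, vecMul_one, hχw]
  · intro h
    apply hχ0
    have h2 : χ ᵥ* (((x⁻¹ : GL (τ × κ) F) : Matrix (τ × κ) (τ × κ) F) * (x : Matrix (τ × κ) (τ × κ) F)) = 0 := by
      rw [← vecMul_vecMul, h, zero_vecMul]
    rwa [hXiX, vecMul_one] at h2
  · refine ⟨x * rk1 w χ h1 * x⁻¹, M.mul_mem (M.mul_mem hx hρM) (M.inv_mem hx), ?_⟩
    rw [Units.val_mul, Units.val_mul, rk1_val, Matrix.mul_add, Matrix.mul_one, Matrix.add_mul, hXXi,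
      mul_vecMulVec, vecMulVec_mul]

theorem m2a (hκ : 2 ≤ Fintype.card κ) (M : Subgroup (GL (τ × κ) F))
    (hN : ∀ g : GL (τ × κ) F, IsBlockMono (Prod.fst : τ × κ → τ) (g : Matrix (τ × κ) (τ × κ) F) →
      (g : Matrix (τ × κ) (τ × κ) F).det = 1 → g ∈ M)
    (x : GL (τ × κ) F) (hx : x ∈ M)
    (hxn : ¬ IsBlockMono (Prod.fst : τ × κ → τ) (x : Matrix (τ × κ) (τ × κ) F)) :
    ∃ u φ : τ × κ → F, φ ⬝ᵥ u = 0 ∧ φ ≠ 0 ∧ MatIn M (1 + vecMulVec u φ) ∧
      ∃ i i' : τ × κ, i.1 ≠ i'.1 ∧ u i ≠ 0 ∧ u i' ≠ 0 := by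
  classical
  have hXXi : (x : Matrix (τ × κ) (τ × κ) F) * ((x⁻¹ : GL (τ × κ) F) : Matrix (τ × κ) (τ × κ) F) = 1 := by
    rw [← Units.val_mul, mul_inv_cancel, Units.val_one]
  have hXiX : ((x⁻¹ : GL (τ × κ) F) : Matrix (τ × κ) (τ × κ) F) * (x : Matrix (τ × κ) (τ × κ) F) = 1 := by
    rw [← Units.val_mul, inv_mul_cancel, Units.val_one]
  have hcol : ∀ j, ∃ i, (x : Matrix (τ × κ) (τ × κ) F) i j ≠ 0 := by
    intro j
    by_contra h
    push Not at h
    have h2 : (((x⁻¹ : GL (τ × κ) F) : Matrix (τ × κ) (τ × κ) F) * (x : Matrix (τ × κ) (τ × κ) F)) j j = 0 := by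
      rw [Matrix.mul_apply]
      exact Finset.sum_eq_zero (fun i _ => by rw [h i, mul_zero])
    rw [hXiX, Matrix.one_apply_eq] at h2
    exact one_ne_zero h2
  have hrow : ∀ i, ∃ j, (x : Matrix (τ × κ) (τ × κ) F) i j ≠ 0 := by
    intro i
    by_contra h
    push Not at h
    have h2 : ((x : Matrix (τ × κ) (τ × κ) F) * ((x⁻¹ : GL (τ × κ) F) : Matrix (τ × κ) (τ × κ) F)) i i = 0 := by
      rw [Matrix.mul_apply]
      exact Finset.sum_eq_zero (fun j _ => by rw [h j, zero_mul])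
    rw [hXXi, Matrix.one_apply_eq] at h2
    exact one_ne_zero h2
  have h1lt : 1 < Fintype.card κ := hκ
  -- step (i)
  have hex : ∃ j j' i i' : τ × κ, j.1 = j'.1 ∧ i.1 ≠ i'.1 ∧
      (x : Matrix (τ × κ) (τ × κ) F) i j ≠ 0 ∧ (x : Matrix (τ × κ) (τ × κ) F) i' j' ≠ 0 := by
    by_contra hno
    apply hxn
    have hκne : Nonempty κ := by
      rw [← Fintype.card_pos_iff]
      omega
    obtain ⟨k₀⟩ := hκne
    choose r hr using hcol
    have hσ₀ : ∀ i j, (x : Matrix (τ × κ) (τ × κ) F) i j ≠ 0 → i.1 = (r (j.1, k₀)).1 := by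
      intro i j hij
      by_contra hne
      exact hno ⟨j, (j.1, k₀), i, r (j.1, k₀), rfl, hne, hij, hr (j.1, k₀)⟩
    have hsurj : Function.Surjective (fun b : τ => (r (b, k₀)).1) := by
      intro c
      obtain ⟨j, hj⟩ := hrow (c, k₀)
      exact ⟨j.1, (hσ₀ (c, k₀) j hj).symm⟩
    have hbij : Function.Bijective (fun b : τ => (r (b, k₀)).1) :=
      ⟨Finite.injective_iff_surjective.mpr hsurj, hsurj⟩
    exact ⟨Equiv.ofBijective _ hbij, fun i j hij => hσ₀ i j hij⟩
  obtain ⟨j, j', i, i', hjj, hii, hij, hij'⟩ := hex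
  -- supports of single vectors
  have hsupp : ∀ (a : τ × κ) (k : τ × κ), (Pi.single a (1 : F) : τ × κ → F) k ≠ 0 → k = a := by
    intro a k hk
    by_contra hne
    exact hk (Pi.single_eq_of_ne hne _)
  by_cases hA : (x : Matrix (τ × κ) (τ × κ) F) i' j ≠ 0
  · obtain ⟨k', hk'⟩ := Fintype.exists_ne_of_one_lt_card h1lt j.2
    have hne : ((j.1, k') : τ × κ) ≠ j := fun h => hk' (congrArg Prod.snd h)
    obtain ⟨e1, e2, e3⟩ := conj_rk1_matIn M hN x hx (Pi.single j 1) (Pi.single (j.1, k') 1) j.1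
      (fun k hk => by rw [hsupp j k hk])
      (fun k hk => by rw [hsupp (j.1, k') k hk])
      (by rw [single_dotProduct, one_mul, Pi.single_eq_of_ne hne])
      (fun h => by
        have := congrFun h (j.1, k')
        rw [Pi.single_eq_same, Pi.zero_apply] at this
        exact one_ne_zero this)
    refine ⟨_, _, e1, e2, e3, i, i', hii, ?_, ?_⟩
    · rw [mulVec_single_one]
      exact hij
    · rw [mulVec_single_one]
      exact hA
  by_cases hB : (x : Matrix (τ × κ) (τ × κ) F) i j' ≠ 0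
  · obtain ⟨k', hk'⟩ := Fintype.exists_ne_of_one_lt_card h1lt j'.2
    have hne : ((j'.1, k') : τ × κ) ≠ j' := fun h => hk' (congrArg Prod.snd h)
    obtain ⟨e1, e2, e3⟩ := conj_rk1_matIn M hN x hx (Pi.single j' 1) (Pi.single (j'.1, k') 1) j'.1
      (fun k hk => by rw [hsupp j' k hk])
      (fun k hk => by rw [hsupp (j'.1, k') k hk])
      (by rw [single_dotProduct, one_mul, Pi.single_eq_of_ne hne])
      (fun h => by
        have := congrFun h (j'.1, k')
        rw [Pi.single_eq_same, Pi.zero_apply] at this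
        exact one_ne_zero this)
    refine ⟨_, _, e1, e2, e3, i, i', hii, ?_, ?_⟩
    · rw [mulVec_single_one]
      exact hB
    · rw [mulVec_single_one]
      exact hij'
  · push Not at hA hB
    have hjne : j ≠ j' := by
      intro h
      rw [h] at hA
      exact hij' hA
    obtain ⟨e1, e2, e3⟩ := conj_rk1_matIn M hN x hx (Pi.single j 1 + Pi.single j' 1)
      (Pi.single j 1 - Pi.single j' 1) j.1
      (fun k hk => by
        by_cases h1 : k = j
        · rw [h1]
        · by_cases h2 : k = j'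
          · rw [h2, hjj]
          · exfalso
            apply hk
            rw [Pi.add_apply, Pi.single_eq_of_ne h1, Pi.single_eq_of_ne h2, add_zero])
      (fun k hk => by
        by_cases h1 : k = j
        · rw [h1]
        · by_cases h2 : k = j'
          · rw [h2, hjj]
          · exfalso
            apply hk
            rw [Pi.sub_apply, Pi.single_eq_of_ne h1, Pi.single_eq_of_ne h2, sub_zero])
      (by
        rw [sub_dotProduct, dotProduct_add, dotProduct_add, single_dotProduct, single_dotProduct,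
          single_dotProduct, single_dotProduct, Pi.single_eq_same, Pi.single_eq_same,
          Pi.single_eq_of_ne hjne, Pi.single_eq_of_ne hjne.symm]
        ring)
      (fun h => by
        have := congrFun h j
        rw [Pi.sub_apply, Pi.single_eq_same, Pi.single_eq_of_ne hjne, sub_zero, Pi.zero_apply] at this
        exact one_ne_zero this)
    refine ⟨_, _, e1, e2, e3, i, i', hii, ?_, ?_⟩
    · rw [mulVec_add, mulVec_single_one, mulVec_single_one, Pi.add_apply]
      show (x : Matrix (τ × κ) (τ × κ) F) i j + (x : Matrix (τ × κ) (τ × κ) F) i j' ≠ 0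
      rw [hB, add_zero]
      exact hij
    · rw [mulVec_add, mulVec_single_one, mulVec_single_one, Pi.add_apply]
      show (x : Matrix (τ × κ) (τ × κ) F) i' j + (x : Matrix (τ × κ) (τ × κ) F) i' j' ≠ 0
      rw [hA, zero_add]
      exact hij'

end Cfsg.Agent.Helper31.MonoM2a
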