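import Cfsg.Agent.Helper57.BP.PartI
import Cfsg.Agent.Helper81.BHC4
import Cfsg.Agent.Helper81.BHC2

/-!
# (P23) for helper16's S4705 : the squares of the values at `u ∈ P ∖ 1` of the exceptional
characters of the principal block sum to `p - 2` when `|N : C| = 2`
-/

set_option autoImplicit false

namespace Cfsg.Agent.Helper31.B66

open Cfsg Cfsg.Agent.Helper16 Cfsg.Agent.Helper16.DefOne Cfsg.Agent.Helper82.DefOne
  Cfsg.Agent.Helper77.DefOne Cfsg.Agent.Helper57.BH Cfsg.Agent.Helper57.BP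
open scoped ComplexConjugate

universe u

variable {G : Type u} [Group G] [Fintype G] {p : ℕ} [Fact p.Prime] (P : Sylow p G)

open Classical in
/-- the value at `u ∈ P ∖ 1` of an exceptional character of the principal block, squared -/
theorem Y0_apply_sq (hP : Nat.card P = p) [((P : Subgroup G).subgroupOf (nor P)).Normal]
    (hmod : ModCount p P) (hf : (cen P).relIndex (nor P) = 2)
    (hinv : ∀ t : G, t ∈ nor P → t ∉ cen P → ∀ x : G, x ∈ (P : Subgroup G) → t * x * t⁻¹ = x⁻¹)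
    {X Y : Set (IrrCharacter G)} {ε : IrrCharacter G → ℤ} {δ : ℤ}
    (D : IsRData P (oneIrr P) X Y ε δ) (u : G) (hu : u ∈ (P : Subgroup G)) (hu1 : u ≠ 1)
    (ψ : IrrCharacter G) (hψ : ψ ∈ Y) :
    (ψ : G → ℂ) u * (ψ : G → ℂ) u =
      (∑ᶠ φ ∈ {φ : IrrCharacter (cen P) | φ ∈ Z1 P ∧ rowZ P ψ φ ≠ 0},
        (φ : cen P → ℂ) ⟨u * u, le_cen P hP ((P : Subgroup G).mul_mem hu hu)⟩) + 2 := by
  letI : Fintype (cen P) := Fintype.ofFinite _
  have : Finite (IrrCharacter (cen P)) := Helper79.irr_finite'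
  letI : Fintype (IrrCharacter (cen P)) := Fintype.ofFinite _
  have hp : p.Prime := Fact.out
  obtain ⟨φ₀, h1, h2, hrow⟩ := D.rowY ψ hψ
  have hrows := Helper57.BH.rowZ_eq_of_mem_Y P hP hmod (oneIrr P) (isCanon_oneIrr P) D ψ hψ φ₀ h1 h2
    hrow
  have hδ0 : δ ≠ 0 := by rcases D.del with h | h <;> rw [h] <;> norm_num
  have hδ2 : (δ : ℂ) * (δ : ℂ) = 1 := by rcases D.del with h | h <;> rw [h] <;> norm_num
  set O : Set (IrrCharacter (cen P)) := MulAction.orbit (nor P) φ₀ with hO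
  have hOfin : O.Finite := Set.toFinite O
  have hcardO : hOfin.toFinset.card = 2 := by
    rw [← hf, ← Helper57.BH.card_orbit_of_not_isCanon P hP φ₀ h2,
      ← Set.ncard_eq_toFinset_card _ hOfin]
    exact (Nat.card_coe_set_eq _).symm
  have hOnc : ∀ φ ∈ O, ¬ IsCanon P φ := by
    rintro φ ⟨n, rfl⟩
    exact Helper48.BH.not_isCanon_smul P hP n φ₀ h2
  have hOcan : ∀ φ ∈ O, can P φ = oneIrr P := by
    rintro φ ⟨n, rfl⟩
    show can P (n • φ₀) = oneIrr P
    rw [can_smul P hP, h1, smul_oneIrr]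
  have hOone : ∀ φ ∈ O, (φ : cen P → ℂ) 1 = 1 := by
    intro φ hφ
    have h4 := can_apply_regular P hP φ 1 (by rw [orderOf_one]; exact hp.not_dvd_one)
    rw [h4, hOcan φ hφ]
    rfl
  -- the index set
  have hset : {φ : IrrCharacter (cen P) | φ ∈ Z1 P ∧ rowZ P ψ φ ≠ 0} = O := by
    ext φ
    simp only [Set.mem_ofPred_eq]
    constructor
    · rintro ⟨-, h⟩
      by_contra hφ
      rw [hrows φ, if_neg hφ] at h
      exact h rfl
    · intro hφ
      refine ⟨⟨hOcan φ hφ, hOnc φ hφ⟩, ?_⟩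
      rw [hrows φ, if_pos hφ]
      exact hδ0
  rw [hset]
  -- the values at `p`-singular elements of `C`
  have hval : ∀ c : cen P, p ∣ orderOf c → (ψ : G → ℂ) (c : G) =
      (δ : ℂ) * ∑ φ ∈ hOfin.toFinset, (φ : cen P → ℂ) c := by
    intro c hc
    rw [apply_singular_eq P hP ψ c hc, finsum_eq_sum_of_fintype, Finset.mul_sum]
    symm
    rw [← Finset.sum_subset (Finset.subset_univ hOfin.toFinset)]
    · refine Finset.sum_congr rfl fun φ hφ => ?_
      rw [hrows φ, if_pos (hOfin.mem_toFinset.mp hφ)]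
    · intro φ _ hφ
      have hφ' : φ ∉ O := fun h => hφ (hOfin.mem_toFinset.mpr h)
      rw [hrows φ, if_neg hφ', Int.cast_zero, zero_mul]
  -- the orbit is `{φ₀, φ₁}`
  have hφ₀O : φ₀ ∈ O := MulAction.mem_orbit_self φ₀
  obtain ⟨φ₁, hφ₁, hne⟩ : ∃ φ₁ ∈ hOfin.toFinset, φ₁ ≠ φ₀ := by
    by_contra hcon
    push Not at hcon
    have : hOfin.toFinset ⊆ {φ₀} := by
      intro φ hφ
      rw [Finset.mem_singleton]
      exact hcon φ hφ
    have := Finset.card_le_card this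
    rw [hcardO, Finset.card_singleton] at this
    omega
  have hOeq : hOfin.toFinset = {φ₀, φ₁} := by
    symm
    apply Finset.eq_of_subset_of_card_le
    · intro φ hφ
      rw [Finset.mem_insert, Finset.mem_singleton] at hφ
      rcases hφ with rfl | rfl
      · exact hOfin.mem_toFinset.mpr hφ₀O
      · exact hφ₁
    · rw [hcardO, Finset.card_pair hne.symm]
  obtain ⟨n, hn⟩ : ∃ n : nor P, n • φ₀ = φ₁ := hOfin.mem_toFinset.mp hφ₁
  have hnC : (n : G) ∉ cen P := by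
    intro h
    apply hne
    rw [← hn, smul_eq_of_mem_cen P n φ₀ h]
  have hniN : ((n : G))⁻¹ ∈ nor P := (nor P).inv_mem n.2
  have hniC : ((n : G))⁻¹ ∉ cen P := fun h => hnC (by simpa using (cen P).inv_mem h)
  -- `φ₁ c = φ₀ c⁻¹` on `P`
  have hφ₁val : ∀ x : G, ∀ hx : x ∈ (P : Subgroup G),
      (φ₁ : cen P → ℂ) ⟨x, le_cen P hP hx⟩ =
        (φ₀ : cen P → ℂ) ⟨x⁻¹, le_cen P hP ((P : Subgroup G).inv_mem hx)⟩ := by
    intro x hx
    rw [← hn, smul_irr_apply]
    apply congrArg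
    apply Subtype.ext
    rw [coe_normConj_symm]
    have := hinv _ hniN hniC x hx
    simpa using this
  -- multiplicativity of `φ₀`
  have hφ₀1 : (φ₀ : cen P → ℂ) 1 = 1 := hOone φ₀ hφ₀O
  have hmul : ∀ a b : cen P, (φ₀ : cen P → ℂ) (a * b) = (φ₀ : cen P → ℂ) a * (φ₀ : cen P → ℂ) b :=
    Helper79.isCharacter_linear_mul (Helper74.irr_isCharacter φ₀) hφ₀1
  set cu : cen P := ⟨u, le_cen P hP hu⟩ with hcu
  set cui : cen P := ⟨u⁻¹, le_cen P hP ((P : Subgroup G).inv_mem hu)⟩ with hcui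
  have hcc : cu * cui = 1 := by
    apply Subtype.ext
    show u * u⁻¹ = 1
    exact mul_inv_cancel u
  have hprod : (φ₀ : cen P → ℂ) cu * (φ₀ : cen P → ℂ) cui = 1 := by
    rw [← hmul, hcc, hφ₀1]
  have hsq1 : (φ₀ : cen P → ℂ) ⟨u * u, le_cen P hP ((P : Subgroup G).mul_mem hu hu)⟩ =
      (φ₀ : cen P → ℂ) cu * (φ₀ : cen P → ℂ) cu := by
    rw [← hmul]
    rfl
  have hsq2 : (φ₁ : cen P → ℂ) ⟨u * u, le_cen P hP ((P : Subgroup G).mul_mem hu hu)⟩ =
      (φ₀ : cen P → ℂ) cui * (φ₀ : cen P → ℂ) cui := by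
    rw [hφ₁val (u * u) ((P : Subgroup G).mul_mem hu hu), ← hmul]
    apply congrArg
    apply Subtype.ext
    show (u * u)⁻¹ = u⁻¹ * u⁻¹
    rw [mul_inv_rev]
  have hψu : (ψ : G → ℂ) u = (δ : ℂ) * ((φ₀ : cen P → ℂ) cu + (φ₀ : cen P → ℂ) cui) := by
    have := hval cu (dvd_orderOf_of_mem P hP u hu hu1)
    rw [hOeq, Finset.sum_pair hne.symm, hφ₁val u hu] at this
    exact this
  rw [finsum_mem_eq_finite_toFinset_sum _ hOfin, hOeq, Finset.sum_pair hne.symm, hsq1, hsq2, hψu]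
  linear_combination ((φ₀ : cen P → ℂ) cu + (φ₀ : cen P → ℂ) cui) ^ 2 * hδ2 + 2 * hprod

open Classical in
/-- (P23) with the inversion hypothesis `(P07)` as an explicit assumption -/
theorem finsum_Y0_sq_of_inv (hP : Nat.card P = p)
    [((P : Subgroup G).subgroupOf (nor P)).Normal] (hmod : ModCount p P) (hp2 : 2 < p)
    (hf : (cen P).relIndex (nor P) = 2)
    (hinv : ∀ t : G, t ∈ nor P → t ∉ cen P → ∀ x : G, x ∈ (P : Subgroup G) → t * x * t⁻¹ = x⁻¹)
    {X Y : Set (IrrCharacter G)} {ε : IrrCharacter G → ℤ} {δ : ℤ}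
    (D : IsRData P (oneIrr P) X Y ε δ) (u : G) (hu : u ∈ (P : Subgroup G)) (hu1 : u ≠ 1) :
    ∑ᶠ ψ ∈ Y, (ψ : G → ℂ) u * (ψ : G → ℂ) u = (p : ℂ) - 2 := by
  letI : Fintype (cen P) := Fintype.ofFinite _
  have : Finite (IrrCharacter (cen P)) := Helper79.irr_finite'
  letI : Fintype (IrrCharacter (cen P)) := Fintype.ofFinite _
  have : Finite (IrrCharacter G) := Helper79.irr_finite'
  have hp : p.Prime := Fact.out
  have huu : u * u ∈ (P : Subgroup G) := (P : Subgroup G).mul_mem hu hu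
  set c2 : cen P := ⟨u * u, le_cen P hP huu⟩ with hc2
  -- `u * u ≠ 1`
  have huu1 : u * u ≠ 1 := by
    intro h
    have h1 : orderOf u ∣ 2 := orderOf_dvd_of_pow_eq_one (by rw [pow_two]; exact h)
    have h2 : p ∣ orderOf u := by
      have := dvd_orderOf_of_mem P hP u hu hu1
      rwa [Subgroup.orderOf_mk] at this
    have h3 : p ∣ 2 := h2.trans h1
    have := Nat.le_of_dvd (by norm_num) h3
    omega
  have hc2s : p ∣ orderOf c2 := dvd_orderOf_of_mem P hP (u * u) huu huu1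
  have hYfin : Y.Finite := Set.toFinite Y
  have hZfin : (Z1 P).Finite := Set.toFinite _
  -- the fibres
  set S : IrrCharacter G → Set (IrrCharacter (cen P)) :=
    fun ψ => {φ | φ ∈ Z1 P ∧ rowZ P ψ φ ≠ 0} with hS
  have hSfin : ∀ ψ, (S ψ).Finite := fun ψ => Set.toFinite _
  have hterm : ∀ ψ ∈ Y, (ψ : G → ℂ) u * (ψ : G → ℂ) u =
      (∑ φ ∈ (hSfin ψ).toFinset, (φ : cen P → ℂ) c2) + 2 := by
    intro ψ hψ
    rw [Y0_apply_sq P hP hmod hf hinv D u hu hu1 ψ hψ,
      finsum_mem_eq_finite_toFinset_sum _ (hSfin ψ)]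
  rw [finsum_mem_eq_finite_toFinset_sum _ hYfin,
    Finset.sum_congr rfl (fun ψ hψ => hterm ψ (hYfin.mem_toFinset.mp hψ)),
    Finset.sum_add_distrib, Finset.sum_const, nsmul_eq_mul]
  -- the partition of `Z1`
  have hbi : hZfin.toFinset = hYfin.toFinset.biUnion (fun ψ => (hSfin ψ).toFinset) := by
    ext φ
    simp only [Set.Finite.mem_toFinset, Finset.mem_biUnion]
    constructor
    · intro hφ
      obtain ⟨ψ, hψ, hne⟩ := D.exY φ hφ.1 hφ.2
      exact ⟨ψ, hψ, hφ, hne⟩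
    · rintro ⟨ψ, -, hφ, -⟩
      exact hφ
  have hdisj : ∀ ψ ∈ hYfin.toFinset, ∀ ψ' ∈ hYfin.toFinset, ψ ≠ ψ' →
      Disjoint (hSfin ψ).toFinset (hSfin ψ').toFinset := by
    intro ψ hψ ψ' hψ' hne
    rw [Finset.disjoint_left]
    intro φ h1 h2
    rw [Set.Finite.mem_toFinset] at h1 h2
    exact hne (D.uniqY ψ (hYfin.mem_toFinset.mp hψ) ψ' (hYfin.mem_toFinset.mp hψ') φ h1.1.1 h1.1.2
      h1.2 h2.2)
  have hsumZ : ∑ ψ ∈ hYfin.toFinset, ∑ φ ∈ (hSfin ψ).toFinset, (φ : cen P → ℂ) c2 = -1 := by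
    rw [← Finset.sum_biUnion hdisj, ← hbi, ← finsum_mem_eq_finite_toFinset_sum _ hZfin]
    exact Helper81.BH.finsum_Z1_apply_singular P hP c2 hc2s
  rw [hsumZ]
  -- the number of exceptional characters
  have hcardY : hYfin.toFinset.card = (p - 1) / 2 := by
    rw [← hf, ← inertia_oneIrr P hP, ← D.cardY, ← Set.ncard_eq_toFinset_card _ hYfin]
    exact (Nat.card_coe_set_eq _).symm
  rw [hcardY]
  have hodd : p % 2 = 1 := by
    rcases hp.eq_two_or_odd with h | h
    · omega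
    · exact h
  have h2 : (((p - 1) / 2 : ℕ) : ℂ) * 2 = (p : ℂ) - 1 := by
    have : (p - 1) / 2 * 2 = p - 1 := by omega
    have h3 : (((p - 1) / 2 * 2 : ℕ) : ℂ) = ((p - 1 : ℕ) : ℂ) := by rw [this]
    rw [Nat.cast_mul, Nat.cast_sub hp.one_lt.le] at h3
    simpa using h3
  rw [h2]
  ring

/-- an element of `N ∖ C` inverts `P` when `|N : C| = 2` (own proof of `(P07)`) -/
theorem conj_eq_inv' (hP : Nat.card P = p) (hf : (cen P).relIndex (nor P) = 2)
    (t : G) (htN : t ∈ nor P) (htC : t ∉ cen P) (x : G) (hx : x ∈ (P : Subgroup G)) :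
    t * x * t⁻¹ = x⁻¹ := by
  have hnorm : t ∈ Subgroup.normalizer ((P : Subgroup G) : Set G) := by
    rw [← nor_eq_normalizer P hP]; exact htN
  have hσ : ∀ z ∈ (P : Subgroup G), t * z * t⁻¹ ∈ (P : Subgroup G) :=
    fun z hz => (Subgroup.mem_normalizer_iff.mp hnorm z).mp hz
  have htt : t * t ∈ cen P := by
    have hidx : ((cen P).subgroupOf (nor P)).index = 2 := hf
    have := Subgroup.mul_self_mem_of_index_two hidx (⟨t, htN⟩ : nor P)
    exact this
  have hcomm : ∀ a ∈ (P : Subgroup G), ∀ b ∈ (P : Subgroup G), a * b = b * a := by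
    intro a ha b hb
    have h1 : b ∈ cen P := le_cen P hP hb
    exact (Subgroup.mem_centralizer_iff.mp h1) a ha
  set y := x * (t * x * t⁻¹) with hy_def
  have hy : y ∈ (P : Subgroup G) := (P : Subgroup G).mul_mem hx (hσ x hx)
  have hyfix : t * y * t⁻¹ = y := by
    have h2 : t * (t * x * t⁻¹) * t⁻¹ = x := by
      have hc := (Subgroup.mem_centralizer_iff.mp htt) x hx
      calc t * (t * x * t⁻¹) * t⁻¹ = (t * t * x) * t⁻¹ * t⁻¹ := by group
        _ = x * (t * t) * t⁻¹ * t⁻¹ := by rw [hc]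
        _ = x := by group
    calc t * y * t⁻¹ = (t * x * t⁻¹) * (t * (t * x * t⁻¹) * t⁻¹) := by rw [hy_def]; group
      _ = (t * x * t⁻¹) * x := by rw [h2]
      _ = y := hcomm _ (hσ x hx) _ hx
  by_cases hy1 : y = 1
  · exact eq_inv_of_mul_eq_one_right hy1
  · exfalso
    apply htC
    show t ∈ Subgroup.centralizer ((P : Subgroup G) : Set G)
    rw [Subgroup.mem_centralizer_iff]
    intro z hz
    have hmem : (⟨z, hz⟩ : (P : Subgroup G)) ∈ Subgroup.zpowers (⟨y, hy⟩ : (P : Subgroup G)) :=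
      mem_zpowers_of_prime_card hP (by intro h; exact hy1 (congrArg Subtype.val h))
    obtain ⟨k, hk⟩ := hmem
    have hzk : z = y ^ k := by
      have := congrArg Subtype.val hk
      simpa using this.symm
    have hty : Commute t y := by
      show t * y = y * t
      calc t * y = (t * y * t⁻¹) * t := by group
        _ = y * t := by rw [hyfix]
    rw [hzk]
    exact ((hty.zpow_right k).eq).symm

/-- (P23) the squares of the values at `u ∈ P ∖ 1` of the exceptional characters of the principal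
block sum to `p - 2` when `|N : C| = 2` -/
theorem finsum_Y0_sq (hP : Nat.card P = p)
    [((P : Subgroup G).subgroupOf (nor P)).Normal] (hmod : ModCount p P) (hp2 : 2 < p)
    (hf : (cen P).relIndex (nor P) = 2)
    {X Y : Set (IrrCharacter G)} {ε : IrrCharacter G → ℤ} {δ : ℤ}
    (D : IsRData P (oneIrr P) X Y ε δ) (u : G) (hu : u ∈ (P : Subgroup G)) (hu1 : u ≠ 1) :
    ∑ᶠ ψ ∈ Y, (ψ : G → ℂ) u * (ψ : G → ℂ) u = (p : ℂ) - 2 :=
  finsum_Y0_sq_of_inv P hP hmod hp2 hf (conj_eq_inv' P hP hf) D u hu hu1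

end Cfsg.Agent.Helper31.B66
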