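import Cfsg.Agent.Helper31.B66P23

/-!
# (P24) for helper16's S4705 : the class constant sum over the principal block at `u, u, w`
-/

set_option autoImplicit false

namespace Cfsg.Agent.Helper31.B66

open Cfsg Cfsg.Agent.Helper16 Cfsg.Agent.Helper16.DefOne Cfsg.Agent.Helper82.DefOne
  Cfsg.Agent.Helper77.DefOne Cfsg.Agent.Helper57.BH Cfsg.Agent.Helper57.BP
open scoped ComplexConjugate

universe u

variable {G : Type u} [Group G] [Fintype G] {p : ℕ} [Fact p.Prime] (P : Sylow p G)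

/-- (P24) the class constant sum over the principal block at `u, u, w` -/
theorem tsum_Rset_one_uuw (hP : Nat.card P = p)
    [((P : Subgroup G).subgroupOf (nor P)).Normal] (hmod : ModCount p P) (hp2 : 2 < p)
    (hf : (cen P).relIndex (nor P) = 2)
    {X Y : Set (IrrCharacter G)} {ε : IrrCharacter G → ℤ} {δ : ℤ}
    (D : IsRData P (oneIrr P) X Y ε δ) (u : G) (hu : u ∈ (P : Subgroup G)) (hu1 : u ≠ 1)
    (w : G) (hw : ¬ p ∣ orderOf w) (ψ₀ : IrrCharacter G) (hψ₀ : ψ₀ ∈ Y) :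
    tsum (Rset P (oneIrr P)) u u w =
      (∑ᶠ χ ∈ X, conj ((χ : G → ℂ) w) / (χ : G → ℂ) 1) +
        ((p : ℂ) - 2) * (conj ((ψ₀ : G → ℂ) w) / (ψ₀ : G → ℂ) 1) := by
  have : Finite (IrrCharacter G) := Helper79.irr_finite'
  have hp : p.Prime := Fact.out
  have hXfin : X.Finite := Set.toFinite X
  have hYfin : Y.Finite := Set.toFinite Y
  have hus : p ∣ orderOf u := by
    have := dvd_orderOf_of_mem P hP u hu hu1
    rwa [Subgroup.orderOf_mk] at this
  have h1reg : ¬ p ∣ orderOf (1 : G) := by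
    rw [orderOf_one]; exact hp.not_dvd_one
  have hδ0 : (δ : ℂ) ≠ 0 := by
    rcases D.del with h | h <;> rw [h] <;> norm_num
  -- all the exceptional characters agree on `p`-regular elements
  have hreg : ∀ ψ ∈ Y, ∀ g : G, ¬ p ∣ orderOf g → (ψ : G → ℂ) g = (ψ₀ : G → ℂ) g := by
    intro ψ hψ g hg
    have h1 := D.rel ψ hψ g hg
    have h2 := D.rel ψ₀ hψ₀ g hg
    exact mul_left_cancel₀ hδ0 (h1.trans h2.symm)
  unfold Helper57.BP.tsum
  rw [D.union, finsum_mem_union D.disj hXfin hYfin]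
  congr 1
  · -- the non-exceptional characters
    refine finsum_mem_congr rfl fun χ hχ => ?_
    rw [apply_singular_X0 P hP D χ hχ u hus]
    have : (ε χ : ℂ) * (ε χ : ℂ) = 1 := by
      rcases D.eps χ with h | h <;> rw [h] <;> norm_num
    rw [this, one_mul]
  · -- the exceptional characters
    have h1 : ∀ ψ ∈ Y, (ψ : G → ℂ) u * (ψ : G → ℂ) u * conj ((ψ : G → ℂ) w) / (ψ : G → ℂ) 1 =
        (ψ : G → ℂ) u * (ψ : G → ℂ) u * (conj ((ψ₀ : G → ℂ) w) / (ψ₀ : G → ℂ) 1) := by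
      intro ψ hψ
      rw [hreg ψ hψ w hw, hreg ψ hψ 1 h1reg, mul_div_assoc]
    rw [finsum_mem_congr rfl h1, ← finsum_mem_mul' _ _ hYfin,
      finsum_Y0_sq P hP hmod hp2 hf D u hu hu1]

end Cfsg.Agent.Helper31.B66
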