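import Cfsg.Agent.Helper16.PC.Defs

/-!
# Piece (IVc) of helper16's S4427 skeleton (#12085): the arithmetic of the final comparison.
-/

set_option autoImplicit false
set_option linter.unusedSectionVars false
set_option linter.unusedVariables false

namespace Cfsg.Agent.Helper31.PC

open Cfsg Cfsg.Agent.Helper16 Cfsg.Agent.Helper16.PC Polynomial
open scoped ComplexConjugate

universe u

variable {G : Type u} [Group G] [Fintype G] {M : Ideal AlgInt} {p : ℕ}

/-- (IVc) the arithmetic of the final comparison. -/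
theorem PC_IVc {ι : Type*} [Fintype ι] (a : ι → ℤ) (φ α β : ι → ℕ) (P : ℕ) (i₀ : ι)
    (hφα : ∀ i, φ i ≤ α i) (hφβ : ∀ i, φ i ≤ β i) (ha : ∑ i, (a i) ^ 2 = (P : ℤ))
    (hαβ : ∑ i, α i * β i = P) (hN : (P : ℤ) ≤ |∑ i, a i * (φ i : ℤ)|)
    (ha₀ : a i₀ = 1) (hφ₀ : φ i₀ = 1) : ∀ i, a i = (φ i : ℤ) := by
  have hφ2 : ∑ i, ((φ i : ℤ)) ^ 2 ≤ (P : ℤ) := by
    have h1 : ∑ i, (φ i) ^ 2 ≤ ∑ i, α i * β i := by
      apply Finset.sum_le_sum
      intro i _
      rw [pow_two]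
      exact Nat.mul_le_mul (hφα i) (hφβ i)
    rw [hαβ] at h1
    exact_mod_cast h1
  rcases le_abs.mp hN with h | h
  · have hsum : ∑ i, (a i - (φ i : ℤ)) ^ 2 ≤ 0 := by
      have h2 : ∑ i, (a i - (φ i : ℤ)) ^ 2 =
          ∑ i, (a i) ^ 2 - 2 * ∑ i, a i * (φ i : ℤ) + ∑ i, ((φ i : ℤ)) ^ 2 := by
        rw [Finset.mul_sum, ← Finset.sum_sub_distrib, ← Finset.sum_add_distrib]
        apply Finset.sum_congr rfl
        intro i _
        ring
      rw [h2, ha]
      linarith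
    have hzero : ∀ i ∈ Finset.univ, (a i - (φ i : ℤ)) ^ 2 = 0 := by
      apply (Finset.sum_eq_zero_iff_of_nonneg (fun i _ => sq_nonneg _)).mp
      exact le_antisymm hsum (Finset.sum_nonneg (fun i _ => sq_nonneg _))
    intro i
    have h3 := hzero i (Finset.mem_univ i)
    have h4 : a i - (φ i : ℤ) = 0 := pow_eq_zero_iff (two_ne_zero) |>.mp h3
    linarith
  · exfalso
    have hsum : ∑ i, (a i + (φ i : ℤ)) ^ 2 ≤ 0 := by
      have h2 : ∑ i, (a i + (φ i : ℤ)) ^ 2 =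
          ∑ i, (a i) ^ 2 + 2 * ∑ i, a i * (φ i : ℤ) + ∑ i, ((φ i : ℤ)) ^ 2 := by
        rw [Finset.mul_sum, ← Finset.sum_add_distrib, ← Finset.sum_add_distrib]
        apply Finset.sum_congr rfl
        intro i _
        ring
      rw [h2, ha]
      linarith
    have hzero : ∀ i ∈ Finset.univ, (a i + (φ i : ℤ)) ^ 2 = 0 := by
      apply (Finset.sum_eq_zero_iff_of_nonneg (fun i _ => sq_nonneg _)).mp
      exact le_antisymm hsum (Finset.sum_nonneg (fun i _ => sq_nonneg _))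
    have h3 := hzero i₀ (Finset.mem_univ i₀)
    rw [ha₀, hφ₀] at h3
    norm_num at h3

end Cfsg.Agent.Helper31.PC
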