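import Cfsg.Agent.Helper16.PC.Defs

/-!
# Piece (Ic) of helper16's S4427 skeleton (#12085): linear factors with roots in the local ideal are
coprime, over the local ring, to linear factors with roots outside it.
-/

set_option autoImplicit false
set_option linter.unusedSectionVars false
set_option linter.unusedVariables false

namespace Cfsg.Agent.Helper31.PC

open Cfsg Cfsg.Agent.Helper16 Cfsg.Agent.Helper16.PC Polynomial
open scoped ComplexConjugate

universe u

variable {G : Type u} [Group G] [Fintype G] {M : Ideal AlgInt} {p : ℕ}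

/-- two linear factors, one root in the local ideal and one outside, are coprime over the
local ring. -/
theorem PC_Ic_pair [M.IsPrime] (a b : localSubring M) (ha : MemLocalIdeal M (a : ℂ))
    (hb : ¬ MemLocalIdeal M (b : ℂ)) :
    IsCoprime ((X : (localSubring M)[X]) - C a) (X - C b) := by
  have hba : ¬ MemLocalIdeal M ((b : ℂ) - (a : ℂ)) := not_memLocalIdeal_sub hb ha
  have hmem : MemLocalRing M ((b : ℂ) - (a : ℂ)) := memLocalRing_sub b.2 a.2
  have hinv : MemLocalRing M ((b : ℂ) - (a : ℂ))⁻¹ := memLocalRing_inv hmem hba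
  have hne : (b : ℂ) - (a : ℂ) ≠ 0 := by
    intro h
    rw [h] at hba
    exact hba memLocalIdeal_zero
  obtain ⟨u, hu⟩ : ∃ u : localSubring M, u * (b - a) = 1 := by
    refine ⟨⟨((b : ℂ) - (a : ℂ))⁻¹, hinv⟩, ?_⟩
    apply Subtype.ext
    show ((b : ℂ) - (a : ℂ))⁻¹ * ((b : ℂ) - (a : ℂ)) = 1
    exact inv_mul_cancel₀ hne
  refine ⟨C u, -C u, ?_⟩
  have h1 : C u * ((X : (localSubring M)[X]) - C a) + -C u * (X - C b) = C (u * (b - a)) := by
    rw [C_mul, C_sub]
    ring
  rw [h1, hu, C_1]

/-- (Ic) linear factors with roots in the local ideal are coprime, over the local ring, to linear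
factors with roots outside it. -/
theorem PC_Ic [M.IsPrime] (A B : Multiset (localSubring M))
    (hA : ∀ a ∈ A, MemLocalIdeal M (a : ℂ)) (hB : ∀ b ∈ B, ¬ MemLocalIdeal M (b : ℂ)) :
    IsCoprime ((A.map (fun a => (X : (localSubring M)[X]) - C a)).prod)
      ((B.map (fun b => (X : (localSubring M)[X]) - C b)).prod) := by
  refine Multiset.prod_induction
    (fun y => IsCoprime y ((B.map (fun b => (X : (localSubring M)[X]) - C b)).prod)) _
    (fun y z hy hz => hy.mul_left hz) isCoprime_one_left ?_
  intro y hy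
  obtain ⟨a, haA, rfl⟩ := Multiset.mem_map.mp hy
  refine Multiset.prod_induction
    (fun z => IsCoprime ((X : (localSubring M)[X]) - C a) z) _
    (fun y z hy hz => hy.mul_right hz) isCoprime_one_right ?_
  intro z hz
  obtain ⟨b, hbB, rfl⟩ := Multiset.mem_map.mp hz
  exact PC_Ic_pair a b (hA a haA) (hB b hbB)

end Cfsg.Agent.Helper31.PC
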