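import Cfsg.Agent.Helper18.InvOdd.G2D

/-!
# (C5b) for helper18's S4279 (#11843): the parametrisation `cPhi` of the centraliser of `τ` in `G₂(F)` is injective

`CParam`, `cPhi` are textual copies of the definitions of the skeleton `tools/helper18_g2inv/SkelC.lean.txt`
(which are not on main).  `cPhi p = b * nW w * u` with `b ∈ B`, `w` one of four canonical words and `u ∈ U_w⁻`
(`cPhi_eq`), so the sharp Bruhat decomposition (`bruhat_unique`, `nW_coset_inj`) and the unique expression in `U`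
(`uprod_inj`, `U ⊓ H = ⊥`) give injectivity.
-/

set_option autoImplicit false
set_option linter.unusedSectionVars false

namespace Cfsg.Agent.Helper31.G2OddC

open Cfsg Cfsg.Lie Cfsg.Agent.Helper18 Cfsg.Agent.Helper18.G2Odd Cfsg.Agent.Helper40.SL2Hom

variable {F : Type*} [Field F]

/-- the parameter space of the centraliser: `(a, b, k)` and one of four cells -/
abbrev CParam (F : Type*) [Field F] : Type _ :=
  (F × F × ↥(chevG2.diagonalSubgroup F)) × (Unit ⊕ F ⊕ F ⊕ (F × F))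

/-- the parametrisation `X_6(a) X_9(b) k ν u` of the centraliser of `τ` -/
noncomputable def cPhi (p : CParam F) : GL chevG2.Idx F :=
  X 6 p.1.1 * X 9 p.1.2.1 * (p.1.2.2 : GL chevG2.Idx F) *
    (match p.2 with
      | Sum.inl _ => 1
      | Sum.inr (Sum.inl s) => nW [1] * X 6 s
      | Sum.inr (Sum.inr (Sum.inl s')) => nW [0, 1, 0, 1, 0] * X 9 s'
      | Sum.inr (Sum.inr (Sum.inr (s, s'))) => nW [0, 1, 0, 1, 0, 1] * (X 6 s * X 9 s'))

/-- the word of a cell -/
def cellWord : (Unit ⊕ F ⊕ F ⊕ (F × F)) → List ℕ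
  | Sum.inl _ => []
  | Sum.inr (Sum.inl _) => [1]
  | Sum.inr (Sum.inr (Sum.inl _)) => [0, 1, 0, 1, 0]
  | Sum.inr (Sum.inr (Sum.inr _)) => [0, 1, 0, 1, 0, 1]

/-- the unipotent part of a cell -/
noncomputable def cellU : (Unit ⊕ F ⊕ F ⊕ (F × F)) → GL chevG2.Idx F
  | Sum.inl _ => 1
  | Sum.inr (Sum.inl s) => X 6 s
  | Sum.inr (Sum.inr (Sum.inl s')) => X 9 s'
  | Sum.inr (Sum.inr (Sum.inr (s, s'))) => X 6 s * X 9 s'

theorem cPhi_eq (p : CParam F) :
    cPhi p = (X 6 p.1.1 * X 9 p.1.2.1 * (p.1.2.2 : GL chevG2.Idx F)) * nW (cellWord p.2) * cellU p.2 := by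
  rcases p with ⟨⟨a, b, k⟩, (_ | s | s' | ⟨s, s'⟩)⟩
  · simp only [cPhi, cellWord, cellU, nW_nil, mul_one]
  · simp only [cPhi, cellWord, cellU, mul_assoc]
  · simp only [cPhi, cellWord, cellU, mul_assoc]
  · simp only [cPhi, cellWord, cellU, mul_assoc]

theorem cellWord_mem (c : Unit ⊕ F ⊕ F ⊕ (F × F)) : cellWord c ∈ canon12 := by
  rcases c with (_ | s | s' | ⟨s, s'⟩) <;> simp only [cellWord] <;> decide

theorem X_mem_neg (r : ℕ) (hr : chevG2.IsNegRoot r) (t : F) : X r t ∈ chevG2.negUnipotent F := by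
  apply Subgroup.subset_closure
  exact ⟨r, t, hr, by rw [X, xGL_val chevG2 _ (triOK_of_mem chevG2 hG2)]⟩

/-- a positive root element lies in `U_w⁻` when `w` makes its root negative -/
theorem X_mem_Um_of_rho (w : List ℕ) (hw : ∀ i ∈ w, i < 2) (s : ℕ) (hs : 6 ≤ s ∧ s < 12)
    (hneg : chevG2.IsNegRoot (rho chevG2 w s)) (t : F) : X s t ∈ Um (nW (F := F) w) := by
  apply X_mem_Um s hs
  intro t'
  obtain ⟨-, η, -, h⟩ := nW_conj (F := F) w hw s hs.2
  rw [h t']
  exact X_mem_neg _ hneg _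

theorem cellU_mem (c : Unit ⊕ F ⊕ F ⊕ (F × F)) : cellU c ∈ Um (nW (F := F) (cellWord c)) := by
  rcases c with (_ | s | s' | ⟨s, s'⟩)
  · exact one_mem _
  · exact X_mem_Um_of_rho [1] (by decide) 6 (by decide) (by decide) s
  · exact X_mem_Um_of_rho [0, 1, 0, 1, 0] (by decide) 9 (by decide) (by decide) s'
  · exact mul_mem (X_mem_Um_of_rho [0, 1, 0, 1, 0, 1] (by decide) 6 (by decide) (by decide) s)
      (X_mem_Um_of_rho [0, 1, 0, 1, 0, 1] (by decide) 9 (by decide) (by decide) s')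

/-- `X_6(a) X_9(b)` as an ordered product -/
theorem X6_X9_eq_uprod (a b : F) :
    X 6 a * X 9 b = uprod (fun r => if r = 6 then a else if r = 9 then b else 0) := by
  unfold uprod
  simp only [show (7 : ℕ) ≠ 6 by decide, show (7 : ℕ) ≠ 9 by decide, show (8 : ℕ) ≠ 6 by decide,
    show (8 : ℕ) ≠ 9 by decide, show (9 : ℕ) ≠ 6 by decide, show (10 : ℕ) ≠ 6 by decide,
    show (10 : ℕ) ≠ 9 by decide, show (11 : ℕ) ≠ 6 by decide, show (11 : ℕ) ≠ 9 by decide, if_true, if_false,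
    X_zero, mul_one]

theorem X6_X9_inj {a b a' b' : F} (h : X 6 a * X 9 b = X 6 a' * X 9 b') : a = a' ∧ b = b' := by
  rw [X6_X9_eq_uprod, X6_X9_eq_uprod] at h
  have h6 := uprod_inj _ _ h 6 (by decide) (by decide)
  have h9 := uprod_inj _ _ h 9 (by decide) (by decide)
  simp only [if_true, show (9 : ℕ) ≠ 6 by decide, if_false] at h6 h9
  exact ⟨h6, h9⟩

theorem cell_inj {c c' : Unit ⊕ F ⊕ F ⊕ (F × F)} (hw : cellWord c = cellWord c') (hu : cellU c = cellU c') :
    c = c' := by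
  rcases c with (_ | s | s' | ⟨s, s'⟩) <;> rcases c' with (_ | r | r' | ⟨r, r'⟩) <;>
    simp only [cellWord] at hw <;> first | exact absurd hw (by decide) | skip
  · rfl
  · simp only [cellU] at hu
    rw [X_injective 6 (by decide) s r hu]
  · simp only [cellU] at hu
    rw [X_injective 9 (by decide) s' r' hu]
  · simp only [cellU] at hu
    obtain ⟨h1, h2⟩ := X6_X9_inj hu
    rw [h1, h2]

/-- (C5b) the parametrisation is injective. -/
theorem cPhi_inj : Function.Injective (cPhi (F := F)) := by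
  intro p p' h
  rw [cPhi_eq, cPhi_eq] at h
  have hB : ∀ q : CParam F, X 6 q.1.1 * X 9 q.1.2.1 * (q.1.2.2 : GL chevG2.Idx F) ∈ chevG2.borelSubgroup F := by
    intro q
    exact mul_mem ((le_sup_left : chevG2.posUnipotent F ≤ chevG2.borelSubgroup F)
      (mul_mem (X_mem_pos 6 (by decide) _) (X_mem_pos 9 (by decide) _)))
      ((le_sup_right : chevG2.diagonalSubgroup F ≤ chevG2.borelSubgroup F) q.1.2.2.2)
  have hN : ∀ q : CParam F, nW (F := F) (cellWord q.2) ∈ chevG2.monomialSubgroup F :=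
    fun q => nW_mem _ (canon_lt _ (cellWord_mem q.2))
  obtain ⟨h1, h2⟩ := bruhat_unique _ _ _ _ _ _ (hB p) (hB p') (hN p) (hN p') (cellU_mem p.2) (cellU_mem p'.2) h
  have hw : cellWord p.2 = cellWord p'.2 := nW_coset_inj _ _ (cellWord_mem p.2) (cellWord_mem p'.2) h1
  obtain ⟨hb, hu⟩ := h2 (by rw [hw])
  have hc : p.2 = p'.2 := cell_inj hw hu
  -- the Borel part
  have hUH := (Cfsg.Agent.S1036.result (F := F) chevG2 hG2).2
  have hmem : (X 6 p'.1.1 * X 9 p'.1.2.1)⁻¹ * (X 6 p.1.1 * X 9 p.1.2.1) ∈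
      chevG2.posUnipotent F ⊓ chevG2.diagonalSubgroup F := by
    refine Subgroup.mem_inf.mpr ⟨?_, ?_⟩
    · exact mul_mem (inv_mem (mul_mem (X_mem_pos 6 (by decide) _) (X_mem_pos 9 (by decide) _)))
        (mul_mem (X_mem_pos 6 (by decide) _) (X_mem_pos 9 (by decide) _))
    · have e : (X 6 p'.1.1 * X 9 p'.1.2.1)⁻¹ * (X 6 p.1.1 * X 9 p.1.2.1) =
          (p'.1.2.2 : GL chevG2.Idx F) * (p.1.2.2 : GL chevG2.Idx F)⁻¹ := by
        rw [inv_mul_eq_iff_eq_mul, ← mul_assoc, ← hb, mul_inv_cancel_right]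
      rw [e]
      exact mul_mem p'.1.2.2.2 (inv_mem p.1.2.2.2)
  rw [hUH, Subgroup.mem_bot, inv_mul_eq_one] at hmem
  obtain ⟨ha, hb'⟩ := X6_X9_inj hmem.symm
  have hk : p.1.2.2 = p'.1.2.2 := by
    apply Subtype.ext
    rw [← hmem] at hb
    exact mul_left_cancel hb
  rcases p with ⟨⟨a, b, k⟩, c⟩
  rcases p' with ⟨⟨a', b', k'⟩, c'⟩
  simp only at ha hb' hk hc
  rw [ha, hb', hk, hc]

end Cfsg.Agent.Helper31.G2OddC
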