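import Cfsg.Agent.Helper18.InvOdd.G2D
import Cfsg.Agent.Helper31.G2OddC5b

/-!
# (C5d) for helper18's S4279 (#11843): `|C_G(τ)| = q² (q² - 1)²` from the parametrisation `cPhi`
(`CParam`, `cPhi` are the textual copies of the skeleton's definitions in `Helper31.G2OddC5b`)
-/

set_option autoImplicit false
set_option linter.unusedSectionVars false

namespace Cfsg.Agent.Helper31.G2OddC

open Cfsg Cfsg.Lie Cfsg.Agent.Helper18 Cfsg.Agent.Helper18.G2Odd Cfsg.Agent.Helper40.SL2Hom

variable {F : Type*} [Field F]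

/-- (C5d) the order of the centraliser of `τ`, from (C5a), (C5b), (C5c). -/
theorem card_centralizer_tau [Fintype F]
    (hmem : ∀ p : CParam F, cPhi p ∈ chevG2.group F ∧ cPhi p * tau = tau * cPhi p)
    (hsurj : ∀ g : GL chevG2.Idx F, g ∈ chevG2.group F → g * tau = tau * g → ∃ p : CParam F, cPhi p = g)
    (hinj : Function.Injective (cPhi (F := F))) :
    Nat.card ↥(Subgroup.centralizer ({tau} : Set (GL chevG2.Idx F)) ⊓ chevG2.group F) =
      Fintype.card F ^ 2 * (Fintype.card F ^ 2 - 1) ^ 2 := by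
  classical
  have e : CParam F ≃ ↥(Subgroup.centralizer ({tau} : Set (GL chevG2.Idx F)) ⊓ chevG2.group F) := by
    refine Equiv.ofBijective (fun p => ⟨cPhi p, Subgroup.mem_inf.mpr
      ⟨Subgroup.mem_centralizer_singleton_iff.mpr (hmem p).2, (hmem p).1⟩⟩) ⟨?_, ?_⟩
    · intro p p' h
      exact hinj (congrArg Subtype.val h)
    · rintro ⟨g, hg⟩
      obtain ⟨hg1, hg2⟩ := Subgroup.mem_inf.mp hg
      obtain ⟨p, hp⟩ := hsurj g hg2 (Subgroup.mem_centralizer_singleton_iff.mp hg1)
      exact ⟨p, Subtype.ext hp⟩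
  rw [← Nat.card_congr e]
  have hH : Finite ↥(chevG2.diagonalSubgroup F) := inferInstance
  have hU : Nat.card Unit = 1 := by rw [Nat.card_eq_fintype_card, Fintype.card_unit]
  rw [Nat.card_prod, Nat.card_prod, Nat.card_prod, Nat.card_sum, Nat.card_sum, Nat.card_sum, Nat.card_prod,
    hU, card_diagonal, Nat.card_eq_fintype_card]
  obtain ⟨n, hn⟩ : ∃ n, Fintype.card F = n + 1 := ⟨Fintype.card F - 1, by
    have := Fintype.card_pos (α := F); omega⟩
  rw [hn]
  have h1 : (n + 1) ^ 2 - 1 = n * (n + 2) := by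
    have : (n + 1) ^ 2 = n * (n + 2) + 1 := by ring
    omega
  rw [h1, Nat.add_sub_cancel]
  ring

end Cfsg.Agent.Helper31.G2OddC
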