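import Cfsg.Agent.Helper23.SteinX1a

/-!
# Minimal coset representatives: left versions, Deodhar's lemma, double cosets

Piece (X1b) of the Steinberg-character package (on top of `Helper6.ExchData` and the right-coset
theory `Helper23.SteinX1a`).
-/

set_option autoImplicit false


namespace Cfsg.Agent.Helper31.SteinX1b

open Cfsg.Agent.Helper6 Cfsg.Agent.Helper19.Stein Cfsg.Agent.Helper23.SteinX1a

variable {W ι : Type*} [Group W] {f : ι → W}

theorem gen_inv (h : ExchData f) (i : ι) : (f i)⁻¹ = f i :=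
  inv_eq_of_mul_eq_one_left (h.inv i)

theorem gen_mem_WJ {J : Set ι} {j : ι} (hj : j ∈ J) : f j ∈ WJ f J :=
  Subgroup.subset_closure ⟨j, hj, rfl⟩

theorem wl_inv_mul_gen (h : ExchData f) (w : W) (j : ι) : wl f (w⁻¹ * f j) = wl f (f j * w) := by
  rw [← wl_inv h (w⁻¹ * f j), mul_inv_rev, inv_inv, gen_inv h]

theorem minL_iff_minR_inv (h : ExchData f) (J : Set ι) (w : W) :
    MinL f J w ↔ MinR f J w⁻¹ := by
  unfold MinL MinR
  constructor
  · intro hw j hj
    rw [wl_inv h, wl_inv_mul_gen h]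
    exact hw j hj
  · intro hw j hj
    have := hw j hj
    rwa [wl_inv h, wl_inv_mul_gen h] at this

theorem wl_mul_of_minL (h : ExchData f) {J : Set ι} {w v : W} (hw : MinL f J w)
    (hv : v ∈ WJ f J) : wl f (v * w) = wl f v + wl f w := by
  have h1 := wl_mul_of_minR h ((minL_iff_minR_inv h J w).1 hw) (inv_mem hv)
  rw [← mul_inv_rev, wl_inv h, wl_inv h, wl_inv h] at h1
  omega

theorem minL_unique (h : ExchData f) {J : Set ι} {u u' : W} (hu : MinL f J u)
    (hu' : MinL f J u') (hc : u' * u⁻¹ ∈ WJ f J) : u = u' := by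
  have h1 := minR_unique h ((minL_iff_minR_inv h J u).1 hu) ((minL_iff_minR_inv h J u').1 hu')
    (by
      have := inv_mem hc
      rwa [mul_inv_rev] at this)
  exact inv_injective h1

theorem deodhar (h : ExchData f) {K : Set ι} {y : W} (hy : MinR f K y) (i : ι) :
    MinR f K (f i * y) ∨ ∃ k ∈ K, f i * y = y * f k := by
  by_cases hlt : wl f (f i * y) < wl f y
  · left
    intro k hk
    by_contra hcon
    have h1 : wl f (f i * y * f k) < wl f (f i * y) :=
      lt_of_le_of_ne (not_lt.1 hcon) (wl_mul_ne h k (f i * y))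
    have h2 := wl_le_mul h i (y * f k)
    rw [← mul_assoc] at h2
    have h3 := hy k hk
    omega
  · have hgt : wl f y < wl f (f i * y) := lt_of_le_of_ne (not_lt.1 hlt) (h.ne i y).symm
    by_cases hm : MinR f K (f i * y)
    · exact Or.inl hm
    · right
      unfold MinR at hm
      push Not at hm
      obtain ⟨k, hk, hk'⟩ := hm
      refine ⟨k, hk, ?_⟩
      have h1 : wl f (f i * y * f k) < wl f (f i * y) :=
        lt_of_le_of_ne hk' (wl_mul_ne h k (f i * y))
      have h2 := wl_mul_le h.gen i y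
      have h3 := hy k hk
      refine h.condC i k y hgt ?_
      rw [← mul_assoc]
      omega

theorem exists_minLR (h : ExchData f) (J K : Set ι) (w : W) :
    ∃ d a b, MinL f J d ∧ MinR f K d ∧ a ∈ WJ f J ∧ b ∈ WJ f K ∧ w = a * d * b := by
  classical
  let S : Set ℕ := {n | ∃ d a b, a ∈ WJ f J ∧ b ∈ WJ f K ∧ w = a * d * b ∧ wl f d = n}
  have hS : S.Nonempty := ⟨wl f w, w, 1, 1, one_mem _, one_mem _, by simp, rfl⟩
  obtain ⟨d, a, b, ha, hb, hw, hd⟩ := Nat.sInf_mem hS
  have hmin : ∀ d' a' b', a' ∈ WJ f J → b' ∈ WJ f K → w = a' * d' * b' → wl f d ≤ wl f d' := by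
    intro d' a' b' ha' hb' hw'
    rw [hd]
    exact Nat.sInf_le ⟨d', a', b', ha', hb', hw', rfl⟩
  refine ⟨d, a, b, ?_, ?_, ha, hb, hw⟩
  · intro j hj
    refine lt_of_le_of_ne (hmin (f j * d) (a * f j) b (mul_mem ha (gen_mem_WJ hj)) hb ?_)
      (h.ne j d).symm
    rw [hw]
    have := h.inv j
    simp only [mul_assoc]
    rw [← mul_assoc (f j) (f j), this, one_mul]
  · intro k hk
    refine lt_of_le_of_ne (hmin (d * f k) a (f k * b) ha (mul_mem (gen_mem_WJ hk) hb) ?_)
      (wl_mul_ne h k d).symm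
    rw [hw]
    have := h.inv k
    simp only [mul_assoc]
    rw [← mul_assoc (f k) (f k), this, one_mul]

theorem exists_minR_rep (h : ExchData f) {J K : Set ι} {d : W} (hd : MinR f K d) :
    ∀ l : List ι, (∀ i ∈ l, i ∈ J) →
      ∃ a' b', a' ∈ WJ f J ∧ b' ∈ WJ f K ∧ MinR f K (a' * d) ∧ wp f l * d = a' * d * b' := by
  intro l
  induction l with
  | nil =>
    intro _
    exact ⟨1, 1, one_mem _, one_mem _, by simpa using hd, by simp⟩
  | cons i l ih =>
    intro hl
    obtain ⟨a', b', ha', hb', hm, he⟩ := ih (fun j hj => hl j (List.mem_cons_of_mem _ hj))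
    have hi : i ∈ J := hl i List.mem_cons_self
    rcases deodhar h hm i with h1 | ⟨k, hk, h1⟩
    · refine ⟨f i * a', b', mul_mem (gen_mem_WJ hi) ha', hb', ?_, ?_⟩
      · rwa [mul_assoc]
      · rw [wp_cons, mul_assoc, he]
        simp only [mul_assoc]
    · refine ⟨a', f k * b', ha', mul_mem (gen_mem_WJ hk) hb', hm, ?_⟩
      rw [wp_cons, mul_assoc, he, ← mul_assoc (f i), h1]
      simp only [mul_assoc]

theorem minLR_unique (h : ExchData f) {J K : Set ι} {d d' a b : W} (hd : MinL f J d)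
    (hd' : MinR f K d) (he : MinL f J d') (he' : MinR f K d') (ha : a ∈ WJ f J)
    (hb : b ∈ WJ f K) (hdd : d' = a * d * b) : d' = d := by
  obtain ⟨l, hl, hla, -⟩ := exists_red_word_of_mem_WJ h ha
  obtain ⟨a', b', ha', hb', hm, heq⟩ := exists_minR_rep h (J := J) hd' l hl
  rw [hla] at heq
  have h1 : a' * d = d' := by
    refine minR_unique h hm he' ?_
    have : (a' * d)⁻¹ * d' = b' * b := by
      rw [hdd, heq]
      group
    rw [this]
    exact mul_mem hb' hb
  have h2 : d = d' := by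
    refine minL_unique h hd he ?_
    rw [← h1]
    simpa using ha'
  exact h2.symm

end Cfsg.Agent.Helper31.SteinX1b
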