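import Mathlib
import Cfsg.Agent.Helper5.SuBN.Defs

/-!
# S2546 piece (R3III) for helper5: the rank one relation `s x s⁻¹ ∈ B s X_k`, kind III

Everything happens in the three positions `k`, `k + 1`, `k + 2` (`n = 2 k + 3`); we embed `3 × 3`
matrices as blocks and compute there.
-/

set_option autoImplicit false

namespace Cfsg.Agent.Helper31.SuBNR3III

open Matrix Cfsg.Agent.Helper5.SuBN

variable {F : Type*} [Field F] {n : ℕ} {σ : F →+* F}

/-! ### block embedding of `3 × 3` matrices -/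

/-- the equivalence `Fin 3 ⊕ (complement of the range) ≃ Fin n` attached to an injection -/
noncomputable def e3 (ι : Fin 3 → Fin n) (hι : Function.Injective ι) :
    Fin 3 ⊕ ↥(Set.range ι)ᶜ ≃ Fin n :=
  (Equiv.sumCongr (Equiv.ofInjective ι hι) (Equiv.refl _)).trans (Equiv.Set.sumCompl (Set.range ι))

theorem e3_inl (ι : Fin 3 → Fin n) (hι : Function.Injective ι) (p : Fin 3) :
    e3 ι hι (Sum.inl p) = ι p := rfl

theorem e3_inr (ι : Fin 3 → Fin n) (hι : Function.Injective ι) (r : ↥(Set.range ι)ᶜ) :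
    e3 ι hι (Sum.inr r) = r.1 := rfl

/-- the block embedding -/
noncomputable def emb (ι : Fin 3 → Fin n) (hι : Function.Injective ι)
    (A : Matrix (Fin 3) (Fin 3) F) : Matrix (Fin n) (Fin n) F :=
  (Matrix.fromBlocks A 0 0 (1 : Matrix ↥(Set.range ι)ᶜ ↥(Set.range ι)ᶜ F)).submatrix
    (e3 ι hι).symm (e3 ι hι).symm

theorem emb_mul (ι : Fin 3 → Fin n) (hι : Function.Injective ι) (A B : Matrix (Fin 3) (Fin 3) F) :
    emb ι hι A * emb ι hι B = emb ι hι (A * B) := by
  classical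
  unfold emb
  rw [Matrix.submatrix_mul_equiv, Matrix.fromBlocks_multiply]
  simp

theorem emb_one (ι : Fin 3 → Fin n) (hι : Function.Injective ι) :
    emb ι hι (1 : Matrix (Fin 3) (Fin 3) F) = 1 := by
  classical
  unfold emb
  rw [Matrix.fromBlocks_one, Matrix.submatrix_one_equiv]

theorem emb_apply (ι : Fin 3 → Fin n) (hι : Function.Injective ι) (A : Matrix (Fin 3) (Fin 3) F)
    (x y : Fin 3 ⊕ ↥(Set.range ι)ᶜ) :
    emb ι hι A (e3 ι hι x) (e3 ι hι y) =
      Matrix.fromBlocks A 0 0 (1 : Matrix ↥(Set.range ι)ᶜ ↥(Set.range ι)ᶜ F) x y := by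
  unfold emb
  rw [Matrix.submatrix_apply, Equiv.symm_apply_apply, Equiv.symm_apply_apply]

theorem eq_emb_of (ι : Fin 3 → Fin n) (hι : Function.Injective ι) (A : Matrix (Fin 3) (Fin 3) F)
    (M : Matrix (Fin n) (Fin n) F)
    (h : ∀ x y : Fin 3 ⊕ ↥(Set.range ι)ᶜ, M (e3 ι hι x) (e3 ι hι y) =
      Matrix.fromBlocks A 0 0 (1 : Matrix ↥(Set.range ι)ᶜ ↥(Set.range ι)ᶜ F) x y) :
    M = emb ι hι A := by
  ext i j
  have := h ((e3 ι hι).symm i) ((e3 ι hι).symm j)
  rw [Equiv.apply_symm_apply, Equiv.apply_symm_apply] at this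
  rw [this]
  rfl

/-- an upper triangular block embedded along a strictly monotone injection is upper triangular -/
theorem emb_apply_lower (ι : Fin 3 → Fin n) (hι : Function.Injective ι) (hmono : StrictMono ι)
    (A : Matrix (Fin 3) (Fin 3) F) (hA : ∀ p q : Fin 3, q < p → A p q = 0) (a b : Fin n)
    (hab : b < a) : emb ι hι A a b = 0 := by
  obtain ⟨x, rfl⟩ := (e3 ι hι).surjective a
  obtain ⟨y, rfl⟩ := (e3 ι hι).surjective b
  rw [emb_apply]
  rcases x with p | r <;> rcases y with q | r'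
  · rw [e3_inl, e3_inl] at hab
    rw [Matrix.fromBlocks_apply₁₁]
    exact hA p q (hmono.lt_iff_lt.mp hab)
  · rw [Matrix.fromBlocks_apply₁₂]; rfl
  · rw [Matrix.fromBlocks_apply₂₁]; rfl
  · rw [e3_inr, e3_inr] at hab
    rw [Matrix.fromBlocks_apply₂₂, Matrix.one_apply_ne]
    intro h
    rw [h] at hab
    exact lt_irrefl _ hab

/-! ### the three positions of a root of kind III -/

/-- the three positions `k`, `k + 1`, `k + 2` -/
def pos3 (k : Fin (n / 2)) : Fin 3 → Fin n := ![ia k, ib k, Fin.rev (ia k)]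

section kindIII

variable (k : Fin (n / 2)) (hk : 2 * k.val + 3 = n)
include hk

theorem ia_ne_ib : ia k ≠ ib k := by
  intro h
  have := congrArg Fin.val h
  rw [val_ia, val_ib] at this
  omega

theorem ia_ne_rev : ia k ≠ Fin.rev (ia k) := by
  intro h
  have := congrArg Fin.val h
  rw [val_rev, val_ia] at this
  omega

theorem ib_ne_rev : ib k ≠ Fin.rev (ia k) := by
  intro h
  have := congrArg Fin.val h
  rw [val_rev, val_ia, val_ib] at this
  omega

theorem rev_ib : Fin.rev (ib k) = ib k := by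
  apply Fin.ext
  rw [val_rev, val_ib]
  omega

theorem pos3_strictMono : StrictMono (pos3 k) := by
  intro p q hpq
  rw [Fin.lt_def]
  fin_cases p <;> fin_cases q <;> simp [pos3, val_rev, val_ia, val_ib] at hpq ⊢ <;> omega

theorem pos3_injective : Function.Injective (pos3 k) := (pos3_strictMono k hk).injective

theorem out_ne (r : ↥(Set.range (pos3 k))ᶜ) :
    r.1 ≠ ia k ∧ r.1 ≠ ib k ∧ r.1 ≠ Fin.rev (ia k) := by
  have hr := r.2
  rw [Set.mem_compl_iff, Set.mem_range, not_exists] at hr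
  refine ⟨fun h => hr 0 ?_, fun h => hr 1 ?_, fun h => hr 2 ?_⟩
  · rw [h]; rfl
  · rw [h]; rfl
  · rw [h]; rfl

theorem sPerm_eq : sPerm k = Equiv.swap (ia k) (Fin.rev (ia k)) := by
  unfold sPerm
  rw [if_neg (by omega)]

theorem sSign_eq (c : F) (j : Fin n) : sSign c k j = if j = ib k then -1 else 1 := by
  unfold sSign
  rw [if_neg (by omega), if_neg (by omega)]

/-- the `3 × 3` block of the reflection -/
def S3 : Matrix (Fin 3) (Fin 3) F := !![0, 0, 1; 0, -1, 0; 1, 0, 0]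

/-- the `3 × 3` block of a root element -/
def X3 (t u v : F) : Matrix (Fin 3) (Fin 3) F := !![1, t, u; 0, 1, -v; 0, 0, 1]

omit hk in
theorem S3_mul_S3 : (S3 : Matrix (Fin 3) (Fin 3) F) * S3 = 1 := by
  ext i j
  fin_cases i <;> fin_cases j <;> simp [S3, Matrix.mul_apply, Fin.sum_univ_three]

omit hk in
theorem X3_mul_X3 (t u v u' : F) (h : u + u' + t * v = 0) : X3 t u v * X3 (-t) u' (-v) = 1 := by
  ext i j
  fin_cases i <;> fin_cases j <;> simp [X3, Matrix.mul_apply, Fin.sum_univ_three]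
  linear_combination h

theorem sMat_eq_emb (c : F) : sMat c k = emb (pos3 k) (pos3_injective k hk) S3 := by
  have h1 := ia_ne_ib k hk
  have h2 := ia_ne_rev k hk
  have h3 := ib_ne_rev k hk
  apply eq_emb_of
  intro x y
  rcases x with p | r <;> rcases y with q | r'
  · rw [e3_inl, e3_inl, Matrix.fromBlocks_apply₁₁, sMat_apply, sPerm_eq k hk, sSign_eq k hk]
    fin_cases p <;> fin_cases q <;>
      simp [pos3, S3, Equiv.swap_apply_left, Equiv.swap_apply_right,
        Equiv.swap_apply_of_ne_of_ne, h1, h2, h3, h1.symm, h2.symm, h3.symm]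
  · obtain ⟨hr1, hr2, hr3⟩ := out_ne k hk r'
    rw [e3_inl, e3_inr, Matrix.fromBlocks_apply₁₂, sMat_apply, sPerm_eq k hk,
      Equiv.swap_apply_of_ne_of_ne hr1 hr3, if_neg]
    · rfl
    · intro h
      have := r'.2
      rw [Set.mem_compl_iff, Set.mem_range, not_exists] at this
      exact this p h
  · obtain ⟨hr1, hr2, hr3⟩ := out_ne k hk r
    rw [e3_inr, e3_inl, Matrix.fromBlocks_apply₂₁, sMat_apply, sPerm_eq k hk, if_neg]
    · rfl
    · fin_cases q <;>
        simp [pos3, Equiv.swap_apply_left, Equiv.swap_apply_right,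
          Equiv.swap_apply_of_ne_of_ne, h1, h2, h3, h1.symm, h2.symm, h3.symm, hr1, hr2, hr3]
  · obtain ⟨hr1, hr2, hr3⟩ := out_ne k hk r'
    rw [e3_inr, e3_inr, Matrix.fromBlocks_apply₂₂, sMat_apply, sPerm_eq k hk,
      Equiv.swap_apply_of_ne_of_ne hr1 hr3, sSign_eq k hk, if_neg hr2, Matrix.one_apply]
    by_cases h : r = r'
    · rw [if_pos h, if_pos (congrArg Subtype.val h)]
    · rw [if_neg h, if_neg (fun h' => h (Subtype.ext h'))]

theorem xMat_eq_emb (t u : F) :
    xMat σ k t u = emb (pos3 k) (pos3_injective k hk) (X3 t u (σ t)) := by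
  have h1 := ia_ne_ib k hk
  have h2 := ia_ne_rev k hk
  have h3 := ib_ne_rev k hk
  apply eq_emb_of
  intro x y
  rcases x with p | r <;> rcases y with q | r'
  · rw [e3_inl, e3_inl, Matrix.fromBlocks_apply₁₁, xMat_apply, rev_ib k hk]
    fin_cases p <;> fin_cases q <;>
      simp [pos3, X3, h1, h2, h3, h1.symm, h2.symm, h3.symm]
  · obtain ⟨hr1, hr2, hr3⟩ := out_ne k hk r'
    have hne : pos3 k p ≠ r'.1 := by
      intro h
      have := r'.2
      rw [Set.mem_compl_iff, Set.mem_range, not_exists] at this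
      exact this p h
    rw [e3_inl, e3_inr, Matrix.fromBlocks_apply₁₂, xMat_apply, rev_ib k hk, if_neg hne,
      if_neg (fun h => hr2 h.2.symm), if_neg (fun h => hr3 h.2.symm),
      if_neg (fun h => hr3 h.2.symm)]
    simp
  · obtain ⟨hr1, hr2, hr3⟩ := out_ne k hk r
    have hne : r.1 ≠ pos3 k q := by
      intro h
      have := r.2
      rw [Set.mem_compl_iff, Set.mem_range, not_exists] at this
      exact this q h.symm
    rw [e3_inr, e3_inl, Matrix.fromBlocks_apply₂₁, xMat_apply, rev_ib k hk, if_neg hne,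
      if_neg (fun h => hr1 h.1.symm), if_neg (fun h => hr2 h.1.symm),
      if_neg (fun h => hr1 h.1.symm)]
    simp
  · obtain ⟨hr1, hr2, hr3⟩ := out_ne k hk r
    have e1 : ¬ (ia k = r.1 ∧ ib k = r'.1) := fun h => hr1 h.1.symm
    have e2 : ¬ (ib k = r.1 ∧ Fin.rev (ia k) = r'.1) := fun h => hr2 h.1.symm
    have e3 : ¬ (ia k = r.1 ∧ Fin.rev (ia k) = r'.1) := fun h => hr1 h.1.symm
    rw [e3_inr, e3_inr, Matrix.fromBlocks_apply₂₂, xMat_apply, rev_ib k hk,
      if_neg e1, if_neg e2, if_neg e3, Matrix.one_apply]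
    by_cases h : r = r'
    · rw [if_pos h, if_pos (congrArg Subtype.val h)]
      simp
    · rw [if_neg h, if_neg (fun h' => h (Subtype.ext h'))]
      simp

end kindIII

/-- the lower entries of the `3 × 3` block of `b₁` vanish -/
theorem B3_lower (t u st su : F) (hu : u ≠ 0) (hsu : su ≠ 0) (hP : u + su + t * st = 0) :
    ∀ p q : Fin 3, q < p →
      (S3 * X3 t u st * S3 * X3 (-(-t / u)) su⁻¹ (-(-st / su)) * S3 : Matrix (Fin 3) (Fin 3) F) p q
        = 0 := by
  intro p q hpq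
  fin_cases p <;> fin_cases q <;> simp at hpq <;>
    simp [S3, X3, Matrix.mul_apply, Fin.sum_univ_three]
  · field_simp
    ring
  · field_simp
    linear_combination hP
  · field_simp
    ring

set_option linter.unusedVariables false in
theorem rank_one_III (hσ : ∀ x, σ (σ x) = x)
    (hX : ∀ (k : Fin (n / 2)) (t u : F), Param σ k t u → IsUJ σ (xMat σ k t u))
    (c : F) (k : Fin (n / 2)) (hk : 2 * k.val + 3 = n) (s : UG n σ) (hs : mat s = sMat c k)
    (x : UG n σ) (hx : x ∈ Xset σ k) (hx1 : x ≠ 1) :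
    ∃ b₁ ∈ Bsub n σ, ∃ x₂ ∈ Xset σ k, s * x * s⁻¹ = b₁ * s * x₂ := by
  obtain ⟨t, u, hP, hxm⟩ := hx
  have hPar : ∀ t u : F, Param σ k t u ↔ u + σ u + t * σ t = 0 := by
    intro t u
    unfold Param
    rw [if_neg (by omega), if_neg (by omega)]
  rw [hPar] at hP
  set ι := pos3 k with hι
  have hinj := pos3_injective k hk
  -- `u ≠ 0`
  have hu : u ≠ 0 := by
    intro hu0
    rw [hu0, map_zero, zero_add, zero_add] at hP
    have ht : t = 0 := by
      rcases mul_eq_zero.mp hP with h | h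
      · exact h
      · exact (map_eq_zero σ).mp h
    apply hx1
    apply mat_injective
    rw [hxm, mat_one, hu0, ht]
    unfold xMat
    simp
  have hsu : σ u ≠ 0 := fun h => hu ((map_eq_zero σ).mp h)
  -- the second root element
  set t₂ : F := -t / u with ht₂
  set u₂ : F := u⁻¹ with hu₂
  have hσt₂ : σ t₂ = -σ t / σ u := by rw [ht₂, map_div₀, map_neg]
  have hσu₂ : σ u₂ = (σ u)⁻¹ := by rw [hu₂, map_inv₀]
  have hP₂ : u₂ + σ u₂ + t₂ * σ t₂ = 0 := by
    rw [hσt₂, hσu₂, ht₂, hu₂]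
    field_simp
    linear_combination hP
  obtain ⟨x₂, hx₂⟩ := exists_of_isUJ (hX k t₂ u₂ ((hPar t₂ u₂).mpr hP₂))
  have hx₂mem : x₂ ∈ Xset σ k := ⟨t₂, u₂, (hPar t₂ u₂).mpr hP₂, hx₂⟩
  refine ⟨s * x * s⁻¹ * x₂⁻¹ * s⁻¹, ?_, x₂, hx₂mem, by group⟩
  -- the matrices as block embeddings
  have hsE : mat s = emb ι hinj S3 := by rw [hs]; exact sMat_eq_emb k hk c
  have hxE : mat x = emb ι hinj (X3 t u (σ t)) := by rw [hxm]; exact xMat_eq_emb k hk t u
  have hx₂E : mat x₂ = emb ι hinj (X3 t₂ u₂ (σ t₂)) := by rw [hx₂]; exact xMat_eq_emb k hk t₂ u₂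
  have hsinvE : mat s⁻¹ = emb ι hinj S3 := by
    have h1 : mat s * emb ι hinj S3 = 1 := by rw [hsE, emb_mul, S3_mul_S3, emb_one]
    calc mat s⁻¹ = mat s⁻¹ * (mat s * emb ι hinj S3) := by rw [h1, Matrix.mul_one]
      _ = emb ι hinj S3 := by rw [← Matrix.mul_assoc, inv_mul_mat, Matrix.one_mul]
  have hx₂invE : mat x₂⁻¹ = emb ι hinj (X3 (-t₂) (σ u₂) (-σ t₂)) := by
    have h1 : mat x₂ * emb ι hinj (X3 (-t₂) (σ u₂) (-σ t₂)) = 1 := by
      rw [hx₂E, emb_mul, X3_mul_X3 _ _ _ _ hP₂, emb_one]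
    calc mat x₂⁻¹ = mat x₂⁻¹ * (mat x₂ * emb ι hinj (X3 (-t₂) (σ u₂) (-σ t₂))) := by
          rw [h1, Matrix.mul_one]
      _ = emb ι hinj (X3 (-t₂) (σ u₂) (-σ t₂)) := by
          rw [← Matrix.mul_assoc, inv_mul_mat, Matrix.one_mul]
  rw [mem_Bsub_iff]
  intro a b hab
  rw [mat_mul, mat_mul, mat_mul, mat_mul, hsE, hxE, hsinvE, hx₂invE, emb_mul, emb_mul, emb_mul,
    emb_mul]
  apply emb_apply_lower ι hinj (pos3_strictMono k hk) _ _ a b hab
  rw [hσt₂, hσu₂, ht₂]
  exact B3_lower t u (σ t) (σ u) hu hsu hP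

end Cfsg.Agent.Helper31.SuBNR3III
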