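import Mathlib
import Cfsg.Agent.Helper5.SuBN.Defs

/-!
# S2546 piece (S2) for helper5: distinct reflections lie in distinct cosets of `B`
-/

set_option autoImplicit false

namespace Cfsg.Agent.Helper31.SuBNS2

open Matrix Cfsg.Agent.Helper5.SuBN

variable {F : Type*} [Field F] {n : ℕ} {σ : F →+* F}

theorem sSign_ne_zero (c : F) (hc0 : c ≠ 0) (k : Fin (n / 2)) (j : Fin n) : sSign c k j ≠ 0 := by
  unfold sSign
  split_ifs <;> simp [hc0]

theorem eq_of_inv_mul_mem (c : F) (hc0 : c ≠ 0) (s s' : UG n σ) (hs : s ∈ Sset n σ c)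
    (hs' : s' ∈ Sset n σ c) (h : s⁻¹ * s' ∈ Bsub n σ) : s = s' := by
  obtain ⟨k, hk⟩ := hs
  obtain ⟨k', hk'⟩ := hs'
  by_cases hkk : k = k'
  · apply mat_injective
    rw [hk, hk', hkk]
  exfalso
  have hπ : ∀ a b : Fin n, a ≠ sPerm k b → mat s a b = 0 := by
    intro a b hab
    rw [hk, sMat_apply, if_neg hab]
  have key : ∀ b : Fin n, ¬ (b < sPerm k (sPerm k' b)) := by
    intro b hb
    set a := sPerm k (sPerm k' b) with ha
    have haa : sPerm k a = sPerm k' b := sPerm_sPerm k _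
    have h0 := (mem_Bsub_iff _).1 h a b hb
    rw [mat_mul, inv_mono_mul_apply s (sPerm k) hπ (mat s') a b, haa, hk', sMat_apply,
      if_pos rfl] at h0
    have h2 := mono_inv_apply_ne_zero s (sPerm k) hπ a
    rw [haa] at h2
    rcases mul_eq_zero.1 h0 with h1 | h1
    · exact h2 h1
    · exact sSign_ne_zero c hc0 k' b h1
  have hk2 := k.2
  have hk2' := k'.2
  have hne : k.val ≠ k'.val := fun h => hkk (Fin.ext h)
  rcases lt_or_gt_of_ne hne with hlt | hgt
  · apply key (ia k)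
    rw [Fin.lt_def, val_sPerm, val_sPerm, val_ia]
    split_ifs <;> omega
  · apply key (ia k')
    rw [Fin.lt_def, val_sPerm, val_sPerm, val_ia]
    split_ifs <;> omega

end Cfsg.Agent.Helper31.SuBNS2
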