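import Cfsg.Agent.Helper19.Stein.BNTau
import Cfsg.Agent.Helper31.SteinX1b
import Cfsg.Agent.Helper76.SteinX1c

/-!
# Orbits of a (B,N)-pair on pairs of parabolic cosets = minimal double coset representatives

Piece (X2c) of the Steinberg-character package.
-/

set_option autoImplicit false

namespace Cfsg.Agent.Helper31.SteinX2c

open Cfsg.Agent.Helper6 Cfsg.Agent.Helper19.Stein DoubleCoset

section abstract

/-- counting orbits through a set of representatives with a complete invariant -/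
theorem card_orbits_of_reps {G Z ι : Type*} [Group G] [MulAction G Z] (r : ι → Z)
    (hsurj : ∀ z, ∃ i, ∃ g : G, g • r i = z)
    (hinj : ∀ i i' (g : G), g • r i = r i' → i = i') :
    Nat.card (MulAction.orbitRel.Quotient G Z) = Nat.card ι := by
  symm
  refine Nat.card_congr (Equiv.ofBijective
    (fun i => (Quotient.mk'' (r i) : MulAction.orbitRel.Quotient G Z)) ⟨?_, ?_⟩)
  · intro i i' h
    have h' := Quotient.exact' h
    obtain ⟨g, hg⟩ := h'
    exact (hinj i' i g hg).symm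
  · intro q
    induction q using Quotient.inductionOn' with | _ z => ?_
    obtain ⟨i, g, hg⟩ := hsurj z
    refine ⟨i, ?_⟩
    apply Quotient.sound'
    exact ⟨g⁻¹, by rw [← hg]; exact inv_smul_smul g (r i)⟩

/-- orbits on `G/P × G/Q` through double coset representatives `ω w` with a complete invariant `T` -/
theorem card_orbits_prod_of_reps {G W ι : Type*} [Group G] (P Q : Subgroup G) (ω : W → G)
    (T : W → ι) (hT : Function.Surjective T)
    (ha : ∀ g : G, ∃ p ∈ P, ∃ w, ∃ q ∈ Q, g = p * ω w * q)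
    (hb : ∀ w w', T w = T w' → ∃ p ∈ P, ∃ q ∈ Q, ω w' = p * ω w * q)
    (hc : ∀ w w', ∀ p ∈ P, ∀ q ∈ Q, ω w' = p * ω w * q → T w = T w') :
    Nat.card (MulAction.orbitRel.Quotient G ((G ⧸ P) × (G ⧸ Q))) = Nat.card ι := by
  choose s hs using hT
  refine card_orbits_of_reps
    (fun i => (((1 : G) : G ⧸ P), ((ω (s i) : G) : G ⧸ Q))) ?_ ?_
  · rintro ⟨x, y⟩
    induction x using QuotientGroup.induction_on with | _ x => ?_
    induction y using QuotientGroup.induction_on with | _ y => ?_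
    obtain ⟨p, hp, w, q, hq, hxy⟩ := ha (x⁻¹ * y)
    obtain ⟨p', hp', q', hq', hw⟩ := hb (s (T w)) w (hs (T w))
    refine ⟨T w, x * p * p', ?_⟩
    rw [Prod.smul_mk, MulAction.Quotient.smul_mk, MulAction.Quotient.smul_mk, smul_eq_mul,
      smul_eq_mul]
    refine Prod.ext ?_ ?_
    · rw [QuotientGroup.eq]
      have : (x * p * p' * 1)⁻¹ * x = (p * p')⁻¹ := by group
      rw [this]
      exact P.inv_mem (P.mul_mem hp hp')
    · rw [QuotientGroup.eq]
      have hy : y = x * (p * ω w * q) := by rw [← hxy]; group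
      have : (x * p * p' * ω (s (T w)))⁻¹ * y = q' * q := by
        rw [hy, hw]; group
      rw [this]
      exact Q.mul_mem hq' hq
  · intro i i' g hg
    rw [Prod.smul_mk, MulAction.Quotient.smul_mk, MulAction.Quotient.smul_mk, smul_eq_mul,
      smul_eq_mul] at hg
    have h1 := (Prod.ext_iff.1 hg).1
    have h2 := (Prod.ext_iff.1 hg).2
    rw [QuotientGroup.eq] at h1 h2
    have hgP : g ∈ P := by
      have : g = ((g * 1)⁻¹ * 1)⁻¹ := by group
      rw [this]
      exact P.inv_mem h1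
    have := hc (s i) (s i') g hgP _ h2 (by group)
    rw [hs, hs] at this
    exact this

end abstract

variable {G : Type*} [Group G] (P : Cfsg.BNPair G)

/-- the class in `W` of an element of the subgroup generated by `J` lies in `W_J` -/
theorem mkW_mem_WJ_of_closure (J : Set P.S) {n : G}
    (hn : n ∈ Subgroup.closure (Subtype.val '' J)) :
    ∃ hn' : n ∈ P.N, mkW P n hn' ∈ WJ (wf P) J := by
  induction hn using Subgroup.closure_induction with
  | mem x hx =>
    obtain ⟨s, hs, rfl⟩ := hx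
    exact ⟨P.subset s.2, Subgroup.subset_closure ⟨s, hs, rfl⟩⟩
  | one => exact ⟨P.N.one_mem, (WJ (wf P) J).one_mem⟩
  | mul x y _ _ ihx ihy =>
    obtain ⟨hx, hx'⟩ := ihx
    obtain ⟨hy, hy'⟩ := ihy
    exact ⟨P.N.mul_mem hx hy, (WJ (wf P) J).mul_mem hx' hy'⟩
  | inv x _ ih =>
    obtain ⟨hx, hx'⟩ := ih
    exact ⟨P.N.inv_mem hx, (WJ (wf P) J).inv_mem hx'⟩

/-- an element of `W_J` has a representative in the subgroup generated by `J` -/
theorem exists_closure_rep (J : Set P.S) {w : P.N ⧸ (P.B ⊓ P.N).subgroupOf P.N}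
    (hw : w ∈ WJ (wf P) J) :
    ∃ n, ∃ hn : n ∈ P.N, n ∈ Subgroup.closure (Subtype.val '' J) ∧ mkW P n hn = w := by
  induction hw using Subgroup.closure_induction with
  | mem x hx =>
    obtain ⟨s, hs, rfl⟩ := hx
    exact ⟨s.1, P.subset s.2, Subgroup.subset_closure ⟨s, hs, rfl⟩, rfl⟩
  | one => exact ⟨1, P.N.one_mem, Subgroup.one_mem _, rfl⟩
  | mul x y _ _ ihx ihy =>
    obtain ⟨n, hn, hn', rfl⟩ := ihx
    obtain ⟨m, hm, hm', rfl⟩ := ihy
    exact ⟨n * m, P.N.mul_mem hn hm, Subgroup.mul_mem _ hn' hm', rfl⟩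
  | inv x _ ih =>
    obtain ⟨n, hn, hn', rfl⟩ := ih
    exact ⟨n⁻¹, P.N.inv_mem hn, Subgroup.inv_mem _ hn', rfl⟩

/-- the type of `p g` for `p ∈ P_J` lies in `W_J (tau g)` -/
theorem tau_parabolic_mul (J : Set P.S) {p : G} (hp : p ∈ P.parabolic (Subtype.val '' J)) :
    ∀ g : G, ∃ a ∈ WJ (wf P) J, tau P (p * g) = a * tau P g := by
  have step : ∀ s : P.S, s ∈ J → ∀ (y g : G), (∃ a ∈ WJ (wf P) J, tau P (y * g) = a * tau P g) →
      ∃ a ∈ WJ (wf P) J, tau P (s.1 * (y * g)) = a * tau P g := by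
    intro s hs y g ⟨a, ha, he⟩
    rcases tau_S_mul P s (y * g) with h | h
    · refine ⟨wf P s * a, (WJ (wf P) J).mul_mem (Subgroup.subset_closure ⟨s, hs, rfl⟩) ha, ?_⟩
      rw [h, he, mul_assoc]
    · exact ⟨a, ha, by rw [h, he]⟩
  rw [parabolic_eq_closure] at hp
  induction hp using Subgroup.closure_induction_left with
  | one =>
    intro g
    exact ⟨1, (WJ (wf P) J).one_mem, by rw [one_mul, one_mul]⟩
  | mul_left x hx y _ ih =>
    intro g
    rcases hx with hx | ⟨s, hs, rfl⟩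
    · obtain ⟨a, ha, he⟩ := ih g
      exact ⟨a, ha, by rw [mul_assoc, tau_B_mul P hx, he]⟩
    · rw [mul_assoc]
      exact step s hs y g (ih g)
  | inv_mul_cancel x hx y _ ih =>
    intro g
    rcases hx with hx | ⟨s, hs, rfl⟩
    · obtain ⟨a, ha, he⟩ := ih g
      exact ⟨a, ha, by rw [mul_assoc, tau_B_mul P (P.B.inv_mem hx), he]⟩
    · obtain ⟨b, hb, hsb⟩ := S_inv' P s.2
      obtain ⟨a, ha, he⟩ := step s hs y g (ih g)
      refine ⟨a, ha, ?_⟩
      rw [hsb, mul_assoc, mul_assoc, tau_B_mul P hb, he]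

/-- the type of `g q` for `q ∈ P_K` lies in `(tau g) W_K` -/
theorem tau_mul_parabolic (K : Set P.S) {q : G} (hq : q ∈ P.parabolic (Subtype.val '' K))
    (g : G) : ∃ b ∈ WJ (wf P) K, tau P (g * q) = tau P g * b := by
  obtain ⟨a, ha, he⟩ := tau_parabolic_mul P K ((P.parabolic _).inv_mem hq) g⁻¹
  refine ⟨a⁻¹, (WJ (wf P) K).inv_mem ha, ?_⟩
  have : g * q = (q⁻¹ * g⁻¹)⁻¹ := by group
  rw [this, tau_inv, he, tau_inv, mul_inv_rev, inv_inv]

theorem card_orbits_parabolic [Finite G] (J K : Set P.S) :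
    Nat.card (MulAction.orbitRel.Quotient G
      ((G ⧸ P.parabolic (Subtype.val '' J)) × (G ⧸ P.parabolic (Subtype.val '' K)))) =
    Nat.card {d : P.N ⧸ (P.B ⊓ P.N).subgroupOf P.N // MinL (wf P) J d ∧ MinR (wf P) K d} := by
  have hE := exchData_wf P
  have hex : ∀ n : P.N, ∃ d : {d : P.N ⧸ (P.B ⊓ P.N).subgroupOf P.N //
      MinL (wf P) J d ∧ MinR (wf P) K d}, ∃ a b, a ∈ WJ (wf P) J ∧ b ∈ WJ (wf P) K ∧
      mkW P n.1 n.2 = a * d.1 * b := by
    intro n
    obtain ⟨d, a, b, h1, h2, ha, hb, he⟩ :=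
      Cfsg.Agent.Helper31.SteinX1b.exists_minLR hE J K (mkW P n.1 n.2)
    exact ⟨⟨d, h1, h2⟩, a, b, ha, hb, he⟩
  choose T a b haJ hbK hT using hex
  refine card_orbits_prod_of_reps (P.parabolic (Subtype.val '' J))
    (P.parabolic (Subtype.val '' K)) (Subtype.val : P.N → G) T ?_ ?_ ?_ ?_
  · -- surjectivity
    rintro ⟨d, h1, h2⟩
    obtain ⟨n, hn, rfl⟩ := mkW_surjective P d
    refine ⟨⟨n, hn⟩, Subtype.ext ?_⟩
    exact (Cfsg.Agent.Helper31.SteinX1b.minLR_unique hE (T ⟨n, hn⟩).2.1 (T ⟨n, hn⟩).2.2 h1 h2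
      (haJ ⟨n, hn⟩) (hbK ⟨n, hn⟩) (hT ⟨n, hn⟩)).symm
  · -- Bruhat
    intro g
    obtain ⟨n, hn, hg⟩ := bruhat_exists P g
    rw [mem_dc] at hg
    obtain ⟨c, hc, c', hc', rfl⟩ := hg
    exact ⟨c, B_le_parabolic P _ hc, ⟨n, hn⟩, c', B_le_parabolic P _ hc', rfl⟩
  · -- same invariant: same double coset
    intro w w' hww
    have hx : a w' * (a w)⁻¹ ∈ WJ (wf P) J := (WJ (wf P) J).mul_mem (haJ w') ((WJ (wf P) J).inv_mem (haJ w))
    have hy : (b w)⁻¹ * b w' ∈ WJ (wf P) K := (WJ (wf P) K).mul_mem ((WJ (wf P) K).inv_mem (hbK w)) (hbK w')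
    obtain ⟨m, hm, hmJ, hmx⟩ := exists_closure_rep P J hx
    obtain ⟨m', hm', hmK, hmy⟩ := exists_closure_rep P K hy
    have h1 : mkW P (m * w.1 * m') (P.N.mul_mem (P.N.mul_mem hm w.2) hm') = mkW P w'.1 w'.2 := by
      have e : mkW P (m * w.1 * m') (P.N.mul_mem (P.N.mul_mem hm w.2) hm') =
          mkW P m hm * mkW P w.1 w.2 * mkW P m' hm' := rfl
      rw [e, hmx, hmy, hT w, hT w', hww]
      group
    rw [mkW_eq_iff] at h1
    refine ⟨m, closure_le_parabolic P _ hmJ,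
      m' * ((m * w.1 * m')⁻¹ * w'.1), (P.parabolic _).mul_mem (closure_le_parabolic P _ hmK)
        (B_le_parabolic P _ h1), ?_⟩
    group
  · -- same double coset: same invariant
    intro w w' p hp q hq hpq
    obtain ⟨a₁, ha₁, he₁⟩ := tau_parabolic_mul P J hp (w.1 * q)
    obtain ⟨b₁, hb₁, he₂⟩ := tau_mul_parabolic P K hq w.1
    have h1 : mkW P w'.1 w'.2 = a₁ * mkW P w.1 w.2 * b₁ := by
      rw [← tau_of_mem_N P w'.2, hpq, mul_assoc, he₁, he₂, tau_of_mem_N P w.2, mul_assoc]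
    rw [hT w, hT w'] at h1
    have h2 : (T w').1 = ((a w')⁻¹ * a₁ * a w) * (T w).1 * (b w * b₁ * (b w')⁻¹) := by
      have : (T w').1 = (a w')⁻¹ * (a w' * (T w').1 * b w') * (b w')⁻¹ := by group
      rw [this, h1]
      group
    refine Subtype.ext ?_
    exact (Cfsg.Agent.Helper31.SteinX1b.minLR_unique hE (T w).2.1 (T w).2.2 (T w').2.1 (T w').2.2
      ((WJ (wf P) J).mul_mem ((WJ (wf P) J).mul_mem ((WJ (wf P) J).inv_mem (haJ w')) ha₁) (haJ w))
      ((WJ (wf P) K).mul_mem ((WJ (wf P) K).mul_mem (hbK w) hb₁) ((WJ (wf P) K).inv_mem (hbK w')))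
      h2).symm

open Classical in
theorem alternating_sum_orbits [Finite G] [Fintype P.S] :
    ∑ J ∈ (Finset.univ : Finset P.S).powerset, ∑ K ∈ (Finset.univ : Finset P.S).powerset,
      (-1 : ℂ) ^ J.card * (-1 : ℂ) ^ K.card *
        (Nat.card (MulAction.orbitRel.Quotient G
          ((G ⧸ P.parabolic (Subtype.val '' (↑J : Set P.S))) ×
            (G ⧸ P.parabolic (Subtype.val '' (↑K : Set P.S))))) : ℂ) =
    (Nat.card {d : P.N ⧸ (P.B ⊓ P.N).subgroupOf P.N // MaxL (wf P) d ∧ MaxR (wf P) d} : ℂ) := by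
  have hE := exchData_wf P
  have : Fintype (P.N ⧸ (P.B ⊓ P.N).subgroupOf P.N) := Fintype.ofFinite _
  have hcard : ∀ p : (P.N ⧸ (P.B ⊓ P.N).subgroupOf P.N) → Prop,
      (Nat.card {d // p d} : ℂ) = ∑ d, if p d then (1 : ℂ) else 0 := by
    intro p
    rw [Nat.card_eq_fintype_card, Fintype.card_subtype, Finset.card_filter]
    push_cast
    rfl
  simp_rw [card_orbits_parabolic P, hcard, Finset.mul_sum]
  rw [Finset.sum_comm]
  simp_rw [Finset.sum_comm (s := (Finset.univ : Finset P.S).powerset) (t := Finset.univ)]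
  refine Finset.sum_congr rfl fun d _ => ?_
  rw [Finset.sum_comm]
  convert Cfsg.Agent.Helper76.SteinX1c.sum_powerset_minLR hE d

end Cfsg.Agent.Helper31.SteinX2c
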