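import Mathlib
import Cfsg.Agent.Helper31.BenderMax
import Cfsg.Agent.Helper22.SubLayer
import Cfsg.Agent.Helper23.PComponent

/-!
# Bender's theorem on primitive pairs / the maximal subgroup theorem

`M ≠ L` with `F*(M) ≤ L`, `F*(L) ≤ M` and the primitivity conditions
(`1 ≠ A ⊴ M`, `A ≤ M ∩ L` ⇒ `N_L(A) ≤ M`, and symmetrically): then `F*(M) = O_p(M)` and
`F*(L) = O_p(L)` for a prime `p`.
-/

set_option autoImplicit false

namespace Cfsg.Agent.Helper31

open Cfsg
open scoped commutatorElement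

section InternalPair

variable {M : Type*} [Group M] [Finite M]

/-- `C_M(F*(M)) ≤ F(M)`. -/
theorem centralizer_generalizedFittingSubgroup_le_fittingSubgroup :
    Subgroup.centralizer (generalizedFittingSubgroup M : Set M) ≤ fittingSubgroup M := by
  haveI hFsn : (generalizedFittingSubgroup M).Normal :=
    Cfsg.Agent.Helper21.generalizedFittingSubgroup_normal
  set C := Subgroup.centralizer (generalizedFittingSubgroup M : Set M) with hC
  haveI hCn : C.Normal := by rw [hC]; infer_instance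
  have hCF : C ≤ generalizedFittingSubgroup M :=
    Cfsg.Agent.Helper21.centralizer_generalizedFittingSubgroup_le
  have hCcomm : IsMulCommutative ↥C := by
    refine ⟨⟨?_⟩⟩
    intro a b
    apply Subtype.ext
    have := (Subgroup.mem_centralizer_iff.mp a.2) b.1 (hCF b.2)
    simpa using this.symm
  have hCnil : Group.IsNilpotent ↥C := by
    letI : CommGroup ↥C := { (inferInstance : Group ↥C) with mul_comm := hCcomm.is_comm.comm }
    exact CommGroup.isNilpotent
  exact Cfsg.Agent.Helper71.le_fittingSubgroup C hCn hCnil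

/-- An element centralizing `E(M)` and all `O_r(M)` lies in `F(M)` (indeed in `Z(F*(M))`). -/
theorem mem_centralizer_generalizedFittingSubgroup_of_commute {c : M}
    (hE : ∀ e ∈ layer M, c * e = e * c)
    (hr : ∀ r : ℕ, r.Prime → ∀ u ∈ pCore r M, c * u = u * c) :
    c ∈ Subgroup.centralizer (generalizedFittingSubgroup M : Set M) := by
  have hcF : fittingSubgroup M ≤ Subgroup.centralizer ({c} : Set M) := by
    refine Cfsg.Agent.Helper71.fittingSubgroup_le_pCoreJoin.trans (iSup_le ?_)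
    intro r u hu
    rw [Subgroup.mem_centralizer_iff]
    intro y hy
    rw [Set.mem_singleton_iff.mp hy]
    exact hr r (Nat.prime_of_mem_primeFactors r.2) u hu
  have hcE : layer M ≤ Subgroup.centralizer ({c} : Set M) := by
    intro e he
    rw [Subgroup.mem_centralizer_iff]
    intro y hy
    rw [Set.mem_singleton_iff.mp hy]
    exact hE e he
  rw [Subgroup.mem_centralizer_iff]
  intro y hy
  have := (sup_le hcE hcF) hy
  rw [Subgroup.mem_centralizer_iff] at this
  exact (this c rfl).symm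

/-- `F(M) ≤ O_p(M) O_{p'}(M)`. -/
theorem fittingSubgroup_le_pCore_sup_pPrimeCore (p : ℕ) [hp : Fact p.Prime] :
    fittingSubgroup M ≤ pCore p M ⊔ pPrimeCore p M := by
  refine Cfsg.Agent.Helper71.fittingSubgroup_le_pCoreJoin.trans (iSup_le ?_)
  intro r
  haveI : Fact (r : ℕ).Prime := ⟨Nat.prime_of_mem_primeFactors r.2⟩
  by_cases hrp : (r : ℕ) = p
  · rw [hrp]; exact le_sup_left
  · refine le_trans ?_ le_sup_right
    apply Cfsg.Agent.Lib.le_pPrimeCore (Cfsg.Agent.Helper71.pCore_normal _)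
    obtain ⟨n, hn⟩ := (IsPGroup.iff_card.mp (Cfsg.Agent.Helper71.pCore_isPGroup (r : ℕ) (G := M)))
    rw [hn]
    exact Nat.Coprime.pow_left n ((Nat.coprime_primes (Nat.prime_of_mem_primeFactors r.2)
      hp.out).mpr hrp)

/-- **C1** A `p'`-element `t` centralizing `O_p(M) E(M)` commutes with a `p`-element `v`
centralizing all `O_r(M)`, `r ≠ p`. -/
theorem commute_of_centralize_split {p : ℕ} [hp : Fact p.Prime] {t v : M}
    (htp : ∀ u ∈ pCore p M, t * u = u * t) (htE : ∀ e ∈ layer M, t * e = e * t)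
    (hv : ∀ r : ℕ, r.Prime → r ≠ p → ∀ u ∈ pCore r M, v * u = u * v)
    (htcop : (orderOf t).Coprime p) (hvp : ∃ k : ℕ, orderOf v = p ^ k) : t * v = v * t := by
  haveI hEn : (layer M).Normal := Cfsg.Agent.Helper21.layer_normal
  haveI hNn : (pPrimeCore p M).Normal := by
    haveI := Cfsg.Agent.Lib.pPrimeCore_characteristic (G := M) p
    infer_instance
  have hUn : ∀ r : ℕ, (pCore r M).Normal := fun r => Cfsg.Agent.Helper71.pCore_normal r
  set c : M := t * v * t⁻¹ * v⁻¹ with hc
  -- `t`-side and `v`-side decompositions of `c`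
  have hc_t : ∀ (U : Subgroup M) [U.Normal], (∀ u ∈ U, t * u = u * t) → ∀ u ∈ U, c * u = u * c := by
    intro U hU htU u hu
    have h1 : t ∈ Subgroup.centralizer (U : Set M) := by
      rw [Subgroup.mem_centralizer_iff]; intro y hy; exact (htU y hy).symm
    have hn : (Subgroup.centralizer (U : Set M)).Normal := inferInstance
    have h2 : c ∈ Subgroup.centralizer (U : Set M) := by
      have h3 : c = t * (v * t⁻¹ * v⁻¹) := by rw [hc]; group
      rw [h3]
      exact Subgroup.mul_mem _ h1 (hn.conj_mem _ (Subgroup.inv_mem _ h1) v)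
    exact ((Subgroup.mem_centralizer_iff.mp h2) u hu).symm
  have hc_v : ∀ (U : Subgroup M) [U.Normal], (∀ u ∈ U, v * u = u * v) → ∀ u ∈ U, c * u = u * c := by
    intro U hU hvU u hu
    have h1 : v ∈ Subgroup.centralizer (U : Set M) := by
      rw [Subgroup.mem_centralizer_iff]; intro y hy; exact (hvU y hy).symm
    have hn : (Subgroup.centralizer (U : Set M)).Normal := inferInstance
    have h2 : c ∈ Subgroup.centralizer (U : Set M) := by
      have h3 : c = (t * v * t⁻¹) * v⁻¹ := by rw [hc]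
      rw [h3]
      exact Subgroup.mul_mem _ (hn.conj_mem _ h1 t) (Subgroup.inv_mem _ h1)
    exact ((Subgroup.mem_centralizer_iff.mp h2) u hu).symm
  -- `c ∈ F(M)`
  have hcC : c ∈ Subgroup.centralizer (generalizedFittingSubgroup M : Set M) := by
    apply mem_centralizer_generalizedFittingSubgroup_of_commute
    · exact hc_t (layer M) htE
    · intro r hr
      haveI := hUn r
      by_cases hrp : r = p
      · rw [hrp]; exact hc_t (pCore p M) htp
      · exact hc_v (pCore r M) (hv r hr hrp)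
  have hcF : c ∈ fittingSubgroup M :=
    centralizer_generalizedFittingSubgroup_le_fittingSubgroup hcC
  -- Step A: `c ∈ O_{p'}(M)`
  haveI := hUn p
  obtain ⟨u, hu, w, hw, huw⟩ := Subgroup.mem_sup_of_normal_left.mp
    (fittingSubgroup_le_pCore_sup_pPrimeCore p hcF)
  set π := QuotientGroup.mk' (pPrimeCore p M) with hπ
  have hπc : π c = π u := by
    rw [← huw, map_mul]
    have : π w = 1 := by rw [hπ, QuotientGroup.mk'_apply, QuotientGroup.eq_one_iff]; exact hw
    rw [this, mul_one]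
  have hπcomm : π (t * v * t⁻¹ * v⁻¹) = π t * π v * (π t)⁻¹ * (π v)⁻¹ := by
    simp only [map_mul, map_inv]
  have hA : π t * π v = π v * π t := by
    apply Cfsg.Agent.Helper24.commute_of_commute_commutator
    · rw [← hπcomm, ← hc, hπc, ← map_mul, ← map_mul, htp u hu]
    · rw [← hπcomm, ← hc, hπc]
      obtain ⟨j, hj⟩ := exists_orderOf_eq_of_mem_pCore hu
      have h1 : orderOf (π u) ∣ p ^ j := hj ▸ orderOf_map_dvd π u
      have h2 : orderOf (π t) ∣ orderOf t := orderOf_map_dvd π t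
      exact Nat.Coprime.coprime_dvd_left h2 (Nat.Coprime.coprime_dvd_right h1
        (Nat.Coprime.pow_right j htcop))
  have hcN : c ∈ pPrimeCore p M := by
    have h1 : π c = 1 := by
      rw [hc, hπcomm, hA]; group
    rwa [hπ, QuotientGroup.mk'_apply, QuotientGroup.eq_one_iff] at h1
  have hccop : (orderOf c).Coprime p := by
    have h1 : orderOf c ∣ Nat.card ↥(pPrimeCore p M) := by
      have := orderOf_dvd_natCard (⟨c, hcN⟩ : ↥(pPrimeCore p M))
      rwa [Subgroup.orderOf_mk] at this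
    exact Nat.Coprime.coprime_dvd_left h1 (Cfsg.Agent.Lib.card_pPrimeCore_coprime p)
  -- Step B: `v` commutes with `c`
  have hvc : c ∈ Subgroup.centralizer ({v} : Set M) := by
    apply mem_of_mem_fittingSubgroup_of_coprime (p := p) _ _ (orderOf c) c hcF rfl hccop
    intro r hr hrp u' hu'
    rw [Subgroup.mem_centralizer_iff]
    intro y hy
    rw [Set.mem_singleton_iff.mp hy]
    exact hv r hr hrp u' hu'
  have hvc' : v * c = c * v := (Subgroup.mem_centralizer_iff.mp hvc) v rfl
  have hinv : v * t * v⁻¹ * t⁻¹ = c⁻¹ := by rw [hc]; group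
  have hB : v * t = t * v := by
    apply Cfsg.Agent.Helper24.commute_of_commute_commutator
    · rw [hinv]
      have : Commute v c⁻¹ := (show Commute v c from hvc').inv_right
      exact this.eq
    · rw [hinv, orderOf_inv]
      obtain ⟨k, hk⟩ := hvp
      rw [hk]
      exact Nat.Coprime.pow_left k hccop.symm
  exact hB.symm

end InternalPair

section AmbientPair

variable {G : Type*} [Group G] [Finite G]

/-- The hypothesis replacing `N_G(Z(O_r(A))) = A`: elements of `X` centralizing `Z(O_r(A)) ≠ 1`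
lie in `A`. -/
def PairHyp (A X : Subgroup G) : Prop :=
  ∀ r : ℕ, r.Prime → pCore r ↥A ≠ ⊥ →
    X ⊓ Subgroup.centralizer (((zc r ↥A).map A.subtype : Subgroup G) : Set G) ≤ A

/-- **G1'** Thompson's `P × Q` lemma applied in `G` to `Z(O_p(A)) × ⟨s⟩` acting on `X`. -/
theorem pair_thompson {A S : Subgroup G} (h : LargeSub (S.subgroupOf A)) {p : ℕ}
    [hp : Fact p.Prime] {X : Subgroup G} (hXA : PairHyp A X)
    (hX : IsPGroup p X) (hSX : S ≤ Subgroup.normalizer (X : Set G)) (hp0 : pCore p ↥A ≠ ⊥)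
    {s : ↥A} (hs : s ∈ S.subgroupOf A) (hcop : (orderOf s).Coprime p)
    (hsz : ∀ z ∈ zc p ↥A, s * z = z * s) (hsQ : ∀ y ∈ cX A X p, s * y = y * s) :
    ∀ x ∈ X, (s : G) * x = x * (s : G) := by
  have hZS : (zc p ↥A).map A.subtype ≤ S := by
    rintro _ ⟨z, hz, rfl⟩
    exact Subgroup.mem_subgroupOf.mp (h.zc_le p hz)
  refine Cfsg.Agent.Helper24.thompson_PxQ (p := p) (U := X) (P := (zc p ↥A).map A.subtype) hX
    ?_ (hZS.trans hSX) (hSX (Subgroup.mem_subgroupOf.mp hs)) ?_ ?_ ?_
  · exact ((Cfsg.Agent.Helper71.pCore_isPGroup p).to_le (zc_le_pCore p)).map _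
  · rwa [Subgroup.orderOf_coe]
  · rintro _ ⟨z, hz, rfl⟩
    exact congrArg Subtype.val (hsz z hz)
  · intro u hu hub
    have huC : u ∈ Subgroup.centralizer (((zc p ↥A).map A.subtype : Subgroup G) : Set G) := by
      rw [Subgroup.mem_centralizer_iff]; exact hub
    have huA : u ∈ A := hXA p hp.out hp0 (Subgroup.mem_inf.mpr ⟨hu, huC⟩)
    have hmem : (⟨u, huA⟩ : ↥A) ∈ cX A X p := by
      refine Subgroup.mem_inf.mpr ⟨Subgroup.mem_subgroupOf.mpr hu, ?_⟩
      rw [Subgroup.mem_centralizer_iff]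
      intro z hz
      apply Subtype.ext
      exact hub _ ⟨z, hz, rfl⟩
    exact congrArg Subtype.val (hsQ ⟨u, huA⟩ hmem)

/-- **G2'** `E(A)` centralizes `X`. -/
theorem pair_commute_layer {A S : Subgroup G} (h : LargeSub (S.subgroupOf A)) {p : ℕ}
    [hp : Fact p.Prime] {X : Subgroup G} (hXA : PairHyp A X)
    (hX : IsPGroup p X) (hSX : S ≤ Subgroup.normalizer (X : Set G)) (hp0 : pCore p ↥A ≠ ⊥) :
    ∀ e ∈ layer ↥A, ∀ x ∈ X, (e : G) * x = x * (e : G) := by
  have hKS : (layer ↥A).map A.subtype ≤ S := by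
    rintro _ ⟨e, he, rfl⟩
    exact Subgroup.mem_subgroupOf.mp (h.layer_le he)
  have key := le_centralizer_of_perfect_of_coprime p (K := (layer ↥A).map A.subtype) (X := X)
    (by rw [← Subgroup.map_commutator, Cfsg.Agent.Helper22.layer_commutator_self])
    (hKS.trans hSX) (by
      rintro _ ⟨e, he, rfl⟩ hcop
      rw [Subgroup.mem_centralizer_iff]
      intro x hx
      refine (pair_thompson h hXA hX hSX hp0 (h.layer_le he) ?_ ?_ ?_ x hx).symm
      · rwa [Subgroup.coe_subtype, Subgroup.orderOf_coe] at hcop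
      · intro z hz
        exact commute_layer_fittingSubgroup he
          (Cfsg.Agent.Helper71.pCore_le_fittingSubgroup p (zc_le_pCore p hz))
      · intro y hy
        exact (h.commute_layer_of_isPGroup (isPGroup_cX hX) (le_normalizer_cX hSX) y hy e he).symm)
  intro e he x hx
  have := (Subgroup.mem_centralizer_iff.mp (key ⟨e, he, rfl⟩)) x hx
  exact this.symm

/-- **G3'** `S ∩ O_r(A)` centralizes `X` for `r ≠ p`. -/
theorem pair_commute_inf_pCore {A S : Subgroup G} (h : LargeSub (S.subgroupOf A)) {p : ℕ}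
    [hp : Fact p.Prime] {X : Subgroup G} (hXA : PairHyp A X)
    (hX : IsPGroup p X) (hSX : S ≤ Subgroup.normalizer (X : Set G)) (hp0 : pCore p ↥A ≠ ⊥)
    {r : ℕ} [hr : Fact r.Prime] (hrp : r ≠ p) :
    ∀ s ∈ S.subgroupOf A, s ∈ pCore r ↥A → ∀ x ∈ X, (s : G) * x = x * (s : G) := by
  intro s hs hsr
  refine pair_thompson h hXA hX hSX hp0 hs ?_ ?_ ?_
  · obtain ⟨j, hj⟩ := exists_orderOf_eq_of_mem_pCore hsr
    rw [hj]
    exact Nat.Coprime.pow_left j ((Nat.coprime_primes hr.out hp.out).mpr hrp)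
  · intro z hz
    exact (Subgroup.commute_of_normal_of_disjoint _ _ (Cfsg.Agent.Helper71.pCore_normal r)
      (Cfsg.Agent.Helper71.pCore_normal p)
      (IsPGroup.disjoint_of_ne r p hrp _ _ (Cfsg.Agent.Helper71.pCore_isPGroup r)
        (Cfsg.Agent.Helper71.pCore_isPGroup p)) s z hsr (zc_le_pCore p hz)).eq
  · intro y hy
    exact (h.commute_pCore_of_isPGroup (isPGroup_cX hX) (le_normalizer_cX hSX) hrp y hy s hsr).symm

/-- **G4'** `O_r(A)` centralizes `X` for `r ≠ p`. -/
theorem pair_commute_pCore {A S : Subgroup G} (h : LargeSub (S.subgroupOf A)) {p : ℕ}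
    [hp : Fact p.Prime] {X : Subgroup G} (hXA : PairHyp A X)
    (hX : IsPGroup p X) (hSX : S ≤ Subgroup.normalizer (X : Set G)) (hp0 : pCore p ↥A ≠ ⊥)
    {r : ℕ} [hr : Fact r.Prime] (hrp : r ≠ p) :
    ∀ u ∈ pCore r ↥A, ∀ x ∈ X, (u : G) * x = x * (u : G) := by
  intro u hu x hx
  by_cases hr0 : pCore r ↥A = ⊥
  · rw [hr0, Subgroup.mem_bot] at hu
    rw [hu, Subgroup.coe_one, one_mul, mul_one]
  · have hXA' : X ≤ A := by
      intro x' hx'
      have hxC : x' ∈ Subgroup.centralizer (((zc r ↥A).map A.subtype : Subgroup G) : Set G) := by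
        rw [Subgroup.mem_centralizer_iff]
        rintro _ ⟨z, hz, rfl⟩
        exact pair_commute_inf_pCore h hXA hX hSX hp0 hrp z (h.zc_le r hz) (zc_le_pCore r hz)
          x' hx'
      exact hXA r hr.out hr0 (Subgroup.mem_inf.mpr ⟨hx', hxC⟩)
    have hQ : IsPGroup p ↥(X.subgroupOf A) := hX.comap_subtype
    have := h.commute_pCore_of_isPGroup hQ (subgroupOf_le_normalizer_subgroupOf hSX) hrp
      ⟨x, hXA' hx⟩ (Subgroup.mem_subgroupOf.mpr hx) u hu
    exact (congrArg Subtype.val this).symm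

end AmbientPair

section Pair

variable {G : Type*} [Group G] [Finite G]

/-- `F*(H)` as a subgroup of `G`. -/
abbrev FsG (H : Subgroup G) : Subgroup G := (generalizedFittingSubgroup ↥H).map H.subtype

/-- `O_r(H)` as a subgroup of `G`. -/
abbrev OpG (r : ℕ) (H : Subgroup G) : Subgroup G := (pCore r ↥H).map H.subtype

/-- `E(H)` as a subgroup of `G`. -/
abbrev ElG (H : Subgroup G) : Subgroup G := (layer ↥H).map H.subtype

/-- A Bender pair: distinct subgroups, primitive with respect to each other, each containing the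
generalized Fitting subgroup of the other. -/
structure BPair (M L : Subgroup G) : Prop where
  ne : M ≠ L
  prim₁ : ∀ A : Subgroup G, A ≠ ⊥ → A ≤ M ⊓ L → M ≤ Subgroup.normalizer (A : Set G) →
    L ⊓ Subgroup.normalizer (A : Set G) ≤ M
  prim₂ : ∀ A : Subgroup G, A ≠ ⊥ → A ≤ M ⊓ L → L ≤ Subgroup.normalizer (A : Set G) →
    M ⊓ Subgroup.normalizer (A : Set G) ≤ L
  le₁ : FsG M ≤ L
  le₂ : FsG L ≤ M

theorem BPair.symm {M L : Subgroup G} (h : BPair M L) : BPair L M :=
  ⟨h.ne.symm, fun A hA hAle hn => h.prim₂ A hA (by rwa [inf_comm]) hn,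
    fun A hA hAle hn => h.prim₁ A hA (by rwa [inf_comm]) hn, h.le₂, h.le₁⟩

theorem OpG_le_FsG (r : ℕ) [Fact r.Prime] (H : Subgroup G) : OpG r H ≤ FsG H :=
  Subgroup.map_mono ((Cfsg.Agent.Helper71.pCore_le_fittingSubgroup r).trans
    Cfsg.Agent.Helper21.fittingSubgroup_le_generalizedFittingSubgroup)

theorem ElG_le_FsG (H : Subgroup G) : ElG H ≤ FsG H :=
  Subgroup.map_mono Cfsg.Agent.Helper21.layer_le_generalizedFittingSubgroup

theorem le_normalizer_OpG (r : ℕ) (H : Subgroup G) :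
    H ≤ Subgroup.normalizer ((OpG r H : Subgroup G) : Set G) := by
  haveI : (pCore r ↥H).Normal := Cfsg.Agent.Helper71.pCore_normal r
  exact le_normalizer_map_subtype_of_normal H (pCore r ↥H)

theorem isPGroup_OpG (r : ℕ) [Fact r.Prime] (H : Subgroup G) : IsPGroup r ↥(OpG r H) :=
  (Cfsg.Agent.Helper71.pCore_isPGroup r).map _

theorem BPair.largeSub {M L : Subgroup G} (_h : BPair M L) : LargeSub ((FsG M).subgroupOf M) := by
  haveI hFsn : (generalizedFittingSubgroup ↥M).Normal :=
    Cfsg.Agent.Helper21.generalizedFittingSubgroup_normal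
  have : (FsG M).subgroupOf M = generalizedFittingSubgroup ↥M :=
    Subgroup.comap_map_eq_self_of_injective M.subtype_injective _
  rw [this]
  exact ⟨le_rfl, hFsn.isSubnormal, inf_le_left⟩

theorem BPair.pairHyp {M L : Subgroup G} (h : BPair M L) {X : Subgroup G} (hXL : X ≤ L) :
    PairHyp M X := by
  intro r hr hr0
  haveI : Fact r.Prime := ⟨hr⟩
  have hZle : (zc r ↥M).map M.subtype ≤ M ⊓ L :=
    le_inf (Subgroup.map_subtype_le _)
      ((Subgroup.map_mono (zc_le_pCore r)).trans ((OpG_le_FsG r M).trans h.le₁))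
  have hZne : (zc r ↥M).map M.subtype ≠ ⊥ := by
    rw [Ne, Subgroup.map_eq_bot_iff_of_injective _ M.subtype_injective]
    exact zc_ne_bot hr0
  have := h.prim₁ _ hZne hZle (le_normalizer_map_subtype_of_normal M (zc r ↥M))
  exact (inf_le_inf hXL (Subgroup.centralizer_le_normalizer _)).trans this

/-- `O_q(M) = 1 ⇒ O_q(L) = 1`. -/
theorem BPair.pCore_eq_bot {M L : Subgroup G} (h : BPair M L) {q : ℕ} [hq : Fact q.Prime]
    (hq0 : pCore q ↥M = ⊥) : pCore q ↥L = ⊥ := by
  have h1 := ambient_inf_eq_bot M (FsG M) h.largeSub (OpG q L) (isPGroup_OpG q L)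
    (h.le₁.trans (le_normalizer_OpG q L)) hq0
  have h2 : OpG q L ≤ M := (OpG_le_FsG q L).trans h.le₂
  rw [inf_eq_left.mpr h2] at h1
  exact (Subgroup.map_eq_bot_iff_of_injective _ L.subtype_injective).mp h1

/-- `O_q(L)` centralizes `E(M)`. -/
theorem BPair.commute_layer {M L : Subgroup G} (h : BPair M L) {q : ℕ} [hq : Fact q.Prime] :
    ∀ x ∈ pCore q ↥L, ∀ e ∈ layer ↥M, (e : G) * (x : G) = (x : G) * (e : G) := by
  intro x hx e he
  by_cases hq0 : pCore q ↥M = ⊥
  · have := h.pCore_eq_bot hq0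
    rw [this, Subgroup.mem_bot] at hx
    rw [hx, Subgroup.coe_one, one_mul, mul_one]
  · exact pair_commute_layer h.largeSub (h.pairHyp (Subgroup.map_subtype_le _))
      (isPGroup_OpG q L) (h.le₁.trans (le_normalizer_OpG q L)) hq0 e he (x : G) ⟨x, hx, rfl⟩

/-- `O_q(L)` centralizes `O_r(M)` for `r ≠ q`. -/
theorem BPair.commute_pCore {M L : Subgroup G} (h : BPair M L) {q : ℕ} [hq : Fact q.Prime]
    {r : ℕ} [hr : Fact r.Prime] (hrq : r ≠ q) :
    ∀ x ∈ pCore q ↥L, ∀ u ∈ pCore r ↥M, (u : G) * (x : G) = (x : G) * (u : G) := by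
  intro x hx u hu
  by_cases hq0 : pCore q ↥M = ⊥
  · have := h.pCore_eq_bot hq0
    rw [this, Subgroup.mem_bot] at hx
    rw [hx, Subgroup.coe_one, one_mul, mul_one]
  · exact pair_commute_pCore h.largeSub (h.pairHyp (Subgroup.map_subtype_le _))
      (isPGroup_OpG q L) (h.le₁.trans (le_normalizer_OpG q L)) hq0 hrq u hu (x : G) ⟨x, hx, rfl⟩

/-- `F(L)` centralizes `E(M)`. -/
theorem BPair.commute_fitting_layer {M L : Subgroup G} (h : BPair M L) :
    ∀ f ∈ fittingSubgroup ↥L, ∀ e ∈ layer ↥M, (e : G) * (f : G) = (f : G) * (e : G) := by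
  intro f hf e he
  have key : fittingSubgroup ↥L ≤ (Subgroup.centralizer ({(e : G)} : Set G)).subgroupOf L := by
    refine Cfsg.Agent.Helper71.fittingSubgroup_le_pCoreJoin.trans (iSup_le ?_)
    intro r x hx
    haveI : Fact (r : ℕ).Prime := ⟨Nat.prime_of_mem_primeFactors r.2⟩
    rw [Subgroup.mem_subgroupOf, Subgroup.mem_centralizer_iff]
    intro y hy
    rw [Set.mem_singleton_iff.mp hy]
    exact h.commute_layer x hx e he
  have := key hf
  rw [Subgroup.mem_subgroupOf, Subgroup.mem_centralizer_iff] at this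
  exact this _ rfl

/-- A component of `H` contained in `H' ≤ H` is a component of `H'`. -/
theorem isComponent_subgroupOf_of_le {H' H : Subgroup G} (hH : H' ≤ H) {K : Subgroup ↥H}
    (hK : IsComponent K) (hKH' : K.map H.subtype ≤ H') :
    IsComponent ((K.map H.subtype).subgroupOf H') := by
  have hK' : K ≤ H'.subgroupOf H := fun k hk => Subgroup.mem_subgroupOf.mpr (hKH' ⟨k, hk, rfl⟩)
  have h1 : IsComponent (K.subgroupOf (H'.subgroupOf H)) :=
    Cfsg.Agent.Helper22.IsComponent.subgroupOf hK hK'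
  have h2 := Cfsg.Agent.Helper23.isComponent_map_mulEquiv' (Subgroup.subgroupOfEquivOfLe hH) h1
  have h3 : (K.subgroupOf (H'.subgroupOf H)).map (Subgroup.subgroupOfEquivOfLe hH).toMonoidHom =
      (K.map H.subtype).subgroupOf H' := by
    ext x
    constructor
    · rintro ⟨y, hy, rfl⟩
      have hy' : y ∈ K.subgroupOf (H'.subgroupOf H) := hy
      rw [Subgroup.mem_subgroupOf] at hy' ⊢
      exact ⟨(y : ↥H), hy', rfl⟩
    · intro hx
      rw [Subgroup.mem_subgroupOf] at hx
      obtain ⟨k, hk, hkx⟩ := hx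
      have hkH' : k ∈ H'.subgroupOf H := hK' hk
      refine ⟨⟨k, hkH'⟩, Subgroup.mem_subgroupOf.mpr hk, ?_⟩
      apply Subtype.ext
      exact hkx
  rw [h3] at h2
  exact h2

/-- Every component of `M` is a component of `L`. -/
theorem BPair.isComponent_of_isComponent {M L : Subgroup G} (h : BPair M L) {K : Subgroup ↥M}
    (hK : IsComponent K) : IsComponent ((K.map M.subtype).subgroupOf L) := by
  by_contra hnot
  have hKlayer : K ≤ layer ↥M := Cfsg.Agent.Helper22.IsComponent.le_layer hK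
  have hKL : K.map M.subtype ≤ L :=
    (Subgroup.map_mono hKlayer).trans ((ElG_le_FsG M).trans h.le₁)
  have hKI : K.map M.subtype ≤ M ⊓ L := le_inf (Subgroup.map_subtype_le _) hKL
  have hKIc : IsComponent ((K.map M.subtype).subgroupOf (M ⊓ L)) :=
    isComponent_subgroupOf_of_le inf_le_left hK hKI
  -- `K` commutes with every component of `L`
  have hcomm : ∀ K' : Subgroup ↥L, IsComponent K' → ∀ k ∈ K.map M.subtype,
      ∀ k' ∈ K'.map L.subtype, k * k' = k' * k := by
    intro K' hK' k hk k' hk'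
    have hK'I : K'.map L.subtype ≤ M ⊓ L :=
      le_inf ((Subgroup.map_mono (Cfsg.Agent.Helper22.IsComponent.le_layer hK')).trans
        ((ElG_le_FsG L).trans h.le₂)) (Subgroup.map_subtype_le _)
    have hK'Ic : IsComponent ((K'.map L.subtype).subgroupOf (M ⊓ L)) :=
      isComponent_subgroupOf_of_le inf_le_right hK' hK'I
    by_cases heq : (K.map M.subtype).subgroupOf (M ⊓ L) = (K'.map L.subtype).subgroupOf (M ⊓ L)
    · exfalso
      rw [Subgroup.subgroupOf_inj, inf_eq_left.mpr hKI, inf_eq_left.mpr hK'I] at heq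
      apply hnot
      rw [heq]
      have : (K'.map L.subtype).subgroupOf L = K' :=
        Subgroup.comap_map_eq_self_of_injective L.subtype_injective _
      rw [this]
      exact hK'
    · have h1 := Cfsg.Agent.Helper22.IsComponent.commutator_eq_bot_of_ne hKIc hK'Ic heq
      have h2 : ⁅(⟨k, hKI hk⟩ : ↥(M ⊓ L)), (⟨k', hK'I hk'⟩ : ↥(M ⊓ L))⁆ ∈
          ⁅(K.map M.subtype).subgroupOf (M ⊓ L), (K'.map L.subtype).subgroupOf (M ⊓ L)⁆ :=
        Subgroup.commutator_mem_commutator (Subgroup.mem_subgroupOf.mpr hk)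
          (Subgroup.mem_subgroupOf.mpr hk')
      rw [h1, Subgroup.mem_bot] at h2
      have h3 := (commutatorElement_eq_one_iff_commute.mp h2).eq
      exact congrArg Subtype.val h3
  -- elements of `K` centralize `F*(L)`
  have hcent : ∀ k (hk : k ∈ K.map M.subtype), (⟨k, hKL hk⟩ : ↥L) ∈
      Subgroup.centralizer (generalizedFittingSubgroup ↥L : Set ↥L) := by
    intro k hk
    apply mem_centralizer_generalizedFittingSubgroup_of_commute
    · have key : layer ↥L ≤ (Subgroup.centralizer ({k} : Set G)).subgroupOf L := by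
        rw [Cfsg.Agent.Helper22.layer_le_iff]
        intro K' hK' k' hk'
        rw [Subgroup.mem_subgroupOf, Subgroup.mem_centralizer_iff]
        intro y hy
        rw [Set.mem_singleton_iff.mp hy]
        exact hcomm K' hK' k hk (k' : G) ⟨k', hk', rfl⟩
      intro e he
      have := key he
      rw [Subgroup.mem_subgroupOf, Subgroup.mem_centralizer_iff] at this
      apply Subtype.ext
      exact this k rfl
    · intro r hr u hu
      haveI : Fact r.Prime := ⟨hr⟩
      obtain ⟨e, he, rfl⟩ := hk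
      apply Subtype.ext
      exact h.commute_fitting_layer u (Cfsg.Agent.Helper71.pCore_le_fittingSubgroup r hu) e
        (hKlayer he)
  -- hence `K` is abelian
  have hab : ⁅K, K⁆ = ⊥ := by
    rw [Subgroup.commutator_eq_bot_iff_le_centralizer]
    intro a ha
    rw [Subgroup.mem_centralizer_iff]
    intro b hb
    have h1 := hcent (a : G) ⟨a, ha, rfl⟩
    have h2 := Cfsg.Agent.Helper21.centralizer_generalizedFittingSubgroup_le
      (hcent (b : G) ⟨b, hb, rfl⟩)
    have h3 := (Subgroup.mem_centralizer_iff.mp h1) _ h2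
    apply Subtype.ext
    have h4 := congrArg Subtype.val h3
    simpa using h4
  rw [Cfsg.Agent.Helper22.IsComponent.commutator_self hK] at hab
  exact Cfsg.Agent.Helper22.IsComponent.ne_bot hK hab

/-- `E(M) ≤ E(L)`. -/
theorem BPair.ElG_le {M L : Subgroup G} (h : BPair M L) : ElG M ≤ ElG L := by
  rw [Subgroup.map_le_iff_le_comap, Cfsg.Agent.Helper22.layer_le_iff]
  intro K hK k hk
  rw [Subgroup.mem_comap]
  have hKL : K.map M.subtype ≤ L :=
    (Subgroup.map_mono (Cfsg.Agent.Helper22.IsComponent.le_layer hK)).trans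
      ((ElG_le_FsG M).trans h.le₁)
  have hc := h.isComponent_of_isComponent hK
  have hmem : (⟨(k : G), hKL ⟨k, hk, rfl⟩⟩ : ↥L) ∈ (K.map M.subtype).subgroupOf L :=
    Subgroup.mem_subgroupOf.mpr ⟨k, hk, rfl⟩
  exact ⟨_, Cfsg.Agent.Helper22.IsComponent.le_layer hc hmem, rfl⟩

/-- A common nontrivial subgroup normalized by both `M` and `L` is impossible. -/
theorem BPair.false_of_common {M L : Subgroup G} (h : BPair M L) {A : Subgroup G} (hA : A ≠ ⊥)
    (hAM : A ≤ M) (hAL : A ≤ L) (hMA : M ≤ Subgroup.normalizer (A : Set G))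
    (hLA : L ≤ Subgroup.normalizer (A : Set G)) : False := by
  have h1 := h.prim₁ A hA (le_inf hAM hAL) hMA
  have h2 := h.prim₂ A hA (le_inf hAM hAL) hLA
  exact h.ne (le_antisymm ((le_inf le_rfl hMA).trans h2) ((le_inf le_rfl hLA).trans h1))

/-- `E(M) = 1`. -/
theorem BPair.layer_eq_bot {M L : Subgroup G} (h : BPair M L) : layer ↥M = ⊥ := by
  haveI : (layer ↥M).Normal := Cfsg.Agent.Helper21.layer_normal
  haveI : (layer ↥L).Normal := Cfsg.Agent.Helper21.layer_normal
  have heq : ElG M = ElG L := le_antisymm h.ElG_le h.symm.ElG_le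
  by_contra hne
  have hA : ElG M ≠ ⊥ := by
    rw [Ne, Subgroup.map_eq_bot_iff_of_injective _ M.subtype_injective]
    exact hne
  refine h.false_of_common hA (Subgroup.map_subtype_le _) ((ElG_le_FsG M).trans h.le₁)
    (le_normalizer_map_subtype_of_normal M (layer ↥M)) ?_
  rw [heq]
  exact le_normalizer_map_subtype_of_normal L (layer ↥L)

omit [Finite G] in
/-- Conjugates of an element centralizing a normal subgroup centralize it. -/
theorem conj_commute_of_normal {U : Subgroup G} [hU : U.Normal] {t : G}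
    (h : ∀ u ∈ U, t * u = u * t) (y : G) :
    ∀ u ∈ U, (y * t * y⁻¹) * u = u * (y * t * y⁻¹) := by
  intro u hu
  have h1 := h (y⁻¹ * u * y) (by have := hU.conj_mem u hu y⁻¹; simpa using this)
  calc y * t * y⁻¹ * u = y * (t * (y⁻¹ * u * y)) * y⁻¹ := by group
    _ = y * ((y⁻¹ * u * y) * t) * y⁻¹ := by rw [h1]
    _ = u * (y * t * y⁻¹) := by group

/-- If `O_p(M) ≠ 1` and `q ≠ p` then `O_q(M) ≤ O_q(L)`. -/
theorem BPair.OpG_le {M L : Subgroup G} (h : BPair M L) {p q : ℕ} [hp : Fact p.Prime]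
    [hq : Fact q.Prime] (hpq : p ≠ q) (hp0 : pCore p ↥M ≠ ⊥) : OpG q M ≤ OpG q L := by
  haveI hEn : (layer ↥L).Normal := Cfsg.Agent.Helper21.layer_normal
  have hUn : ∀ r : ℕ, (pCore r ↥L).Normal := fun r => Cfsg.Agent.Helper71.pCore_normal r
  have hMqL : OpG q M ≤ L := (OpG_le_FsG q M).trans h.le₁
  have hMpL : OpG p M ≤ L := (OpG_le_FsG p M).trans h.le₁
  -- `L`-conjugates of elements of `O_q(M)` centralize `O_p(M)`
  have key : ∀ y ∈ L, ∀ t ∈ OpG q M, ∀ v ∈ OpG p M,
      (y * t * y⁻¹) * v = v * (y * t * y⁻¹) := by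
    rintro y hy _ ⟨t₀, ht₀, rfl⟩ _ ⟨v₀, hv₀, rfl⟩
    have htL : (t₀ : G) ∈ L := hMqL ⟨t₀, ht₀, rfl⟩
    have hvL : (v₀ : G) ∈ L := hMpL ⟨v₀, hv₀, rfl⟩
    have h1 : ∀ u ∈ pCore p ↥L, (⟨(t₀ : G), htL⟩ : ↥L) * u = u * ⟨(t₀ : G), htL⟩ := by
      intro u hu
      apply Subtype.ext
      exact (h.symm.commute_pCore (q := q) (r := p) hpq t₀ ht₀ u hu).symm
    have h2 : ∀ e ∈ layer ↥L, (⟨(t₀ : G), htL⟩ : ↥L) * e = e * ⟨(t₀ : G), htL⟩ := by
      intro e he
      apply Subtype.ext
      exact (h.symm.commute_layer (q := q) t₀ ht₀ e he).symm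
    have h3 : ∀ r : ℕ, r.Prime → r ≠ p → ∀ u ∈ pCore r ↥L,
        (⟨(v₀ : G), hvL⟩ : ↥L) * u = u * ⟨(v₀ : G), hvL⟩ := by
      intro r hr hrp u hu
      haveI : Fact r.Prime := ⟨hr⟩
      apply Subtype.ext
      exact (h.symm.commute_pCore (q := p) (r := r) hrp v₀ hv₀ u hu).symm
    have h4 : (orderOf ((⟨y, hy⟩ : ↥L) * ⟨(t₀ : G), htL⟩ * (⟨y, hy⟩ : ↥L)⁻¹)).Coprime p := by
      have hsc : SemiconjBy (⟨y, hy⟩ : ↥L) ⟨(t₀ : G), htL⟩
          ((⟨y, hy⟩ : ↥L) * ⟨(t₀ : G), htL⟩ * (⟨y, hy⟩ : ↥L)⁻¹) := by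
        unfold SemiconjBy; group
      rw [← SemiconjBy.orderOf_eq _ hsc, Subgroup.orderOf_mk, Subgroup.orderOf_coe]
      obtain ⟨j, hj⟩ := exists_orderOf_eq_of_mem_pCore ht₀
      rw [hj]
      exact Nat.Coprime.pow_left j ((Nat.coprime_primes hq.out hp.out).mpr hpq.symm)
    have h5 : ∃ k : ℕ, orderOf (⟨(v₀ : G), hvL⟩ : ↥L) = p ^ k := by
      obtain ⟨k, hk⟩ := exists_orderOf_eq_of_mem_pCore hv₀
      exact ⟨k, by rw [Subgroup.orderOf_mk, Subgroup.orderOf_coe, hk]⟩
    haveI := hUn p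
    have hC1 := commute_of_centralize_split (M := ↥L) (p := p)
      (conj_commute_of_normal h1 ⟨y, hy⟩) (conj_commute_of_normal h2 ⟨y, hy⟩) h3 h4 h5
    exact congrArg Subtype.val hC1
  -- the normal core of `M ∩ L` in `L`
  have hprim : L ⊓ Subgroup.normalizer ((OpG p M : Subgroup G) : Set G) ≤ M :=
    h.prim₁ (OpG p M)
      (by rw [Ne, Subgroup.map_eq_bot_iff_of_injective _ M.subtype_injective]; exact hp0)
      (le_inf (Subgroup.map_subtype_le _) hMpL) (le_normalizer_OpG p M)
  have hMqY : (OpG q M).subgroupOf L ≤ (M.subgroupOf L).normalCore := by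
    intro t ht b
    rw [Subgroup.mem_subgroupOf]
    apply hprim
    refine Subgroup.mem_inf.mpr ⟨(b * t * b⁻¹).2, Subgroup.centralizer_le_normalizer _ ?_⟩
    rw [Subgroup.mem_centralizer_iff]
    intro v hv
    have := key b b.2 t (Subgroup.mem_subgroupOf.mp ht) v hv
    simpa using this.symm
  have hn : (((OpG q M).subgroupOf L).subgroupOf (M.subgroupOf L).normalCore).Normal := by
    apply Subgroup.normal_subgroupOf_of_le_normalizer
    exact (Subgroup.normalCore_le _).trans
      (subgroupOf_le_normalizer_subgroupOf (le_normalizer_OpG q M))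
  have hsub : ((OpG q M).subgroupOf L).IsSubnormal :=
    Subgroup.IsSubnormal.trans hMqY hn.isSubnormal (Subgroup.normalCore_normal _).isSubnormal
  have hle := Cfsg.Agent.Helper22.le_pCore_of_isSubnormal hsub
    ((isPGroup_OpG q M).comap_subtype (K := L))
  intro t ht
  exact ⟨⟨t, hMqL ht⟩, hle (Subgroup.mem_subgroupOf.mpr ht), rfl⟩

/-- `F(M)` cannot involve two primes. -/
theorem BPair.false_of_two_primes {M L : Subgroup G} (h : BPair M L) {p q : ℕ}
    [hp : Fact p.Prime] [hq : Fact q.Prime] (hpq : p ≠ q) (hp0 : pCore p ↥M ≠ ⊥)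
    (hq0 : pCore q ↥M ≠ ⊥) : False := by
  have hp0' : pCore p ↥L ≠ ⊥ := fun hb => hp0 (h.symm.pCore_eq_bot hb)
  have heq : OpG q M = OpG q L := le_antisymm (h.OpG_le hpq hp0) (h.symm.OpG_le hpq hp0')
  have hA : OpG q M ≠ ⊥ := by
    rw [Ne, Subgroup.map_eq_bot_iff_of_injective _ M.subtype_injective]; exact hq0
  refine h.false_of_common hA (Subgroup.map_subtype_le _) ((OpG_le_FsG q M).trans h.le₁)
    (le_normalizer_OpG q M) ?_
  rw [heq]
  exact le_normalizer_OpG q L

/-- A subgroup with trivial generalized Fitting subgroup is trivial. -/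
theorem eq_bot_of_generalizedFittingSubgroup_eq_bot {H : Subgroup G}
    (h : generalizedFittingSubgroup ↥H = ⊥) : H = ⊥ := by
  rw [eq_bot_iff]
  intro g hg
  have h1 : (⟨g, hg⟩ : ↥H) ∈ Subgroup.centralizer (generalizedFittingSubgroup ↥H : Set ↥H) := by
    rw [Subgroup.mem_centralizer_iff]
    intro y hy
    have hy' : y ∈ generalizedFittingSubgroup ↥H := hy
    rw [h, Subgroup.mem_bot] at hy'
    rw [hy', one_mul, mul_one]
  have h2 := Cfsg.Agent.Helper21.centralizer_generalizedFittingSubgroup_le h1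
  rw [h, Subgroup.mem_bot] at h2
  rw [Subgroup.mem_bot]
  exact congrArg Subtype.val h2

/-- **Bender's theorem**: for a Bender pair `(M, L)` there is a prime `p` with
`F*(M) = O_p(M)` and `F*(L) = O_p(L)`. -/
theorem BPair.exists_prime {M L : Subgroup G} (h : BPair M L) :
    ∃ p : ℕ, p.Prime ∧ generalizedFittingSubgroup ↥M = pCore p ↥M ∧
      generalizedFittingSubgroup ↥L = pCore p ↥L := by
  have hFM : generalizedFittingSubgroup ↥M = fittingSubgroup ↥M := by
    unfold generalizedFittingSubgroup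
    rw [h.layer_eq_bot, bot_sup_eq]
  have hFL : generalizedFittingSubgroup ↥L = fittingSubgroup ↥L := by
    unfold generalizedFittingSubgroup
    rw [h.symm.layer_eq_bot, bot_sup_eq]
  have hex : ∃ p : ℕ, p.Prime ∧ pCore p ↥M ≠ ⊥ := by
    by_contra hno
    push_neg at hno
    have hM0 : fittingSubgroup ↥M = ⊥ := by
      rw [eq_bot_iff]
      refine Cfsg.Agent.Helper71.fittingSubgroup_le_pCoreJoin.trans (iSup_le ?_)
      intro r
      rw [hno r (Nat.prime_of_mem_primeFactors r.2)]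
    have hL0 : fittingSubgroup ↥L = ⊥ := by
      rw [eq_bot_iff]
      refine Cfsg.Agent.Helper71.fittingSubgroup_le_pCoreJoin.trans (iSup_le ?_)
      intro r
      haveI : Fact (r : ℕ).Prime := ⟨Nat.prime_of_mem_primeFactors r.2⟩
      rw [h.pCore_eq_bot (hno r (Nat.prime_of_mem_primeFactors r.2))]
    have hMb : M = ⊥ := eq_bot_of_generalizedFittingSubgroup_eq_bot (hFM.trans hM0)
    have hLb : L = ⊥ := eq_bot_of_generalizedFittingSubgroup_eq_bot (hFL.trans hL0)
    exact h.ne (hMb.trans hLb.symm)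
  obtain ⟨p, hp, hp0⟩ := hex
  haveI : Fact p.Prime := ⟨hp⟩
  have hMr : ∀ r : ℕ, r.Prime → r ≠ p → pCore r ↥M = ⊥ := by
    intro r hr hrp
    haveI : Fact r.Prime := ⟨hr⟩
    by_contra hr0
    exact h.false_of_two_primes (Ne.symm hrp) hp0 hr0
  refine ⟨p, hp, ?_, ?_⟩
  · rw [hFM]
    apply le_antisymm
    · refine Cfsg.Agent.Helper71.fittingSubgroup_le_pCoreJoin.trans (iSup_le ?_)
      intro r
      by_cases hrp : (r : ℕ) = p
      · rw [hrp]
      · rw [hMr r (Nat.prime_of_mem_primeFactors r.2) hrp]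
        exact bot_le
    · exact Cfsg.Agent.Helper71.pCore_le_fittingSubgroup p
  · rw [hFL]
    apply le_antisymm
    · refine Cfsg.Agent.Helper71.fittingSubgroup_le_pCoreJoin.trans (iSup_le ?_)
      intro r
      by_cases hrp : (r : ℕ) = p
      · rw [hrp]
      · haveI : Fact (r : ℕ).Prime := ⟨Nat.prime_of_mem_primeFactors r.2⟩
        rw [h.pCore_eq_bot (hMr r (Nat.prime_of_mem_primeFactors r.2) hrp)]
        exact bot_le
    · exact Cfsg.Agent.Helper71.pCore_le_fittingSubgroup p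

end Pair

end Cfsg.Agent.Helper31
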