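import Mathlib
import Cfsg.Prelude.Def_OddOrderLocal

/-!
# Abstract core of Bender–Glauberman Theorem 14.4 (the shapes of S1374)

`x ∈ M`, `C_G(x) ≤ N = (M ∩ N) Ns` with `Ns ⊴ N` of order coprime to `|M ∩ N|`, `N_G(M) = M`, and every
conjugate of `M` containing `x` is an `N`-conjugate of `M`.  Then `R := C_{Ns}(x)` is a normal
complement of `C_M(x)` in `C_G(x)`, of order coprime to `|C_M(x)|`, acting regularly on the
conjugates of `M` containing `x`.
-/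

set_option autoImplicit false

namespace Cfsg.Agent.Helper31.BG144Core

variable {G : Type*} [Group G]

/-- the order formula for complements in the sense of `IsComplIn` -/
theorem card_mul_card_of_isComplIn {A B M : Subgroup G} (h : Cfsg.IsComplIn A B M) :
    Nat.card A * Nat.card B = Nat.card M := by
  rw [← Nat.card_prod]
  refine Nat.card_congr (Equiv.ofBijective
    (fun x : A × B => (⟨x.1 * x.2, M.mul_mem (h.1 x.1.2) (h.2.1 x.2.2)⟩ : M)) ⟨?_, ?_⟩)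
  · rintro ⟨⟨a, ha⟩, ⟨b, hb⟩⟩ ⟨⟨a', ha'⟩, ⟨b', hb'⟩⟩ hab
    have hab' : a * b = a' * b' := congrArg Subtype.val hab
    have h1 : a'⁻¹ * a = b' * b⁻¹ := by
      rw [eq_mul_inv_iff_mul_eq, mul_assoc, hab', inv_mul_cancel_left]
    have h2 : a'⁻¹ * a ∈ A ⊓ B :=
      ⟨A.mul_mem (A.inv_mem ha') ha, by rw [h1]; exact B.mul_mem hb' (B.inv_mem hb)⟩
    rw [h.2.2.1, Subgroup.mem_bot, inv_mul_eq_one] at h2
    subst h2
    have h3 : b = b' := mul_left_cancel hab'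
    subst h3
    rfl
  · rintro ⟨m, hm⟩
    obtain ⟨a, ha, b, hb, rfl⟩ := h.2.2.2 m hm
    exact ⟨(⟨a, ha⟩, ⟨b, hb⟩), rfl⟩

theorem mem_map_conj {g y : G} {X : Subgroup G} :
    y ∈ X.map (MulAut.conj g).toMonoidHom ↔ g⁻¹ * y * g ∈ X := by
  constructor
  · rintro ⟨z, hz, rfl⟩
    simpa [MulAut.conj_apply, mul_assoc] using hz
  · intro h
    exact ⟨g⁻¹ * y * g, h, by simp [MulAut.conj_apply, mul_assoc]⟩

theorem map_conj_mul (g h : G) (X : Subgroup G) :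
    X.map (MulAut.conj (g * h)).toMonoidHom =
      (X.map (MulAut.conj h).toMonoidHom).map (MulAut.conj g).toMonoidHom := by
  ext y
  simp only [mem_map_conj]
  constructor <;> intro hy <;> simpa [mul_assoc] using hy

theorem map_conj_of_mem {m : G} {X : Subgroup G} (hm : m ∈ X) :
    X.map (MulAut.conj m).toMonoidHom = X := by
  ext y
  rw [mem_map_conj]
  constructor
  · intro h
    have := X.mul_mem (X.mul_mem hm h) (X.inv_mem hm)
    simpa [mul_assoc] using this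
  · intro h
    exact X.mul_mem (X.mul_mem (X.inv_mem hm) h) hm

theorem mem_centralizer_singleton {x c : G} :
    c ∈ Subgroup.centralizer ({x} : Set G) ↔ x * c = c * x := by
  rw [Subgroup.mem_centralizer_iff]
  constructor
  · intro h; exact h x rfl
  · rintro h y rfl; exact h

/-- **Abstract core of B-G 14.4 / S1374.** -/
theorem core [Finite G] (M N Ns : Subgroup G) (x : G)
    (hxM : x ∈ M) (hCx : Subgroup.centralizer ({x} : Set G) ≤ N)
    (hNM : ∀ g : G, M.map (MulAut.conj g).toMonoidHom = M → g ∈ M)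
    (hcompl : Cfsg.IsComplIn (M ⊓ N) Ns N)
    (hNsn : N ≤ Subgroup.normalizer (Ns : Set G))
    (hcop : (Nat.card Ns).Coprime (Nat.card ↥(M ⊓ N)))
    (htrans : ∀ g : G, x ∈ M.map (MulAut.conj g).toMonoidHom →
      ∃ c ∈ N, M.map (MulAut.conj g).toMonoidHom = M.map (MulAut.conj c).toMonoidHom) :
    Subgroup.centralizer ({x} : Set G) ≤
        Subgroup.normalizer ((Ns ⊓ Subgroup.centralizer ({x} : Set G) : Subgroup G) : Set G) ∧
      Cfsg.IsComplIn (M ⊓ Subgroup.centralizer ({x} : Set G))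
        (Ns ⊓ Subgroup.centralizer ({x} : Set G)) (Subgroup.centralizer ({x} : Set G)) ∧
      (Nat.card ↥(M ⊓ Subgroup.centralizer ({x} : Set G))).Coprime
        ((M ⊓ Subgroup.centralizer ({x} : Set G)).relIndex (Subgroup.centralizer ({x} : Set G))) ∧
      ∀ g : G, x ∈ M.map (MulAut.conj g).toMonoidHom →
        ∃! r : G, r ∈ Ns ⊓ Subgroup.centralizer ({x} : Set G) ∧
          M.map (MulAut.conj r).toMonoidHom = M.map (MulAut.conj g).toMonoidHom := by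
  classical
  set C : Subgroup G := Subgroup.centralizer ({x} : Set G) with hC
  have hxC : x ∈ C := mem_centralizer_singleton.2 rfl
  have hxN : x ∈ N := hCx hxC
  obtain ⟨hA, hB, hAB, hfac⟩ := hcompl
  -- conjugation by elements of `N` preserves `Ns`
  have hconjNs : ∀ n ∈ N, ∀ b ∈ Ns, n * b * n⁻¹ ∈ Ns := by
    intro n hn b hb
    exact (Subgroup.mem_normalizer_iff.1 (hNsn hn) b).1 hb
  -- key: factorization of centralizing elements
  have hkey : ∀ a ∈ M ⊓ N, ∀ b ∈ Ns, a * b ∈ C → a ∈ C ∧ b ∈ C := by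
    intro a ha b hb hab
    have h1 : x * (a * b) = (a * b) * x := mem_centralizer_singleton.1 hab
    -- `u := a⁻¹ x a`, `b x b⁻¹ = u`
    have hu : b * x * b⁻¹ = a⁻¹ * x * a := by
      have : a⁻¹ * (x * (a * b)) * b⁻¹ = a⁻¹ * ((a * b) * x) * b⁻¹ := by rw [h1]
      calc b * x * b⁻¹ = a⁻¹ * ((a * b) * x) * b⁻¹ := by group
        _ = a⁻¹ * (x * (a * b)) * b⁻¹ := by rw [h1]
        _ = a⁻¹ * x * a := by group
    have hxMN : x ∈ M ⊓ N := ⟨hxM, hxN⟩
    have h2 : a⁻¹ * x * a * x⁻¹ ∈ M ⊓ N :=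
      (M ⊓ N).mul_mem ((M ⊓ N).mul_mem ((M ⊓ N).mul_mem ((M ⊓ N).inv_mem ha) hxMN) ha)
        ((M ⊓ N).inv_mem hxMN)
    have h3 : a⁻¹ * x * a * x⁻¹ ∈ Ns := by
      rw [← hu]
      have : b * x * b⁻¹ * x⁻¹ = b * (x * b⁻¹ * x⁻¹) := by group
      rw [this]
      exact Ns.mul_mem hb (hconjNs x hxN _ (Ns.inv_mem hb))
    have h4 : a⁻¹ * x * a * x⁻¹ ∈ (M ⊓ N) ⊓ Ns := ⟨h2, h3⟩
    rw [hAB, Subgroup.mem_bot] at h4
    have h5 : a⁻¹ * x * a = x := by
      have := mul_inv_eq_one.1 h4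
      exact this
    have haC : a ∈ C := by
      apply mem_centralizer_singleton.2
      calc x * a = a * (a⁻¹ * x * a) := by group
        _ = a * x := by rw [h5]
    have hbC : b ∈ C := by
      apply mem_centralizer_singleton.2
      have h6 : b * x * b⁻¹ = x := by rw [hu, h5]
      calc x * b = (b * x * b⁻¹) * b := by rw [h6]
        _ = b * x := by group
    exact ⟨haC, hbC⟩
  have hcomplC : Cfsg.IsComplIn (M ⊓ C) (Ns ⊓ C) C := by
    refine ⟨inf_le_right, inf_le_right, ?_, ?_⟩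
    · rw [eq_bot_iff]
      intro y hy
      have : y ∈ (M ⊓ N) ⊓ Ns := ⟨⟨hy.1.1, hCx hy.1.2⟩, hy.2.1⟩
      rwa [hAB] at this
    · intro c hc
      obtain ⟨a, ha, b, hb, rfl⟩ := hfac c (hCx hc)
      obtain ⟨haC, hbC⟩ := hkey a ha b hb hc
      exact ⟨a, ⟨ha.1, haC⟩, b, ⟨hb, hbC⟩, rfl⟩
  refine ⟨?_, hcomplC, ?_, ?_⟩
  · -- normality of `R`
    intro c hc
    rw [Subgroup.mem_normalizer_iff]
    intro h
    have hcN : c ∈ N := hCx hc
    constructor
    · rintro ⟨h1, h2⟩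
      exact ⟨hconjNs c hcN h h1, C.mul_mem (C.mul_mem hc h2) (C.inv_mem hc)⟩
    · rintro ⟨h1, h2⟩
      have e : h = c⁻¹ * (c * h * c⁻¹) * c⁻¹⁻¹ := by group
      refine ⟨?_, ?_⟩
      · rw [e]; exact hconjNs c⁻¹ (N.inv_mem hcN) _ h1
      · rw [e]; exact C.mul_mem (C.mul_mem (C.inv_mem hc) h2) (C.inv_mem (C.inv_mem hc))
  · -- coprimality
    have h1 := card_mul_card_of_isComplIn hcomplC
    have h2 : (M ⊓ C).relIndex C * Nat.card ↥(M ⊓ C) = Nat.card C := by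
      have := Subgroup.relIndex_mul_relIndex ⊥ (M ⊓ C) C bot_le inf_le_right
      rw [Subgroup.relIndex_bot_left, Subgroup.relIndex_bot_left] at this
      rw [mul_comm]; exact this
    have hpos : 0 < Nat.card ↥(M ⊓ C) := Nat.card_pos
    have h3 : (M ⊓ C).relIndex C = Nat.card ↥(Ns ⊓ C) := by
      have : Nat.card ↥(M ⊓ C) * (M ⊓ C).relIndex C = Nat.card ↥(M ⊓ C) * Nat.card ↥(Ns ⊓ C) := by
        rw [h1, mul_comm, h2]
      exact Nat.eq_of_mul_eq_mul_left hpos this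
    rw [h3]
    have d1 : Nat.card ↥(M ⊓ C) ∣ Nat.card ↥(M ⊓ N) :=
      Subgroup.card_dvd_of_le (fun y hy => ⟨hy.1, hCx hy.2⟩)
    have d2 : Nat.card ↥(Ns ⊓ C) ∣ Nat.card Ns := Subgroup.card_dvd_of_le inf_le_left
    exact (Nat.Coprime.coprime_dvd_left d2 (Nat.Coprime.coprime_dvd_right d1 hcop)).symm
  · -- regular transitivity
    intro g hg
    obtain ⟨c, hcN, hgc⟩ := htrans g hg
    obtain ⟨a, ha, b, hb, hab⟩ := hfac c⁻¹ (N.inv_mem hcN)
    have hc : c = b⁻¹ * a⁻¹ := by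
      have : c = (c⁻¹)⁻¹ := by group
      rw [this, hab]; group
    have hcM : M.map (MulAut.conj c).toMonoidHom = M.map (MulAut.conj b⁻¹).toMonoidHom := by
      rw [hc, map_conj_mul, map_conj_of_mem (M.inv_mem ha.1)]
    have hbN : b ∈ N := hB hb
    -- `r := b⁻¹` centralizes `x`
    have hx' : x ∈ M.map (MulAut.conj b⁻¹).toMonoidHom := by rw [← hcM, ← hgc]; exact hg
    rw [mem_map_conj] at hx'
    have h1 : b⁻¹⁻¹ * x * b⁻¹ * x⁻¹ ∈ M ⊓ N := by
      refine ⟨M.mul_mem hx' (M.inv_mem hxM), ?_⟩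
      exact N.mul_mem (N.mul_mem (N.mul_mem (N.inv_mem (N.inv_mem hbN)) hxN) (N.inv_mem hbN))
        (N.inv_mem hxN)
    have h2 : b⁻¹⁻¹ * x * b⁻¹ * x⁻¹ ∈ Ns := by
      have : b⁻¹⁻¹ * x * b⁻¹ * x⁻¹ = b * (x * b⁻¹ * x⁻¹) := by group
      rw [this]
      exact Ns.mul_mem hb (hconjNs x hxN _ (Ns.inv_mem hb))
    have h3 : b⁻¹⁻¹ * x * b⁻¹ * x⁻¹ ∈ (M ⊓ N) ⊓ Ns := ⟨h1, h2⟩
    rw [hAB, Subgroup.mem_bot] at h3
    have h4 : b⁻¹⁻¹ * x * b⁻¹ = x := mul_inv_eq_one.1 h3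
    have hbC : b⁻¹ ∈ C := by
      apply mem_centralizer_singleton.2
      calc x * b⁻¹ = b⁻¹ * (b⁻¹⁻¹ * x * b⁻¹) := by group
        _ = b⁻¹ * x := by rw [h4]
    refine ⟨b⁻¹, ⟨⟨Ns.inv_mem hb, hbC⟩, by rw [hgc, hcM]⟩, ?_⟩
    rintro r' ⟨⟨hr'Ns, hr'C⟩, hr'M⟩
    -- uniqueness
    have h5 : M.map (MulAut.conj (b * r')).toMonoidHom = M := by
      rw [map_conj_mul, hr'M, hgc, hcM, ← map_conj_mul, mul_inv_cancel]
      ext y; simp [mem_map_conj]
    have h6 : b * r' ∈ M := hNM _ h5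
    have h7 : b * r' ∈ (M ⊓ N) ⊓ Ns :=
      ⟨⟨h6, N.mul_mem hbN (hB hr'Ns)⟩, Ns.mul_mem hb hr'Ns⟩
    rw [hAB, Subgroup.mem_bot] at h7
    exact (eq_inv_of_mul_eq_one_right h7)

end Cfsg.Agent.Helper31.BG144Core
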