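-- Consequences of the transitivity theorem: maximal q-members meet members in Sylow subgroups.
import Cfsg.Agent.Helper31.Transitivity

set_option autoImplicit false
open Cfsg

namespace Cfsg.Agent.Helper31

open scoped Pointwise

section Transitivity2

variable {G : Type*} [Group G]

/-- A maximal `q`-member meets every member `H`, after conjugation by an element of
`signalizerInf`, in a Sylow `q`-subgroup of `H`. -/
theorem maxQ_meets_member [Finite G] (p : ℕ) [Fact p.Prime] (A : Subgroup G)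
    (hA : IsElementaryAbelian p A) (hA3 : p ^ 3 ≤ Nat.card ↥A) (θ : G → Subgroup G)
    (hθ : IsSolvableSignalizerFunctor p A θ) (q : ℕ) [Fact q.Prime] {Q : Subgroup G}
    (hQ : IsMaxQ p A θ q Q) {H : Subgroup G} (hH : H ∈ signalizerFamily p A θ) :
    ∃ c ∈ signalizerInf A θ, ∃ S : Sylow q ↥H,
      (S : Subgroup ↥H).map H.subtype = Q.map (MulAut.conj c).toMonoidHom ⊓ H := by
  have hHA : AInv A H := hH.2.2.1
  obtain ⟨P, hAP⟩ := Cfsg.Agent.Helper1.exists_invariant_sylow A H hHA.le_normalizer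
    (card_coprime_of_signalizerFamily hA hH) (Or.inr hH.1) q
  set T : Subgroup G := (P : Subgroup ↥H).map H.subtype with hT
  have hTH : T ≤ H := Subgroup.map_subtype_le _
  have hTq : IsPGroup q ↥T := P.isPGroup'.map _
  have hTmem : T ∈ signalizerFamily p A θ :=
    signalizerFamily_of_le hH hTH (ainv_of_le_normalizer hAP)
  obtain ⟨R, hTR, hR⟩ := exists_isMaxQ_ge hTmem hTq
  obtain ⟨c, hc, hce⟩ := transitivity p A hA hA3 θ hθ q hQ hR
  refine ⟨c, hc, P, ?_⟩
  rw [hce]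
  refine le_antisymm (le_inf hTR hTH) ?_
  have hq' : IsPGroup q ↥((R ⊓ H).subgroupOf H) :=
    (hR.isPGroup.to_le inf_le_left).comap_subtype
  have hle : (P : Subgroup ↥H) ≤ (R ⊓ H).subgroupOf H := by
    intro y hy
    rw [Subgroup.mem_subgroupOf]
    exact Subgroup.mem_inf.mpr ⟨hTR (Subgroup.mem_map_of_mem _ hy), y.2⟩
  have heq : (R ⊓ H).subgroupOf H = (P : Subgroup ↥H) := P.is_maximal' hq' hle
  intro x hx
  have hxH : x ∈ H := (Subgroup.mem_inf.mp hx).2
  have h1 : (⟨x, hxH⟩ : ↥H) ∈ (R ⊓ H).subgroupOf H := by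
    rw [Subgroup.mem_subgroupOf]
    exact hx
  rw [heq] at h1
  exact ⟨⟨x, hxH⟩, h1, rfl⟩

theorem signalizerInf_mem_signalizerFamily {p : ℕ} {A : Subgroup G} {θ : G → Subgroup G}
    (hθ : IsSolvableSignalizerFunctor p A θ) {B : Subgroup G} (hBA : B ≤ A) (hB : B ≠ ⊥) :
    signalizerInf B θ ∈ signalizerFamily p A θ := by
  obtain ⟨⟨b, hb⟩, hb1⟩ := (Subgroup.ne_bot_iff_exists_ne_one).mp hB
  have hb1' : b ≠ 1 := fun h => hb1 (Subtype.ext h)
  refine signalizerFamily_of_le (theta_mem_signalizerFamily hθ (hBA hb) hb1') ?_ ?_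
  · intro x hx
    exact mem_signalizerInf_iff.mp hx b hb hb1'
  · intro a ha x hx
    rw [mem_signalizerInf_iff] at hx ⊢
    intro b' hb' hb'1
    exact hθ.1.2.2.1 b' (hBA hb') hb'1 a ha x (hx b' hb' hb'1)

theorem signalizerInf_anti {A B : Subgroup G} (θ : G → Subgroup G) (hBA : B ≤ A) :
    signalizerInf A θ ≤ signalizerInf B θ := by
  intro x hx
  rw [mem_signalizerInf_iff] at hx ⊢
  intro b hb hb1
  exact hx b (hBA hb) hb1

theorem inf_signalizerInf_eq {p : ℕ} {A : Subgroup G} {θ : G → Subgroup G}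
    (hθ : IsSignalizerFunctor p A θ) {Q : Subgroup G} (hQ : Q ∈ signalizerFamily p A θ)
    {B : Subgroup G} (hBA : B ≤ A) :
    Q ⊓ signalizerInf B θ = Q ⊓ Subgroup.centralizer (B : Set G) := by
  ext x
  simp only [Subgroup.mem_inf]
  constructor
  · rintro ⟨hxQ, hx⟩
    refine ⟨hxQ, ?_⟩
    rw [Subgroup.mem_centralizer_iff]
    intro b hb
    by_cases hb1 : b = 1
    · subst hb1; simp
    · have h1 := hθ.1 b (hBA hb) hb1 (mem_signalizerInf_iff.mp hx b hb hb1)
      rw [Subgroup.mem_centralizer_iff] at h1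
      exact h1 b rfl
  · rintro ⟨hxQ, hx⟩
    refine ⟨hxQ, ?_⟩
    rw [mem_signalizerInf_iff]
    intro b hb hb1
    refine hQ.2.2.2 b (hBA hb) hb1 (Subgroup.mem_inf.mpr ⟨hxQ, ?_⟩)
    exact Subgroup.centralizer_le (Set.singleton_subset_iff.mpr hb) hx

/-- For nontrivial `B ≤ A`, `C_Q(B)` is a Sylow `q`-subgroup of `signalizerInf B θ`. -/
theorem maxQ_centralizer_sylow [Finite G] (p : ℕ) [Fact p.Prime] (A : Subgroup G)
    (hA : IsElementaryAbelian p A) (hA3 : p ^ 3 ≤ Nat.card ↥A) (θ : G → Subgroup G)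
    (hθ : IsSolvableSignalizerFunctor p A θ) (q : ℕ) [Fact q.Prime] {Q : Subgroup G}
    (hQ : IsMaxQ p A θ q Q) {B : Subgroup G} (hBA : B ≤ A) (hB : B ≠ ⊥) :
    ∃ S : Sylow q ↥(signalizerInf B θ),
      (S : Subgroup ↥(signalizerInf B θ)).map (signalizerInf B θ).subtype =
        Q ⊓ Subgroup.centralizer (B : Set G) := by
  have hH := signalizerInf_mem_signalizerFamily hθ hBA hB
  obtain ⟨c, hc, S, hS⟩ := maxQ_meets_member p A hA hA3 θ hθ q hQ hH
  have hcH : c ∈ signalizerInf B θ := signalizerInf_anti θ hBA hc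
  refine ⟨(⟨c, hcH⟩ : ↥(signalizerInf B θ))⁻¹ • S, ?_⟩
  rw [Sylow.coe_subgroup_smul, Cfsg.Agent.Helper1.map_subtype_conj_smul, hS,
    ← inf_signalizerInf_eq hθ.1 hQ.mem hBA]
  ext x
  rw [Cfsg.Agent.Helper1.mem_conj_smul]
  simp only [Subgroup.mem_inf, mem_map_conj_iff, Subgroup.coe_inv, inv_inv]
  constructor
  · rintro ⟨h1, h2⟩
    refine ⟨by simpa [mul_assoc] using h1, ?_⟩
    have := Subgroup.mul_mem _ (Subgroup.mul_mem _ (Subgroup.inv_mem _ hcH) h2) hcH
    simpa [mul_assoc] using this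
  · rintro ⟨h1, h2⟩
    refine ⟨by simpa [mul_assoc] using h1, ?_⟩
    exact Subgroup.mul_mem _ (Subgroup.mul_mem _ hcH h2) (Subgroup.inv_mem _ hcH)

end Transitivity2

end Cfsg.Agent.Helper31
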