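import Mathlib
import Cfsg.Prelude.Def_OddOrderLocal
import Cfsg.Agent.Lib.Cores

/-!
# "No mutual τ₂" (helper31): the abstract half

For a maximal subgroup `M` of a minimal simple group of odd order, `q ∈ σ(M)` not in `β(M)`,
and an `r`-subgroup `B ≤ M` with `C_{M_σ}(B) = 1` (e.g. `B = E_{r^2}`, `r ∈ τ₂(M)`, by B-G 12.5),
the prime `r` divides `|M : O_{q'}(M)|`; by B-G 10.8 (statement S1414) this gives `r ≤ q`.

Everything here is abstract: no minimal-simple hypothesis, only the shapes of the conclusions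
of S1414 / S1417 / S1350 are used as hypotheses.
-/

set_option autoImplicit false
set_option linter.style.haveILetI false
set_option linter.unusedSectionVars false

namespace Cfsg.Agent.Helper31.BGNoMutualTau2

open Cfsg

/-- a normal subgroup of index prime to `r` contains every `r`-subgroup -/
theorem le_of_normal_of_not_dvd_index {H : Type*} [Group H] [Finite H] {r : ℕ} [hr : Fact r.Prime]
    (K : Subgroup H) [K.Normal] (hK : ¬ r ∣ K.index) {B : Subgroup H} (hB : IsPGroup r B) :
    B ≤ K := by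
  intro b hb
  obtain ⟨k, hk⟩ := hB ⟨b, hb⟩
  have hk' : b ^ r ^ k = 1 := by
    have := congrArg Subtype.val hk
    simpa using this
  have h1 : b ^ K.index ∈ K := Subgroup.pow_index_mem K b
  have hcop : (r ^ k).Coprime K.index :=
    Nat.Coprime.pow_left k ((Nat.Prime.coprime_iff_not_dvd hr.out).2 hK)
  -- Bezout
  have h2 : b ^ ((r ^ k).gcd K.index) ∈ K := by
    have hg : (b ^ ((r ^ k).gcd K.index : ℕ)) = b ^ (((r ^ k).gcd K.index : ℕ) : ℤ) := by
      rw [zpow_natCast]
    rw [hg, Nat.gcd_eq_gcd_ab, zpow_add, zpow_mul, zpow_mul, zpow_natCast, zpow_natCast, hk',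
      one_zpow, one_mul]
    exact K.zpow_mem h1 _
  rwa [hcop, pow_one] at h2

/-- a nilpotent normal subgroup `S` of `H` of order divisible by `q` contains a nontrivial
normal `q`-subgroup of `H` (the image of the Sylow `q`-subgroup of `S`) -/
theorem exists_normal_pSubgroup_le {H : Type*} [Group H] [Finite H] {q : ℕ} [hq : Fact q.Prime]
    (S : Subgroup H) [S.Normal] (hnil : Group.IsNilpotent ↥S) (hqS : q ∣ Nat.card ↥S) :
    ∃ Q : Subgroup H, Q.Normal ∧ IsPGroup q Q ∧ Q ≠ ⊥ ∧ Q ≤ S := by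
  obtain ⟨P⟩ : Nonempty (Sylow q ↥S) := inferInstance
  haveI hPn : (P : Subgroup ↥S).Normal :=
    Sylow.normal_of_normalizerCondition Group.normalizerCondition_of_isNilpotent P
  haveI hPc : (P : Subgroup ↥S).Characteristic := Sylow.characteristic_of_normal P hPn
  refine ⟨(P : Subgroup ↥S).map S.subtype, ConjAct.normal_of_characteristic_of_normal, ?_, ?_, ?_⟩
  · exact P.2.map S.subtype
  · intro h
    have h2 : (P : Subgroup ↥S) = ⊥ := by
      rw [eq_bot_iff]
      intro x hx
      have : S.subtype x ∈ (P : Subgroup ↥S).map S.subtype := ⟨x, hx, rfl⟩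
      rw [h, Subgroup.mem_bot] at this
      rw [Subgroup.mem_bot]
      exact Subtype.ext (by simpa using this)
    exact P.ne_bot_of_dvd_card hqS h2
  · exact Subgroup.map_subtype_le _

variable {G : Type*} [Group G] [Finite G]

/-- **Key half of "no mutual τ₂"**: if `M_σ` is nilpotent of order divisible by `q` and `B ≤ M` is an
`r`-subgroup with `M_σ ∩ C_G(B) = 1`, then `r` divides `|M : O_{q'}(M)|`. -/
theorem dvd_index_pPrimeCore {M B : Subgroup G} {q r : ℕ} [hq : Fact q.Prime] [hr : Fact r.Prime]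
    (hnil : Group.IsNilpotent ↥(sigmaCore M)) (hqS : q ∣ Nat.card ↥(sigmaCore M))
    (hBM : B ≤ M) (hB : IsPGroup r B)
    (hcent : sigmaCore M ⊓ Subgroup.centralizer (B : Set G) = ⊥) :
    r ∣ (pPrimeCore q ↥M).index := by
  by_contra hnd
  set S : Subgroup ↥M := piCore (sigma M) ↥M with hS
  have hSmap : sigmaCore M = S.map M.subtype := rfl
  -- transfer nilpotency and divisibility to `S`
  have e : ↥S ≃* ↥(S.map M.subtype) := S.equivMapOfInjective M.subtype M.subtype_injective
  haveI hnilS : Group.IsNilpotent ↥S := by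
    haveI : Group.IsNilpotent ↥(S.map M.subtype) := hSmap ▸ hnil
    exact Group.nilpotent_of_mulEquiv e.symm
  have hqS' : q ∣ Nat.card ↥S := by
    rw [Nat.card_congr e.toEquiv, ← hSmap]; exact hqS
  obtain ⟨Q, hQn, hQq, hQne, hQS⟩ := exists_normal_pSubgroup_le S hnilS hqS'
  -- `K = O_{q'}(M)`
  set K : Subgroup ↥M := pPrimeCore q ↥M with hK
  haveI hKn : K.Normal := by
    haveI := Cfsg.Agent.Lib.pPrimeCore_characteristic (G := ↥M) q
    infer_instance
  have hKcop : (Nat.card ↥K).Coprime q := Cfsg.Agent.Lib.card_pPrimeCore_coprime q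
  -- `B' = B ∩ M ≤ K`
  have hB' : IsPGroup r (B.subgroupOf M) := hB.comap_subtype
  have hBK : B.subgroupOf M ≤ K := le_of_normal_of_not_dvd_index K hnd hB'
  -- `K` and `Q` commute
  have hdis : Disjoint K Q := by
    apply Subgroup.disjoint_of_coprime_natCard
    obtain ⟨n, hn⟩ := IsPGroup.iff_card.1 hQq
    rw [hn]
    exact Nat.Coprime.pow_right n hKcop
  -- so `Q` (mapped to `G`) lies in `M_σ ∩ C_G(B) = 1`
  apply hQne
  rw [eq_bot_iff]
  intro y hy
  have hyS : (y : G) ∈ sigmaCore M := ⟨y, hQS hy, rfl⟩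
  have hyC : (y : G) ∈ Subgroup.centralizer (B : Set G) := by
    rw [Subgroup.mem_centralizer_iff]
    intro b hb
    have hbK : (⟨b, hBM hb⟩ : ↥M) ∈ K := hBK (by simpa [Subgroup.mem_subgroupOf] using hb)
    have hc := Subgroup.commute_of_normal_of_disjoint K Q hKn hQn hdis _ y hbK hy
    have := congrArg Subtype.val hc.eq
    simpa using this
  have : (y : G) ∈ (⊥ : Subgroup G) := hcent ▸ (Subgroup.mem_inf.2 ⟨hyS, hyC⟩)
  rw [Subgroup.mem_bot] at this ⊢
  exact Subtype.ext (by simpa using this)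

/-- `q ∈ σ(M)` divides `|M_σ|` when `M_σ` is a Hall `σ(M)`-subgroup of `M` -/
theorem dvd_card_sigmaCore {M : Subgroup G} {q : ℕ} (hq : q ∈ sigma M)
    (hHall : IsPiHallOf (sigma M) (sigmaCore M) M) : q ∣ Nat.card ↥(sigmaCore M) := by
  have h1 : ¬ q ∣ (sigmaCore M).relIndex M := hHall.2.2 q hq.1 hq
  have h2 : Nat.card ↥(sigmaCore M) * (sigmaCore M).relIndex M = Nat.card ↥M := by
    have := Subgroup.relIndex_mul_relIndex ⊥ (sigmaCore M) M bot_le hHall.1
    rwa [Subgroup.relIndex_bot_left, Subgroup.relIndex_bot_left] at this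
  have h3 : q ∣ Nat.card ↥(sigmaCore M) * (sigmaCore M).relIndex M := h2 ▸ hq.2.1
  exact ((Nat.Prime.dvd_mul hq.1).1 h3).resolve_right h1

/-- **the ordering**: with the conclusion of S1414 for `(M, q)` as hypothesis, `r ≤ q`. -/
theorem le_of_centralizer_eq_bot {M B : Subgroup G} {q r : ℕ} [hr : Fact r.Prime]
    (hq : q ∈ sigma M) (hHall : IsPiHallOf (sigma M) (sigmaCore M) M)
    (h1414 : ∀ q' : ℕ, q'.Prime → q' ∣ (pPrimeCore q ↥M).index → q' ≤ q)
    (hnil : Group.IsNilpotent ↥(sigmaCore M))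
    (hBM : B ≤ M) (hB : IsPGroup r B)
    (hcent : sigmaCore M ⊓ Subgroup.centralizer (B : Set G) = ⊥) : r ≤ q := by
  haveI : Fact q.Prime := ⟨hq.1⟩
  exact h1414 r hr.out (dvd_index_pPrimeCore hnil (dvd_card_sigmaCore hq hHall) hBM hB hcent)

end Cfsg.Agent.Helper31.BGNoMutualTau2
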