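import Mathlib
import Cfsg.Agent.Helper31.BGNoMutualTau2
import Cfsg.Agent.S1350
import Cfsg.Agent.S1408
import Cfsg.Agent.S1414
import Cfsg.Agent.S1417
import Cfsg.Agent.Helper23.RankTwo
import Cfsg.Agent.Helper29.BG10G

/-!
# "No mutual τ₂" (helper31), unconditional form

For maximal subgroups `M`, `N` of a minimal simple group of odd order there are no primes `q`, `r`
with `q ∈ σ(M) ∩ τ₂(N)` and `r ∈ σ(N) ∩ τ₂(M)`.  Uses the landed statements S1350 (B-G 10.2(b)),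
S1408 (B-G 10.5: `τ₂`-primes are not ideal), S1414 (B-G 10.8) and S1417 (B-G 12.5 (a), (d)).
-/

set_option autoImplicit false
set_option linter.style.haveILetI false
set_option linter.unusedSectionVars false

namespace Cfsg.Agent.Helper31.BGNoMutualTau2

open Cfsg

variable {G : Type*} [Group G] [Finite G]

/-- a `τ₂`-prime of some maximal subgroup is not an ideal prime (S1408) -/
theorem not_isIdealPrime_of_mem_tau2 (hG : Cfsg.IsMinSimpleOddOrder G) {N : Subgroup G}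
    (hN : IsCoatom N) {p : ℕ} (hp : p ∈ Cfsg.tau2 N) : ¬ Cfsg.IsIdealPrime p G := by
  haveI : Fact p.Prime := ⟨hp.1⟩
  exact (Cfsg.Agent.S1408.result hG N hN p hp.2.1 hp.2.2.1 hp.2.2.2).1

/-- a `τ₂`-prime of some maximal subgroup `N` is in `β(M)` for no subgroup `M` -/
theorem not_mem_beta_of_mem_tau2 (hG : Cfsg.IsMinSimpleOddOrder G) {N : Subgroup G}
    (hN : IsCoatom N) {p : ℕ} (hp : p ∈ Cfsg.tau2 N) (M : Subgroup G) : p ∉ Cfsg.beta M :=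
  fun h => not_isIdealPrime_of_mem_tau2 hG hN hp h.2

/-- `M` contains an `E_{r^2}` when `r ∈ τ₂(M)` -/
theorem exists_ea2_of_mem_tau2 {M : Subgroup G} {r : ℕ} (hr : r ∈ Cfsg.tau2 M) :
    ∃ B : Subgroup G, B ≤ M ∧ Cfsg.IsElementaryAbelian r B ∧ Nat.card B = r ^ 2 := by
  haveI : Fact r.Prime := ⟨hr.1⟩
  obtain ⟨B, hBM, hBe, hBlt⟩ := (Cfsg.Agent.Helper23.not_pRankLE_subgroup_iff r 1 M).1 hr.2.2.2
  have hBr : IsPGroup r B := Cfsg.Agent.Helper29.BG10.isPGroup_of_isElementaryAbelian hBe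
  rw [pow_one] at hBlt
  refine ⟨B, hBM, hBe, Cfsg.Agent.Helper29.BG10.card_eq_sq_of_lt_of_le hBr hBlt ?_⟩
  by_contra hc
  push Not at hc
  exact (Cfsg.Agent.Helper23.not_pRankLE_subgroup_iff r 2 M).2 ⟨B, hBM, hBe, hc⟩ hr.2.2.1

/-- **the ordering**: for `M` maximal, `q ∈ σ(M) \ β(M)` and an `r`-subgroup `B ≤ M` with
`M_σ` nilpotent and `C_{M_σ}(B) = 1`: `r ≤ q`. -/
theorem le_of_mem_sigma_of_centralizer_eq_bot (hG : Cfsg.IsMinSimpleOddOrder G) {M B : Subgroup G}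
    (hM : IsCoatom M) {q r : ℕ} [hr : Fact r.Prime] (hq : q ∈ Cfsg.sigma M) (hqb : q ∉ Cfsg.beta M)
    (hnil : Group.IsNilpotent ↥(Cfsg.sigmaCore M))
    (hBM : B ≤ M) (hB : IsPGroup r B)
    (hcent : Cfsg.sigmaCore M ⊓ Subgroup.centralizer (B : Set G) = ⊥) : r ≤ q :=
  le_of_centralizer_eq_bot hq (Cfsg.Agent.S1350.result hG M hM).1
    (((Cfsg.Agent.S1414.result hG M hM).2.2.2.2 q hq.1 hq.2.1 hqb).2.2) hnil hBM hB hcent

/-- **the ordering for `τ₂`**: for `M` maximal, `q ∈ σ(M) \ β(M)` and `r ∈ τ₂(M)`: `r < q`. -/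
theorem lt_of_mem_sigma_of_mem_tau2 (hG : Cfsg.IsMinSimpleOddOrder G) {M : Subgroup G}
    (hM : IsCoatom M) {q r : ℕ} (hq : q ∈ Cfsg.sigma M) (hqb : q ∉ Cfsg.beta M)
    (hr : r ∈ Cfsg.tau2 M) : r < q := by
  haveI : Fact r.Prime := ⟨hr.1⟩
  obtain ⟨B, hBM, hBe, hB2⟩ := exists_ea2_of_mem_tau2 hr
  have h := Cfsg.Agent.S1417.result hG M hM r hr B ⟨hBM, hBe, hB2⟩
  have hle : r ≤ q := le_of_mem_sigma_of_centralizer_eq_bot hG hM hq hqb h.1 hBM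
    (Cfsg.Agent.Helper29.BG10.isPGroup_of_isElementaryAbelian hBe) h.2.2.2.1
  refine lt_of_le_of_ne hle ?_
  rintro rfl
  exact hr.2.1 hq

/-- **Lemma MB ("no mutual τ₂")**: there are no maximal subgroups `M`, `N` and primes `q`, `r` with
`q ∈ σ(M) ∩ τ₂(N)` and `r ∈ σ(N) ∩ τ₂(M)`. -/
theorem no_mutual_tau2 (hG : Cfsg.IsMinSimpleOddOrder G) {M N : Subgroup G}
    (hM : IsCoatom M) (hN : IsCoatom N) {q r : ℕ}
    (hqM : q ∈ Cfsg.sigma M) (hqN : q ∈ Cfsg.tau2 N)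
    (hrN : r ∈ Cfsg.sigma N) (hrM : r ∈ Cfsg.tau2 M) : False := by
  have h1 : r < q :=
    lt_of_mem_sigma_of_mem_tau2 hG hM hqM (not_mem_beta_of_mem_tau2 hG hN hqN M) hrM
  have h2 : q < r :=
    lt_of_mem_sigma_of_mem_tau2 hG hN hrN (not_mem_beta_of_mem_tau2 hG hM hrM N) hqN
  exact lt_asymm h1 h2

end Cfsg.Agent.Helper31.BGNoMutualTau2
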