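import Mathlib
import Cfsg.Prelude.Def_OddOrderLocal
import Cfsg.Agent.Helper48.BG142B
import Cfsg.Agent.Helper60.BGAsmD
import Cfsg.Agent.Helper62.FrobActGroup
import Cfsg.Agent.Helper31.BGNoMutualTau2Main
import Cfsg.Agent.S1403
import Cfsg.Agent.S1423

/-!
# "1436-LITE" (helper31): elements of `M` of order in `σ(N)` act fixed-point-freely on `M_σ`

Setting of B-G 14.4(c): `M`, `N` maximal, `M ∩ N` a complement of `N_σ` in `N` (clause of S1375),
some prime `q ∈ σ(M) ∩ τ₂(N)` (any prime of `o(x)`).  Then for `u ∈ M` of prime order `r ∈ σ(N)`: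
(i) `C_{M_σ}(u) = 1`; (ii) no `e0 ∈ C_M(u)` of prime order outside `σ(M)` has a nontrivial fixed point
on `M_σ`.

Black boxes as hypotheses in the frozen shapes: `H1430`, `H1431` (helper48's Props), `H1432`, `HSP`
(second clause of S1378).  Landed statements S1350, S1403, S1408, S1414, S1417, S1423 are used directly.
-/

set_option autoImplicit false
set_option linter.unusedSectionVars false
set_option linter.unusedVariables false
set_option linter.style.haveILetI false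

namespace Cfsg.Agent.Helper31.BG1436Lite

open Cfsg Cfsg.Agent.Helper29 Cfsg.Agent.Helper29.BG10 Cfsg.Agent.Helper29.BG11 Cfsg.Agent.Helper71.BGHall
  Cfsg.Agent.Helper71.BG11 Cfsg.Agent.Helper48.BG142 Cfsg.Agent.Helper60.BGAsm
open scoped Pointwise

universe u

/-- S1432, quantified over all data -/
def H1432 (G : Type u) [Group G] : Prop :=
  ∀ (M : Subgroup G), IsCoatom M → ∀ x : G, x ∈ Cfsg.sigmaCore M → x ≠ 1 →
    ∀ x' : G, x' ∈ M ⊓ Subgroup.centralizer ({x} : Set G) → x' ≠ 1 →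
    (∀ p : ℕ, p.Prime → p ∣ orderOf x' → p ∉ Cfsg.sigma M) →
    ((∀ p : ℕ, p.Prime → p ∣ orderOf x' → p ∈ Cfsg.kappa M) ∧ Subgroup.centralizer ({x} : Set G) ≤ M) ∨
      ((∀ p : ℕ, p.Prime → p ∣ orderOf x' → p ∈ Cfsg.tau2 M) ∧
        (∃ L : Subgroup G, IsCoatom L ∧ ∀ p : ℕ, p.Prime → p ∣ orderOf x' → p ∈ Cfsg.sigma L) ∧
        (Subgroup.centralizer ({x'} : Set G) ≤ M ∧ ∀ L : Subgroup G, IsCoatom L → Subgroup.centralizer ({x'} : Set G) ≤ L → L = M))

/-- second clause of S1378 (the `σ`-partition) -/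
def HSP (G : Type u) [Group G] : Prop :=
  ∀ M N : Subgroup G, IsCoatom M → IsCoatom N → (Cfsg.sigma M ∩ Cfsg.sigma N).Nonempty →
    ∃ g : G, N = M.map (MulAut.conj g).toMonoidHom

variable {G : Type u} [Group G] [Finite G]

/-- the Uniqueness Theorem from the landed S1403 -/
theorem uniquenessThm (hG : Cfsg.IsMinSimpleOddOrder G) : UniquenessThm G :=
  fun K hK hK2 hK3 => Cfsg.Agent.S1403.result hG K hK hK2 hK3

theorem centralizer_singleton_le_zpowers (e : G) :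
    Subgroup.centralizer ({e} : Set G) ≤ Subgroup.centralizer (Subgroup.zpowers e : Set G) := by
  intro c hc
  rw [Subgroup.mem_centralizer_iff] at hc ⊢
  intro x hx
  obtain ⟨k, rfl⟩ := Subgroup.mem_zpowers_iff.1 hx
  have h1 : Commute e c := hc e (Set.mem_singleton e)
  exact (h1.zpow_left k).eq

theorem centralizer_zpowers_le_singleton (e : G) :
    Subgroup.centralizer (Subgroup.zpowers e : Set G) ≤ Subgroup.centralizer ({e} : Set G) :=
  Subgroup.centralizer_le (by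
    intro x hx
    rw [Set.mem_singleton_iff.1 hx]
    exact Subgroup.mem_zpowers e)

/-- a complement of `N_σ` in `N` is a Hall `σ(N)'`-subgroup of `N` -/
theorem isPiHallOf_of_isComplIn (hG : Cfsg.IsMinSimpleOddOrder G) {N D : Subgroup G}
    (hN : IsCoatom N) (hcompl : Cfsg.IsComplIn D (Cfsg.sigmaCore N) N) :
    Cfsg.IsPiHallOf {p | p.Prime ∧ p ∉ Cfsg.sigma N} D N := by
  have hS := (Cfsg.Agent.S1350.result hG N hN).1
  have hc1 : Nat.card D = (Cfsg.sigmaCore N).relIndex N := card_eq_relIndex_of_isComplIn hcompl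
  have hc2 : Nat.card D * Nat.card (Cfsg.sigmaCore N) = Nat.card N := card_mul_card_isComplIn hcompl
  have hc3 : Nat.card D * D.relIndex N = Nat.card N := card_mul_relIndex_of_le hcompl.1
  have hc4 : D.relIndex N = Nat.card (Cfsg.sigmaCore N) := by
    have : Nat.card D * D.relIndex N = Nat.card D * Nat.card (Cfsg.sigmaCore N) := by
      rw [hc3, hc2]
    exact Nat.eq_of_mul_eq_mul_left Nat.card_pos this
  refine ⟨hcompl.1, ?_, ?_⟩
  · intro p hp hd
    refine ⟨hp, fun hpσ => ?_⟩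
    rw [hc1] at hd
    exact hS.2.2 p hp hpσ hd
  · intro p hp hpπ hd
    rw [hc4] at hd
    exact hpπ.2 (primes_sigmaCore N p hp hd)

/-- a `σ(N)'`-subgroup of `N` is conjugate in `N` into a given complement of `N_σ` -/
theorem exists_conj_mem_compl (hG : Cfsg.IsMinSimpleOddOrder G) {N D Y : Subgroup G}
    (hN : IsCoatom N) (hcompl : Cfsg.IsComplIn D (Cfsg.sigmaCore N) N) (hYN : Y ≤ N)
    (hY : ∀ p : ℕ, p.Prime → p ∣ Nat.card Y → p ∉ Cfsg.sigma N) :
    ∃ n ∈ N, ∀ y ∈ Y, n * y * n⁻¹ ∈ D := by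
  haveI : Group.IsSolvable ↥N := hG.2.2.2 N hN.1
  have hD := isPiHallOf_of_isComplIn hG hN hcompl
  obtain ⟨H, hH, hYH⟩ := exists_isPiHallOf_ge {p | p.Prime ∧ p ∉ Cfsg.sigma N} N hYN
    (fun p hp hd => ⟨hp, hY p hp hd⟩)
  obtain ⟨n, hnN, hn⟩ := Cfsg.Agent.Helper62.isPiHallOf_conj_of_solvable hH hD
  refine ⟨n, hnN, fun y hy => ?_⟩
  rw [← hn]
  have : MulAut.conj n • y ∈ MulAut.conj n • H := Subgroup.smul_mem_pointwise_smul _ _ _ (hYH hy)
  rwa [MulAut.smul_def, MulAut.conj_apply] at this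

/-- **Lemma K**: if `M ∩ N` is a complement of `N_σ` in `N` and `N` is not conjugate to `M`, then
`σ(N) ∩ κ(M) = ∅`. -/
theorem sigma_inter_kappa_empty (hG : Cfsg.IsMinSimpleOddOrder G) (h30 : H1430 G) (h31 : H1431 G)
    (hSP : HSP G) {M N : Subgroup G} (hM : IsCoatom M) (hN : IsCoatom N)
    (hnc : ∀ g : G, N ≠ M.map (MulAut.conj g).toMonoidHom)
    (hcompl : Cfsg.IsComplIn (M ⊓ N) (Cfsg.sigmaCore N) N) {r : ℕ}
    (hrN : r ∈ Cfsg.sigma N) (hrM : r ∈ Cfsg.kappa M) : False := by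
  classical
  have hU := uniquenessThm hG
  have hr : r.Prime := hrN.1
  haveI : Fact r.Prime := ⟨hr⟩
  haveI : Group.IsSolvable ↥M := hG.2.2.2 M hM.1
  -- an element of order `r` of `M`
  obtain ⟨u', hu'⟩ := exists_prime_orderOf_dvd_card' (G := ↥M) r hrM.2.1
  set u : G := (u' : G) with hu_def
  have huM : u ∈ M := u'.2
  have hu : orderOf u = r := by rw [hu_def, Subgroup.orderOf_coe]; exact hu'
  have hu1 : u ≠ 1 := by
    intro h; rw [h, orderOf_one] at hu; exact hr.one_lt.ne hu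
  set X : Subgroup G := Subgroup.zpowers u with hX
  have hXcard : Nat.card X = r := by rw [hX, Nat.card_zpowers, hu]
  have hXM : X ≤ M := by rw [hX, Subgroup.zpowers_le]; exact huM
  -- a Hall `κ(M)`-subgroup containing `u`
  obtain ⟨K, hK, hXK⟩ := exists_isPiHallOf_ge (Cfsg.kappa M) M hXM (by
    intro p hp hd
    rw [hXcard] at hd
    rw [(Nat.prime_dvd_prime_iff_eq hp hr).1 hd]; exact hrM)
  have huK : u ∈ K := hXK (Subgroup.mem_zpowers u)
  have hK1 : K ≠ ⊥ := by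
    intro h; rw [h, Subgroup.mem_bot] at huK; exact hu1 huK
  have hX1 : X ≠ ⊥ := by
    intro h
    have : u ∈ X := Subgroup.mem_zpowers u
    rw [h, Subgroup.mem_bot] at this; exact hu1 this
  have hX2 : X ≠ ⊤ := by
    intro h; rw [h] at hXM; exact hM.1 (top_le_iff.1 hXM)
  obtain ⟨L, hL, hNL⟩ := exists_coatom_normalizer_le hG hX1 hX2
  obtain ⟨-, -, h3⟩ := h30 M hM K hK hK1
  obtain ⟨-, -, hXσ⟩ := h3 X hXK (by rw [hXcard]; exact hr)
  have hXL : X ≤ Cfsg.sigmaCore L := hXσ L hL hNL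
  have hrL : r ∈ Cfsg.sigma L := prime_mem_sigma_of_dvd_card_sigmaCore L hr (by
    rw [← hXcard]; exact Subgroup.card_dvd_of_le hXL)
  obtain ⟨h, hh⟩ := hSP N L hN hL ⟨r, hrN, hrL⟩
  have hLcj : L = BG10.cj h N := hh
  -- `K*`
  set Kst : Subgroup G := Cfsg.sigmaCore M ⊓ Subgroup.centralizer (K : Set G) with hKst
  have hKst1 : Kst ≠ ⊥ := kstar_ne_bot hG h30 hM hK hK1
  have hKstL : Kst ≤ L := by
    intro x hx
    apply hNL
    apply Subgroup.centralizer_le_normalizer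
    exact Subgroup.centralizer_le (by exact_mod_cast hXK) hx.2
  -- transport into `N`
  set Y : Subgroup G := BG10.cj h⁻¹ Kst with hY
  have hYN : Y ≤ N := by
    rw [hY, BG10.cj_le_iff, inv_inv, ← hLcj]; exact hKstL
  have hYp : ∀ p : ℕ, p.Prime → p ∣ Nat.card Y → p ∉ Cfsg.sigma N := by
    intro p hp hd hpN
    rw [hY, BG10.card_cj] at hd
    have hpM : p ∈ Cfsg.sigma M := primes_sigmaCore M p hp
      (hd.trans (Subgroup.card_dvd_of_le inf_le_left))
    obtain ⟨g, hg⟩ := hSP M N hM hN ⟨p, hpM, hpN⟩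
    exact hnc g hg
  obtain ⟨n, hnN, hn⟩ := exists_conj_mem_compl hG hN hcompl hYN hYp
  -- `m = h n⁻¹ ∈ M`
  have hm : h * n⁻¹ ∈ M := by
    by_contra hm
    have h1 := (h31 M hM K hK hK1).1 (h * n⁻¹) hm
    apply hKst1
    rw [eq_bot_iff, ← h1]
    intro x hx
    refine Subgroup.mem_inf.2 ⟨hx, ?_⟩
    show x ∈ BG10.cj (h * n⁻¹) M
    rw [BG10.mem_cj]
    have hy : h⁻¹ * x * h ∈ Y := by
      rw [hY, BG10.mem_cj]
      have e : h⁻¹⁻¹ * (h⁻¹ * x * h) * h⁻¹ = x := by group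
      rw [e]; exact hx
    have := (hn _ hy).1
    have e : (h * n⁻¹)⁻¹ * x * (h * n⁻¹) = n * (h⁻¹ * x * h) * n⁻¹ := by group
    rw [e]; exact this
  -- the final contradiction
  have huL : u ∈ Cfsg.sigmaCore L := hXL (Subgroup.mem_zpowers u)
  have h1 : h⁻¹ * u * h ∈ Cfsg.sigmaCore N := by
    rw [hLcj, BG11.sigmaCore_cj hG hU hN h, BG10.mem_cj] at huL; exact huL
  have h2 : n * (h⁻¹ * u * h) * n⁻¹ ∈ Cfsg.sigmaCore N :=
    Cfsg.Agent.Helper68.BG12.conj_mem_sigmaCore hnN h1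
  have h3' : n * (h⁻¹ * u * h) * n⁻¹ ∈ M := by
    have e : n * (h⁻¹ * u * h) * n⁻¹ = (h * n⁻¹)⁻¹ * u * (h * n⁻¹) := by group
    rw [e]
    exact M.mul_mem (M.mul_mem (M.inv_mem hm) huM) hm
  have h4 : n * (h⁻¹ * u * h) * n⁻¹ ∈ (M ⊓ N) ⊓ Cfsg.sigmaCore N :=
    Subgroup.mem_inf.2 ⟨Subgroup.mem_inf.2 ⟨h3', sigmaCore_le N h2⟩, h2⟩
  rw [hcompl.2.2.1, Subgroup.mem_bot] at h4
  apply hu1
  have e : u = h * (n⁻¹ * (n * (h⁻¹ * u * h) * n⁻¹) * n) * h⁻¹ := by group
  rw [e, h4]; group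

/-- `N` is not conjugate to `M` when some prime lies in `σ(M) ∩ τ₂(N)` -/
theorem not_conj_of_sigma_tau2 {M N : Subgroup G} {q : ℕ} (hqM : q ∈ Cfsg.sigma M)
    (hqN : q ∈ Cfsg.tau2 N) : ∀ g : G, N ≠ M.map (MulAut.conj g).toMonoidHom := by
  intro g hg
  have h1 : Cfsg.sigma N = Cfsg.sigma M := by
    rw [hg]; exact BG11.sigma_cj g M
  exact hqN.2.1 (h1 ▸ hqM)

theorem orderOf_eq_of_mem_zpowers {u e : G} {r : ℕ} (hr : r.Prime) (hu : orderOf u = r)
    (he : e ∈ Subgroup.zpowers u) (he1 : e ≠ 1) : orderOf e = r := by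
  obtain ⟨k, rfl⟩ := Subgroup.mem_zpowers_iff.1 he
  have h1 : (u ^ k) ^ r = 1 := by
    rw [← zpow_natCast, ← zpow_mul, mul_comm, zpow_mul, zpow_natCast, ← hu, pow_orderOf_eq_one,
      one_zpow]
  have h2 : orderOf (u ^ k) ∣ r := orderOf_dvd_of_pow_eq_one h1
  rcases (Nat.dvd_prime hr).1 h2 with h | h
  · exact absurd (orderOf_eq_one_iff.1 h) he1
  · exact h

/-- **(i)**: an element `u ∈ M` of prime order `r ∈ σ(N)` has no non-identity fixed point on `M_σ`. -/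
theorem centralizer_eq_bot_of_sigma (hG : Cfsg.IsMinSimpleOddOrder G) (h30 : H1430 G)
    (h31 : H1431 G) (h32 : H1432 G) (hSP : HSP G) {M N : Subgroup G} (hM : IsCoatom M)
    (hN : IsCoatom N) (hcompl : Cfsg.IsComplIn (M ⊓ N) (Cfsg.sigmaCore N) N) {q : ℕ}
    (hqM : q ∈ Cfsg.sigma M) (hqN : q ∈ Cfsg.tau2 N) {r : ℕ} (hr : r ∈ Cfsg.sigma N) {u : G}
    (huM : u ∈ M) (hu : orderOf u = r) :
    Cfsg.sigmaCore M ⊓ Subgroup.centralizer ({u} : Set G) = ⊥ := by
  have hnc := not_conj_of_sigma_tau2 (G := G) hqM hqN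
  have hrp : r.Prime := hr.1
  have hu1 : u ≠ 1 := by
    intro h; rw [h, orderOf_one] at hu; exact hrp.one_lt.ne hu
  have hrM : r ∉ Cfsg.sigma M := by
    intro h
    obtain ⟨g, hg⟩ := hSP M N hM hN ⟨r, h, hr⟩
    exact hnc g hg
  rw [eq_bot_iff]
  intro y hy
  rw [Subgroup.mem_bot]
  by_contra hy1
  have hyu : u * y = y * u :=
    Subgroup.mem_centralizer_iff.1 hy.2 u (Set.mem_singleton u)
  have huy : u ∈ M ⊓ Subgroup.centralizer ({y} : Set G) := by
    refine Subgroup.mem_inf.2 ⟨huM, ?_⟩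
    rw [Subgroup.mem_centralizer_iff]
    intro z hz
    rw [Set.mem_singleton_iff.1 hz]
    exact hyu.symm
  have hσ : ∀ p : ℕ, p.Prime → p ∣ orderOf u → p ∉ Cfsg.sigma M := by
    intro p hp hd
    rw [hu] at hd
    rw [(Nat.prime_dvd_prime_iff_eq hp hrp).1 hd]; exact hrM
  rcases h32 M hM y hy.1 hy1 u huy hu1 hσ with ⟨hκ, -⟩ | ⟨hτ, -, -⟩
  · exact sigma_inter_kappa_empty hG h30 h31 hSP hM hN hnc hcompl hr
      (hκ r hrp (by rw [hu]))
  · exact Cfsg.Agent.Helper31.BGNoMutualTau2.no_mutual_tau2 hG hM hN hqM hqN hr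
      (hτ r hrp (by rw [hu]))

/-- **(ii)**: no element `e0 ∈ C_M(u)` of prime order outside `σ(M)` has a non-identity fixed point
on `M_σ`. -/
theorem centralizer_eq_bot_of_commute (hG : Cfsg.IsMinSimpleOddOrder G) (h30 : H1430 G)
    (h31 : H1431 G) (h32 : H1432 G) (hSP : HSP G) {M N : Subgroup G} (hM : IsCoatom M)
    (hN : IsCoatom N) (hcompl : Cfsg.IsComplIn (M ⊓ N) (Cfsg.sigmaCore N) N) {q : ℕ}
    (hqM : q ∈ Cfsg.sigma M) (hqN : q ∈ Cfsg.tau2 N) {r : ℕ} (hr : r ∈ Cfsg.sigma N) {u : G}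
    (huM : u ∈ M) (hu : orderOf u = r) {e0 : G} (he0M : e0 ∈ M) (hcomm : e0 * u = u * e0)
    (hp : (orderOf e0).Prime) (hpM : orderOf e0 ∉ Cfsg.sigma M) :
    Cfsg.sigmaCore M ⊓ Subgroup.centralizer ({e0} : Set G) = ⊥ := by
  classical
  have hU := uniquenessThm hG
  have hnc := not_conj_of_sigma_tau2 (G := G) hqM hqN
  have hrp : r.Prime := hr.1
  haveI : Fact r.Prime := ⟨hrp⟩
  haveI : Group.IsSolvable ↥M := hG.2.2.2 M hM.1
  have hu1 : u ≠ 1 := by
    intro h; rw [h, orderOf_one] at hu; exact hrp.one_lt.ne hu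
  have hrM : r ∉ Cfsg.sigma M := by
    intro h
    obtain ⟨g, hg⟩ := hSP M N hM hN ⟨r, h, hr⟩
    exact hnc g hg
  set p := orderOf e0 with hp_def
  by_cases hpN : p ∈ Cfsg.sigma N
  · exact centralizer_eq_bot_of_sigma hG h30 h31 h32 hSP hM hN hcompl hqM hqN hpN he0M rfl
  have he01 : e0 ≠ 1 := by
    intro h; rw [hp_def, h, orderOf_one] at hp; exact Nat.not_prime_one hp
  rw [eq_bot_iff]
  intro y hy
  rw [Subgroup.mem_bot]
  by_contra hy1
  have hye : e0 * y = y * e0 :=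
    Subgroup.mem_centralizer_iff.1 hy.2 e0 (Set.mem_singleton e0)
  have he0y : e0 ∈ M ⊓ Subgroup.centralizer ({y} : Set G) := by
    refine Subgroup.mem_inf.2 ⟨he0M, ?_⟩
    rw [Subgroup.mem_centralizer_iff]
    intro z hz
    rw [Set.mem_singleton_iff.1 hz]
    exact hye.symm
  have hσ : ∀ p' : ℕ, p'.Prime → p' ∣ orderOf e0 → p' ∉ Cfsg.sigma M := by
    intro p' hp' hd
    rw [(Nat.prime_dvd_prime_iff_eq hp' hp).1 hd]; exact hpM
  have hue0 : u ∈ Subgroup.centralizer ({e0} : Set G) := by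
    rw [Subgroup.mem_centralizer_iff]
    intro z hz
    rw [Set.mem_singleton_iff.1 hz]
    exact hcomm
  have he0u : e0 ∈ Subgroup.centralizer ({u} : Set G) := by
    rw [Subgroup.mem_centralizer_iff]
    intro z hz
    rw [Set.mem_singleton_iff.1 hz]
    exact hcomm.symm
  -- the subgroup `X = ⟨e0⟩`
  set X : Subgroup G := Subgroup.zpowers e0 with hX
  have hXcard : Nat.card X = p := by rw [hX, Nat.card_zpowers]
  have hXM : X ≤ M := by rw [hX, Subgroup.zpowers_le]; exact he0M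
  have hX1 : X ≠ ⊥ := by
    intro h
    have : e0 ∈ X := Subgroup.mem_zpowers e0
    rw [h, Subgroup.mem_bot] at this; exact he01 this
  have hX2 : X ≠ ⊤ := by
    intro h; rw [h] at hXM; exact hM.1 (top_le_iff.1 hXM)
  have hCX : Subgroup.centralizer ({e0} : Set G) ≤ Subgroup.normalizer (X : Set G) :=
    (centralizer_singleton_le_zpowers e0).trans (Subgroup.centralizer_le_normalizer _)
  rcases h32 M hM y hy.1 hy1 e0 he0y he01 hσ with ⟨hκ, -⟩ | ⟨-, -, hcent, huniq⟩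
  · -- `p ∈ κ(M)`
    have hpκ : p ∈ Cfsg.kappa M := hκ p hp dvd_rfl
    obtain ⟨K, hK, hXK⟩ := exists_isPiHallOf_ge (Cfsg.kappa M) M hXM (by
      intro p' hp' hd
      rw [hXcard] at hd
      rw [(Nat.prime_dvd_prime_iff_eq hp' hp).1 hd]; exact hpκ)
    have he0K : e0 ∈ K := hXK (Subgroup.mem_zpowers e0)
    have hK1 : K ≠ ⊥ := by
      intro h; rw [h, Subgroup.mem_bot] at he0K; exact he01 he0K
    obtain ⟨-, -, h3⟩ := h30 M hM K hK hK1
    obtain ⟨hMX, -, -⟩ := h3 X hXK (by rw [hXcard]; exact hp)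
    have huZ : u ∈ K ⊔ (Cfsg.sigmaCore M ⊓ Subgroup.centralizer (K : Set G)) := by
      rw [← hMX]; exact Subgroup.mem_inf.2 ⟨huM, hCX hue0⟩
    have hcard : Nat.card ↥(K ⊔ (Cfsg.sigmaCore M ⊓ Subgroup.centralizer (K : Set G))) =
        Nat.card K * Nat.card ↥(Cfsg.sigmaCore M ⊓ Subgroup.centralizer (K : Set G)) :=
      card_sup_of_commute (fun a ha b hb => Subgroup.mem_centralizer_iff.1 hb.2 a ha)
        (Cfsg.Agent.Helper48.BG142.inf_eq_bot_of_coprime (coprime_card_K_Kstar M K hK))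
    have hd : r ∣ Nat.card K * Nat.card ↥(Cfsg.sigmaCore M ⊓ Subgroup.centralizer (K : Set G)) := by
      rw [← hcard, ← hu]; exact Subgroup.orderOf_dvd_natCard _ huZ
    rcases (Nat.Prime.dvd_mul hrp).1 hd with h | h
    · exact sigma_inter_kappa_empty hG h30 h31 hSP hM hN hnc hcompl hr (hK.2.1 r hrp h)
    · exact hrM (primes_sigmaCore M r hrp (h.trans (Subgroup.card_dvd_of_le inf_le_left)))
  · -- `M` is the only maximal subgroup over `C_G(e0)`
    -- `M_σ` is nilpotent (Thompson)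
    have hi : ∀ e ∈ Subgroup.zpowers u, e ≠ 1 →
        Cfsg.sigmaCore M ⊓ Subgroup.centralizer ({e} : Set G) = ⊥ := fun e he he1 =>
      centralizer_eq_bot_of_sigma hG h30 h31 h32 hSP hM hN hcompl hqM hqN hr
        ((Subgroup.zpowers_le.2 huM) he) (orderOf_eq_of_mem_zpowers hrp hu he he1)
    have hnil : Group.IsNilpotent ↥(Cfsg.sigmaCore M) := by
      apply Cfsg.Agent.Helper62.FrobAct.isNilpotent_of_fpf (Cfsg.sigmaCore M) (Subgroup.zpowers u)
      · intro h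
        have : u ∈ Subgroup.zpowers u := Subgroup.mem_zpowers u
        rw [h, Subgroup.mem_bot] at this; exact hu1 this
      · intro e he v hv
        exact Cfsg.Agent.Helper68.BG12.conj_mem_sigmaCore ((Subgroup.zpowers_le.2 huM) he) hv
      · intro e he he1 v hv hev
        have : v ∈ Cfsg.sigmaCore M ⊓ Subgroup.centralizer ({e} : Set G) := by
          refine Subgroup.mem_inf.2 ⟨hv, ?_⟩
          rw [Subgroup.mem_centralizer_iff]
          intro z hz
          rw [Set.mem_singleton_iff.1 hz]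
          exact hev
        rw [hi e he he1, Subgroup.mem_bot] at this
        exact this
    -- the ordering: `r < q`
    have hqβ : q ∉ Cfsg.beta M :=
      Cfsg.Agent.Helper31.BGNoMutualTau2.not_mem_beta_of_mem_tau2 hG hN hqN M
    have hcentU : Cfsg.sigmaCore M ⊓ Subgroup.centralizer ((Subgroup.zpowers u : Subgroup G) : Set G) = ⊥ := by
      rw [eq_bot_iff, ← hi u (Subgroup.mem_zpowers u) hu1]
      exact inf_le_inf_left _ (centralizer_zpowers_le_singleton u)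
    have hPu : IsPGroup r (Subgroup.zpowers u) := by
      apply IsPGroup.of_card (n := 1)
      rw [Nat.card_zpowers, hu, pow_one]
    have h1 : r ≤ q :=
      Cfsg.Agent.Helper31.BGNoMutualTau2.le_of_mem_sigma_of_centralizer_eq_bot hG hM hqM hqβ hnil
        (Subgroup.zpowers_le.2 huM) hPu hcentU
    have hrq : r ≠ q := fun h => hrM (h ▸ hqM)
    -- `r ∈ β(N)`
    have hrβ : r ∈ Cfsg.beta N := by
      by_contra hrβ
      obtain ⟨A, hAN, hAe, hA2⟩ := Cfsg.Agent.Helper31.BGNoMutualTau2.exists_ea2_of_mem_tau2 hqN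
      haveI : Fact q.Prime := ⟨hqN.1⟩
      have h17 := Cfsg.Agent.S1417.result hG N hN q hqN A ⟨hAN, hAe, hA2⟩
      have h2 : q ≤ r :=
        Cfsg.Agent.Helper31.BGNoMutualTau2.le_of_mem_sigma_of_centralizer_eq_bot hG hN hr hrβ h17.1
          hAN (Cfsg.Agent.Helper29.BG10.isPGroup_of_isElementaryAbelian hAe) h17.2.2.2.1
      omega
    -- a conjugate `Nt` of `N` with `u ∈ Nt_σ`
    obtain ⟨Q, hQN, -, hQtop, -⟩ := BG11.exists_sylow_of_mem_sigma hr
    obtain ⟨a, -, ha⟩ := Cfsg.Agent.Helper84.exists_conj_le_of_relIndex (⊤ : Subgroup G) Q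
      (Subgroup.zpowers u) le_top hQtop.2.1 hQtop.2.2 le_top hPu
    have hau : a * u * a⁻¹ ∈ Cfsg.sigmaCore N :=
      BG11.le_sigmaCore_of_isPGroup hG hU hN hr hQN.2.1 hQN.1 (ha u (Subgroup.mem_zpowers u))
    set Nt : Subgroup G := BG10.cj a⁻¹ N with hNt_def
    have hNt : IsCoatom Nt := BG11.isCoatom_cj hN a⁻¹
    have huNt : u ∈ Cfsg.sigmaCore Nt := by
      rw [hNt_def, BG11.sigmaCore_cj hG hU hN a⁻¹, BG10.mem_cj, inv_inv]; exact hau
    have hσNt : Cfsg.sigma Nt = Cfsg.sigma N := BG11.sigma_cj a⁻¹ N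
    -- S1423 for `N` and `X' = a ⟨u⟩ a⁻¹`
    set X' : Subgroup G := BG10.cj a (Subgroup.zpowers u) with hX'
    have hX'N : X' ≤ N := by
      intro z hz
      rw [hX', BG10.mem_cj] at hz
      have := hQN.1 (ha _ hz)
      have e : a * (a⁻¹ * z * a) * a⁻¹ = z := by group
      rwa [e] at this
    have hX'card : Nat.card X' = r := by
      rw [hX', BG10.card_cj, Nat.card_zpowers, hu]
    have h23 := (Cfsg.Agent.S1423.result hG N hN r hr X' hX'N hX'card
      (Classical.arbitrary _) (Or.inl hrβ)).1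
    have hCu : Subgroup.centralizer ({u} : Set G) ≤ Nt := by
      intro c hc
      rw [hNt_def, BG10.mem_cj, inv_inv]
      apply h23.1
      rw [Subgroup.mem_centralizer_iff]
      intro z hz
      rw [SetLike.mem_coe, hX', BG10.mem_cj] at hz
      obtain ⟨k, hk⟩ := Subgroup.mem_zpowers_iff.1 hz
      have hcu : Commute u c := Subgroup.mem_centralizer_iff.1 hc u (Set.mem_singleton u)
      have hck : u ^ k * c = c * u ^ k := (hcu.zpow_left k).eq
      have ez : z = a * u ^ k * a⁻¹ := by rw [hk]; group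
      rw [ez]
      calc a * u ^ k * a⁻¹ * (a * c * a⁻¹) = a * (u ^ k * c) * a⁻¹ := by group
        _ = a * (c * u ^ k) * a⁻¹ := by rw [hck]
        _ = a * c * a⁻¹ * (a * u ^ k * a⁻¹) := by group
    have he0Nt : e0 ∈ Nt := hCu he0u
    have hpNt : ∀ p' : ℕ, p'.Prime → p' ∣ orderOf e0 → p' ∉ Cfsg.sigma Nt := by
      intro p' hp' hd
      rw [(Nat.prime_dvd_prime_iff_eq hp' hp).1 hd, hσNt]; exact hpN
    haveI : Group.IsSolvable ↥Nt := hG.2.2.2 Nt hNt.1
    rcases h32 Nt hNt u huNt hu1 e0 (Subgroup.mem_inf.2 ⟨he0Nt, he0u⟩) he01 hpNt with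
      ⟨hκ', -⟩ | ⟨-, -, -, huniq'⟩
    · -- `p ∈ κ(Nt)`: then `⟨e0⟩ ≤ M_σ`
      have hpκ : p ∈ Cfsg.kappa Nt := hκ' p hp dvd_rfl
      have hXNt : X ≤ Nt := by rw [hX, Subgroup.zpowers_le]; exact he0Nt
      obtain ⟨K', hK', hXK'⟩ := exists_isPiHallOf_ge (Cfsg.kappa Nt) Nt hXNt (by
        intro p' hp' hd
        rw [hXcard] at hd
        rw [(Nat.prime_dvd_prime_iff_eq hp' hp).1 hd]; exact hpκ)
      have he0K' : e0 ∈ K' := hXK' (Subgroup.mem_zpowers e0)
      have hK'1 : K' ≠ ⊥ := by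
        intro h; rw [h, Subgroup.mem_bot] at he0K'; exact he01 he0K'
      obtain ⟨-, -, h3⟩ := h30 Nt hNt K' hK' hK'1
      obtain ⟨-, -, hXσ⟩ := h3 X hXK' (by rw [hXcard]; exact hp)
      obtain ⟨L0, hL0, hNL0⟩ := exists_coatom_normalizer_le hG hX1 hX2
      have hL0M : L0 = M := huniq L0 hL0 (hCX.trans hNL0)
      have hXσM : X ≤ Cfsg.sigmaCore M := hXσ M hM (hL0M ▸ hNL0)
      exact hpM (prime_mem_sigma_of_dvd_card_sigmaCore M hp (by
        rw [← hXcard]; exact Subgroup.card_dvd_of_le hXσM))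
    · -- `M = Nt`
      have hMNt : M = Nt := huniq' M hM hcent
      apply hnc a
      show N = BG10.cj a M
      rw [hMNt, hNt_def, BG10.cj_cj_inv]

/-- **1436-LITE**: (i) and (ii) together. -/
theorem sigma_prime_elt_fpf (hG : Cfsg.IsMinSimpleOddOrder G) (h30 : H1430 G)
    (h31 : H1431 G) (h32 : H1432 G) (hSP : HSP G) {M N : Subgroup G} (hM : IsCoatom M)
    (hN : IsCoatom N) (hcompl : Cfsg.IsComplIn (M ⊓ N) (Cfsg.sigmaCore N) N) {q : ℕ}
    (hqM : q ∈ Cfsg.sigma M) (hqN : q ∈ Cfsg.tau2 N) {r : ℕ} (hr : r ∈ Cfsg.sigma N) {u : G}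
    (huM : u ∈ M) (hu : orderOf u = r) :
    Cfsg.sigmaCore M ⊓ Subgroup.centralizer ({u} : Set G) = ⊥ ∧
      ∀ e0 ∈ M, e0 * u = u * e0 → (orderOf e0).Prime → orderOf e0 ∉ Cfsg.sigma M →
        Cfsg.sigmaCore M ⊓ Subgroup.centralizer ({e0} : Set G) = ⊥ :=
  ⟨centralizer_eq_bot_of_sigma hG h30 h31 h32 hSP hM hN hcompl hqM hqN hr huM hu,
    fun e0 he0M hcomm hp hpM =>
      centralizer_eq_bot_of_commute hG h30 h31 h32 hSP hM hN hcompl hqM hqN hr huM hu he0M hcomm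
        hp hpM⟩


end Cfsg.Agent.Helper31.BG1436Lite
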