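import Mathlib
import Cfsg.Agent.Helper31.BG1436Lite
import Cfsg.Agent.Helper64.BG1372
import Cfsg.Agent.S1429

/-!
# S1436(a), the `κ` part (helper31)

In the setting of B-G 14.4(c) (`x ∈ M_σ#` with `C_G(x) ≰ M`, `M ∩ N` a complement of `N_σ` in `N`,
some prime `q ∈ σ(M) ∩ τ₂(N)`, some prime `r ∈ σ(N)` dividing `|M|`): `κ(M) = ∅`.

No `σ`-decomposition of `M` is used (so no dependency on S1351/S1352): with `K` a Hall
`κ(M)`-subgroup, either `r ∈ κ(M)` (excluded by Lemma K), or `r` is a prime of `|M|` outside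
`σ(M) ∪ κ(M)`, the abelian Hall subgroup `U` of S1430(2) is nontrivial, helper64's `Setup M K U` holds
and gives `C_G(z) ≤ M` for every `z ∈ M_σ` of prime order.
-/

set_option autoImplicit false
set_option linter.unusedSectionVars false
set_option linter.unusedVariables false
set_option linter.style.haveILetI false

namespace Cfsg.Agent.Helper31.BG1436Lite

open Cfsg Cfsg.Agent.Helper29 Cfsg.Agent.Helper29.BG10 Cfsg.Agent.Helper29.BG11
  Cfsg.Agent.Helper71.BGHall Cfsg.Agent.Helper71.BG11 Cfsg.Agent.Helper48.BG142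
  Cfsg.Agent.Helper60.BGAsm Cfsg.Agent.Helper64.BG1372
open scoped Pointwise

universe u

variable {G : Type u} [Group G] [Finite G]

/-- helper64's `Setup` from Hall data (no cyclicity of `K`, no `IsSigmaDecomposition`) -/
theorem setup_of_hall (hG : Cfsg.IsMinSimpleOddOrder G) {M K U : Subgroup G} (hM : IsCoatom M)
    (hK : Cfsg.IsPiHallOf (Cfsg.kappa M) K M) (hK1 : K ≠ ⊥)
    (hUh : Cfsg.IsPiHallOf {q | q.Prime ∧ q ∉ Cfsg.kappa M ∧ q ∉ Cfsg.sigma M} U M)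
    (hKN : K ≤ Subgroup.normalizer (U : Set G))
    (hfrob : ∀ k ∈ K, k ≠ 1 → U ⊓ Subgroup.centralizer ({k} : Set G) = ⊥)
    (hpr : ∀ k ∈ K, k ≠ 1 → Cfsg.sigmaCore M ⊓ Subgroup.centralizer ({k} : Set G) =
      Cfsg.sigmaCore M ⊓ Subgroup.centralizer (K : Set G))
    {r : ℕ} (hr : r.Prime) (hrM : r ∣ Nat.card ↥M) (hrσ : r ∉ Cfsg.sigma M)
    (hrκ : r ∉ Cfsg.kappa M) : Setup M K U := by
  classical
  haveI : Fact r.Prime := ⟨hr⟩
  have hUM : U ≤ M := hUh.1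
  have hKM : K ≤ M := hK.1
  have hrπ : r ∈ {q | q.Prime ∧ q ∉ Cfsg.kappa M ∧ q ∉ Cfsg.sigma M} := ⟨hr, hrκ, hrσ⟩
  -- `r ∣ |U|`
  have hrU : r ∣ Nat.card ↥U := by
    have h1 : Nat.card ↥U * U.relIndex M = Nat.card ↥M := card_mul_relIndex_of_le hUM
    have h2 : r ∣ Nat.card ↥U * U.relIndex M := h1 ▸ hrM
    exact ((Nat.Prime.dvd_mul hr).1 h2).resolve_right (hUh.2.2 r hr hrπ)
  have hU1 : U ≠ ⊥ := by
    intro h
    rw [h, Subgroup.card_bot] at hrU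
    exact hr.one_lt.ne' (Nat.dvd_one.1 hrU)
  have hUK : U ⊓ K = ⊥ :=
    inf_eq_bot_of_primes_disjoint hUh.2.1 hK.2.1 (fun q hq => hq.2.1)
  have e1 : Nat.card ↥(U ⊔ K) = Nat.card ↥K * Nat.card ↥U := by
    have h1 := Cfsg.Agent.Helper31.card_sup_mul_card_inf' K U hKN
    rw [inf_comm, hUK, Subgroup.card_bot, mul_one, sup_comm] at h1
    exact h1
  have hcop : (Nat.card ↥(U ⊔ K)).Coprime (Nat.card ↥(Cfsg.sigmaCore M)) := by
    apply Nat.coprime_of_dvd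
    intro p hp h1 h2
    have hpσ : p ∈ Cfsg.sigma M := primes_sigmaCore M p hp h2
    rw [e1] at h1
    rcases (Nat.Prime.dvd_mul hp).1 h1 with h | h
    · exact (hK.2.1 p hp h).2.2.1 hpσ
    · exact (hUh.2.1 p hp h).2.2 hpσ
  have hP1 : ¬ ∀ q : ℕ, q.Prime → q ∣ Nat.card ↥M → q ∉ Cfsg.sigma M → q ∈ Cfsg.kappa M :=
    fun h' => hrκ (h' r hr hrM hrσ)
  -- a Sylow `r`-subgroup of `M` inside `U`
  obtain ⟨S', -, hS'⟩ := exists_isSylowIn_ge (p := r) (bot_le : (⊥ : Subgroup G) ≤ U)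
    IsPGroup.of_bot
  have hS'M : IsSylowIn r S' M := by
    refine ⟨hS'.1.trans hUM, hS'.2.1, ?_⟩
    rw [← Subgroup.relIndex_mul_relIndex S' U M hS'.1 hUM]
    intro hd
    rcases (Nat.Prime.dvd_mul hr).1 hd with h' | h'
    · exact hS'.2.2 h'
    · exact hUh.2.2 r hr hrπ h'
  obtain ⟨S, hS⟩ := IsSylowIn.exists_sylow hS'M
  obtain ⟨-, hC, hnil⟩ := Cfsg.Agent.S1429.result hG M hM hP1 r hrM (by
    intro h'
    rcases h' with h' | h'
    · exact hrσ h'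
    · exact hrκ h') S
  have hclU : Subgroup.closure {x : G | x ∈ (S : Subgroup ↥M).map M.subtype ∧ x ^ r = 1} ≤ U := by
    rw [Subgroup.closure_le]
    intro x hx
    have : x ∈ S' := by rw [← hS]; exact hx.1
    exact hS'.1 this
  have hCU : Cfsg.sigmaCore M ⊓ Subgroup.centralizer (U : Set G) = ⊥ := by
    rw [eq_bot_iff, ← hC]
    exact inf_le_inf_left _ (Subgroup.centralizer_le hclU)
  exact ⟨hM, hU1, hK1, hUK, hKN, hfrob, hUM, hKM, hcop, hnil, hCU, hpr⟩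

/-- **S1436(a), `κ` part**: `κ(M) = ∅`. -/
theorem kappa_eq_empty (hG : Cfsg.IsMinSimpleOddOrder G) (h30 : H1430 G)
    (h31 : H1431 G) (hSP : HSP G) {M N : Subgroup G} (hM : IsCoatom M)
    (hN : IsCoatom N) (hcompl : Cfsg.IsComplIn (M ⊓ N) (Cfsg.sigmaCore N) N) {q : ℕ}
    (hqM : q ∈ Cfsg.sigma M) (hqN : q ∈ Cfsg.tau2 N) {x : G} (hx : x ∈ Cfsg.sigmaCore M)
    (hx1 : x ≠ 1) (hxM : ¬ Subgroup.centralizer ({x} : Set G) ≤ M) {r : ℕ}
    (hr : r ∈ Cfsg.sigma N) (hrM : r ∣ Nat.card ↥M) : Cfsg.kappa M = ∅ := by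
  classical
  have hU := uniquenessThm hG
  have hnc := not_conj_of_sigma_tau2 (G := G) hqM hqN
  have hrp : r.Prime := hr.1
  haveI : Group.IsSolvable ↥M := hG.2.2.2 M hM.1
  have hrσ : r ∉ Cfsg.sigma M := by
    intro h
    obtain ⟨g, hg⟩ := hSP M N hM hN ⟨r, h, hr⟩
    exact hnc g hg
  have hrκ : r ∉ Cfsg.kappa M := fun h =>
    sigma_inter_kappa_empty hG h30 h31 hSP hM hN hnc hcompl hr h
  rw [Set.eq_empty_iff_forall_notMem]
  intro p₀ hp₀
  -- a Hall `κ(M)`-subgroup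
  obtain ⟨K, hK, -⟩ := exists_isPiHallOf_ge (Cfsg.kappa M) M (Y := ⊥) bot_le (by
    intro p hp hd
    rw [Subgroup.card_bot] at hd
    exact absurd (Nat.dvd_one.1 hd) hp.one_lt.ne')
  have hK1 : K ≠ ⊥ := by
    intro h
    have h1 : Nat.card ↥K * K.relIndex M = Nat.card ↥M := card_mul_relIndex_of_le hK.1
    have h2 : Nat.card ↥K = 1 := by rw [h, Subgroup.card_bot]
    rw [h2, one_mul] at h1
    exact hK.2.2 p₀ hp₀.1 hp₀ (h1 ▸ hp₀.2.1)
  obtain ⟨hpr, ⟨U, -, hUh, hKN, hfrob⟩, -⟩ := h30 M hM K hK hK1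
  have hS : Setup M K U := setup_of_hall hG hM hK hK1 hUh hKN hfrob hpr hrp hrM hrσ hrκ
  -- an element of prime order in `⟨x⟩`
  have hox : orderOf x ≠ 1 := fun h => hx1 (orderOf_eq_one_iff.1 h)
  obtain ⟨t, ht, htd⟩ := Nat.exists_prime_and_dvd hox
  haveI : Fact t.Prime := ⟨ht⟩
  set z : G := x ^ (orderOf x / t) with hz
  have hzt : orderOf z = t := by
    rw [hz]
    exact orderOf_pow_orderOf_div (orderOf_pos x).ne' htd
  have hzσ : z ∈ Cfsg.sigmaCore M := Subgroup.pow_mem _ hx _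
  have h1 := hS.centralizer_le hG hU hzσ hzt
  apply hxM
  refine le_trans ?_ h1
  intro c hc
  rw [Subgroup.mem_centralizer_iff] at hc ⊢
  intro w hw
  obtain ⟨k, rfl⟩ := Subgroup.mem_zpowers_iff.1 hw
  have hcx : Commute x c := hc x (Set.mem_singleton x)
  have hcz : Commute z c := hcx.pow_left _
  exact (hcz.zpow_left k).eq

end Cfsg.Agent.Helper31.BG1436Lite
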