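import Mathlib
import Cfsg.Agent.Helper31.BG1436Kappa

/-!
# S1436 / BGII: extracting the data from the S1375-shaped hypothesis (helper31)

`H1375` is the text of S1375 quantified over `M`, `x`.  From it (plus S1430(3), S1432):
for `x ∈ M_σ#` with `C_G(x) ≰ M` and `N` a maximal subgroup over `C_G(x)`,
`M ∩ N` is a complement of `N_σ` in `N` and every prime of `o(x)` lies in `σ(M) ∩ τ₂(N)`.
Then the `x`-shaped versions of `sigma_prime_elt_fpf` and `kappa_eq_empty`.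
-/

set_option autoImplicit false
set_option linter.unusedSectionVars false
set_option linter.unusedVariables false
set_option linter.style.haveILetI false

namespace Cfsg.Agent.Helper31.BG1436Lite

open Cfsg Cfsg.Agent.Helper29 Cfsg.Agent.Helper29.BG10 Cfsg.Agent.Helper29.BG11
  Cfsg.Agent.Helper71.BGHall Cfsg.Agent.Helper71.BG11 Cfsg.Agent.Helper48.BG142
  Cfsg.Agent.Helper60.BGAsm
open scoped Pointwise

universe u

/-- S1375, quantified over all data -/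
def H1375 (G : Type u) [Group G] : Prop :=
  ∀ (M : Subgroup G), IsCoatom M → ∀ x : G, x ∈ Cfsg.sigmaCore M → x ≠ 1 →
    ¬ Subgroup.centralizer ({x} : Set G) ≤ M →
    ∃ N : Subgroup G, (IsCoatom N ∧ Subgroup.centralizer ({x} : Set G) ≤ N) ∧ (∀ L : Subgroup G, IsCoatom L → Subgroup.centralizer ({x} : Set G) ≤ L → L = N) ∧
        Cfsg.sigmaCore N = Cfsg.fittingHallOf N ∧
        Subgroup.centralizer ({x} : Set G) ≤ Subgroup.normalizer ((Cfsg.sigmaCore N ⊓ Subgroup.centralizer ({x} : Set G) : Subgroup G) : Set G) ∧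
        Cfsg.IsComplIn (M ⊓ Subgroup.centralizer ({x} : Set G)) (Cfsg.sigmaCore N ⊓ Subgroup.centralizer ({x} : Set G)) (Subgroup.centralizer ({x} : Set G)) ∧
        Cfsg.IsComplIn (M ⊓ N) (Cfsg.sigmaCore N) N ∧
        ∀ K' U' : Subgroup G, Cfsg.IsSigmaDecomposition N K' U' → U' ≠ ⊥ ∧ x ∈ Cfsg.sigmaA N U' ∧ x ∉ Cfsg.sigmaCore N

variable {G : Type u} [Group G] [Finite G]

theorem centralizer_singleton_le_pow (x : G) (n : ℕ) :
    Subgroup.centralizer ({x} : Set G) ≤ Subgroup.centralizer ({x ^ n} : Set G) := by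
  intro c hc
  rw [Subgroup.mem_centralizer_iff] at hc ⊢
  intro w hw
  rw [Set.mem_singleton_iff.1 hw]
  have hcx : Commute x c := hc x (Set.mem_singleton x)
  exact (hcx.pow_left n).eq

/-- **the data of B-G 14.4(a),(b) from the S1375-shape**: `M ∩ N` complements `N_σ` in `N`, and
every prime of `o(x)` is in `σ(M) ∩ τ₂(N)`. -/
theorem data_of_1375 (hG : Cfsg.IsMinSimpleOddOrder G) (h30 : H1430 G) (h32 : H1432 G)
    (h75 : H1375 G) {M N : Subgroup G} (hM : IsCoatom M) (hN : IsCoatom N) {x : G}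
    (hx : x ∈ Cfsg.sigmaCore M) (hx1 : x ≠ 1) (hxM : ¬ Subgroup.centralizer ({x} : Set G) ≤ M)
    (hxN : Subgroup.centralizer ({x} : Set G) ≤ N) :
    Cfsg.IsComplIn (M ⊓ N) (Cfsg.sigmaCore N) N ∧
      ∀ q : ℕ, q.Prime → q ∣ orderOf x → q ∈ Cfsg.sigma M ∧ q ∈ Cfsg.tau2 N := by
  classical
  have hU := uniquenessThm hG
  obtain ⟨N₁, ⟨hN₁, hxN₁⟩, huniq, -, -, -, hcompl, -⟩ := h75 M hM x hx hx1 hxM
  have hNN : N = N₁ := huniq N hN hxN
  subst hNN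
  refine ⟨hcompl, ?_⟩
  intro q hq hqd
  haveI : Fact q.Prime := ⟨hq⟩
  haveI : Group.IsSolvable ↥N := hG.2.2.2 N hN.1
  have hqM : q ∈ Cfsg.sigma M :=
    primes_sigmaCore M q hq (hqd.trans (Subgroup.orderOf_dvd_natCard _ hx))
  refine ⟨hqM, ?_⟩
  -- the element `x₀` of order `q`
  set x₀ : G := x ^ (orderOf x / q) with hx₀
  have hx₀q : orderOf x₀ = q := by
    rw [hx₀]; exact orderOf_pow_orderOf_div (orderOf_pos x).ne' hqd
  have hx₀1 : x₀ ≠ 1 := by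
    intro h; rw [h, orderOf_one] at hx₀q; exact hq.one_lt.ne hx₀q
  have hx₀σ : x₀ ∈ Cfsg.sigmaCore M := Subgroup.pow_mem _ hx _
  have hCle : Subgroup.centralizer ({x} : Set G) ≤ Subgroup.centralizer ({x₀} : Set G) :=
    centralizer_singleton_le_pow x _
  have hx₀M : ¬ Subgroup.centralizer ({x₀} : Set G) ≤ M := fun h => hxM (hCle.trans h)
  obtain ⟨N₀, ⟨hN₀, hx₀N₀⟩, huniq₀, -, -, hcx₀, -, -⟩ := h75 M hM x₀ hx₀σ hx₀1 hx₀M
  have hN₀N : N₀ = N := huniq N₀ hN₀ (hCle.trans hx₀N₀)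
  subst hN₀N
  -- `x₀ ∈ M ∩ N`, so `q ∉ σ(N)`
  have hx₀Mm : x₀ ∈ M := sigmaCore_le M hx₀σ
  have hx₀N : x₀ ∈ N₀ := hx₀N₀ (by
    rw [Subgroup.mem_centralizer_iff]
    intro w hw
    rw [Set.mem_singleton_iff.1 hw])
  set X : Subgroup G := Subgroup.zpowers x₀ with hX
  have hXcard : Nat.card X = q := by rw [hX, Nat.card_zpowers, hx₀q]
  have hXq : IsPGroup q X := by
    apply IsPGroup.of_card (n := 1)
    rw [hXcard, pow_one]
  have hXN : X ≤ N₀ := by rw [hX, Subgroup.zpowers_le]; exact hx₀N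
  have hqN : q ∉ Cfsg.sigma N₀ := by
    intro h
    have h1 : x₀ ∈ Cfsg.sigmaCore N₀ :=
      BG11.le_sigmaCore_of_isPGroup hG hU hN₀ h hXq hXN (Subgroup.mem_zpowers x₀)
    have h2 : x₀ ∈ (M ⊓ N₀) ⊓ Cfsg.sigmaCore N₀ :=
      Subgroup.mem_inf.2 ⟨Subgroup.mem_inf.2 ⟨hx₀Mm, hx₀N⟩, h1⟩
    rw [hcompl.2.2.1, Subgroup.mem_bot] at h2
    exact hx₀1 h2
  -- a non-identity element of `N_σ` centralized by `x₀`
  have hR : Cfsg.sigmaCore N₀ ⊓ Subgroup.centralizer ({x₀} : Set G) ≠ ⊥ := by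
    intro hbot
    apply hx₀M
    intro c hc
    obtain ⟨a, ha, b, hb, rfl⟩ := hcx₀.2.2.2 c hc
    rw [hbot, Subgroup.mem_bot] at hb
    rw [hb, mul_one]; exact ha.1
  obtain ⟨y, hy1⟩ := (Subgroup.ne_bot_iff_exists_ne_one).1 hR
  have hyσ : (y : G) ∈ Cfsg.sigmaCore N₀ := y.2.1
  have hy1' : (y : G) ≠ 1 := fun h => hy1 (Subtype.ext h)
  have hyx : x₀ * (y : G) = (y : G) * x₀ :=
    Subgroup.mem_centralizer_iff.1 y.2.2 x₀ (Set.mem_singleton x₀)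
  have hx₀y : x₀ ∈ N₀ ⊓ Subgroup.centralizer ({(y : G)} : Set G) := by
    refine Subgroup.mem_inf.2 ⟨hx₀N, ?_⟩
    rw [Subgroup.mem_centralizer_iff]
    intro w hw
    rw [Set.mem_singleton_iff.1 hw]
    exact hyx.symm
  have hσ : ∀ p : ℕ, p.Prime → p ∣ orderOf x₀ → p ∉ Cfsg.sigma N₀ := by
    intro p hp hd
    rw [hx₀q] at hd
    rw [(Nat.prime_dvd_prime_iff_eq hp hq).1 hd]; exact hqN
  rcases h32 N₀ hN₀ y hyσ hy1' x₀ hx₀y hx₀1 hσ with ⟨hκ, -⟩ | ⟨hτ, -, -⟩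
  · -- `q ∈ κ(N)` is impossible
    exfalso
    have hqκ : q ∈ Cfsg.kappa N₀ := hκ q hq (by rw [hx₀q])
    obtain ⟨K, hK, hXK⟩ := exists_isPiHallOf_ge (Cfsg.kappa N₀) N₀ hXN (by
      intro p hp hd
      rw [hXcard] at hd
      rw [(Nat.prime_dvd_prime_iff_eq hp hq).1 hd]; exact hqκ)
    have hx₀K : x₀ ∈ K := hXK (Subgroup.mem_zpowers x₀)
    have hK1 : K ≠ ⊥ := by
      intro h; rw [h, Subgroup.mem_bot] at hx₀K; exact hx₀1 hx₀K
    obtain ⟨-, -, h3⟩ := h30 N₀ hN₀ K hK hK1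
    obtain ⟨-, -, hXσ⟩ := h3 X hXK (by rw [hXcard]; exact hq)
    have hX1 : X ≠ ⊥ := by
      intro h
      have : x₀ ∈ X := Subgroup.mem_zpowers x₀
      rw [h, Subgroup.mem_bot] at this; exact hx₀1 this
    have hX2 : X ≠ ⊤ := by
      intro h; rw [h] at hXN; exact hN₀.1 (top_le_iff.1 hXN)
    obtain ⟨L0, hL0, hNL0⟩ := exists_coatom_normalizer_le hG hX1 hX2
    have hCX : Subgroup.centralizer ({x₀} : Set G) ≤ Subgroup.normalizer (X : Set G) :=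
      (centralizer_singleton_le_zpowers x₀).trans (Subgroup.centralizer_le_normalizer _)
    have hL0N : L0 = N₀ := huniq₀ L0 hL0 (hCX.trans hNL0)
    have hXσN : X ≤ Cfsg.sigmaCore N₀ := hXσ N₀ hN₀ (hL0N ▸ hNL0)
    exact hqN (prime_mem_sigma_of_dvd_card_sigmaCore N₀ hq (by
      rw [← hXcard]; exact Subgroup.card_dvd_of_le hXσN))
  · exact hτ q hq (by rw [hx₀q])

/-- **1436-LITE, `x`-shaped** (the form asked for by helper25 in board post 3595). -/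
theorem sigma_prime_elt_fpf' (hG : Cfsg.IsMinSimpleOddOrder G) (h30 : H1430 G)
    (h31 : H1431 G) (h32 : H1432 G) (hSP : HSP G) (h75 : H1375 G) {M N : Subgroup G}
    (hM : IsCoatom M) (hN : IsCoatom N) {x : G} (hx : x ∈ Cfsg.sigmaCore M) (hx1 : x ≠ 1)
    (hxM : ¬ Subgroup.centralizer ({x} : Set G) ≤ M)
    (hxN : Subgroup.centralizer ({x} : Set G) ≤ N) {r : ℕ} (hr : r ∈ Cfsg.sigma N) {u : G}
    (huM : u ∈ M) (hu : orderOf u = r) :
    Cfsg.sigmaCore M ⊓ Subgroup.centralizer ({u} : Set G) = ⊥ ∧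
      ∀ e0 ∈ M, e0 * u = u * e0 → (orderOf e0).Prime → orderOf e0 ∉ Cfsg.sigma M →
        Cfsg.sigmaCore M ⊓ Subgroup.centralizer ({e0} : Set G) = ⊥ := by
  obtain ⟨hcompl, hq⟩ := data_of_1375 hG h30 h32 h75 hM hN hx hx1 hxM hxN
  have hox : orderOf x ≠ 1 := fun h => hx1 (orderOf_eq_one_iff.1 h)
  obtain ⟨q, hqp, hqd⟩ := Nat.exists_prime_and_dvd hox
  obtain ⟨hqM, hqN⟩ := hq q hqp hqd
  exact sigma_prime_elt_fpf hG h30 h31 h32 hSP hM hN hcompl hqM hqN hr huM hu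

/-- **S1436(a), `κ` part, `x`-shaped**. -/
theorem kappa_eq_empty' (hG : Cfsg.IsMinSimpleOddOrder G) (h30 : H1430 G)
    (h31 : H1431 G) (h32 : H1432 G) (hSP : HSP G) (h75 : H1375 G) {M N : Subgroup G}
    (hM : IsCoatom M) (hN : IsCoatom N) {x : G} (hx : x ∈ Cfsg.sigmaCore M) (hx1 : x ≠ 1)
    (hxM : ¬ Subgroup.centralizer ({x} : Set G) ≤ M)
    (hxN : Subgroup.centralizer ({x} : Set G) ≤ N) {r : ℕ} (hr : r ∈ Cfsg.sigma N)
    (hrM : r ∣ Nat.card ↥M) : Cfsg.kappa M = ∅ := by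
  obtain ⟨hcompl, hq⟩ := data_of_1375 hG h30 h32 h75 hM hN hx hx1 hxM hxN
  have hox : orderOf x ≠ 1 := fun h => hx1 (orderOf_eq_one_iff.1 h)
  obtain ⟨q, hqp, hqd⟩ := Nat.exists_prime_and_dvd hox
  obtain ⟨hqM, hqN⟩ := hq q hqp hqd
  exact kappa_eq_empty hG h30 h31 hSP hM hN hcompl hqM hqN hx hx1 hxM hr hrM

end Cfsg.Agent.Helper31.BG1436Lite
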