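import Mathlib

/-!
# The abstract "tilde count" (core of Bender–Glauberman Lemma 14.5)

`H ≤ M = N_G(H)`, and for every `a ∈ H`, `a ≠ 1`, a subgroup `R a` of `C_G(a)` consisting of
`|H|'`-elements, `M`-equivariant, and acting regularly on the conjugates of `H` containing `a`.
Then the union of the `G`-conjugates of the cosets `a * R a` has exactly `(|H| - 1) * |G : M|`
elements.
-/

namespace Cfsg.Agent.Helper31.TildeCount

variable {G : Type*} [Group G]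

/-- the conjugate `g X g⁻¹` -/
abbrev cj (g : G) (X : Subgroup G) : Subgroup G := X.map (MulAut.conj g).toMonoidHom

theorem mem_cj {g x : G} {X : Subgroup G} : x ∈ cj g X ↔ g⁻¹ * x * g ∈ X := by
  constructor
  · rintro ⟨y, hy, rfl⟩
    simpa [MulAut.conj_apply, mul_assoc] using hy
  · intro h
    exact ⟨g⁻¹ * x * g, h, by simp [MulAut.conj_apply, mul_assoc]⟩

theorem conj_mem_cj {g x : G} {X : Subgroup G} (hx : x ∈ X) : g * x * g⁻¹ ∈ cj g X :=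
  ⟨x, hx, by simp [MulAut.conj_apply]⟩

theorem cj_mul (g h : G) (X : Subgroup G) : cj (g * h) X = cj g (cj h X) := by
  ext x
  simp only [mem_cj]
  constructor <;> intro hx <;> simpa [mul_assoc] using hx

theorem cj_one (X : Subgroup G) : cj 1 X = X := by
  ext x; simp [mem_cj]

/-- the `π`-part of a product of commuting elements is determined -/
theorem eq_of_mul_eq_mul {a a₂ s s₂ : G} {n : ℕ}
    (ha : a ^ n = 1) (ha₂ : a₂ ^ n = 1) (hs : (orderOf s).Coprime n) (hs₂ : (orderOf s₂).Coprime n)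
    (hs0 : 0 < orderOf s) (hs₂0 : 0 < orderOf s₂)
    (hc : Commute a s) (hc₂ : Commute a₂ s₂) (h : a * s = a₂ * s₂) : a = a₂ := by
  rcases Nat.lt_or_ge 1 n with hn | hn
  · set m := orderOf s * orderOf s₂ with hm
    have hmn : Nat.Coprime m n := Nat.Coprime.mul_left hs hs₂
    have h1 : (a * s) ^ m = a ^ m := by
      rw [hc.mul_pow, hm, pow_mul s, pow_orderOf_eq_one, one_pow, mul_one]
    have h2 : (a₂ * s₂) ^ m = a₂ ^ m := by
      rw [hc₂.mul_pow, hm, mul_comm (orderOf s), pow_mul s₂, pow_orderOf_eq_one, one_pow, mul_one]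
    have h3 : a ^ m = a₂ ^ m := by rw [← h1, ← h2, h]
    obtain ⟨k, -, hk⟩ := Nat.exists_mul_mod_eq_one_of_coprime hmn hn
    have key : ∀ b : G, b ^ n = 1 → (b ^ m) ^ k = b := by
      intro b hb
      rw [← pow_mul]
      conv_lhs => rw [← Nat.div_add_mod (m * k) n, pow_add, pow_mul, hb, one_pow, one_mul, hk]
      exact pow_one b
    rw [← key a ha, ← key a₂ ha₂, h3]
  · interval_cases n
    · have e1 : s = 1 := orderOf_eq_one_iff.1 (by simpa using hs)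
      have e2 : s₂ = 1 := orderOf_eq_one_iff.1 (by simpa using hs₂)
      simpa [e1, e2] using h
    · rw [pow_one] at ha ha₂
      rw [ha, ha₂]


theorem cj_inv_cj (g : G) (X : Subgroup G) : cj g⁻¹ (cj g X) = X := by
  rw [← cj_mul, inv_mul_cancel, cj_one]

theorem cj_cj_inv (g : G) (X : Subgroup G) : cj g (cj g⁻¹ X) = X := by
  rw [← cj_mul, mul_inv_cancel, cj_one]

theorem pow_card_eq_one_of_mem_conj [Finite G] {H : Subgroup G} {a y : G} (ha : a ∈ H) :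
    (y * a * y⁻¹) ^ Nat.card H = 1 := by
  have h1 : a ^ Nat.card H = 1 :=
    orderOf_dvd_iff_pow_eq_one.1 (Subgroup.orderOf_dvd_natCard H ha)
  rw [conj_pow, h1, mul_one, mul_inv_cancel]

theorem orderOf_conj' (y r : G) : orderOf (y * r * y⁻¹) = orderOf r := by
  have h : SemiconjBy y r (y * r * y⁻¹) := by
    show y * r = y * r * y⁻¹ * y
    group
  exact (h.orderOf_eq y).symm

/-- **The abstract tilde count.** -/
theorem ncard_tilde [Finite G] (M H : Subgroup G) (R : G → Subgroup G)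
    (hHM : ∀ m ∈ M, cj m H = H)
    (hN : ∀ g : G, cj g H = H → g ∈ M)
    (hcomm : ∀ a ∈ H, a ≠ 1 → ∀ r ∈ R a, a * r = r * a)
    (hcop : ∀ a ∈ H, a ≠ 1 → ∀ r ∈ R a, (orderOf r).Coprime (Nat.card H))
    (hequiv : ∀ m ∈ M, ∀ a ∈ H, a ≠ 1 → ∀ r ∈ R a, m * r * m⁻¹ ∈ R (m * a * m⁻¹))
    (htrans : ∀ a ∈ H, a ≠ 1 → ∀ g : G, a ∈ cj g H → ∃ r ∈ R a, cj r H = cj g H)
    (huniq : ∀ a ∈ H, a ≠ 1 → ∀ r ∈ R a, ∀ r' ∈ R a, cj r H = cj r' H → r = r') :
    Set.ncard {w : G | ∃ a ∈ H, a ≠ 1 ∧ ∃ r ∈ R a, ∃ y : G, w = y * (a * r) * y⁻¹} =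
      (Nat.card H - 1) * M.index := by
  classical
  set T : Set G := {w : G | ∃ a ∈ H, a ≠ 1 ∧ ∃ r ∈ R a, ∃ y : G, w = y * (a * r) * y⁻¹} with hT
  -- representatives
  have hrep0 : ∀ a' : G, ∃ p : G × G,
      (∃ y a, a ∈ H ∧ a ≠ 1 ∧ a' = y * a * y⁻¹) → p.2 ∈ H ∧ p.2 ≠ 1 ∧ a' = p.1 * p.2 * p.1⁻¹ := by
    intro a'
    by_cases h : ∃ y a, a ∈ H ∧ a ≠ 1 ∧ a' = y * a * y⁻¹
    · obtain ⟨y, a, h1, h2, h3⟩ := h
      exact ⟨(y, a), fun _ => ⟨h1, h2, h3⟩⟩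
    · exact ⟨(1, 1), fun h' => absurd h' h⟩
  choose rep hrep using hrep0
  -- the domain
  let D := (G ⧸ M) × {a : G // a ∈ H ∧ a ≠ 1}
  have hD1 : ∀ d : D, ∃ y a, a ∈ H ∧ a ≠ 1 ∧
      (d.1.out * d.2.1 * d.1.out⁻¹) = y * a * y⁻¹ :=
    fun d => ⟨d.1.out, d.2.1, d.2.2.1, d.2.2.2, rfl⟩
  have hr0 : ∀ d : D, ∃ r, r ∈ R (rep (d.1.out * d.2.1 * d.1.out⁻¹)).2 ∧
      cj r H = cj ((rep (d.1.out * d.2.1 * d.1.out⁻¹)).1⁻¹ * d.1.out) H := by
    intro d
    obtain ⟨h1, h2, h3⟩ := hrep _ (hD1 d)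
    generalize rep (d.1.out * d.2.1 * d.1.out⁻¹) = p at h1 h2 h3 ⊢
    obtain ⟨y₀, a₀⟩ := p
    simp only at h1 h2 h3 ⊢
    have h4 : a₀ ∈ cj (y₀⁻¹ * d.1.out) H := by
      have e : a₀ = (y₀⁻¹ * d.1.out) * d.2.1 * (y₀⁻¹ * d.1.out)⁻¹ := by
        have : a₀ = y₀⁻¹ * (d.1.out * d.2.1 * d.1.out⁻¹) * y₀ := by rw [h3]; group
        rw [this]; group
      rw [e]
      exact conj_mem_cj d.2.2.1
    exact htrans a₀ h1 h2 _ h4
  choose rr hrr using hr0
  let f : D → G := fun d =>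
    (rep (d.1.out * d.2.1 * d.1.out⁻¹)).1 * ((rep (d.1.out * d.2.1 * d.1.out⁻¹)).2 * rr d) *
      (rep (d.1.out * d.2.1 * d.1.out⁻¹)).1⁻¹
  -- unpacking lemma
  have hf : ∀ d : D, ∀ a' : G, a' = d.1.out * d.2.1 * d.1.out⁻¹ →
      ∃ y₀ a₀ r, rep a' = (y₀, a₀) ∧ a₀ ∈ H ∧ a₀ ≠ 1 ∧ a' = y₀ * a₀ * y₀⁻¹ ∧
        r ∈ R a₀ ∧ cj r H = cj (y₀⁻¹ * d.1.out) H ∧
        f d = y₀ * (a₀ * r) * y₀⁻¹ := by
    intro d a' ha'
    subst ha'
    obtain ⟨h1, h2, h3⟩ := hrep _ (hD1 d)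
    exact ⟨_, _, rr d, rfl, h1, h2, h3, (hrr d).1, (hrr d).2, rfl⟩
  have hn : ∀ d : D, (d.1.out * d.2.1 * d.1.out⁻¹) ^ Nat.card H = 1 :=
    fun d => pow_card_eq_one_of_mem_conj d.2.2.1
  -- decomposition of `f d`
  have hfdec : ∀ d : D, ∃ s : G, f d = (d.1.out * d.2.1 * d.1.out⁻¹) * s ∧
      Commute (d.1.out * d.2.1 * d.1.out⁻¹) s ∧ (orderOf s).Coprime (Nat.card H) := by
    intro d
    obtain ⟨y₀, a₀, r, -, h1, h2, h3, h4, h5, h6⟩ := hf d _ rfl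
    generalize d.1.out * d.2.1 * d.1.out⁻¹ = a' at h3 ⊢
    have hc := hcomm _ h1 h2 r h4
    refine ⟨y₀ * r * y₀⁻¹, ?_, ?_, ?_⟩
    · rw [h6, h3]; group
    · show a' * _ = _ * a'
      rw [h3]
      calc y₀ * a₀ * y₀⁻¹ * (y₀ * r * y₀⁻¹) = y₀ * (a₀ * r) * y₀⁻¹ := by group
        _ = y₀ * (r * a₀) * y₀⁻¹ := by rw [hc]
        _ = y₀ * r * y₀⁻¹ * (y₀ * a₀ * y₀⁻¹) := by group
    · rw [orderOf_conj']
      exact hcop _ h1 h2 r h4
  have hfinj : Function.Injective f := by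
    intro d d' hdd
    obtain ⟨s, hs1, hs2, hs3⟩ := hfdec d
    obtain ⟨s', hs1', hs2', hs3'⟩ := hfdec d'
    have hpos : ∀ x : G, 0 < orderOf x := fun x => orderOf_pos x
    have ha' : d.1.out * d.2.1 * d.1.out⁻¹ = d'.1.out * d'.2.1 * d'.1.out⁻¹ :=
      eq_of_mul_eq_mul (hn d) (hn d') hs3 hs3' (hpos _) (hpos _) hs2 hs2'
        (by rw [← hs1, ← hs1', hdd])
    obtain ⟨y₀, a₀, r, h0, h1, h2, h3, h4, h5, h6⟩ := hf d _ rfl
    obtain ⟨y₀', a₀', r', h0', h1', h2', h3', h4', h5', h6'⟩ := hf d' _ ha'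
    have hp : (y₀, a₀) = (y₀', a₀') := by rw [← h0, ← h0']
    obtain ⟨rfl, rfl⟩ := Prod.mk.injEq .. ▸ hp
    have hrr' : r = r' := by
      have : y₀ * (a₀ * r) * y₀⁻¹ = y₀ * (a₀ * r') * y₀⁻¹ := by rw [← h6, ← h6', hdd]
      have := mul_left_cancel (mul_right_cancel this)
      exact mul_left_cancel this
    have hcj : cj d.1.out H = cj d'.1.out H := by
      have e1 : cj (y₀⁻¹ * d.1.out) H = cj (y₀⁻¹ * d'.1.out) H := by
        rw [← h5, ← h5', hrr']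
      rw [cj_mul, cj_mul] at e1
      have := congrArg (cj y₀) e1
      rwa [cj_cj_inv, cj_cj_inv] at this
    have hq : d.1 = d'.1 := by
      have hm : d'.1.out⁻¹ * d.1.out ∈ M := by
        apply hN
        rw [cj_mul, hcj, cj_inv_cj]
      have : (QuotientGroup.mk d'.1.out : G ⧸ M) = QuotientGroup.mk d.1.out :=
        QuotientGroup.eq.2 hm
      rw [QuotientGroup.out_eq', QuotientGroup.out_eq'] at this
      exact this.symm
    have ha : d.2 = d'.2 := by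
      apply Subtype.ext
      have e := ha'
      rw [hq] at e
      exact mul_left_cancel (mul_right_cancel e)
    exact Prod.ext hq ha
  have hrange : Set.range f = T := by
    apply Set.eq_of_subset_of_subset
    · rintro w ⟨d, rfl⟩
      obtain ⟨y₀, a₀, r, -, h1, h2, h3, h4, h5, h6⟩ := hf d _ rfl
      exact ⟨_, h1, h2, r, h4, _, h6⟩
    · rintro w ⟨a, haH, ha1, r, hr, y, rfl⟩
      obtain ⟨a', ha'⟩ : ∃ a', a' = y * a * y⁻¹ := ⟨_, rfl⟩
      obtain ⟨k1, k2, k3⟩ := hrep a' ⟨y, a, haH, ha1, ha'⟩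
      obtain ⟨y₀, a₀, hrepa⟩ : ∃ y₀ a₀, rep a' = (y₀, a₀) := ⟨_, _, rfl⟩
      rw [hrepa] at k1 k2 k3
      simp only at k1 k2 k3
      set t := y₀⁻¹ * y with ht
      have hta : a₀ = t * a * t⁻¹ := by
        have : a₀ = y₀⁻¹ * a' * y₀ := by rw [k3]; group
        rw [this, ha', ht]; group
      have hmem : a₀ ∈ cj t H := by rw [hta]; exact conj_mem_cj haH
      obtain ⟨r₁, hr₁, hr₁c⟩ := htrans a₀ k1 k2 t hmem
      have hmM : r₁⁻¹ * t ∈ M := by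
        apply hN
        rw [cj_mul, ← hr₁c, cj_inv_cj]
      set m := r₁⁻¹ * t with hm
      have hma : m * a * m⁻¹ = a₀ := by
        have hc := hcomm a₀ k1 k2 r₁ hr₁
        have : m * a * m⁻¹ = r₁⁻¹ * (t * a * t⁻¹) * r₁ := by rw [hm]; group
        rw [this, ← hta]
        calc r₁⁻¹ * a₀ * r₁ = r₁⁻¹ * (a₀ * r₁) := by group
          _ = r₁⁻¹ * (r₁ * a₀) := by rw [hc]
          _ = a₀ := by group
      have hmr : m * r * m⁻¹ ∈ R a₀ := by
        have := hequiv m hmM a haH ha1 r hr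
        rwa [hma] at this
      set r₀ := r₁ * (m * r * m⁻¹) * r₁⁻¹ with hr₀
      have hr₀R : r₀ ∈ R a₀ := (R a₀).mul_mem ((R a₀).mul_mem hr₁ hmr) ((R a₀).inv_mem hr₁)
      have hr₀t : r₀ = t * r * t⁻¹ := by rw [hr₀, hm]; group
      have hw : y * (a * r) * y⁻¹ = y₀ * (a₀ * r₀) * y₀⁻¹ := by
        rw [hr₀t, hta, ht]; group
      -- the preimage
      obtain ⟨m', hm'⟩ := QuotientGroup.mk_out_eq_mul M (y₀ * r₀)
      set q : G ⧸ M := QuotientGroup.mk (y₀ * r₀) with hq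
      have hc₀ := hcomm a₀ k1 k2 r₀ hr₀R
      have hafin : q.out⁻¹ * a' * q.out = (m' : G)⁻¹ * a₀ * m' := by
        rw [hm', k3]
        have : (y₀ * r₀ * ↑m')⁻¹ * (y₀ * a₀ * y₀⁻¹) * (y₀ * r₀ * ↑m') =
            (m' : G)⁻¹ * (r₀⁻¹ * (a₀ * r₀)) * m' := by group
        rw [this, hc₀]; group
      have hafH : q.out⁻¹ * a' * q.out ∈ H := by
        rw [hafin]
        have := hHM m' m'.2
        have h2 : a₀ ∈ cj (m' : G) H := by rw [this]; exact k1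
        exact mem_cj.1 h2
      have haf1 : q.out⁻¹ * a' * q.out ≠ 1 := by
        intro h
        apply k2
        have h1 : a' = 1 := by
          have : a' = q.out * (q.out⁻¹ * a' * q.out) * q.out⁻¹ := by group
          rw [this, h]; group
        have h0 : a₀ = y₀⁻¹ * a' * y₀ := by rw [k3]; group
        rw [h0, h1]; group
      let d : D := (q, ⟨q.out⁻¹ * a' * q.out, hafH, haf1⟩)
      refine ⟨d, ?_⟩
      have hda' : a' = d.1.out * d.2.1 * d.1.out⁻¹ := by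
        show a' = q.out * (q.out⁻¹ * a' * q.out) * q.out⁻¹
        group
      obtain ⟨y₁, a₁, r_d, h0, h1, h2, h3, h4, h5, h6⟩ := hf d a' hda'
      have hp : (y₁, a₁) = (y₀, a₀) := by rw [← h0, ← hrepa]
      obtain ⟨rfl, rfl⟩ := Prod.mk.injEq .. ▸ hp
      have hrd : r_d = r₀ := by
        apply huniq a₁ k1 k2 r_d h4 r₀ hr₀R
        rw [h5]
        show cj (y₁⁻¹ * q.out) H = cj r₀ H
        rw [hm']
        have : y₁⁻¹ * (y₁ * r₀ * ↑m') = r₀ * m' := by group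
        rw [this, cj_mul, hHM m' m'.2]
      rw [h6, hrd, hw]
  rw [← hrange, Set.ncard_range_of_injective hfinj, Nat.card_prod, mul_comm]
  congr 1
  -- card of `H` minus one
  have e : {a : G // a ∈ H ∧ a ≠ 1} ≃ {a : H // a ≠ 1} :=
    { toFun := fun a => ⟨⟨a.1, a.2.1⟩, fun h => a.2.2 (congrArg Subtype.val h)⟩
      invFun := fun a => ⟨a.1.1, a.1.2, fun h => a.2 (Subtype.ext h)⟩
      left_inv := fun a => rfl
      right_inv := fun a => rfl }
  rw [Nat.card_congr e]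
  have : Fintype H := Fintype.ofFinite H
  rw [Nat.card_eq_fintype_card, Fintype.card_subtype_compl, Nat.card_eq_fintype_card]
  simp

end Cfsg.Agent.Helper31.TildeCount
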