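import Mathlib
import Cfsg.Agent.Helper31.BG1436Data
import Cfsg.Agent.Helper57.BG145A
import Cfsg.Agent.Helper68.BG12A
import Cfsg.Agent.Helper71.BGHall
import Cfsg.Agent.S1404
import Cfsg.Agent.S1418

/-!
# S1436(b): conjugacy under `M` (helper31)

Let `x, y ∈ M_σ#` with `C_G(x), C_G(y) ≰ M`, `N ⊇ C_G(x)`, `N' ⊇ C_G(y)` maximal, and
`g N' g⁻¹ = N`.  Then `m N' m⁻¹ = N` for some `m ∈ M`.

Hypotheses: `H1430`, `H1432`, `H1375` (for `data_of_1375`), `HSP` (the σ-partition), and the landed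
S1404, S1418.

* `eq_of_normalizer_le`: for `q ∈ σ(M)` and `A ≤ M` elementary abelian of order `q²`, `M` is the only
  maximal subgroup containing `N_G(A)`.
* `exists_mem_conj_eq`: the statement (b).
-/

set_option autoImplicit false
set_option linter.unusedSectionVars false
set_option linter.unusedVariables false
set_option linter.style.haveILetI false

namespace Cfsg.Agent.Helper31.BG1436Lite

open Cfsg Cfsg.Agent.Helper29 Cfsg.Agent.Helper29.BG10 Cfsg.Agent.Helper29.BG11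
  Cfsg.Agent.Helper71.BGHall Cfsg.Agent.Helper71.BG11 Cfsg.Agent.Helper48.BG142
  Cfsg.Agent.Helper60.BGAsm
open scoped Pointwise

universe u

variable {G : Type u} [Group G] [Finite G]

/-- a maximal subgroup is self-normalizing (in the `cj` form) -/
theorem mem_of_cj_eq_self (hG : Cfsg.IsMinSimpleOddOrder G) {M : Subgroup G} (hM : IsCoatom M)
    {g : G} (h : BG10.cj g M = M) : g ∈ M := by
  have hU := uniquenessThm hG
  apply Cfsg.Agent.Helper57.BG145.mem_of_cj_sigmaCore_eq hG hU hM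
  rw [← BG11.sigmaCore_cj hG hU hM g, h]

theorem ne_bot_of_card_sq {A : Subgroup G} {q : ℕ} (hq : q.Prime) (hA2 : Nat.card A = q ^ 2) :
    A ≠ ⊥ := by
  intro h
  rw [h, Subgroup.card_bot] at hA2
  have := Nat.one_lt_pow two_ne_zero hq.one_lt
  omega

/-- **uniqueness over `N_G(A)`**: for `q ∈ σ(M)` and `A ≤ M` elementary abelian of order `q²`, the
maximal subgroup `M` is the only one containing `N_G(A)`. -/
theorem eq_of_normalizer_le (hG : Cfsg.IsMinSimpleOddOrder G) (hSP : HSP G) {M L A : Subgroup G}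
    (hM : IsCoatom M) (hL : IsCoatom L) {q : ℕ} (hq : q ∈ Cfsg.sigma M) (hAM : A ≤ M)
    (hAe : Cfsg.IsElementaryAbelian q A) (hA2 : Nat.card A = q ^ 2)
    (hNL : Subgroup.normalizer (A : Set G) ≤ L) : L = M := by
  classical
  have hU := uniquenessThm hG
  haveI : Fact q.Prime := ⟨hq.1⟩
  have hAq : IsPGroup q A := BG10.isPGroup_of_isElementaryAbelian hAe
  have hA1 : A ≠ ⊥ := ne_bot_of_card_sq hq.1 hA2
  have hAL : A ≤ L := Subgroup.le_normalizer.trans hNL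
  by_cases hqL : q ∈ Cfsg.sigma L
  · obtain ⟨h, hh⟩ := hSP M L hM hL ⟨q, hq, hqL⟩
    have hL' : L = BG10.cj h M := hh
    have h1 : A.map (MulAut.conj h⁻¹).toMonoidHom ≤ M := by
      change BG10.cj h⁻¹ A ≤ M
      rw [BG10.cj_le_iff, inv_inv, ← hL']; exact hAL
    obtain ⟨m, hm, c, hc, hmc⟩ := (Cfsg.Agent.S1404.result hG M hM q hq A hAq hA1 hAM).1 h⁻¹ h1
    have hcL : c ∈ L := hNL (Subgroup.centralizer_le_normalizer _ hc)
    have hh2 : h = c⁻¹ * m⁻¹ := by rw [← mul_inv_rev, ← hmc, inv_inv]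
    have h3 : L = BG10.cj c⁻¹ M := by
      rw [hL', hh2, BG10.cj_mul, BG10.cj_eq_self_of_mem (M.inv_mem hm)]
    have h4 : BG10.cj c L = L := BG10.cj_eq_self_of_mem hcL
    rw [h3, BG10.cj_cj_inv] at h4
    exact h3.trans h4.symm
  · exfalso
    have hr2 : Cfsg.PRankLE q 2 ↥L := by
      by_contra hc
      exact hqL (BG10.alpha_subset_sigma hG hU hL ⟨hq.1, hc⟩)
    have hr1 : ¬ Cfsg.PRankLE q 1 ↥L := by
      rw [Cfsg.Agent.Helper23.not_pRankLE_subgroup_iff]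
      refine ⟨A, hAL, hAe, ?_⟩
      rw [hA2, pow_one]
      have := hq.1.one_lt
      nlinarith
    have hτ : q ∈ Cfsg.tau2 L := ⟨hq.1, hqL, hr2, hr1⟩
    obtain ⟨E, hE, hAE⟩ := exists_isComplIn_sigmaCore_ge hG hU hL hAL (by
      intro p hp hd
      rw [hA2] at hd
      have := (Nat.prime_dvd_prime_iff_eq hp hq.1).1 (hp.dvd_of_dvd_pow hd)
      rw [this]; exact hqL)
    exact (Cfsg.Agent.S1418.result hG L hL E hE q hτ A ⟨hAE, hAe, hA2⟩).2.1.2.2 hNL

/-- **S1436(b)**. -/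
theorem exists_mem_conj_eq (hG : Cfsg.IsMinSimpleOddOrder G) (h30 : H1430 G) (h32 : H1432 G)
    (hSP : HSP G) (h75 : H1375 G) {M N N' : Subgroup G} (hM : IsCoatom M) (hN : IsCoatom N)
    {x y g : G} (hx : x ∈ Cfsg.sigmaCore M) (hx1 : x ≠ 1)
    (hxM : ¬ Subgroup.centralizer ({x} : Set G) ≤ M)
    (hxN : Subgroup.centralizer ({x} : Set G) ≤ N)
    (hy : y ∈ Cfsg.sigmaCore M) (hy1 : y ≠ 1)
    (hyM : ¬ Subgroup.centralizer ({y} : Set G) ≤ M)
    (hyN' : Subgroup.centralizer ({y} : Set G) ≤ N')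
    (hg : N'.map (MulAut.conj g).toMonoidHom = N) :
    ∃ m ∈ M, N'.map (MulAut.conj m).toMonoidHom = N := by
  classical
  have hU := uniquenessThm hG
  haveI : Group.IsSolvable ↥N := hG.2.2.2 N hN.1
  obtain ⟨hcompl, hq⟩ := data_of_1375 hG h30 h32 h75 hM hN hx hx1 hxM hxN
  have hox : orderOf x ≠ 1 := fun h => hx1 (orderOf_eq_one_iff.1 h)
  obtain ⟨q, hqp, hqd⟩ := Nat.exists_prime_and_dvd hox
  obtain ⟨hqM, hqN⟩ := hq q hqp hqd
  haveI : Fact q.Prime := ⟨hqp⟩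
  have hgN : BG10.cj g N' = N := hg
  -- the conjugates `M' = g M g⁻¹`, `y' = g y g⁻¹`
  have hM' : IsCoatom (BG10.cj g M) := BG11.isCoatom_cj hM g
  have hy' : g * y * g⁻¹ ∈ Cfsg.sigmaCore (BG10.cj g M) := by
    rw [BG11.sigmaCore_cj hG hU hM g]
    exact BG10.conj_mem_cj hy
  have hy'1 : g * y * g⁻¹ ≠ 1 := by
    intro h; apply hy1
    have : y = g⁻¹ * (g * y * g⁻¹) * g := by group
    rw [this, h]; group
  have hcen : Subgroup.centralizer ({g * y * g⁻¹} : Set G)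
      = BG10.cj g (Subgroup.centralizer ({y} : Set G)) := Cfsg.Agent.Helper57.BG145.cen_conj g y
  have hy'N : Subgroup.centralizer ({g * y * g⁻¹} : Set G) ≤ N := by
    rw [hcen, ← hgN]; exact BG10.cj_mono hyN'
  have hy'M : ¬ Subgroup.centralizer ({g * y * g⁻¹} : Set G) ≤ BG10.cj g M := by
    rw [hcen, BG10.cj_le_cj_iff]; exact hyM
  obtain ⟨hcompl', -⟩ := data_of_1375 hG h30 h32 h75 hM' hN hy' hy'1 hy'M hy'N
  -- the two complements are conjugate under `N`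
  have hH1 := isPiHallOf_of_isComplIn hG hN hcompl
  have hH2 := isPiHallOf_of_isComplIn hG hN hcompl'
  obtain ⟨n, hnN, hn⟩ := Cfsg.Agent.Helper62.isPiHallOf_conj_of_solvable hH1 hH2
  have hn' : BG10.cj n (M ⊓ N) = BG10.cj g M ⊓ N := hn
  -- `A = E_{q²} ≤ M ∩ N`
  obtain ⟨A, hAE, hAe, hA2⟩ := exists_elementaryAbelian_sq_le_compl
    (Cfsg.Agent.Helper68.BG12.eCtx_of hG hU hN hcompl) hqN.2.1 hqN.2.2.1 hqN.2.2.2
  have hAM : A ≤ M := hAE.trans inf_le_left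
  have hA1 : A ≠ ⊥ := ne_bot_of_card_sq hqp hA2
  have hAtop : A ≠ ⊤ := fun h => hM.1 (top_le_iff.1 (h ▸ hAM))
  obtain ⟨L0, hL0, hNL0⟩ := exists_coatom_normalizer_le hG hA1 hAtop
  have hL0M : L0 = M := eq_of_normalizer_le hG hSP hM hL0 hqM hAM hAe hA2 hNL0
  have hNAM : Subgroup.normalizer (A : Set G) ≤ M := hL0M ▸ hNL0
  -- `A' = n A n⁻¹ ≤ M'`
  have hA'M' : BG10.cj n A ≤ BG10.cj g M :=
    ((BG10.cj_mono hAE).trans hn'.le).trans inf_le_left
  have hqM' : q ∈ Cfsg.sigma (BG10.cj g M) := by rw [BG11.sigma_cj]; exact hqM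
  have hA'e : Cfsg.IsElementaryAbelian q (BG10.cj n A) :=
    Cfsg.Agent.Helper23.isElementaryAbelian_map _ hAe
  have hA'2 : Nat.card (BG10.cj n A) = q ^ 2 := by rw [BG10.card_cj, hA2]
  have hNA' : Subgroup.normalizer ((BG10.cj n A : Subgroup G) : Set G) ≤ BG10.cj n M := by
    rw [BG10.normalizer_cj]; exact BG10.cj_mono hNAM
  have hEq : BG10.cj n M = BG10.cj g M :=
    eq_of_normalizer_le hG hSP hM' (BG11.isCoatom_cj hM n) hqM' hA'M' hA'e hA'2 hNA'
  have hm : n⁻¹ * g ∈ M := by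
    apply mem_of_cj_eq_self hG hM
    rw [BG10.cj_mul, ← hEq, BG10.cj_inv_cj]
  refine ⟨n⁻¹ * g, hm, ?_⟩
  change BG10.cj (n⁻¹ * g) N' = N
  rw [BG10.cj_mul, hgN, BG10.cj_eq_self_of_mem (N.inv_mem hnN)]

end Cfsg.Agent.Helper31.BG1436Lite
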