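import Mathlib
import Cfsg.Prelude.Def_OddOrderLocal
import Cfsg.Agent.Helper2.CyclicP
import Cfsg.Agent.Helper23.Basic

/-!
# Small standalone lemmas for Step 3 of S1436(a) (helper31)

* `exists_commute_of_mem_kappa`: if `s ∈ κ(N)` then every element of order `s` of `N` centralizes a
  non-identity element of `N_σ`.
-/

set_option autoImplicit false
set_option linter.unusedSectionVars false
set_option linter.unusedVariables false
set_option linter.style.haveILetI false

namespace Cfsg.Agent.Helper31.BG1436T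

open Cfsg

universe u

variable {G : Type u} [Group G] [Finite G]

/-- if `s ∈ κ(N)`, every element of order `s` of `N` centralizes a non-identity element of `N_σ` -/
theorem exists_commute_of_mem_kappa {N : Subgroup G} {s : ℕ} (hs : s ∈ Cfsg.kappa N) {b : G}
    (hbN : b ∈ N) (hb : orderOf b = s) :
    ∃ y ∈ Cfsg.sigmaCore N, y ≠ 1 ∧ b * y = y * b := by
  classical
  haveI : Fact s.Prime := ⟨hs.1⟩
  set b' : ↥N := ⟨b, hbN⟩ with hb'
  have hb's : orderOf b' = s := by rw [← hb]; exact Subgroup.orderOf_mk b hbN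
  have hZ : IsPGroup s (Subgroup.zpowers b') :=
    IsPGroup.of_card (n := 1) (by rw [Nat.card_zpowers, hb's, pow_one])
  obtain ⟨P, hP⟩ := hZ.exists_le_sylow
  obtain ⟨hcyc, x, hxP, hx1, y, hy, hy1, hxy⟩ := hs.2.2.2 P
  haveI := hcyc
  set xP : ↥(P : Subgroup ↥N) := ⟨x, hxP⟩ with hxPdef
  set bP : ↥(P : Subgroup ↥N) := ⟨b', hP (Subgroup.mem_zpowers b')⟩ with hbPdef
  have hxP1 : xP ≠ 1 := fun h => hx1 (congrArg Subtype.val h)
  obtain ⟨k, hk⟩ := (IsPGroup.iff_orderOf.1 P.isPGroup') xP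
  have hk0 : k ≠ 0 := by
    rintro rfl
    rw [pow_zero, orderOf_eq_one_iff] at hk
    exact hxP1 hk
  have hsd : s ∣ orderOf xP := by rw [hk]; exact dvd_pow_self s hk0
  have hx0 : orderOf (xP ^ (orderOf xP / s)) = s :=
    orderOf_pow_orderOf_div (orderOf_pos xP).ne' hsd
  have hbPs : bP ^ s = 1 := by
    have h1 : b' ^ s = 1 := by rw [← hb's]; exact pow_orderOf_eq_one b'
    apply Subtype.ext
    rw [Subgroup.coe_pow, Subgroup.coe_one]
    exact h1
  have hmem := Cfsg.Agent.Helper2.mem_zpowers_of_pow_eq_one_of_isCyclic hs.1.pos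
    (xP ^ (orderOf xP / s)) bP hx0 hbPs
  obtain ⟨j, hj⟩ := Subgroup.mem_zpowers_iff.1 hmem
  have hbx : b = ((x : G) ^ (orderOf xP / s)) ^ j := by
    have := congrArg (fun z : ↥(P : Subgroup ↥N) => ((z : ↥N) : G)) hj
    simpa using this.symm
  refine ⟨y, hy, hy1, ?_⟩
  have hc : Commute (x : G) y := hxy
  rw [hbx]
  exact ((hc.pow_left _).zpow_left j).eq

/-- **trichotomy** for an element `a` (with `a ^ r = 1`, `r` prime to `s`) normalizing an elementary
abelian group `B` of order `s²`: `C_B(a) = 1`, or `a` centralizes `B`, or there is an `a`-invariant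
subgroup `F ≤ B` of order `s` with `C_F(a) = 1`. -/
theorem fixed_trichotomy {B : Subgroup G} {s r : ℕ} [hs : Fact s.Prime]
    (hBe : Cfsg.IsElementaryAbelian s B) (hB2 : Nat.card B = s ^ 2) {a : G}
    (haB : a ∈ Subgroup.normalizer (B : Set G)) (har : a ^ r = 1) (hrs : r.Coprime s) :
    B ⊓ Subgroup.centralizer ({a} : Set G) = ⊥ ∨ B ≤ Subgroup.centralizer ({a} : Set G) ∨
      (Nat.card ↥(B ⊓ Subgroup.centralizer ({a} : Set G)) = s ∧
      ∃ F : Subgroup G, F ≤ B ∧ Nat.card F = s ∧ a ∈ Subgroup.normalizer (F : Set G) ∧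
        F ⊓ Subgroup.centralizer ({a} : Set G) = ⊥) := by
  classical
  have hcomm : ∀ x ∈ B, ∀ y ∈ B, x * y = y * x :=
    (Cfsg.Agent.Helper23.isMulCommutative_subgroup_iff B).1 hBe.1
  have hconj : ∀ x ∈ B, a * x * a⁻¹ ∈ B := fun x hx => (Subgroup.mem_normalizer_iff.1 haB x).1 hx
  -- the commutator map
  let φ : ↥B →* G := MonoidHom.mk' (fun b => (b : G)⁻¹ * (a * b * a⁻¹)) (by
    intro b c
    have h1 : a * (b : G) * a⁻¹ ∈ B := hconj _ b.2
    have e : a * ((b : G) * (c : G)) * a⁻¹ = (a * b * a⁻¹) * (a * c * a⁻¹) := by group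
    have hc1 : (c : G)⁻¹ * ((b : G)⁻¹ * (a * b * a⁻¹)) = ((b : G)⁻¹ * (a * b * a⁻¹)) * (c : G)⁻¹ :=
      hcomm _ (B.inv_mem c.2) _ (B.mul_mem (B.inv_mem b.2) h1)
    show ((b * c : ↥B) : G)⁻¹ * (a * ((b * c : ↥B) : G) * a⁻¹)
      = (b : G)⁻¹ * (a * b * a⁻¹) * ((c : G)⁻¹ * (a * c * a⁻¹))
    rw [Subgroup.coe_mul, e, mul_inv_rev]
    calc (c : G)⁻¹ * (b : G)⁻¹ * (a * b * a⁻¹ * (a * c * a⁻¹))
        = ((c : G)⁻¹ * ((b : G)⁻¹ * (a * b * a⁻¹))) * (a * c * a⁻¹) := by group
      _ = ((b : G)⁻¹ * (a * b * a⁻¹)) * (c : G)⁻¹ * (a * c * a⁻¹) := by rw [hc1]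
      _ = (b : G)⁻¹ * (a * b * a⁻¹) * ((c : G)⁻¹ * (a * c * a⁻¹)) := by group)
  have hφ : ∀ b : ↥B, φ b = (b : G)⁻¹ * (a * b * a⁻¹) := fun b => rfl
  have hφB : ∀ b : ↥B, φ b ∈ B := fun b => B.mul_mem (B.inv_mem b.2) (hconj _ b.2)
  -- kernel = fixed points
  have hker : φ.ker.map B.subtype = B ⊓ Subgroup.centralizer ({a} : Set G) := by
    ext z
    constructor
    · rintro ⟨b, hb, rfl⟩
      rw [SetLike.mem_coe, MonoidHom.mem_ker, hφ] at hb
      refine Subgroup.mem_inf.2 ⟨b.2, ?_⟩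
      rw [Subgroup.mem_centralizer_iff]
      intro w hw
      rw [Set.mem_singleton_iff.1 hw]
      have h2 : a * (b : G) * a⁻¹ = b := by
        have := congrArg (fun t => (b : G) * t) hb
        simpa [mul_assoc] using this
      show a * (b : G) = (b : G) * a
      calc a * (b : G) = a * b * a⁻¹ * a := by group
        _ = b * a := by rw [h2]
    · intro hz
      obtain ⟨hzB, hzC⟩ := Subgroup.mem_inf.1 hz
      refine ⟨⟨z, hzB⟩, ?_, rfl⟩
      rw [SetLike.mem_coe, MonoidHom.mem_ker, hφ]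
      have h2 : a * z = z * a := Subgroup.mem_centralizer_iff.1 hzC a (Set.mem_singleton a)
      show z⁻¹ * (a * z * a⁻¹) = 1
      rw [h2]; group
  have hcardker : Nat.card φ.ker = Nat.card ↥(B ⊓ Subgroup.centralizer ({a} : Set G)) := by
    rw [← hker, Subgroup.card_map_of_injective B.subtype_injective]
  have hprod : Nat.card φ.range * Nat.card ↥(B ⊓ Subgroup.centralizer ({a} : Set G)) = s ^ 2 := by
    rw [← hcardker, ← hB2, ← Subgroup.index_ker, mul_comm]
    exact Subgroup.card_mul_index φ.ker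
  have hdvd : Nat.card ↥(B ⊓ Subgroup.centralizer ({a} : Set G)) ∣ s ^ 2 :=
    Dvd.intro_left _ hprod
  obtain ⟨k, hk2, hk⟩ := (Nat.dvd_prime_pow hs.out).1 hdvd
  have hspos : 0 < s := hs.out.pos
  interval_cases k
  · left
    rw [pow_zero] at hk
    exact Subgroup.card_eq_one.1 hk
  · right; right
    rw [pow_one] at hk
    have hrange : Nat.card φ.range = s := by
      rw [hk] at hprod
      have : Nat.card φ.range * s = s * s := by rw [hprod]; ring
      exact Nat.eq_of_mul_eq_mul_right hspos this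
    have hFB : φ.range ≤ B := by
      rintro _ ⟨b, rfl⟩
      exact hφB b
    have hnorm : ∀ z ∈ φ.range, a * z * a⁻¹ ∈ φ.range := by
      rintro _ ⟨b, rfl⟩
      refine ⟨⟨a * b * a⁻¹, hconj _ b.2⟩, ?_⟩
      rw [hφ, hφ]
      show (a * (b : G) * a⁻¹)⁻¹ * (a * (a * b * a⁻¹) * a⁻¹) = a * ((b : G)⁻¹ * (a * b * a⁻¹)) * a⁻¹
      group
    refine ⟨hk, φ.range, hFB, hrange, Subgroup.mem_normalizer_fintype hnorm, ?_⟩
    rw [eq_bot_iff]
    rintro z ⟨⟨b, rfl⟩, hzC⟩
    rw [Subgroup.mem_bot]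
    set z := φ b with hz
    have hzB : z ∈ B := hφB b
    have haz : a * z = z * a := Subgroup.mem_centralizer_iff.1 hzC a (Set.mem_singleton a)
    have hab : a * (b : G) * a⁻¹ = b * z := by rw [hz, hφ]; group
    have hpow : ∀ i : ℕ, a ^ i * (b : G) * (a ^ i)⁻¹ = b * z ^ i := by
      intro i
      induction i with
      | zero => simp
      | succ i ih =>
        have hzi : a * z ^ i * a⁻¹ = z ^ i := by
          have : Commute a (z ^ i) := (show Commute a z from haz).pow_right i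
          rw [this.eq]; group
        calc a ^ (i + 1) * (b : G) * (a ^ (i + 1))⁻¹
            = a * (a ^ i * (b : G) * (a ^ i)⁻¹) * a⁻¹ := by rw [pow_succ']; group
          _ = a * (b * z ^ i) * a⁻¹ := by rw [ih]
          _ = (a * b * a⁻¹) * (a * z ^ i * a⁻¹) := by group
          _ = b * z * z ^ i := by rw [hab, hzi]
          _ = b * z ^ (i + 1) := by rw [pow_succ', mul_assoc]
    have hzr : z ^ r = 1 := by
      have := hpow r
      rw [har] at this
      simpa using this.symm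
    have hzs : z ^ s = 1 := hBe.2 z hzB
    have h1 : orderOf z ∣ r := orderOf_dvd_of_pow_eq_one hzr
    have h2 : orderOf z ∣ s := orderOf_dvd_of_pow_eq_one hzs
    exact orderOf_eq_one_iff.1 (Nat.eq_one_of_dvd_coprimes hrs h1 h2)
  · right; left
    have hle : B ⊓ Subgroup.centralizer ({a} : Set G) ≤ B := inf_le_left
    have heq : B ⊓ Subgroup.centralizer ({a} : Set G) = B :=
      Subgroup.eq_of_le_of_card_ge hle (by rw [hk, hB2])
    rw [← heq]; exact inf_le_right

/-- for `s ∈ κ(N)`, every `s`-subgroup of `N` is cyclic -/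
theorem isCyclic_of_mem_kappa {N B : Subgroup G} {s : ℕ} (hs : s ∈ Cfsg.kappa N) (hBN : B ≤ N)
    (hB : IsPGroup s B) : IsCyclic ↥B := by
  haveI : Fact s.Prime := ⟨hs.1⟩
  have hB' : IsPGroup s (B.subgroupOf N) := hB.comap_subtype
  obtain ⟨P, hP⟩ := hB'.exists_le_sylow
  haveI : IsCyclic ↥(P : Subgroup ↥N) := (hs.2.2.2 P).1
  have e1 : ↥((B.subgroupOf N).subgroupOf (P : Subgroup ↥N)) ≃* ↥(B.subgroupOf N) :=
    Subgroup.subgroupOfEquivOfLe hP
  have e2 : ↥(B.subgroupOf N) ≃* ↥B := Subgroup.subgroupOfEquivOfLe hBN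
  exact isCyclic_of_surjective (e1.trans e2) (e1.trans e2).surjective

/-- for `s ∈ κ(N)`, `N` contains no elementary abelian subgroup of order `s²` -/
theorem not_le_of_mem_kappa {N B : Subgroup G} {s : ℕ} (hs : s ∈ Cfsg.kappa N) (hBN : B ≤ N)
    (hBe : Cfsg.IsElementaryAbelian s B) (hB2 : Nat.card B = s ^ 2) : False := by
  have hsp : s.Prime := hs.1
  have hB : IsPGroup s B := by
    intro g
    refine ⟨1, ?_⟩
    apply Subtype.ext
    simpa using hBe.2 g.1 g.2
  haveI := isCyclic_of_mem_kappa hs hBN hB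
  obtain ⟨g, hg⟩ := IsCyclic.exists_generator (α := ↥B)
  have h1 : orderOf g = Nat.card ↥B := orderOf_eq_card_of_forall_mem_zpowers hg
  have h2 : g ^ s = 1 := by
    apply Subtype.ext
    rw [Subgroup.coe_pow, Subgroup.coe_one]
    exact hBe.2 g.1 g.2
  have h3 : orderOf g ∣ s := orderOf_dvd_of_pow_eq_one h2
  rw [h1, hB2] at h3
  have h4 : s ^ 2 ≤ s := Nat.le_of_dvd hsp.pos h3
  have := hsp.one_lt
  nlinarith

end Cfsg.Agent.Helper31.BG1436T
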