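import Mathlib
import Cfsg.Agent.Helper31.BG1436Data
import Cfsg.Agent.Helper31.BG1436T
import Cfsg.Agent.Helper54.BG1213Frob
import Cfsg.Agent.S1417
import Cfsg.Agent.S1418

/-!
# S1436(a), Step 3: `τ₂(M) = ∅` (helper31)

Setting: `x ∈ M_σ#`, `C_G(x) ≰ M`, `C_G(x) ≤ N`, `r ∈ σ(N)`, `r ∣ |M|`.

* `exists_conj_centralizer_le`: for `u ∈ M` of order `r`: `M_σ` is nilpotent and some conjugate
  `Nt` of `N` has `u ∈ Nt_σ` and `C_G(u) ≤ Nt` (because `r ∈ β(N)`).
* `tau2_eq_empty'`: `τ₂(M) = ∅`.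
-/

set_option autoImplicit false
set_option linter.unusedSectionVars false
set_option linter.unusedVariables false
set_option linter.style.haveILetI false

namespace Cfsg.Agent.Helper31.BG1436Lite

open Cfsg Cfsg.Agent.Helper29 Cfsg.Agent.Helper29.BG10 Cfsg.Agent.Helper29.BG11
  Cfsg.Agent.Helper71.BGHall Cfsg.Agent.Helper71.BG11 Cfsg.Agent.Helper48.BG142
  Cfsg.Agent.Helper60.BGAsm Cfsg.Agent.Helper31.BG1436T
open scoped Pointwise

universe u

variable {G : Type u} [Group G] [Finite G]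

/-- for `u ∈ M` of order `r ∈ σ(N)`: `M_σ` is nilpotent, and a conjugate `Nt` of `N` has
`u ∈ Nt_σ` and `C_G(u) ≤ Nt`. -/
theorem exists_conj_centralizer_le (hG : Cfsg.IsMinSimpleOddOrder G) (h30 : H1430 G)
    (h31 : H1431 G) (h32 : H1432 G) (hSP : HSP G) {M N : Subgroup G} (hM : IsCoatom M)
    (hN : IsCoatom N) (hcompl : Cfsg.IsComplIn (M ⊓ N) (Cfsg.sigmaCore N) N) {q : ℕ}
    (hqM : q ∈ Cfsg.sigma M) (hqN : q ∈ Cfsg.tau2 N) {r : ℕ} (hr : r ∈ Cfsg.sigma N) {u : G}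
    (huM : u ∈ M) (hu : orderOf u = r) :
    Group.IsNilpotent ↥(Cfsg.sigmaCore M) ∧
      ∃ a : G, u ∈ Cfsg.sigmaCore (BG10.cj a⁻¹ N) ∧
        Subgroup.centralizer ({u} : Set G) ≤ BG10.cj a⁻¹ N := by
  classical
  have hU := uniquenessThm hG
  have hnc := not_conj_of_sigma_tau2 (G := G) hqM hqN
  have hrp : r.Prime := hr.1
  haveI : Fact r.Prime := ⟨hrp⟩
  have hu1 : u ≠ 1 := by
    intro h; rw [h, orderOf_one] at hu; exact hrp.one_lt.ne hu
  have hrM : r ∉ Cfsg.sigma M := by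
    intro h
    obtain ⟨g, hg⟩ := hSP M N hM hN ⟨r, h, hr⟩
    exact hnc g hg
  have hi : ∀ e ∈ Subgroup.zpowers u, e ≠ 1 →
      Cfsg.sigmaCore M ⊓ Subgroup.centralizer ({e} : Set G) = ⊥ := fun e he he1 =>
    centralizer_eq_bot_of_sigma hG h30 h31 h32 hSP hM hN hcompl hqM hqN hr
      ((Subgroup.zpowers_le.2 huM) he) (orderOf_eq_of_mem_zpowers hrp hu he he1)
  have hnil : Group.IsNilpotent ↥(Cfsg.sigmaCore M) := by
    apply Cfsg.Agent.Helper62.FrobAct.isNilpotent_of_fpf (Cfsg.sigmaCore M) (Subgroup.zpowers u)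
    · intro h
      have : u ∈ Subgroup.zpowers u := Subgroup.mem_zpowers u
      rw [h, Subgroup.mem_bot] at this; exact hu1 this
    · intro e he v hv
      exact Cfsg.Agent.Helper68.BG12.conj_mem_sigmaCore ((Subgroup.zpowers_le.2 huM) he) hv
    · intro e he he1 v hv hev
      have : v ∈ Cfsg.sigmaCore M ⊓ Subgroup.centralizer ({e} : Set G) := by
        refine Subgroup.mem_inf.2 ⟨hv, ?_⟩
        rw [Subgroup.mem_centralizer_iff]
        intro z hz
        rw [Set.mem_singleton_iff.1 hz]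
        exact hev
      rw [hi e he he1, Subgroup.mem_bot] at this
      exact this
  refine ⟨hnil, ?_⟩
  -- the ordering: `r < q`
  have hqβ : q ∉ Cfsg.beta M :=
    Cfsg.Agent.Helper31.BGNoMutualTau2.not_mem_beta_of_mem_tau2 hG hN hqN M
  have hcentU : Cfsg.sigmaCore M ⊓ Subgroup.centralizer ((Subgroup.zpowers u : Subgroup G) : Set G) = ⊥ := by
    rw [eq_bot_iff, ← hi u (Subgroup.mem_zpowers u) hu1]
    exact inf_le_inf_left _ (centralizer_zpowers_le_singleton u)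
  have hPu : IsPGroup r (Subgroup.zpowers u) := by
    apply IsPGroup.of_card (n := 1)
    rw [Nat.card_zpowers, hu, pow_one]
  have h1 : r ≤ q :=
    Cfsg.Agent.Helper31.BGNoMutualTau2.le_of_mem_sigma_of_centralizer_eq_bot hG hM hqM hqβ hnil
      (Subgroup.zpowers_le.2 huM) hPu hcentU
  have hrq : r ≠ q := fun h => hrM (h ▸ hqM)
  -- `r ∈ β(N)`
  have hrβ : r ∈ Cfsg.beta N := by
    by_contra hrβ
    obtain ⟨A, hAN, hAe, hA2⟩ := Cfsg.Agent.Helper31.BGNoMutualTau2.exists_ea2_of_mem_tau2 hqN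
    haveI : Fact q.Prime := ⟨hqN.1⟩
    have h17 := Cfsg.Agent.S1417.result hG N hN q hqN A ⟨hAN, hAe, hA2⟩
    have h2 : q ≤ r :=
      Cfsg.Agent.Helper31.BGNoMutualTau2.le_of_mem_sigma_of_centralizer_eq_bot hG hN hr hrβ h17.1
        hAN (Cfsg.Agent.Helper29.BG10.isPGroup_of_isElementaryAbelian hAe) h17.2.2.2.1
    omega
  -- a conjugate `Nt` of `N` with `u ∈ Nt_σ`
  obtain ⟨Q, hQN, -, hQtop, -⟩ := BG11.exists_sylow_of_mem_sigma hr
  obtain ⟨a, -, ha⟩ := Cfsg.Agent.Helper84.exists_conj_le_of_relIndex (⊤ : Subgroup G) Q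
    (Subgroup.zpowers u) le_top hQtop.2.1 hQtop.2.2 le_top hPu
  have hau : a * u * a⁻¹ ∈ Cfsg.sigmaCore N :=
    BG11.le_sigmaCore_of_isPGroup hG hU hN hr hQN.2.1 hQN.1 (ha u (Subgroup.mem_zpowers u))
  refine ⟨a, ?_, ?_⟩
  · rw [BG11.sigmaCore_cj hG hU hN a⁻¹, BG10.mem_cj, inv_inv]; exact hau
  -- S1423 for `N` and `X' = a ⟨u⟩ a⁻¹`
  set X' : Subgroup G := BG10.cj a (Subgroup.zpowers u) with hX'
  have hX'N : X' ≤ N := by
    intro z hz
    rw [hX', BG10.mem_cj] at hz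
    have := hQN.1 (ha _ hz)
    have e : a * (a⁻¹ * z * a) * a⁻¹ = z := by group
    rwa [e] at this
  have hX'card : Nat.card X' = r := by
    rw [hX', BG10.card_cj, Nat.card_zpowers, hu]
  have h23 := (Cfsg.Agent.S1423.result hG N hN r hr X' hX'N hX'card
    (Classical.arbitrary _) (Or.inl hrβ)).1
  intro c hc
  rw [BG10.mem_cj, inv_inv]
  apply h23.1
  rw [Subgroup.mem_centralizer_iff]
  intro z hz
  rw [SetLike.mem_coe, hX', BG10.mem_cj] at hz
  obtain ⟨k, hk⟩ := Subgroup.mem_zpowers_iff.1 hz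
  have hcu : Commute u c := Subgroup.mem_centralizer_iff.1 hc u (Set.mem_singleton u)
  have hck : u ^ k * c = c * u ^ k := (hcu.zpow_left k).eq
  have ez : z = a * u ^ k * a⁻¹ := by rw [hk]; group
  rw [ez]
  calc a * u ^ k * a⁻¹ * (a * c * a⁻¹) = a * (u ^ k * c) * a⁻¹ := by group
    _ = a * (c * u ^ k) * a⁻¹ := by rw [hck]
    _ = a * c * a⁻¹ * (a * u ^ k * a⁻¹) := by group

/-- **S1436(a), `τ₂` part**: if some prime of `σ(N)` divides `|M|` then `τ₂(M) = ∅`. -/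
theorem tau2_eq_empty' (hG : Cfsg.IsMinSimpleOddOrder G) (h30 : H1430 G)
    (h31 : H1431 G) (h32 : H1432 G) (hSP : HSP G) (h75 : H1375 G) {M N : Subgroup G}
    (hM : IsCoatom M) (hN : IsCoatom N) {x : G} (hx : x ∈ Cfsg.sigmaCore M) (hx1 : x ≠ 1)
    (hxM : ¬ Subgroup.centralizer ({x} : Set G) ≤ M)
    (hxN : Subgroup.centralizer ({x} : Set G) ≤ N) {r : ℕ} (hr : r ∈ Cfsg.sigma N)
    (hrM : r ∣ Nat.card ↥M) : Cfsg.tau2 M = ∅ := by
  classical
  have hU := uniquenessThm hG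
  obtain ⟨hcompl, hq⟩ := data_of_1375 hG h30 h32 h75 hM hN hx hx1 hxM hxN
  have hox : orderOf x ≠ 1 := fun h => hx1 (orderOf_eq_one_iff.1 h)
  obtain ⟨q, hqp, hqd⟩ := Nat.exists_prime_and_dvd hox
  obtain ⟨hqM, hqN⟩ := hq q hqp hqd
  haveI : Fact q.Prime := ⟨hqp⟩
  -- the element `x₀` of order `q`
  set x₀ : G := x ^ (orderOf x / q) with hx₀
  have hx₀q : orderOf x₀ = q := by
    rw [hx₀]; exact orderOf_pow_orderOf_div (orderOf_pos x).ne' hqd
  have hx₀1 : x₀ ≠ 1 := by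
    intro h; rw [h, orderOf_one] at hx₀q; exact hqp.one_lt.ne hx₀q
  have hx₀σ : x₀ ∈ Cfsg.sigmaCore M := Subgroup.pow_mem _ hx _
  have hCle : Subgroup.centralizer ({x} : Set G) ≤ Subgroup.centralizer ({x₀} : Set G) :=
    centralizer_singleton_le_pow x _
  have hx₀M : ¬ Subgroup.centralizer ({x₀} : Set G) ≤ M := fun h => hxM (hCle.trans h)
  have hx₀N : Subgroup.centralizer ({x₀} : Set G) ≤ N := by
    obtain ⟨N₁, ⟨hN₁, hxN₁⟩, huniq, -⟩ := h75 M hM x hx hx1 hxM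
    obtain ⟨N₀, ⟨hN₀, hx₀N₀⟩, -⟩ := h75 M hM x₀ hx₀σ hx₀1 hx₀M
    have h1 : N = N₁ := huniq N hN hxN
    have h2 : N₀ = N₁ := huniq N₀ hN₀ (hCle.trans hx₀N₀)
    rw [h1, ← h2]; exact hx₀N₀
  rw [Set.eq_empty_iff_forall_notMem]
  intro s hs
  haveI : Fact s.Prime := ⟨hs.1⟩
  have hnc := not_conj_of_sigma_tau2 (G := G) hqM hqN
  have hrp : r.Prime := hr.1
  haveI : Fact r.Prime := ⟨hrp⟩
  have hrσM : r ∉ Cfsg.sigma M := by
    intro h
    obtain ⟨g, hg⟩ := hSP M N hM hN ⟨r, h, hr⟩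
    exact hnc g hg
  have hrs : r ≠ s := by
    rintro rfl
    exact Cfsg.Agent.Helper31.BGNoMutualTau2.no_mutual_tau2 hG hM hN hqM hqN hr hs
  have hsN : s ∉ Cfsg.sigma N := fun h =>
    Cfsg.Agent.Helper31.BGNoMutualTau2.no_mutual_tau2 hG hM hN hqM hqN h hs
  obtain ⟨B, hBM, hBe, hB2⟩ := Cfsg.Agent.Helper31.BGNoMutualTau2.exists_ea2_of_mem_tau2 hs
  have hBs : IsPGroup s B := BG10.isPGroup_of_isElementaryAbelian hBe
  have hBcomm : ∀ a ∈ B, ∀ b ∈ B, a * b = b * a :=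
    (Cfsg.Agent.Helper23.isMulCommutative_subgroup_iff B).1 hBe.1
  have hBprimes : ∀ p : ℕ, p.Prime → p ∣ Nat.card B → p = s := by
    intro p hp hd
    rw [hB2] at hd
    exact (Nat.prime_dvd_prime_iff_eq hp hs.1).1 (hp.dvd_of_dvd_pow hd)
  obtain ⟨E, hE, hBE⟩ := exists_isComplIn_sigmaCore_ge hG hU hM hBM (by
    intro p hp hd
    rw [hBprimes p hp hd]; exact hs.2.1)
  have h18 := Cfsg.Agent.S1418.result hG M hM E hE s hs B ⟨hBE, hBe, hB2⟩
  have h17 := Cfsg.Agent.S1417.result hG M hM s hs B ⟨hBM, hBe, hB2⟩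
  have hnil : Group.IsNilpotent ↥(Cfsg.sigmaCore M) := h17.1
  have hCB : Cfsg.sigmaCore M ⊓ Subgroup.centralizer (B : Set G) = ⊥ := h17.2.2.2.1
  -- the element `r1 ∈ E` of order `r`
  have hcardE : Nat.card E * Nat.card (Cfsg.sigmaCore M) = Nat.card M := card_mul_card_isComplIn hE
  have hrE : r ∣ Nat.card E := by
    have : r ∣ Nat.card E * Nat.card (Cfsg.sigmaCore M) := hcardE ▸ hrM
    rcases (Nat.Prime.dvd_mul hrp).1 this with h | h
    · exact h
    · exact absurd (primes_sigmaCore M r hrp h) hrσM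
  obtain ⟨r1', hr1'⟩ := exists_prime_orderOf_dvd_card' r hrE
  obtain ⟨r1, hr1E⟩ := r1'
  have hr1o : orderOf r1 = r := by
    rw [← hr1']; exact (Subgroup.orderOf_mk r1 hr1E).symm
  have hr1M : r1 ∈ M := hE.1 hr1E
  have hr1B : r1 ∈ Subgroup.normalizer (B : Set G) := h18.1.1 hr1E
  have hr11 : r1 ≠ 1 := by
    intro h; rw [h, orderOf_one] at hr1o; exact hrp.one_lt.ne hr1o
  have hfp : Cfsg.sigmaCore M ⊓ Subgroup.centralizer ({r1} : Set G) = ⊥ :=
    centralizer_eq_bot_of_sigma hG h30 h31 h32 hSP hM hN hcompl hqM hqN hr hr1M hr1o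
  obtain ⟨-, a, hr1Nt, hCr1⟩ :=
    exists_conj_centralizer_le hG h30 h31 h32 hSP hM hN hcompl hqM hqN hr hr1M hr1o
  set Nt : Subgroup G := BG10.cj a⁻¹ N with hNt_def
  have hNt : IsCoatom Nt := BG11.isCoatom_cj hN a⁻¹
  have hσNt : Cfsg.sigma Nt = Cfsg.sigma N := BG11.sigma_cj a⁻¹ N
  have har : r1 ^ r = 1 := by rw [← hr1o]; exact pow_orderOf_eq_one r1
  have hcop : r.Coprime s := (Nat.coprime_primes hrp hs.1).2 hrs
  -- normalizing facts
  have hMnorm : M ≤ Subgroup.normalizer ((Cfsg.sigmaCore M : Subgroup G) : Set G) :=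
    BG11.le_normalizer_sigmaCore M
  have hMσ1 : Cfsg.sigmaCore M ≠ ⊥ := by
    intro h; rw [h, Subgroup.mem_bot] at hx; exact hx1 hx
  have hsMσ : ¬ s ∣ Nat.card (Cfsg.sigmaCore M) := fun h => hs.2.1 (primes_sigmaCore M s hs.1 h)
  have hcopS : s.Coprime (Nat.card (Cfsg.sigmaCore M)) := (Nat.Prime.coprime_iff_not_dvd hs.1).2 hsMσ
  have hCH : ∀ v ∈ Cfsg.sigmaCore M, r1 * v = v * r1 → v = 1 := by
    intro v hv hc
    have : v ∈ Cfsg.sigmaCore M ⊓ Subgroup.centralizer ({r1} : Set G) := by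
      refine Subgroup.mem_inf.2 ⟨hv, ?_⟩
      rw [Subgroup.mem_centralizer_iff]
      intro z hz
      rw [Set.mem_singleton_iff.1 hz]
      exact hc
    rw [hfp, Subgroup.mem_bot] at this
    exact this
  rcases fixed_trichotomy hBe hB2 hr1B har hcop with h0 | hrest
  · -- (a) `C_B(r1) = 1`
    refine Cfsg.Agent.Helper54.W2.frob_trick hG.1 hrp har hnil hMσ1 (hBM.trans hMnorm)
      (hMnorm hr1M) hr1B (by rw [hB2]; exact Nat.Coprime.pow_left 2 hcopS) ?_ hCH hCB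
    intro v hv hc
    have : v ∈ B ⊓ Subgroup.centralizer ({r1} : Set G) := by
      refine Subgroup.mem_inf.2 ⟨hv, ?_⟩
      rw [Subgroup.mem_centralizer_iff]
      intro z hz
      rw [Set.mem_singleton_iff.1 hz]
      exact hc
    rw [h0, Subgroup.mem_bot] at this
    exact this
  · -- (b) `C_B(r1) ≠ 1`: `s ∈ κ(Nt)`
    have hB1 : B ⊓ Subgroup.centralizer ({r1} : Set G) ≠ ⊥ := by
      intro hbot
      rcases hrest with hBC | ⟨hcard, -⟩
      · have : B = ⊥ := by rw [← hbot]; exact (inf_eq_left.2 hBC).symm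
        rw [this, Subgroup.card_bot] at hB2
        have := Nat.one_lt_pow two_ne_zero hs.1.one_lt
        omega
      · rw [hbot, Subgroup.card_bot] at hcard
        exact hs.1.one_lt.ne hcard
    obtain ⟨b1, hb11⟩ := (Subgroup.ne_bot_iff_exists_ne_one).1 hB1
    have hb1B : (b1 : G) ∈ B := b1.2.1
    have hb1C : (b1 : G) ∈ Subgroup.centralizer ({r1} : Set G) := b1.2.2
    have hb11' : (b1 : G) ≠ 1 := fun h => hb11 (Subtype.ext h)
    have hb1o : orderOf (b1 : G) = s := orderOf_eq_prime (hBe.2 _ hb1B) hb11'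
    have hκ : s ∈ Cfsg.kappa Nt := by
      have hσ' : ∀ p : ℕ, p.Prime → p ∣ orderOf (b1 : G) → p ∉ Cfsg.sigma Nt := by
        intro p hp hd
        rw [hb1o] at hd
        rw [(Nat.prime_dvd_prime_iff_eq hp hs.1).1 hd, hσNt]; exact hsN
      rcases h32 Nt hNt r1 hr1Nt hr11 (b1 : G) (Subgroup.mem_inf.2 ⟨hCr1 hb1C, hb1C⟩) hb11' hσ' with
        ⟨hκ', -⟩ | ⟨hτ, -, hcent, -⟩
      · exact hκ' s hs.1 (by rw [hb1o])
      · exfalso
        have hsτ : s ∈ Cfsg.tau2 Nt := hτ s hs.1 (by rw [hb1o])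
        have hBNt : B ≤ Nt := by
          intro b hb
          apply hcent
          rw [Subgroup.mem_centralizer_iff]
          intro z hz
          rw [Set.mem_singleton_iff.1 hz]
          exact hBcomm _ hb1B _ hb
        obtain ⟨Et, hEt, hBEt⟩ := exists_isComplIn_sigmaCore_ge hG hU hNt hBNt (by
          intro p hp hd
          rw [hBprimes p hp hd]; exact hsτ.2.1)
        have h18t := Cfsg.Agent.S1418.result hG Nt hNt Et hEt s hsτ B ⟨hBEt, hBe, hB2⟩
        have h1 : r1 ∈ Et := by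
          rw [← h18t.2.1.2.1]
          exact Subgroup.mem_inf.2 ⟨sigmaCore_le Nt hr1Nt, hr1B⟩
        have h2 : r1 ∈ Et ⊓ Cfsg.sigmaCore Nt := Subgroup.mem_inf.2 ⟨h1, hr1Nt⟩
        rw [hEt.2.2.1, Subgroup.mem_bot] at h2
        exact hr11 h2
    rcases hrest with hBC | ⟨-, F, hFB, hFs, hFn, hFC⟩
    · -- (b1) `B ≤ C(r1) ≤ Nt`
      exact not_le_of_mem_kappa hκ (hBC.trans hCr1) hBe hB2
    · -- (b2)
      have hq2 : q ≠ 2 := by
        rintro rfl
        have h2 : 2 ∣ Nat.card G :=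
          (hqd.trans (orderOf_dvd_natCard x))
        exact (Nat.not_even_iff_odd.2 hG.1) (even_iff_two_dvd.2 h2)
      have hPx : IsPGroup q (Subgroup.zpowers x₀) := by
        apply IsPGroup.of_card (n := 1)
        rw [Nat.card_zpowers, hx₀q, pow_one]
      obtain ⟨Uq, hx₀U, hUq⟩ := BG10.exists_isSylowIn_ge (p := q) (N := Cfsg.sigmaCore M)
        (Y := Subgroup.zpowers x₀) (Subgroup.zpowers_le.2 hx₀σ) hPx
      have hsq : s ≠ q := fun h => hs.2.1 (h ▸ hqM)
      have hFcent := Cfsg.Agent.Helper54.W2.frob_trick_sylow hq2 hrp har hnil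
        ((hFB.trans hBM).trans hMnorm) (hMnorm hr1M) hFn
        (by rw [hFs]; exact (Nat.coprime_primes hs.1 hqp).2 hsq) (by
          intro v hv hc
          have : v ∈ F ⊓ Subgroup.centralizer ({r1} : Set G) := by
            refine Subgroup.mem_inf.2 ⟨hv, ?_⟩
            rw [Subgroup.mem_centralizer_iff]
            intro z hz
            rw [Set.mem_singleton_iff.1 hz]
            exact hc
          rw [hFC, Subgroup.mem_bot] at this
          exact this) hCH hUq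
      -- a non-identity element `b ∈ F`
      have hF1 : F ≠ ⊥ := by
        intro h; rw [h, Subgroup.card_bot] at hFs; exact hs.1.one_lt.ne hFs
      obtain ⟨b', hb1⟩ := (Subgroup.ne_bot_iff_exists_ne_one).1 hF1
      obtain ⟨b, hbF⟩ := b'
      have hb1' : b ≠ 1 := fun h => hb1 (Subtype.ext h)
      have hbo : orderOf b = s := orderOf_eq_prime (hBe.2 _ (hFB hbF)) hb1'
      have hbx₀ : b * x₀ = x₀ * b := hFcent _ hbF x₀ (hx₀U (Subgroup.mem_zpowers x₀))
      have hbN : b ∈ N := by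
        apply hx₀N
        rw [Subgroup.mem_centralizer_iff]
        intro z hz
        rw [Set.mem_singleton_iff.1 hz]
        exact hbx₀.symm
      -- `C_G(b) ≤ M`
      have hFne : Cfsg.sigmaCore M ⊓ Subgroup.centralizer (F : Set G) ≠ ⊥ := by
        intro hbot
        have : x₀ ∈ Cfsg.sigmaCore M ⊓ Subgroup.centralizer (F : Set G) := by
          refine Subgroup.mem_inf.2 ⟨hx₀σ, ?_⟩
          rw [Subgroup.mem_centralizer_iff]
          intro z hz
          exact hFcent z hz x₀ (hx₀U (Subgroup.mem_zpowers x₀))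
        rw [hbot, Subgroup.mem_bot] at this
        exact hx₀1 this
      have hCF : Subgroup.centralizer (F : Set G) ≤ M := (h18.2.2 F hFB hFs hFne).1
      have hFz : F = Subgroup.zpowers b := by
        symm
        apply Subgroup.eq_of_le_of_card_ge (Subgroup.zpowers_le.2 hbF)
        rw [Nat.card_zpowers, hbo, hFs]
      have hCb : Subgroup.centralizer ({b} : Set G) ≤ M := by
        refine le_trans ?_ hCF
        rw [hFz]
        exact centralizer_singleton_le_zpowers b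
      -- `a⁻¹ b a ∈ Nt` centralizes a non-identity element of `Nt_σ`
      have hbt : a⁻¹ * b * a ∈ Nt := by
        rw [hNt_def, BG10.mem_cj, inv_inv]
        have e : a * (a⁻¹ * b * a) * a⁻¹ = b := by group
        rw [e]; exact hbN
      have hbto : orderOf (a⁻¹ * b * a) = s := by
        have := (MulAut.conj a⁻¹).orderOf_eq b
        rw [MulAut.conj_apply, inv_inv] at this
        rw [this, hbo]
      obtain ⟨y', hy'σ, hy'1, hy'c⟩ := exists_commute_of_mem_kappa hκ hbt hbto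
      have hyσ : a * y' * a⁻¹ ∈ Cfsg.sigmaCore N := by
        rw [hNt_def, BG11.sigmaCore_cj hG hU hN a⁻¹, BG10.mem_cj, inv_inv] at hy'σ
        exact hy'σ
      have hy1 : a * y' * a⁻¹ ≠ 1 := by
        intro h; apply hy'1
        have e : y' = a⁻¹ * (a * y' * a⁻¹) * a := by group
        rw [e, h]; group
      have hby : (a * y' * a⁻¹) * b = b * (a * y' * a⁻¹) := by
        calc (a * y' * a⁻¹) * b = a * (y' * (a⁻¹ * b * a)) * a⁻¹ := by group
          _ = a * ((a⁻¹ * b * a) * y') * a⁻¹ := by rw [hy'c]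
          _ = b * (a * y' * a⁻¹) := by group
      have hyM : a * y' * a⁻¹ ∈ M := by
        apply hCb
        rw [Subgroup.mem_centralizer_iff]
        intro z hz
        rw [Set.mem_singleton_iff.1 hz]
        exact hby.symm
      have hmem : a * y' * a⁻¹ ∈ (M ⊓ N) ⊓ Cfsg.sigmaCore N :=
        Subgroup.mem_inf.2 ⟨Subgroup.mem_inf.2 ⟨hyM, sigmaCore_le N hyσ⟩, hyσ⟩
      rw [hcompl.2.2.1, Subgroup.mem_bot] at hmem
      exact hy1 hmem

end Cfsg.Agent.Helper31.BG1436Lite
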