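import Cfsg.Agent.Helper43.PsuM.RDefs

/-!
# Piece (PL3) `plift_map` of helper43's S2089 block R (#14254).
-/

set_option autoImplicit false

namespace Cfsg.Agent.Helper31.PsuM

open scoped commutatorElement
open Cfsg.Agent.Helper96.StLift
open Cfsg.Agent.Helper43.PsuM

universe u

section plift

variable {Γ G : Type u} [Group Γ] [Group G] [Finite Γ] (τ : Γ →* G) (hτ : Function.Surjective τ)
  (hc : τ.ker ≤ Subgroup.center Γ) (p : ℕ) [Fact p.Prime] (hcop : (Nat.card τ.ker).Coprime p)

include hτ hc hcop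

/-- (PL3) the canonical lift of a `p`-subgroup maps onto it. -/
theorem plift_map (X : Subgroup G) (hX : IsPGroup p X) : (plift τ p X).map τ = X := by
  apply le_antisymm
  · rw [Subgroup.map_le_iff_le_comap]
    exact plift_le_comap τ p X
  · intro x hx
    obtain ⟨g, rfl⟩ := hτ x
    obtain ⟨k, hk⟩ := hX ⟨τ g, hx⟩
    have hk' : τ g ^ p ^ k = 1 := by
      have := congrArg Subtype.val hk
      simpa using this
    have hcker : g ^ p ^ k ∈ τ.ker := by
      rw [MonoidHom.mem_ker, map_pow, hk']
    have hcop' : (Nat.card τ.ker).Coprime (p ^ k) := Nat.Coprime.pow_right k hcop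
    obtain ⟨a, ha⟩ := (powCoprime hcop').surjective ⟨(g ^ p ^ k)⁻¹, τ.ker.inv_mem hcker⟩
    have ha' : (a : Γ) ^ p ^ k = (g ^ p ^ k)⁻¹ := by
      have := congrArg Subtype.val ha
      simpa using this
    have hacen : (a : Γ) ∈ Subgroup.center Γ := hc a.2
    have hcomm : Commute g (a : Γ) := Subgroup.mem_center_iff.mp hacen g
    have hta : τ (a : Γ) = 1 := MonoidHom.mem_ker.mp a.2
    refine ⟨g * a, ?_, ?_⟩
    · unfold plift
      apply Subgroup.subset_closure
      refine ⟨?_, k, ?_⟩
      · rw [map_mul, hta, mul_one]; exact hx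
      · rw [hcomm.mul_pow, ha', mul_inv_cancel]
    · rw [map_mul, hta, mul_one]

end plift

end Cfsg.Agent.Helper31.PsuM
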