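import Mathlib
import Cfsg.Agent.Helper77.Res.Defs
import Cfsg.Agent.Helper87.FusionExtend

/-!
# Piece (GL) `cfg_of_receptive` of helper77's S5289 skeleton (#14084): a fully automized, receptive
`Q < S` with `C_S(Q) ≤ Q` gives a local configuration with `T = N_S(Q)`, `A = Aut_F(Q)`,
`B = Aut_F(N_S(Q))`.
-/

set_option autoImplicit false

universe u

namespace Cfsg.Agent.Helper31.Res

open Subgroup Cfsg.Agent.Helper77.Res

variable {Ω : Type u} [Group Ω] {p : ℕ} [hp : Fact p.Prime]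

section glue
variable {S : Subgroup Ω} [Finite S]

open Cfsg Cfsg.FusionSystem Cfsg.Agent.Helper87

/-- `ConjBy N_S(Q) Q α ↔ α ∈ Aut_S(Q)`. -/
theorem GL_conjBy_iff (S Q : Subgroup Ω) (α : MulAut ↥Q) :
    ConjBy (normalizerIn S Q) Q α ↔ α ∈ autInducedBy S Q := by
  rw [mem_autInducedBy_iff]
  constructor
  · rintro ⟨g, hg, h⟩
    exact ⟨g, hg.1, h⟩
  · rintro ⟨g, hgS, h⟩
    refine ⟨g, ⟨hgS, ?_⟩, h⟩
    apply mem_normalizer_of_conj_mem_of_inv_conj_mem
    · intro y hy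
      rw [← h ⟨y, hy⟩]
      exact (α ⟨y, hy⟩).2
    · intro y hy
      have h1 := h (α⁻¹ ⟨y, hy⟩)
      rw [MulAut.apply_inv_self] at h1
      have h2 : g⁻¹ * y * g = ((α⁻¹ ⟨y, hy⟩ : Q) : Ω) := by
        have h3 : (y : Ω) = g * ((α⁻¹ ⟨y, hy⟩ : Q) : Ω) * g⁻¹ := h1
        generalize ((α⁻¹ ⟨y, hy⟩ : Q) : Ω) = z at h3
        rw [h3]
        group
      rw [h2]
      exact (α⁻¹ ⟨y, hy⟩).2

/-- an injective homomorphism of a finite subgroup into itself is an automorphism. -/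
theorem GL_exists_aut_of_hom {T : Subgroup Ω} [Finite T] (ψ : T →* Ω) (hinj : Function.Injective ψ)
    (hT : ∀ t, ψ t ∈ T) : ∃ β : MulAut T, ∀ t : T, ((β t : T) : Ω) = ψ t := by
  have hinj' : Function.Injective (ψ.codRestrict T hT) := by
    intro a b hab
    apply hinj
    exact congrArg Subtype.val hab
  refine ⟨MulEquiv.ofBijective (ψ.codRestrict T hT)
    ⟨hinj', Finite.surjective_of_injective hinj'⟩, fun t => rfl⟩

/-- (GL) -/
theorem cfg_of_receptive (hS : IsPGroup p S) (F : FusionSystem S)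
    (hrk : ∀ E : Subgroup Ω, E ≤ S → Cfsg.IsElementaryAbelian p E → Nat.card E ≤ p ^ 2)
    (Q : Subgroup Ω) (hQa : F.IsFullyAutomized p Q) (hQr : F.IsReceptive Q)
    (hQc : centralizerIn S Q ≤ Q) (hQS : Q ≠ S) :
    Cfg p (normalizerIn S Q) Q (F.autGroup Q) (F.autGroup (normalizerIn S Q)) := by
  have hQS' : Q ≤ S := hQa.1
  have hTS : normalizerIn S Q ≤ S := inf_le_left
  have hQT : Q ≤ normalizerIn S Q := le_normalizerIn hQS'
  have hfin : Finite (normalizerIn S Q) := finite_of_le hTS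
  refine ⟨hfin, hS.to_le hTS, hQT, (lt_normalizerIn hS (lt_of_le_of_ne hQS' hQS)).ne, inf_le_right,
    ?_, ?_, ?_, ?_, ?_⟩
  · -- cent
    intro t ht hcomm
    apply hQc
    exact ⟨ht.1, Subgroup.mem_centralizer_iff.mpr (fun x hx => (hcomm x hx).symm)⟩
  · -- rank
    intro E hET hab hexp
    refine hrk E (hET.trans hTS) ⟨⟨⟨fun a b => Subtype.ext (hab a a.2 b b.2)⟩⟩, hexp⟩
  · -- conj_mem
    intro α hα
    obtain ⟨g, hg, h⟩ := hα
    rw [mem_autGroup_iff F hQS']
    unfold IsIso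
    exact mem_of_eq F (F.conj_mem hQS' hg.1) (fun x => h x)
  · -- sylow
    intro R hRA hRp hcontains β hβ
    obtain ⟨-, Syl, hSyl⟩ := hQa
    have hR'p : IsPGroup p (R.subgroupOf (F.autGroup Q)) := hRp.comap_subtype
    have hle : (Syl : Subgroup (F.autGroup Q)) ≤ R.subgroupOf (F.autGroup Q) := by
      intro a ha
      rw [hSyl, Subgroup.mem_subgroupOf] at ha
      rw [Subgroup.mem_subgroupOf]
      exact hcontains _ ((GL_conjBy_iff S Q _).mpr ha)
    have heq := Syl.is_maximal' hR'p hle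
    have hmem : (⟨β, hRA hβ⟩ : F.autGroup Q) ∈ R.subgroupOf (F.autGroup Q) := by
      rw [Subgroup.mem_subgroupOf]
      exact hβ
    rw [heq, hSyl, Subgroup.mem_subgroupOf] at hmem
    exact (GL_conjBy_iff S Q _).mpr hmem
  · -- ext
    intro h hh hnorm
    have hφ : Q.subtype.comp (h : Q ≃* Q).toMonoidHom ∈ F.Hom Q := (mem_autGroup_iff F hQS' h).mp hh
    set φ : Q →* Ω := Q.subtype.comp (h : Q ≃* Q).toMonoidHom with hφdef
    have hφx : ∀ x : Q, φ x = ((h x : Q) : Ω) := fun x => rfl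
    have hrange : φ.range = Q := by
      ext y
      constructor
      · rintro ⟨x, rfl⟩
        exact (h x).2
      · intro hy
        refine ⟨h⁻¹ ⟨y, hy⟩, ?_⟩
        rw [hφx, MulAut.apply_inv_self]
    obtain ⟨ψ', hψ', hψx⟩ := hQr.2 Q φ hφ hrange
    have hle : normalizerIn S Q ≤ extender S Q φ := by
      rintro g ⟨hgS, hgN⟩
      rw [mem_extender_iff]
      refine ⟨hgS, hgN, ?_⟩
      have hc : ConjBy (normalizerIn S Q) Q (conjAut Q g hgN) := ⟨g, ⟨hgS, hgN⟩, fun x => rfl⟩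
      obtain ⟨k, hkT, hk⟩ := hnorm _ hc
      refine ⟨k, hkT.1, fun x hx => ?_⟩
      have h1 := hk (h x)
      rw [MulAut.mul_apply, MulAut.mul_apply, MulAut.inv_apply_self] at h1
      rw [hφx, hφx, ← h1]
      rfl
    have hψ'' : ψ'.comp (Subgroup.inclusion hle) ∈ F.Hom (normalizerIn S Q) := restrict_mem F hψ' hle
    set ψ'' : normalizerIn S Q →* Ω := ψ'.comp (Subgroup.inclusion hle) with hψ''def
    have hagree : ∀ x : Q, ψ'' (Subgroup.inclusion hQT x) = ((h x : Q) : Ω) := by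
      intro x
      have := hψx x x.2 (hle (hQT x.2))
      rw [← hφx, ← this]
      rfl
    have hψT : ∀ t, ψ'' t ∈ normalizerIn S Q := by
      intro t
      refine ⟨(F.le_of_mem hψ'').2 t, ?_⟩
      apply map_mem_normalizer ψ'' hQT (fun q => ?_) (fun y hy => ?_) t t.2.2
      · rw [hagree]
        exact (h q).2
      · refine ⟨h⁻¹ ⟨y, hy⟩, ?_⟩
        rw [hagree, MulAut.apply_inv_self]
    obtain ⟨β, hβ⟩ := GL_exists_aut_of_hom ψ'' (F.injective_of_mem hψ'') hψT
    refine ⟨β, ?_, fun x => ?_⟩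
    · rw [mem_autGroup_iff F hTS]
      unfold IsIso
      exact mem_of_eq F hψ'' (fun t => hβ t)
    · rw [hβ]
      exact hagree x

end glue

end Cfsg.Agent.Helper31.Res
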