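import Mathlib

/-!
# (CH7a1) for helper74's S0984 : set-level extraction
-/

set_option autoImplicit false

namespace Cfsg.Agent.Helper31.A7

/-- (CH7a1) set-level extraction: a set of 3 elements containing `a` is `{a, b, c}`; a set of two
elements is `{d, e}` -/
theorem set_extraction {α : Type*} (X Y : Set α) (a : α) (hX : Nat.card X = 3) (hY : Nat.card Y = 2)
    (ha : a ∈ X) (hdisj : Disjoint X Y) :
    ∃ b c d e : α, X = {a, b, c} ∧ Y = {d, e} ∧ [a, b, c, d, e].Nodup := by
  classical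
  have hX' : X.ncard = 3 := by rw [← Nat.card_coe_set_eq]; exact hX
  have hY' : Y.ncard = 2 := by rw [← Nat.card_coe_set_eq]; exact hY
  have hXf : X.Finite := Set.finite_of_ncard_ne_zero (by rw [hX']; norm_num)
  have hd : (X \ {a}).ncard = 2 := by
    rw [Set.ncard_sdiff_singleton_of_mem ha, hX']
  obtain ⟨b, c, hbc, hXbc⟩ := Set.ncard_eq_two.1 hd
  obtain ⟨d, e, hde, hYde⟩ := Set.ncard_eq_two.1 hY'
  have hb : b ∈ X \ {a} := by rw [hXbc]; simp
  have hc : c ∈ X \ {a} := by rw [hXbc]; simp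
  have hdY : d ∈ Y := by rw [hYde]; simp
  have heY : e ∈ Y := by rw [hYde]; simp
  have hne : ∀ x ∈ X, ∀ y ∈ Y, x ≠ y := by
    intro x hx y hy hxy
    subst hxy
    exact (Set.disjoint_left.1 hdisj hx) hy
  have hXeq : X = {a, b, c} := by
    have : X = insert a (X \ {a}) := by
      rw [Set.insert_sdiff_singleton, Set.insert_eq_of_mem ha]
    rw [this, hXbc]
  refine ⟨b, c, d, e, hXeq, hYde, ?_⟩
  have hab : a ≠ b := fun h => hb.2 (by simp [h])
  have hac : a ≠ c := fun h => hc.2 (by simp [h])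
  have h1 := hne a ha d hdY
  have h2 := hne a ha e heY
  have h3 := hne b hb.1 d hdY
  have h4 := hne b hb.1 e heY
  have h5 := hne c hc.1 d hdY
  have h6 := hne c hc.1 e heY
  simp [hab, hac, hbc, hde, h1, h2, h3, h4, h5, h6]

end Cfsg.Agent.Helper31.A7
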