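import Cfsg.Agent.Helper74.A7Defs
import Cfsg.Agent.Helper79.CharComplete
import Cfsg.Agent.Helper74.CharBasic

/-!
# (CH7a2) for helper74's S0984 : sum of squares of the degrees of distinct irreducible characters
-/

set_option autoImplicit false

namespace Cfsg.Agent.Helper31.A7

open Cfsg
open scoped ComplexConjugate

universe u

variable {G : Type u} [Group G]

/-- (CH7a2) sum of squares of the degrees of distinct irreducible characters -/
theorem sum_sq_le [Fintype G] (l : List (IrrCharacter G)) (hl : l.Nodup) :
    (l.map (fun χ : IrrCharacter G => charDegree (χ : G → ℂ) ^ 2)).sum ≤ Nat.card G := by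
  classical
  letI := Helper74.irrFintype G
  rw [← Helper79.sum_charDegree_sq (G := G),
    ← List.sum_toFinset (fun χ : IrrCharacter G => charDegree (χ : G → ℂ) ^ 2) hl]
  exact Finset.sum_le_sum_of_subset (Finset.subset_univ _)

end Cfsg.Agent.Helper31.A7
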