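import Cfsg.Agent.Helper74.A7Defs
import Cfsg.Agent.Helper81.ConjIrr

/-!
# (REAL) for helper74's S0984 : `χ₃` is the only irreducible character of degree 6, hence real
-/

set_option autoImplicit false

namespace Cfsg.Agent.Helper31.A7

open Cfsg Cfsg.Agent.Helper74.A7
open scoped ComplexConjugate

universe u

variable {G : Type u} [Group G]

/-- (REAL) in the other two patterns, `χ₃` is the only irreducible character of degree 6, hence
real-valued -/
theorem real_of_pattern [Finite G] [Fact (Nat.Prime 7)] (B : Blk7 G)
    (hpat : B.Pat 8 6 3 1 ∨ B.Pat 15 6 10 1) (g : G) :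
    conj ((B.χ₃ : G → ℂ) g) = (B.χ₃ : G → ℂ) g := by
  set ψ : IrrCharacter G := Helper81.irrConj G B.χ₃ with hψ
  have hdeg : charDegree (ψ : G → ℂ) = charDegree (B.χ₃ : G → ℂ) := by
    unfold charDegree
    rw [hψ, Helper81.irrConj_apply, Complex.conj_re]
  have h1 : charDegree ((Helper79.principalIrr G : IrrCharacter G) : G → ℂ) = 1 := by
    unfold charDegree Helper79.principalIrr
    simp
  have h3 : charDegree (B.χ₃ : G → ℂ) = 6 := by
    rcases hpat with h | h
    · exact h.2.1
    · exact h.2.1
  have hkey : ψ = B.χ₃ := by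
    rcases B.hall ψ with h | h | h | h | h | h
    · rw [h, h1, h3] at hdeg
      omega
    · rw [h, h3] at hdeg
      rcases hpat with hp | hp
      · rw [hp.1] at hdeg; omega
      · rw [hp.1] at hdeg; omega
    · exact h
    · rw [h, h3] at hdeg
      rcases hpat with hp | hp
      · rw [hp.2.2.1] at hdeg; omega
      · rw [hp.2.2.1] at hdeg; omega
    · rw [h, h3, B.hdegθ] at hdeg
      rcases hpat with hp | hp
      · rw [hp.2.2.1] at hdeg; omega
      · rw [hp.2.2.1] at hdeg; omega
    · rw [hdeg, h3] at h
      omega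
  have := congrArg (fun φ : IrrCharacter G => (φ : G → ℂ) g) hkey
  simpa [hψ] using this

end Cfsg.Agent.Helper31.A7
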