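import Cfsg.Agent.Helper31.AlpQ5b
import Cfsg.Agent.Helper37.AlpL

/-!
# Piece (Q5) of S3782 (Alperin, helper71): transfer of (L) to a characteristic subgroup
-/

set_option autoImplicit false

namespace Cfsg.Agent.Helper31.Alp

open Cfsg.Agent.Helper71.Alp

universe u

/-- (Q5) transfer of (L) to a characteristic subgroup -/
theorem pow_mem_lcs_succ_of_char {G : Type u} [Group G] [Finite G] {p n : ℕ} (hp : p.Prime)
    (hG : IsPGroup p G) (φ : MulAut G) (hφ : φ ^ p = 1) (hfix : FixLE φ (p ^ n))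
    (H : Subgroup G) [H.Characteristic] :
    ∀ y ∈ H.lowerCentralSeries (hc p), y ^ p ^ lieExp p n ∈ H.lowerCentralSeries (hc p + 1) :=
  pow_mem_lcs_succ_of_char_of hp hG φ hφ hfix H
    (fun _ _ _ hK ψ hψ hf => Cfsg.Agent.Helper37.Alp.pow_mem_lcs_succ hp hK ψ hψ hf)

end Cfsg.Agent.Helper31.Alp
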