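import Cfsg.Agent.Helper71.Alp.Defs

/-!
# Piece (Q5) of S3782 (Alperin, helper71): transfer of (L) to a characteristic subgroup

This file: the statement with (L) and `fixLE_resAut` of (A1) as explicit hypotheses.
-/

set_option autoImplicit false

namespace Cfsg.Agent.Helper31.Alp

open Cfsg.Agent.Helper71.Alp

universe u

/-- a characteristic subgroup is invariant under every automorphism -/
theorem inv_of_char {G : Type u} [Group G] (φ : MulAut G) (H : Subgroup G) [H.Characteristic] :
    Inv φ H := by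
  intro x
  have h : H.comap φ.toMonoidHom = H := (inferInstance : H.Characteristic).fixed φ
  constructor
  · intro hx
    rw [← h] at hx
    exact hx
  · intro hx
    rw [← h]
    exact hx

/-- powers of the restriction -/
theorem resAut_pow_coe {G : Type u} [Group G] (φ : MulAut G) (H : Subgroup G) (hH : Inv φ H)
    (k : ℕ) (x : H) : ((((resAut φ H hH) ^ k) x : H) : G) = (φ ^ k) (x : G) := by
  induction k generalizing x with
  | zero => simp
  | succ k ih =>
    rw [pow_succ, pow_succ, MulAut.mul_apply, MulAut.mul_apply, ih, resAut_coe]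

theorem resAut_pow_eq_one {G : Type u} [Group G] (φ : MulAut G) (H : Subgroup G) (hH : Inv φ H)
    {k : ℕ} (hφ : φ ^ k = 1) : (resAut φ H hH) ^ k = 1 := by
  apply MulEquiv.ext
  intro x
  apply Subtype.ext
  rw [resAut_pow_coe, hφ]
  rfl

/-- (Q5) with (L) and `fixLE_resAut` of (A1) as explicit hypotheses -/
theorem pow_mem_lcs_succ_of_char_aux {G : Type u} [Group G] {p n : ℕ} (φ : MulAut G)
    (hφ : φ ^ p = 1) (H : Subgroup G) [H.Characteristic]
    (hL : ∀ ψ : MulAut H, ψ ^ p = 1 → FixLE ψ (p ^ n) →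
      ∀ y ∈ (⊤ : Subgroup H).lowerCentralSeries (hc p),
        y ^ p ^ lieExp p n ∈ (⊤ : Subgroup H).lowerCentralSeries (hc p + 1))
    (hA1 : ∀ hH : Inv φ H, FixLE (resAut φ H hH) (p ^ n)) :
    ∀ y ∈ H.lowerCentralSeries (hc p), y ^ p ^ lieExp p n ∈ H.lowerCentralSeries (hc p + 1) := by
  intro y hy
  have hH : Inv φ H := inv_of_char φ H
  have hψ : (resAut φ H hH) ^ p = 1 := resAut_pow_eq_one φ H hH hφ
  rw [← Subgroup.top_subtype_lowerCentralSeries] at hy ⊢
  obtain ⟨y', hy', rfl⟩ := hy
  exact ⟨y' ^ p ^ lieExp p n, hL _ hψ (hA1 hH) y' hy', by simp⟩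

end Cfsg.Agent.Helper31.Alp
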