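import Cfsg.Agent.Helper31.AlpQ5Aux
import Cfsg.Agent.Helper53.AlpA1

/-!
# Piece (Q5) of S3782 (Alperin, helper71): transfer of (L) to a characteristic subgroup

This file: the statement with (L) as the only explicit hypothesis ((A1) imported).
-/

set_option autoImplicit false

namespace Cfsg.Agent.Helper31.Alp

open Cfsg.Agent.Helper71.Alp

universe u

/-- (Q5) with (L) as an explicit hypothesis, quantified over all finite `p`-groups in the
universe of `G` -/
theorem pow_mem_lcs_succ_of_char_of {G : Type u} [Group G] [Finite G] {p n : ℕ} (hp : p.Prime)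
    (hG : IsPGroup p G) (φ : MulAut G) (hφ : φ ^ p = 1) (hfix : FixLE φ (p ^ n))
    (H : Subgroup G) [H.Characteristic]
    (hL : ∀ (K : Type u) [Group K] [Finite K], IsPGroup p K → ∀ ψ : MulAut K, ψ ^ p = 1 →
      FixLE ψ (p ^ n) → ∀ y ∈ (⊤ : Subgroup K).lowerCentralSeries (hc p),
        y ^ p ^ lieExp p n ∈ (⊤ : Subgroup K).lowerCentralSeries (hc p + 1)) :
    ∀ y ∈ H.lowerCentralSeries (hc p), y ^ p ^ lieExp p n ∈ H.lowerCentralSeries (hc p + 1) :=
  pow_mem_lcs_succ_of_char_aux φ hφ H (fun ψ hψ hψfix => hL H (hG.to_subgroup H) ψ hψ hψfix)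
    (fun hH => Cfsg.Agent.Helper53.Alp.fixLE_resAut φ H hH (p ^ n) hfix)

end Cfsg.Agent.Helper31.Alp
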