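import Mathlib
import Cfsg.Agent.Helper86.AltPro.S7

/-!
# S2222 piece (S8) for helper86: Sylow 2-subgroups of `Sym(n)` are self-normalizing
-/

set_option autoImplicit false
set_option linter.unusedSectionVars false
set_option linter.unusedVariables false

namespace Cfsg.Agent.Helper31.AltPro

open Equiv Equiv.Perm Cfsg.Agent.Helper42 Cfsg.Agent.Helper42.MaxSyl

/-- an embedding `Fin (n / 2) × ZMod 2 ↪ Fin n` misses at most one point. -/
theorem out_unique (n : ℕ) (ι : Fin (n / 2) × ZMod 2 ↪ Fin n) :
    ∀ b b' : Fin n, b ∉ Set.range ι → b' ∉ Set.range ι → b = b' := by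
  intro b b' hb hb'
  by_contra hne
  have hsub : (Finset.univ : Finset (Fin (n / 2) × ZMod 2)).map ι ⊆
      ((Finset.univ : Finset (Fin n)).erase b).erase b' := by
    intro c hc
    rw [Finset.mem_map] at hc
    obtain ⟨a, -, rfl⟩ := hc
    rw [Finset.mem_erase, Finset.mem_erase]
    refine ⟨?_, ?_, Finset.mem_univ _⟩
    · rintro h; exact hb' ⟨a, h⟩
    · rintro h; exact hb ⟨a, h⟩
  have h1 := Finset.card_le_card hsub
  rw [Finset.card_map, Finset.card_univ, Fintype.card_prod, ZMod.card, Fintype.card_fin,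
    Finset.card_erase_of_mem (by
      rw [Finset.mem_erase]; exact ⟨Ne.symm hne, Finset.mem_univ _⟩),
    Finset.card_erase_of_mem (Finset.mem_univ _), Finset.card_univ, Fintype.card_fin] at h1
  omega

/-- (S8) Sylow 2-subgroups of symmetric groups are self-normalizing. -/
theorem sylow_two_perm_normalizer : ∀ (n : ℕ) (P : Sylow 2 (Perm (Fin n))),
    Subgroup.normalizer ((P : Subgroup (Perm (Fin n))) : Set (Perm (Fin n))) = P := by
  intro n
  induction n using Nat.strong_induction_on with
  | _ n ih =>
    intro P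
    rcases Nat.eq_zero_or_pos n with rfl | hpos
    · exact Subsingleton.elim _ _
    · have hlt : n / 2 < n := Nat.div_lt_self hpos one_lt_two
      let Pm0 : Sylow 2 (Perm (Fin (n / 2))) := default
      obtain ⟨ι, hP⟩ := sylow_eq_stdW n Pm0 P
      rw [hP]
      exact Cfsg.Agent.Helper86.AltPro.normalizer_stdW ι (out_unique n ι) Pm0 (ih (n / 2) hlt Pm0)

end Cfsg.Agent.Helper31.AltPro
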