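import Mathlib
import Cfsg.Agent.Helper31.AltProS8

/-!
# S2222 pieces (S11), (S12) for helper86, relative to the statement of (S10)

`S10At n` is the statement of (S10) at `β = Fin (n / 2)`, `γ = Fin n`; from it we get the
normalizer in `S_n` of `P ⊓ A_n` for a Sylow 2-subgroup `P` of `S_n` (`n ≥ 6`), and then that the
Sylow 2-subgroups of `A_n` are self-normalizing.
-/

set_option autoImplicit false
set_option linter.unusedSectionVars false
set_option linter.unusedVariables false

namespace Cfsg.Agent.Helper31.AltPro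

open Equiv Equiv.Perm Cfsg.Agent.Helper42 Cfsg.Agent.Helper42.MaxSyl

/-- the statement of (S10) at `β = Fin (n / 2)`, `γ = Fin n`. -/
def S10At (n : ℕ) : Prop :=
  ∀ (ι : Fin (n / 2) × ZMod 2 ↪ Fin n)
    (_hout : ∀ b b' : Fin n, b ∉ Set.range ι → b' ∉ Set.range ι → b = b')
    (K : Sylow 2 (Perm (Fin (n / 2))))
    (_hK : Subgroup.normalizer ((K : Subgroup (Perm (Fin (n / 2)))) :
      Set (Perm (Fin (n / 2)))) = K)
    (_h3 : 3 ≤ Fintype.card (Fin (n / 2))),
    Subgroup.normalizer ((stdW ι (K : Subgroup (Perm (Fin (n / 2)))) ⊓ alternatingGroup (Fin n) :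
      Subgroup (Perm (Fin n))) : Set (Perm (Fin n))) = stdW ι (K : Subgroup (Perm (Fin (n / 2))))

/-- (S11), relative to (S10): the normalizer in `S_n` of a Sylow 2-subgroup of `A_n`, `n ≥ 6`. -/
theorem sylow_two_inf_alternating_normalizer_of (n : ℕ) (hn : 6 ≤ n) (h10 : S10At n)
    (P : Sylow 2 (Perm (Fin n))) :
    Subgroup.normalizer (((P : Subgroup (Perm (Fin n))) ⊓ alternatingGroup (Fin n) :
      Subgroup (Perm (Fin n))) : Set (Perm (Fin n))) = P := by
  let Pm0 : Sylow 2 (Perm (Fin (n / 2))) := default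
  obtain ⟨ι, hP⟩ := sylow_eq_stdW n Pm0 P
  rw [hP]
  exact h10 ι (out_unique n ι) Pm0 (sylow_two_perm_normalizer (n / 2) Pm0)
    (by rw [Fintype.card_fin]; omega)

/-- generic step for (S12): if `N_G(Q ⊓ A) = Q` for every Sylow `p`-subgroup `Q` of `G`, then the
Sylow `p`-subgroups of `A` are self-normalizing in `A`. -/
theorem normalizer_sylow_of_inf {G : Type*} [Group G] (A : Subgroup G) {p : ℕ} [Fact p.Prime]
    (h11 : ∀ Q : Sylow p G,
      Subgroup.normalizer (((Q : Subgroup G) ⊓ A : Subgroup G) : Set G) = Q)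
    (P : Sylow p A) : Subgroup.normalizer ((P : Subgroup A) : Set A) = P := by
  have hP' : IsPGroup p ((P : Subgroup A).map A.subtype) := P.2.map _
  obtain ⟨Q, hQ⟩ := hP'.exists_le_sylow
  have hR : IsPGroup p (((Q : Subgroup G) ⊓ A).subgroupOf A) :=
    (Q.2.to_le inf_le_left).comap_subtype
  have hPR : (P : Subgroup A) ≤ ((Q : Subgroup G) ⊓ A).subgroupOf A := by
    intro x hx
    rw [Subgroup.mem_subgroupOf]
    exact ⟨hQ (Subgroup.mem_map_of_mem _ hx), x.2⟩
  have hRP : ((Q : Subgroup G) ⊓ A).subgroupOf A = P := P.is_maximal' hR hPR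
  apply le_antisymm _ Subgroup.le_normalizer
  intro g hg
  have hgn := Subgroup.mem_normalizer_iff.mp hg
  have hmem : (g : G) ∈ Subgroup.normalizer (((Q : Subgroup G) ⊓ A : Subgroup G) : Set G) := by
    rw [Subgroup.mem_normalizer_iff]
    intro y
    constructor
    · intro hy
      have hyA : y ∈ A := hy.2
      have h1 : (⟨y, hyA⟩ : A) ∈ (P : Subgroup A) := by
        rw [← hRP, Subgroup.mem_subgroupOf]; exact hy
      have h2 := (hgn _).mp h1
      rw [← hRP, Subgroup.mem_subgroupOf] at h2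
      exact h2
    · intro hy
      have hyA : y ∈ A := by
        have h1 : (g : G) * y * (g : G)⁻¹ ∈ A := hy.2
        have h2 := A.mul_mem (A.mul_mem (A.inv_mem g.2) h1) g.2
        simpa [mul_assoc] using h2
      have h1 : g * (⟨y, hyA⟩ : A) * g⁻¹ ∈ (P : Subgroup A) := by
        rw [← hRP, Subgroup.mem_subgroupOf]; exact hy
      have h2 := (hgn _).mpr h1
      rw [← hRP, Subgroup.mem_subgroupOf] at h2
      exact h2
  rw [h11 Q] at hmem
  rw [← hRP, Subgroup.mem_subgroupOf]
  exact ⟨hmem, g.2⟩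

/-- (S12), relative to (S10): Sylow 2-subgroups of `A_n`, `n ≥ 6`, are self-normalizing. -/
theorem sylow_two_alternating_normalizer_of (n : ℕ) (hn : 6 ≤ n) (h10 : S10At n)
    (P : Sylow 2 (alternatingGroup (Fin n))) :
    Subgroup.normalizer ((P : Subgroup (alternatingGroup (Fin n))) :
      Set (alternatingGroup (Fin n))) = P :=
  normalizer_sylow_of_inf (alternatingGroup (Fin n))
    (fun Q => sylow_two_inf_alternating_normalizer_of n hn h10 Q) P

end Cfsg.Agent.Helper31.AltPro
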