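import Mathlib
import Cfsg.Agent.Helper31.AltProS11
import Cfsg.Agent.Helper63.AltProS10f

/-!
# S2222 pieces (S11), (S12) for helper86: final forms

The normalizer in `S_n` of a Sylow 2-subgroup of `A_n` (`n ≥ 6`), and the self-normalizing property
of the Sylow 2-subgroups of `A_n`, from helper63's (S10).
-/

set_option autoImplicit false
set_option linter.unusedSectionVars false
set_option linter.unusedVariables false

namespace Cfsg.Agent.Helper31.AltPro

open Equiv Equiv.Perm Cfsg.Agent.Helper42 Cfsg.Agent.Helper42.MaxSyl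

/-- the statement of (S10) holds at `β = Fin (n / 2)`, `γ = Fin n`. -/
theorem s10At (n : ℕ) : S10At n := fun ι hout K hK h3 =>
  Cfsg.Agent.Helper63.AltPro.normalizer_stdW_inf_alternating ι hout K hK h3

/-- (S11) the normalizer in `S_n` of a Sylow 2-subgroup of `A_n`, `n ≥ 6`. -/
theorem sylow_two_inf_alternating_normalizer (n : ℕ) (hn : 6 ≤ n) (P : Sylow 2 (Perm (Fin n))) :
    Subgroup.normalizer (((P : Subgroup (Perm (Fin n))) ⊓ alternatingGroup (Fin n) :
      Subgroup (Perm (Fin n))) : Set (Perm (Fin n))) = P :=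
  sylow_two_inf_alternating_normalizer_of n hn (s10At n) P

/-- (S12) Sylow 2-subgroups of `A_n`, `n ≥ 6`, are self-normalizing. -/
theorem sylow_two_alternating_normalizer (n : ℕ) (hn : 6 ≤ n)
    (P : Sylow 2 (alternatingGroup (Fin n))) :
    Subgroup.normalizer ((P : Subgroup (alternatingGroup (Fin n))) :
      Set (alternatingGroup (Fin n))) = P :=
  sylow_two_alternating_normalizer_of n hn (s10At n) P

end Cfsg.Agent.Helper31.AltPro
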