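import Mathlib

/-!
# S1472 (B-G Appendix C), the (FIELD) pieces of helper47's board post 4077 (helper31)
-/

set_option autoImplicit false
set_option linter.unusedSectionVars false
set_option linter.unusedVariables false
set_option linter.style.haveILetI false

namespace Cfsg.Agent.Helper31.AppC

open Polynomial

theorem mem_of_pow_eq_one_of_card {F : Type*} [Field F] (n : ℕ) (hn : 0 < n) (S : Finset F)
    (hS : ∀ c ∈ S, c ^ n = 1) (hcard : S.card = n) (c : F) (hc : c ^ n = 1) : c ∈ S := by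
  classical
  have hsub : S ⊆ nthRootsFinset n (1 : F) := by
    intro x hx
    rw [mem_nthRootsFinset hn]
    exact hS x hx
  have hle : (nthRootsFinset n (1 : F)).card ≤ S.card := by
    rw [hcard]
    unfold nthRootsFinset
    exact (Multiset.toFinset_card_le _).trans (card_nthRoots n 1)
  have heq := Finset.eq_of_subset_of_card_le hsub hle
  rw [heq, mem_nthRootsFinset hn]
  exact hc

theorem exists_nat_eq_of_pow_eq_self (p q : ℕ) [Fact p.Prime] (F : Type*) [Field F] [Fintype F]
    (hF : Fintype.card F = p ^ q) (c : F) (h2 : c ^ p = c) : ∃ k : ℕ, c = (k : F) := by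
  classical
  have hp : p.Prime := Fact.out
  have hq0 : q ≠ 0 := by
    rintro rfl
    rw [pow_zero] at hF
    have := Fintype.one_lt_card (α := F)
    omega
  haveI : CharP F p := by
    obtain ⟨r, hr⟩ := CharP.exists F
    haveI := hr
    have hrp : r.Prime := CharP.char_is_prime F r
    have h1 : r ∣ Fintype.card F := by
      have : ((Fintype.card F : ℕ) : F) = 0 := Nat.cast_card_eq_zero F
      exact (CharP.cast_eq_zero_iff F r _).1 this
    rw [hF] at h1
    have h2 : r = p := (Nat.prime_dvd_prime_iff_eq hrp hp).1 (hrp.dvd_of_dvd_pow h1)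
    rw [← h2]; exact hr
  -- the polynomial `X ^ p - X`
  set f : F[X] := X ^ p - X with hf
  have hf0 : f ≠ 0 := FiniteField.X_pow_card_sub_X_ne_zero F hp.one_lt
  have hdeg : f.natDegree = p := FiniteField.X_pow_card_sub_X_natDegree_eq F hp.one_lt
  set S : Finset F := (Finset.range p).image (fun k : ℕ => (k : F)) with hSdef
  have hScard : S.card = p := by
    rw [hSdef, Finset.card_image_of_injOn, Finset.card_range]
    intro a ha b hb hab
    have ha' : a < p := Finset.mem_range.1 ha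
    have hb' : b < p := Finset.mem_range.1 hb
    have := (CharP.natCast_eq_natCast F p).1 hab
    exact Nat.ModEq.eq_of_lt_of_lt this ha' hb'
  have hroot : ∀ x : F, x ^ p = x → x ∈ f.roots.toFinset := by
    intro x hx
    rw [Multiset.mem_toFinset, mem_roots hf0, IsRoot, hf]
    simp [hx]
  have hSsub : S ⊆ f.roots.toFinset := by
    intro x hx
    rw [hSdef, Finset.mem_image] at hx
    obtain ⟨k, -, rfl⟩ := hx
    apply hroot
    haveI : ExpChar F p := ExpChar.prime hp
    have h3 : frobenius F p (k : F) = (k : F) := map_natCast (frobenius F p) k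
    rwa [frobenius_def] at h3
  have hle : f.roots.toFinset.card ≤ S.card := by
    rw [hScard, ← hdeg]
    exact (Multiset.toFinset_card_le _).trans (card_roots' f)
  have heq := Finset.eq_of_subset_of_card_le hSsub hle
  have hc : c ∈ S := by rw [heq]; exact hroot c h2
  rw [hSdef, Finset.mem_image] at hc
  obtain ⟨k, -, hk⟩ := hc
  exact ⟨k, hk.symm⟩

theorem eq_one_of_pow_eq_one_of_pow_eq_self (p q : ℕ) [Fact p.Prime] [Fact q.Prime]
    (hA : Nat.Coprime ((p ^ q - 1) / (p - 1)) (p - 1)) (F : Type*) [Field F] [Fintype F]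
    (hF : Fintype.card F = p ^ q) (c : F) (h1 : c ^ ((p ^ q - 1) / (p - 1)) = 1)
    (h2 : c ^ p = c) : c = 1 := by
  have hp : p.Prime := Fact.out
  have hc0 : c ≠ 0 := by
    rintro rfl
    have hn : (p ^ q - 1) / (p - 1) ≠ 0 := by
      intro h0
      rw [h0] at hA
      rw [Nat.coprime_zero_left] at hA
      rw [h0, pow_zero] at h1
      -- `p - 1 = 1`, so `p = 2` and `(2^q - 1)/1 = 0` is impossible
      have hp2 : p = 2 := by omega
      subst hp2
      have hq : (Fact.out : q.Prime).one_lt = (Fact.out : q.Prime).one_lt := rfl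
      have : 2 ^ q - 1 ≥ 1 := by
        have := Nat.one_lt_two_pow (n := q) (Fact.out : q.Prime).ne_zero
        omega
      simp at h0
      omega
    rw [zero_pow hn] at h1
    exact zero_ne_one h1
  have h3 : c ^ (p - 1) = 1 := by
    have : c ^ (p - 1) * c = 1 * c := by
      rw [← pow_succ, Nat.sub_add_cancel hp.one_le, h2, one_mul]
    exact mul_right_cancel₀ hc0 this
  have h4 : orderOf c ∣ (p ^ q - 1) / (p - 1) := orderOf_dvd_of_pow_eq_one h1
  have h5 : orderOf c ∣ p - 1 := orderOf_dvd_of_pow_eq_one h3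
  exact orderOf_eq_one_iff.1 (Nat.eq_one_of_dvd_coprimes hA h4 h5)

theorem exists_nat_mul_root (p q : ℕ) [Fact p.Prime] [Fact q.Prime]
    (hA : Nat.Coprime ((p ^ q - 1) / (p - 1)) (p - 1)) (F : Type*) [Field F] [Fintype F]
    (hF : Fintype.card F = p ^ q) (d : F) (hd : d ≠ 0) :
    ∃ (k : ℕ) (c : F), ¬ p ∣ k ∧ c ^ ((p ^ q - 1) / (p - 1)) = 1 ∧ d = (k : F) * c := by
  have hp : p.Prime := Fact.out
  set n : ℕ := (p ^ q - 1) / (p - 1) with hn
  have hdiv : p - 1 ∣ p ^ q - 1 := by
    have := Nat.sub_dvd_pow_sub_pow p 1 q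
    rwa [one_pow] at this
  have hmul : (p - 1) * n = p ^ q - 1 := Nat.mul_div_cancel' hdiv
  have hd1 : d ^ (p ^ q - 1) = 1 := by
    rw [← hF]; exact FiniteField.pow_card_sub_one_eq_one d hd
  -- Bezout
  have hbez : (1 : ℤ) = (n : ℤ) * Nat.gcdA n (p - 1) + ((p - 1 : ℕ) : ℤ) * Nat.gcdB n (p - 1) := by
    have := Nat.gcd_eq_gcd_ab n (p - 1)
    rw [hA.gcd_eq_one] at this
    exact_mod_cast this
  set a : ℤ := Nat.gcdA n (p - 1) with ha
  set b : ℤ := Nat.gcdB n (p - 1) with hb
  set u : F := d ^ ((n : ℤ) * a) with hu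
  set c : F := d ^ (((p - 1 : ℕ) : ℤ) * b) with hc
  have huc : d = u * c := by
    rw [hu, hc, ← zpow_add₀ hd, ← hbez, zpow_one]
  have hd1' : d ^ (((p - 1 : ℕ) : ℤ) * (n : ℤ)) = 1 := by
    rw [← Nat.cast_mul, zpow_natCast, hmul, hd1]
  have hu1 : u ^ (p - 1) = 1 := by
    rw [hu, ← zpow_natCast, ← zpow_mul]
    have : (n : ℤ) * a * ((p - 1 : ℕ) : ℤ) = (((p - 1 : ℕ) : ℤ) * (n : ℤ)) * a := by ring
    rw [this, zpow_mul, hd1', one_zpow]
  have hc1 : c ^ n = 1 := by
    rw [hc, ← zpow_natCast, ← zpow_mul]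
    have : ((p - 1 : ℕ) : ℤ) * b * (n : ℤ) = (((p - 1 : ℕ) : ℤ) * (n : ℤ)) * b := by ring
    rw [this, zpow_mul, hd1', one_zpow]
  have hup : u ^ p = u := by
    have : u ^ p = u ^ (p - 1) * u := by
      rw [← pow_succ, Nat.sub_add_cancel hp.one_le]
    rw [this, hu1, one_mul]
  obtain ⟨k, hk⟩ := exists_nat_eq_of_pow_eq_self p q F hF u hup
  have hu0 : u ≠ 0 := by rw [hu]; exact zpow_ne_zero _ hd
  refine ⟨k, c, ?_, hc1, by rw [← hk]; exact huc⟩
  intro hpk
  haveI : CharP F p := by
    obtain ⟨r, hr⟩ := CharP.exists F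
    haveI := hr
    have hrp : r.Prime := CharP.char_is_prime F r
    have h1 : r ∣ Fintype.card F := by
      have : ((Fintype.card F : ℕ) : F) = 0 := Nat.cast_card_eq_zero F
      exact (CharP.cast_eq_zero_iff F r _).1 this
    rw [hF] at h1
    have h2 : r = p := (Nat.prime_dvd_prime_iff_eq hrp hp).1 (hrp.dvd_of_dvd_pow h1)
    rw [← h2]; exact hr
  apply hu0
  rw [hk]
  exact (CharP.cast_eq_zero_iff F p k).2 hpk

end Cfsg.Agent.Helper31.AppC
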