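import Mathlib
import Cfsg.Agent.Helper34.AutOrb.Defs

set_option autoImplicit false

/-! # Piece (C2) of S4067: fusing data when the commutator subgroup has order two -/

namespace Cfsg.Agent.Helper31.AutOrbC2

open Cfsg.Agent.Helper34.AutOrb

open scoped commutatorElement

/-- The commutator subgroup of order two: its nonidentity element and the basic relations. -/
theorem exists_basic {G : Type*} [Group G] (hc : Nat.card (commutator G) = 2) :
    ∃ c : G, c ∈ commutator G ∧ c ≠ 1 ∧ (∀ k ∈ commutator G, k = 1 ∨ k = c) ∧ (∀ g : G, g * c = c * g) ∧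
      c * c = 1 ∧ ∀ g h : G, g * h = h * g ∨ g * h = c * (h * g) := by
  obtain ⟨c', hc'1, hc'u⟩ := (Nat.card_eq_two_iff' (1 : commutator G)).mp hc
  have hc1 : (c' : G) ≠ 1 := fun h => hc'1 (Subtype.ext h)
  have hor : ∀ k ∈ commutator G, k = 1 ∨ k = (c' : G) := by
    intro k hk
    by_cases h : k = 1
    · exact Or.inl h
    · right
      have h2 := hc'u ⟨k, hk⟩ (fun h3 => h (congrArg Subtype.val h3))
      exact congrArg Subtype.val h2
  have hcen : ∀ g : G, g * (c' : G) = (c' : G) * g := by
    intro g
    have hn : (commutator G).Normal := inferInstance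
    have h1 : g * (c' : G) * g⁻¹ ∈ commutator G := hn.conj_mem _ c'.2 g
    rcases hor _ h1 with h2 | h2
    · exfalso
      apply hc1
      have h3 : g * (c' : G) = g := by
        have := congrArg (· * g) h2
        simpa using this
      exact mul_left_cancel (a := g) (by rw [h3, mul_one])
    · have := congrArg (· * g) h2
      simpa using this
  have hcc : (c' : G) * (c' : G) = 1 := by
    rcases hor _ ((commutator G).mul_mem c'.2 c'.2) with h | h
    · exact h
    · exfalso
      apply hc1
      exact mul_left_cancel (a := (c' : G)) (by rw [h, mul_one])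
  refine ⟨c', c'.2, hc1, hor, hcen, hcc, ?_⟩
  intro g h
  have h1 : ⁅g, h⁆ ∈ commutator G := by
    rw [commutator_def]
    exact Subgroup.commutator_mem_commutator (Subgroup.mem_top g) (Subgroup.mem_top h)
  rcases hor _ h1 with h2 | h2
  · exact Or.inl (commutatorElement_eq_one_iff_mul_comm.mp h2)
  · right
    rw [commutatorElement_def] at h2
    have h3 : g * h = (c' : G) * h * g := by
      have := congrArg (· * (h * g)) h2
      simp only [mul_assoc, inv_mul_cancel_left, inv_mul_cancel, mul_one] at this
      rw [this, mul_assoc]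
    rw [h3, mul_assoc]

/-- The centralizer of a noncentral element has index two. -/
theorem index_centralizer_eq_two {G : Type*} [Group G] {c : G} (hc1 : c ≠ 1) (hcen : ∀ g : G, g * c = c * g)
    (hcc : c * c = 1) (hcomm : ∀ g h : G, g * h = h * g ∨ g * h = c * (h * g)) {x : G}
    (hx : x ∉ Subgroup.center G) : (Subgroup.centralizer ({x} : Set G)).index = 2 := by
  rw [Subgroup.mem_center_iff] at hx
  push Not at hx
  obtain ⟨a, ha⟩ := hx
  have ha' : a * x = c * (x * a) := by
    rcases hcomm a x with h | h
    · exact absurd h ha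
    · exact h
  rw [Subgroup.index_eq_two_iff]
  refine ⟨a, fun b => ?_⟩
  have hne : ∀ w : G, c * w ≠ w := by
    intro w h
    apply hc1
    exact mul_right_cancel (b := w) (by rw [h, one_mul])
  rcases hcomm b x with h | h
  · right
    refine ⟨Subgroup.mem_centralizer_singleton_iff.mpr h, ?_⟩
    rw [Subgroup.mem_centralizer_singleton_iff]
    intro h2
    have h3 : b * a * x = c * (x * (b * a)) := by
      rw [mul_assoc, ha', ← mul_assoc, hcen, mul_assoc, ← mul_assoc b x a, h, mul_assoc]
    rw [h2] at h3
    exact hne _ h3.symm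
  · left
    refine ⟨?_, ?_⟩
    · rw [Subgroup.mem_centralizer_singleton_iff]
      calc b * a * x = b * (a * x) := mul_assoc _ _ _
        _ = b * (c * (x * a)) := by rw [ha']
        _ = c * (b * x * a) := by rw [← mul_assoc b c, hcen, mul_assoc c, mul_assoc b x a]
        _ = c * (c * (x * b) * a) := by rw [h]
        _ = (c * c) * (x * (b * a)) := by simp only [mul_assoc]
        _ = x * (b * a) := by rw [hcc, one_mul]
    · rw [Subgroup.mem_centralizer_singleton_iff]
      intro h2
      rw [h2] at h
      exact hne _ h.symm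

/-- Squares are central. -/
theorem sq_mem_center {G : Type*} [Group G] {c : G} (hcen : ∀ g : G, g * c = c * g)
    (hcc : c * c = 1) (hcomm : ∀ g h : G, g * h = h * g ∨ g * h = c * (h * g)) (g : G) :
    g * g ∈ Subgroup.center G := by
  rw [Subgroup.mem_center_iff]
  intro h
  rcases hcomm h g with h1 | h1
  · rw [← mul_assoc, h1, mul_assoc, h1, ← mul_assoc]
  · calc h * (g * g) = h * g * g := (mul_assoc _ _ _).symm
      _ = c * (g * h) * g := by rw [h1]
      _ = c * (g * (h * g)) := by simp only [mul_assoc]
      _ = c * (g * (c * (g * h))) := by rw [h1]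
      _ = c * (g * c * (g * h)) := by simp only [mul_assoc]
      _ = c * (c * g * (g * h)) := by rw [hcen g]
      _ = (c * c) * (g * g * h) := by simp only [mul_assoc]
      _ = g * g * h := by rw [hcc, one_mul]

/-- The square of a product of two elements that do not commute. -/
theorem mul_mul_mul_eq {G : Type*} [Group G] {c : G} (hcen : ∀ g : G, g * c = c * g)
    (hcc : c * c = 1) {g h : G} (hgh : g * h = c * (h * g)) :
    (g * h) * (g * h) = c * ((g * g) * (h * h)) := by
  have hhg : h * g = c * (g * h) := by
    rw [hgh, ← mul_assoc, hcc, one_mul]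
  calc (g * h) * (g * h) = g * (h * g) * h := by simp only [mul_assoc]
    _ = g * (c * (g * h)) * h := by rw [hhg]
    _ = g * c * (g * h) * h := by simp only [mul_assoc]
    _ = c * g * (g * h) * h := by rw [hcen g]
    _ = c * ((g * g) * (h * h)) := by simp only [mul_assoc]

/-- Data of the first kind: a central involution outside the commutator subgroup. -/
theorem nonempty_of_central_involution {G : Type*} [Group G] {c : G} (hc1 : c ≠ 1)
    (hor : ∀ k ∈ commutator G, k = 1 ∨ k = c) (hcen : ∀ g : G, g * c = c * g)
    (hcc : c * c = 1) (hcomm : ∀ g h : G, g * h = h * g ∨ g * h = c * (h * g)) {x : G}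
    (hx : x ∉ Subgroup.center G) {z : G} (hz : z ∈ Subgroup.center G) (hzz : z * z = 1) (hz1 : z ≠ 1)
    (hzc : z ≠ c) : Nonempty (FuseData G 2) := by
  have hidx := index_centralizer_eq_two hc1 hcen hcc hcomm hx
  have hzcomm : ∀ g : G, g * z = z * g := Subgroup.mem_center_iff.mp hz
  refine ⟨{
    M := Subgroup.centralizer ({x} : Set G)
    m := z
    normal := Subgroup.normal_of_index_eq_two hidx
    index_eq := hidx
    center_le := Subgroup.center_le_centralizer _
    m_mem := Subgroup.center_le_centralizer _ hz
    m_comm := fun u _ => (hzcomm u).symm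
    pow_eq := ?_
    m_not_mem := ?_
    m_pow_mem := ?_ }⟩
  · intro y _
    rw [pow_two, pow_two]
    calc y * z * (y * z) = y * (z * y) * z := by simp only [mul_assoc]
      _ = y * (y * z) * z := by rw [← hzcomm y]
      _ = y * y * (z * z) := by simp only [mul_assoc]
      _ = y * y := by rw [hzz, mul_one]
  · intro h
    rcases hor z h with h1 | h1
    · exact hz1 h1
    · exact hzc h1
  · rw [pow_two, hzz]
    exact (commutator G).one_mem

/-- Data of the second kind: a noncentral element whose square is the commutator. -/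
theorem nonempty_of_noncentral_sqrt {G : Type*} [Group G] {c : G} (hc : c ∈ commutator G) (hc1 : c ≠ 1)
    (hor : ∀ k ∈ commutator G, k = 1 ∨ k = c) (hcen : ∀ g : G, g * c = c * g)
    (hcc : c * c = 1) (hcomm : ∀ g h : G, g * h = h * g ∨ g * h = c * (h * g)) {m : G}
    (hm : m ∉ Subgroup.center G) (hmm : m * m = c) : Nonempty (FuseData G 2) := by
  have hidx := index_centralizer_eq_two hc1 hcen hcc hcomm hm
  refine ⟨{
    M := Subgroup.centralizer ({m} : Set G)
    m := m
    normal := Subgroup.normal_of_index_eq_two hidx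
    index_eq := hidx
    center_le := Subgroup.center_le_centralizer _
    m_mem := Subgroup.mem_centralizer_singleton_iff.mpr rfl
    m_comm := fun u hu => (Subgroup.mem_centralizer_singleton_iff.mp hu).symm
    pow_eq := ?_
    m_not_mem := ?_
    m_pow_mem := ?_ }⟩
  · intro y hy
    rw [Subgroup.mem_centralizer_singleton_iff] at hy
    have hym : y * m = c * (m * y) := by
      rcases hcomm y m with h | h
      · exact absurd h hy
      · exact h
    rw [pow_two, pow_two, mul_mul_mul_eq hcen hcc hym, hmm, ← mul_assoc, ← hcen, mul_assoc, hcc, mul_one]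
  · intro h
    apply hm
    rcases hor m h with h1 | h1
    · rw [h1]
      exact (Subgroup.center G).one_mem
    · rw [h1, Subgroup.mem_center_iff]
      exact hcen
  · rw [pow_two, hmm]
    exact hc

/-- **Piece (C2).** -/
theorem exists_fuseData_two {G : Type*} [Group G] [Finite G] (hna : ¬ IsMulCommutative G)
    (hc : Nat.card (commutator G) = 2) (h2 : (Nat.card G).minFac = 2) : Nonempty (FuseData G 2) := by
  classical
  obtain ⟨c, hcm, hc1, hor, hcen, hcc, hcomm⟩ := exists_basic hc
  -- two elements that do not commute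
  have hxy : ∃ x y : G, x * y ≠ y * x := by
    by_contra h
    push Not at h
    exact hna ⟨⟨h⟩⟩
  obtain ⟨x, y, hxy⟩ := hxy
  have hxy' : x * y = c * (y * x) := by
    rcases hcomm x y with h | h
    · exact absurd h hxy
    · exact h
  have hxZ : x ∉ Subgroup.center G := fun h => hxy ((Subgroup.mem_center_iff.mp h y).symm)
  have hyZ : y ∉ Subgroup.center G := fun h => hxy (Subgroup.mem_center_iff.mp h x)
  have hxyZ : x * y ∉ Subgroup.center G := by
    intro h
    have h3 := Subgroup.mem_center_iff.mp h x
    apply hxy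
    have h4 : x * (x * y) = x * (y * x) := by rw [h3, mul_assoc]
    exact mul_left_cancel h4
  by_cases hI : ∃ z ∈ Subgroup.center G, z * z = 1 ∧ z ≠ 1 ∧ z ≠ c
  · obtain ⟨z, hz, hzz, hz1, hzc⟩ := hI
    exact nonempty_of_central_involution hc1 hor hcen hcc hcomm hxZ hz hzz hz1 hzc
  by_cases hII : ∃ m : G, m ∉ Subgroup.center G ∧ m * m = c
  · obtain ⟨m, hm, hmm⟩ := hII
    exact nonempty_of_noncentral_sqrt hcm hc1 hor hcen hcc hcomm hm hmm
  exfalso
  push Not at hI hII
  have hcZ : c ∈ Subgroup.center G := Subgroup.mem_center_iff.mpr hcen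
  -- the squaring endomorphism of the centre
  let sq : ↥(Subgroup.center G) →* ↥(Subgroup.center G) :=
    { toFun := fun z => z * z
      map_one' := mul_one 1
      map_mul' := fun a b => by
        apply Subtype.ext
        show (a : G) * (b : G) * ((a : G) * (b : G)) = (a : G) * (a : G) * ((b : G) * (b : G))
        have h := Subgroup.mem_center_iff.mp b.2 (a : G)
        calc (a : G) * (b : G) * ((a : G) * (b : G)) = (a : G) * ((b : G) * (a : G)) * (b : G) := by
              simp only [mul_assoc]
          _ = (a : G) * ((a : G) * (b : G)) * (b : G) := by rw [h]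
          _ = (a : G) * (a : G) * ((b : G) * (b : G)) := by simp only [mul_assoc] }
  have hsq : ∀ z : ↥(Subgroup.center G), ((sq z : ↥(Subgroup.center G)) : G) = (z : G) * (z : G) :=
    fun z => rfl
  have hker : Nat.card sq.ker = 2 := by
    rw [Nat.card_eq_two_iff' (1 : sq.ker)]
    have hCk : (⟨c, hcZ⟩ : ↥(Subgroup.center G)) ∈ sq.ker := by
      rw [MonoidHom.mem_ker]
      apply Subtype.ext
      rw [hsq]
      exact hcc
    refine ⟨⟨⟨c, hcZ⟩, hCk⟩, ?_, ?_⟩
    · intro h
      apply hc1
      have := congrArg (fun w : sq.ker => ((w : ↥(Subgroup.center G)) : G)) h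
      exact this
    · intro w hw
      have hwk : sq (w : ↥(Subgroup.center G)) = 1 := w.2
      have h3 : ((w : ↥(Subgroup.center G)) : G) * ((w : ↥(Subgroup.center G)) : G) = 1 := by
        rw [← hsq, hwk]
        rfl
      have h4 : ((w : ↥(Subgroup.center G)) : G) ≠ 1 := by
        intro h
        apply hw
        apply Subtype.ext
        apply Subtype.ext
        exact h
      have h5 := hI _ (w : ↥(Subgroup.center G)).2 h3 h4
      apply Subtype.ext
      apply Subtype.ext
      exact h5
  have hidx : sq.range.index = 2 := by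
    have e1 := Subgroup.index_ker sq
    have e2 := Subgroup.card_mul_index sq.ker
    have e3 := Subgroup.card_mul_index sq.range
    rw [hker, e1] at e2
    rw [← e2] at e3
    have hpos : 0 < Nat.card sq.range := Nat.card_pos
    have e4 : Nat.card sq.range * sq.range.index = Nat.card sq.range * 2 := by rw [e3, mul_comm]
    exact Nat.eq_of_mul_eq_mul_left hpos e4
  -- squares of noncentral elements avoid the coset `c * range`
  have hkey : ∀ (g : G) (hg : g ∉ Subgroup.center G) (hgg : g * g ∈ Subgroup.center G),
      (⟨c, hcZ⟩ : ↥(Subgroup.center G)) * ⟨g * g, hgg⟩ ∉ sq.range := by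
    rintro g hg hgg ⟨z, hz⟩
    have h3 : (z : G) * (z : G) = c * (g * g) := by
      rw [← hsq, hz]
      rfl
    have hzc : ∀ w : G, w * (z : G) = (z : G) * w := Subgroup.mem_center_iff.mp z.2
    have hzi : ∀ w : G, w * (z : G)⁻¹ = (z : G)⁻¹ * w := by
      intro w
      have := hzc ((z : G)⁻¹ * w * (z : G)⁻¹)
      simp only [mul_assoc, inv_mul_cancel, mul_one, mul_inv_cancel_left] at this
      exact this.symm
    apply hII (g * (z : G)⁻¹)
    · intro h
      apply hg
      have := (Subgroup.center G).mul_mem h z.2
      simpa using this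
    · have h4 : g * g = c * ((z : G) * (z : G)) := by
        rw [h3, ← mul_assoc, hcc, one_mul]
      calc g * (z : G)⁻¹ * (g * (z : G)⁻¹) = g * ((z : G)⁻¹ * g) * (z : G)⁻¹ := by simp only [mul_assoc]
        _ = g * (g * (z : G)⁻¹) * (z : G)⁻¹ := by rw [← hzi g]
        _ = (g * g) * ((z : G)⁻¹ * (z : G)⁻¹) := by simp only [mul_assoc]
        _ = c * ((z : G) * (z : G)) * ((z : G)⁻¹ * (z : G)⁻¹) := by rw [h4]
        _ = c := by simp only [mul_assoc, mul_inv_cancel_left, mul_inv_cancel, mul_one]
  have hX := sq_mem_center hcen hcc hcomm x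
  have hY := sq_mem_center hcen hcc hcomm y
  have hXY := sq_mem_center hcen hcc hcomm (x * y)
  have k1 := hkey x hxZ hX
  have k2 := hkey y hyZ hY
  have k3 := hkey (x * y) hxyZ hXY
  have e : (⟨c, hcZ⟩ : ↥(Subgroup.center G)) * ⟨x * y * (x * y), hXY⟩ =
      (⟨x * x, hX⟩ : ↥(Subgroup.center G)) * ⟨y * y, hY⟩ := by
    apply Subtype.ext
    show c * (x * y * (x * y)) = x * x * (y * y)
    rw [mul_mul_mul_eq hcen hcc hxy', ← mul_assoc, hcc, one_mul]
  rw [e] at k3
  rw [Subgroup.mul_mem_iff_of_index_two hidx] at k1 k2 k3
  tauto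

end Cfsg.Agent.Helper31.AutOrbC2
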