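import Mathlib

/-!
# (KA) for helper58's S0508 (#11739): `O ⊔ C = O C` for elementwise commuting subgroups
-/

set_option autoImplicit false
set_option linter.unusedSectionVars false

namespace Cfsg.Agent.Helper31.BSWD

open Subgroup

section K

variable {G : Type*} [Group G] [Finite G] (O C : Subgroup G) (t s : G)

/-- (KA) -/
theorem mem_sup_iff_of_commute (hcomm : ∀ o ∈ O, ∀ c ∈ C, o * c = c * o) (x : G) :
    x ∈ O ⊔ C ↔ ∃ o ∈ O, ∃ c ∈ C, x = o * c := by
  constructor
  · intro hx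
    -- the set of products is a subgroup
    let T : Subgroup G :=
      { carrier := {x | ∃ o ∈ O, ∃ c ∈ C, x = o * c}
        one_mem' := ⟨1, O.one_mem, 1, C.one_mem, by rw [mul_one]⟩
        mul_mem' := by
          rintro _ _ ⟨o, ho, c, hc, rfl⟩ ⟨o', ho', c', hc', rfl⟩
          refine ⟨o * o', O.mul_mem ho ho', c * c', C.mul_mem hc hc', ?_⟩
          calc o * c * (o' * c') = o * (c * o') * c' := by group
            _ = o * (o' * c) * c' := by rw [hcomm o' ho' c hc]
            _ = o * o' * (c * c') := by group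
        inv_mem' := by
          rintro _ ⟨o, ho, c, hc, rfl⟩
          refine ⟨o⁻¹, O.inv_mem ho, c⁻¹, C.inv_mem hc, ?_⟩
          rw [mul_inv_rev, hcomm o⁻¹ (O.inv_mem ho) c⁻¹ (C.inv_mem hc)] }
    have hO : O ≤ T := fun o ho => ⟨o, ho, 1, C.one_mem, by rw [mul_one]⟩
    have hC : C ≤ T := fun c hc => ⟨1, O.one_mem, c, hc, by rw [one_mul]⟩
    exact (sup_le hO hC) hx
  · rintro ⟨o, ho, c, hc, rfl⟩
    exact (O ⊔ C).mul_mem ((le_sup_left : O ≤ O ⊔ C) ho) ((le_sup_right : C ≤ O ⊔ C) hc)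

end K

end Cfsg.Agent.Helper31.BSWD
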