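import Mathlib
import Cfsg.Agent.Helper31.BSWDKA

/-!
# (KB) for helper58's S0508 (#11739): `O ⊔ C` is abelian (`O` inverted by `s`, `C` cyclic, `[O, C] = 1`)
-/

set_option autoImplicit false
set_option linter.unusedSectionVars false

namespace Cfsg.Agent.Helper31.BSWD

open Subgroup

section K

variable {G : Type*} [Group G] [Finite G] (O C : Subgroup G) (t s : G)

/-- a subgroup inverted by conjugation with `s` is abelian -/
theorem commute_of_inverted (hsO : ∀ o ∈ O, s * o * s⁻¹ = o⁻¹) :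
    ∀ a ∈ O, ∀ b ∈ O, a * b = b * a := by
  intro a ha b hb
  have h1 := hsO (a * b) (O.mul_mem ha hb)
  have h2 : s * (a * b) * s⁻¹ = (s * a * s⁻¹) * (s * b * s⁻¹) := by group
  rw [h2, hsO a ha, hsO b hb, mul_inv_rev] at h1
  -- `a⁻¹ * b⁻¹ = b⁻¹ * a⁻¹`
  have h3 : (a * b)⁻¹ = (b * a)⁻¹ := by rw [mul_inv_rev, mul_inv_rev, h1]
  exact inv_injective h3

/-- (KB) -/
theorem sup_abelian (hcomm : ∀ o ∈ O, ∀ c ∈ C, o * c = c * o)
    (hsO : ∀ o ∈ O, s * o * s⁻¹ = o⁻¹) (hC : IsCyclic ↥C) :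
    ∀ a ∈ O ⊔ C, ∀ b ∈ O ⊔ C, a * b = b * a := by
  have hOab := commute_of_inverted O s hsO
  have hCab : ∀ c ∈ C, ∀ c' ∈ C, c * c' = c' * c := by
    intro c hc c' hc'
    have hcm : IsMulCommutative ↥C := @IsCyclic.isMulCommutative ↥C _ hC
    have h := isMulCommutative_iff.mp hcm ⟨c, hc⟩ ⟨c', hc'⟩
    exact congrArg Subtype.val h
  intro a ha b hb
  obtain ⟨o, ho, c, hc, rfl⟩ := (mem_sup_iff_of_commute O C hcomm a).mp ha
  obtain ⟨o', ho', c', hc', rfl⟩ := (mem_sup_iff_of_commute O C hcomm b).mp hb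
  calc o * c * (o' * c') = o * (c * o') * c' := by group
    _ = o * (o' * c) * c' := by rw [hcomm o' ho' c hc]
    _ = (o * o') * (c * c') := by group
    _ = (o' * o) * (c' * c) := by rw [hOab o ho o' ho', hCab c hc c' hc']
    _ = o' * (o * c') * c := by group
    _ = o' * (c' * o) * c := by rw [hcomm o ho c' hc']
    _ = o' * c' * (o * c) := by group

end K

end Cfsg.Agent.Helper31.BSWD
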