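import Mathlib
import Cfsg.Agent.Helper31.BSWDKA

/-!
# (KC) for helper58's S0508 (#11739): `s` inverts `O ⊔ C`
-/

set_option autoImplicit false
set_option linter.unusedSectionVars false

namespace Cfsg.Agent.Helper31.BSWD

open Subgroup

section K

variable {G : Type*} [Group G] [Finite G] (O C : Subgroup G) (t s : G)

/-- (KC) -/
theorem sup_inverted (hcomm : ∀ o ∈ O, ∀ c ∈ C, o * c = c * o)
    (hsO : ∀ o ∈ O, s * o * s⁻¹ = o⁻¹) (hsC : ∀ c ∈ C, s * c * s⁻¹ = c⁻¹) :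
    ∀ x ∈ O ⊔ C, s * x * s⁻¹ = x⁻¹ := by
  intro x hx
  obtain ⟨o, ho, c, hc, rfl⟩ := (mem_sup_iff_of_commute O C hcomm x).mp hx
  have h2 : s * (o * c) * s⁻¹ = (s * o * s⁻¹) * (s * c * s⁻¹) := by group
  rw [h2, hsO o ho, hsC c hc, hcomm o ho c hc, mul_inv_rev]

end K

end Cfsg.Agent.Helper31.BSWD
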