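import Mathlib
import Cfsg.Prelude.Def_Blocks
import Cfsg.Agent.Helper74.CharBasic
import Cfsg.Agent.Helper76.CharBasic
import Cfsg.Agent.Helper80.CharBasic
import Cfsg.Agent.Helper82.GaloisConj

/-!
# Piece (C6) of helper95's plan for S4465 / S4469 (Blichfeldt): commuting `p`- and `r`-elements of
large order from Galois conjugates of a faithful irreducible character of small degree
-/

set_option autoImplicit false

namespace Cfsg.Agent.Helper31.Blich

open Cfsg

universe u

theorem geom_sum_rootOfUnity (ν : ℂ) (q : ℕ) (hν : ν ^ q = 1) :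
    ∑ j ∈ Finset.range q, ν ^ j = if ν = 1 then (q : ℂ) else 0 := by
  split_ifs with h
  · subst h; simp
  · have := mul_geom_sum ν q
    rw [hν, sub_self] at this
    exact (mul_eq_zero.1 this).resolve_left (sub_ne_zero.2 h)

/-- (E1) eigenvalues of `p`-power order whose power sums are stable under `k ↦ 1 + p^a j` have
order dividing `p^a`, if there are fewer than `p` of them. -/
theorem eigen_level (p : ℕ) [Fact p.Prime] (a d m : ℕ) (had : a ≤ d) (hm : m < p) (μ : Fin m → ℂ)
    (hμ : ∀ i, μ i ^ (p ^ d) = 1)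
    (h : ∀ j < p ^ (d - a), ∑ i, μ i ^ (1 + p ^ a * j) = ∑ i, μ i) :
    ∀ i, μ i ^ (p ^ a) = 1 := by
  classical
  set q := p ^ (d - a) with hq
  have hqpos : 0 < q := pow_pos (Fact.out : p.Prime).pos _
  have hν : ∀ i, (μ i ^ (p ^ a)) ^ q = 1 := by
    intro i
    rw [← pow_mul, hq, ← pow_add, Nat.add_sub_cancel' had]
    exact hμ i
  have h1 : ∑ j ∈ Finset.range q, ∑ i, μ i ^ (1 + p ^ a * j) = (q : ℂ) * ∑ i, μ i := by
    rw [Finset.sum_congr rfl (fun j hj => h j (Finset.mem_range.1 hj))]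
    simp [Finset.sum_const]
  have h2 : ∑ j ∈ Finset.range q, ∑ i, μ i ^ (1 + p ^ a * j) =
      ∑ i, μ i * (if μ i ^ (p ^ a) = 1 then (q : ℂ) else 0) := by
    rw [Finset.sum_comm]
    refine Finset.sum_congr rfl fun i _ => ?_
    rw [← geom_sum_rootOfUnity _ q (hν i), Finset.mul_sum]
    refine Finset.sum_congr rfl fun j _ => ?_
    rw [pow_add, pow_one, pow_mul]
  have hq0 : (q : ℂ) ≠ 0 := by exact_mod_cast hqpos.ne'
  have h3 : ∑ i ∈ Finset.univ.filter (fun i => ¬ μ i ^ (p ^ a) = 1), μ i = 0 := by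
    have h4 : (q : ℂ) * ∑ i, μ i =
        (q : ℂ) * ∑ i ∈ Finset.univ.filter (fun i => μ i ^ (p ^ a) = 1), μ i := by
      rw [← h1, h2, Finset.mul_sum, Finset.sum_filter]
      refine Finset.sum_congr rfl fun i _ => ?_
      split_ifs <;> ring
    have h5 := mul_left_cancel₀ hq0 h4
    have h6 := Finset.sum_filter_add_sum_filter_not Finset.univ (fun i => μ i ^ (p ^ a) = 1) μ
    rw [← h5] at h6
    exact left_eq_add.1 h6.symm
  have h7 : p ∣ Multiset.card ((Finset.univ.filter (fun i => ¬ μ i ^ (p ^ a) = 1)).val.map μ) := by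
    apply Cfsg.Agent.Helper76.dvd_card_of_sum_rootsOfUnity_eq_zero p d
    · intro x hx
      obtain ⟨i, -, rfl⟩ := Multiset.mem_map.1 hx
      exact hμ i
    · exact h3
  rw [Multiset.card_map] at h7
  have h8 : (Finset.univ.filter (fun i => ¬ μ i ^ (p ^ a) = 1)).card ≤ m := by
    calc _ ≤ (Finset.univ : Finset (Fin m)).card := Finset.card_filter_le _ _
      _ = m := by simp
  have h9 : (Finset.univ.filter (fun i => ¬ μ i ^ (p ^ a) = 1)).card = 0 :=
    Nat.eq_zero_of_dvd_of_lt h7 (lt_of_le_of_lt h8 hm)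
  intro i
  by_contra hi
  have : i ∈ Finset.univ.filter (fun i => ¬ μ i ^ (p ^ a) = 1) := by simp [hi]
  rw [Finset.card_eq_zero] at h9
  rw [h9] at this
  simp at this


/-- a rational number whose image in `ℂ` is an algebraic integer is an integer -/
theorem exists_int_of_isIntegral_rat (y : ℚ) (hy : IsIntegral ℤ ((y : ℂ))) : ∃ z : ℤ, (z : ℚ) = y := by
  have h1 : IsIntegral ℤ y := by
    have : (y : ℂ) = algebraMap ℚ ℂ y := rfl
    rw [this] at hy
    exact (isIntegral_algebraMap_iff (algebraMap ℚ ℂ).injective).1 hy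
  obtain ⟨z, hz⟩ := IsIntegrallyClosed.isIntegral_iff.1 h1
  exact ⟨z, by simpa using hz⟩

/-- (E2) fewer than `p - 1` `p`-th roots of unity whose power sums are all equal are all `1`. -/
theorem eigen_level_zero (p : ℕ) [Fact p.Prime] (m : ℕ) (hm : m + 1 < p) (μ : Fin m → ℂ)
    (hμ : ∀ i, μ i ^ p = 1)
    (h : ∀ j, 1 ≤ j → j < p → ∑ i, μ i ^ j = ∑ i, μ i) :
    ∀ i, μ i = 1 := by
  classical
  have hp : p.Prime := Fact.out
  set S := Finset.univ.filter (fun i => ¬ μ i = 1) with hS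
  set T := Finset.univ.filter (fun i => μ i = 1) with hT
  have hST : T.card + S.card = m := by
    have := Finset.card_filter_add_card_filter_not (s := (Finset.univ : Finset (Fin m)))
      (fun i => μ i = 1)
    simpa using this
  -- the double sum, first way
  have h1 : ∑ j ∈ Finset.range p, ∑ i, μ i ^ j = (p : ℂ) * T.card := by
    rw [Finset.sum_comm]
    have : ∀ i, ∑ j ∈ Finset.range p, μ i ^ j = if μ i = 1 then (p : ℂ) else 0 :=
      fun i => geom_sum_rootOfUnity _ p (hμ i)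
    rw [Finset.sum_congr rfl (fun i _ => this i), ← Finset.sum_filter, Finset.sum_const,
      nsmul_eq_mul, mul_comm]
  -- second way
  have h2 : ∑ j ∈ Finset.range p, ∑ i, μ i ^ j = (m : ℂ) + ((p : ℂ) - 1) * ∑ i, μ i := by
    obtain ⟨p', rfl⟩ : ∃ p', p = p' + 1 := ⟨p - 1, (Nat.sub_add_cancel hp.one_le).symm⟩
    rw [Finset.sum_range_succ']
    have : ∀ j ∈ Finset.range p', ∑ i, μ i ^ (j + 1) = ∑ i, μ i := by
      intro j hj
      exact h (j + 1) (by omega) (by have := Finset.mem_range.1 hj; omega)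
    rw [Finset.sum_congr rfl this]
    simp [Finset.sum_const]
    ring
  -- `(p - 1) (t - w) = s`
  have h3 : ((p : ℂ) - 1) * ((T.card : ℂ) - ∑ i, μ i) = (S.card : ℂ) := by
    have hm' : (m : ℂ) = (T.card : ℂ) + (S.card : ℂ) := by exact_mod_cast hST.symm
    have := h1.symm.trans h2
    rw [hm'] at this
    linear_combination this
  have hp1 : ((p : ℂ) - 1) ≠ 0 := by
    have : (1 : ℂ) = ((1 : ℕ) : ℂ) := by simp
    rw [sub_ne_zero, this]
    exact_mod_cast hp.one_lt.ne'
  have hint : IsIntegral ℤ ((T.card : ℂ) - ∑ i, μ i) := by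
    apply IsIntegral.sub
    · have h0 : IsIntegral ℤ (algebraMap ℤ ℂ (T.card : ℤ)) := isIntegral_algebraMap
      simpa using h0
    · apply IsIntegral.sum
      intro i _
      exact IsIntegral.of_pow hp.pos (by rw [hμ i]; exact isIntegral_one)
  have hy : ((((S.card : ℚ) / ((p : ℚ) - 1) : ℚ)) : ℂ) = (T.card : ℂ) - ∑ i, μ i := by
    push_cast
    rw [div_eq_iff hp1, mul_comm]
    exact h3.symm
  rw [← hy] at hint
  obtain ⟨z, hz⟩ := exists_int_of_isIntegral_rat _ hint
  have hp1' : ((p : ℚ) - 1) ≠ 0 := by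
    have : (1 : ℚ) = ((1 : ℕ) : ℚ) := by simp
    rw [sub_ne_zero, this]
    exact_mod_cast hp.one_lt.ne'
  have hz' : (S.card : ℤ) = z * ((p : ℤ) - 1) := by
    have : (S.card : ℚ) = (z : ℚ) * ((p : ℚ) - 1) := by
      rw [hz]; field_simp
    exact_mod_cast this
  have hSlt : (S.card : ℤ) < (p : ℤ) - 1 := by
    have : S.card ≤ m := by omega
    omega
  have hS0 : S.card = 0 := by
    have hnn : (0 : ℤ) ≤ S.card := Int.natCast_nonneg _
    have hpz : (0 : ℤ) < (p : ℤ) - 1 := by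
      have := hp.one_lt
      omega
    by_contra hne
    have hpos : (0 : ℤ) < S.card := by
      have : 0 < S.card := Nat.pos_of_ne_zero hne
      exact_mod_cast this
    have hz1 : 1 ≤ z := by
      by_contra hz1
      have : z ≤ 0 := by omega
      have : z * ((p : ℤ) - 1) ≤ 0 := mul_nonpos_of_nonpos_of_nonneg this hpz.le
      omega
    have : (p : ℤ) - 1 ≤ z * ((p : ℤ) - 1) := le_mul_of_one_le_left hpz.le hz1
    omega
  intro i
  by_contra hi
  have : i ∈ S := by simp [hS, hi]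
  rw [Finset.card_eq_zero] at hS0
  rw [hS0] at this
  simp at this

/-- (CRT) a residue `c` mod the `p`-part of `N`, prime to `p` and `≡ 1 mod p^a`, is realised by some
`k` coprime to `N` with `k ≡ 1` modulo `p^a` times the `p'`-part of `N`. -/
theorem exists_crt (p : ℕ) (hp : p.Prime) (N : ℕ) (hN : 0 < N) (hpN : p ∣ N) (a : ℕ)
    (ha : p ^ a ∣ N) (c : ℕ) (hc : c.Coprime p) (hc1 : c ≡ 1 [MOD p ^ a]) :
    ∃ k : ℕ, k.Coprime N ∧ k ≡ 1 [MOD p ^ a * ordCompl[p] N] ∧ k ≡ c [MOD ordProj[p] N] := by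
  have hcop0 : p.Coprime (ordCompl[p] N) := Nat.coprime_ordCompl hp hN.ne'
  have hcop : (ordProj[p] N).Coprime (ordCompl[p] N) := Nat.Coprime.pow_left _ hcop0
  have hcopa : (p ^ a).Coprime (ordCompl[p] N) := Nat.Coprime.pow_left _ hcop0
  obtain ⟨k, hk1, hk2⟩ := Nat.chineseRemainder hcop c 1
  have hfac : 1 ≤ N.factorization p :=
    (hp.dvd_iff_one_le_factorization hN.ne').1 hpN
  have hpα : p ∣ ordProj[p] N := dvd_pow_self p (by omega)
  have hale : a ≤ N.factorization p := (hp.pow_dvd_iff_le_factorization hN.ne').1 ha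
  have hpa : p ^ a ∣ ordProj[p] N := pow_dvd_pow p hale
  refine ⟨k, ?_, ?_, hk1⟩
  · rw [← Nat.ordProj_mul_ordCompl_eq_self N p]
    apply Nat.Coprime.mul_right
    · apply Nat.Coprime.pow_right
      have h1 : k ≡ c [MOD p] := hk1.of_dvd hpα
      have h2 := h1.gcd_eq
      rw [Nat.Coprime, h2]
      exact hc
    · have h2 := hk2.gcd_eq
      rw [Nat.Coprime, h2]
      exact Nat.gcd_one_left _
  · apply (Nat.modEq_and_modEq_iff_modEq_mul hcopa).1
    exact ⟨(hk1.of_dvd hpa).trans hc1, hk2⟩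


/-- Step 1: a faithful character of degree `< p - 1` is moved by some Galois conjugation that is
trivial at level `p^a` times the `p'`-part of `|G|`, if `G` has a `p`-element of order `> p^a`. -/
theorem exists_moving {G : Type u} [Group G] [Finite G] (ψ : G → ℂ) (hψ : IsCharacter G ψ)
    (hfaith : ∀ g : G, ψ g = ψ 1 → g = 1) (n : ℕ) (hn : charDegree ψ ≤ n) (p : ℕ) (hp : p.Prime)
    (hnp : n + 1 < p) (a : ℕ)
    (hx : ∃ g : G, (∃ k : ℕ, orderOf g = p ^ k) ∧ p ^ a < orderOf g) :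
    ∃ k : ℕ, k.Coprime (Nat.card G) ∧ k ≡ 1 [MOD p ^ a * ordCompl[p] (Nat.card G)] ∧
      ∃ g : G, ψ (g ^ k) ≠ ψ g := by
  haveI : Fact p.Prime := ⟨hp⟩
  by_contra H
  push Not at H
  obtain ⟨g, ⟨d, hd⟩, hlt⟩ := hx
  have hNpos : 0 < Nat.card G := Nat.card_pos
  have hdN : p ^ d ∣ Nat.card G := hd ▸ orderOf_dvd_natCard g
  have had : a < d := by
    rw [hd] at hlt
    exact (Nat.pow_lt_pow_iff_right hp.one_lt).1 hlt
  have hpN : p ∣ Nat.card G := (dvd_pow_self p (by omega)).trans hdN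
  have haN : p ^ a ∣ Nat.card G := (pow_dvd_pow p had.le).trans hdN
  have hdle : d ≤ (Nat.card G).factorization p :=
    (hp.pow_dvd_iff_le_factorization hNpos.ne').1 hdN
  have hdα : p ^ d ∣ ordProj[p] (Nat.card G) := pow_dvd_pow p hdle
  -- the key invariance
  have key : ∀ c : ℕ, c.Coprime p → c ≡ 1 [MOD p ^ a] → ∀ h : G, h ^ (p ^ d) = 1 →
      ψ (h ^ c) = ψ h := by
    intro c hc hc1 h hh
    obtain ⟨k, hk1, hk2, hk3⟩ := exists_crt p hp _ hNpos hpN a haN c hc hc1
    have h1 := H k hk1 hk2 h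
    have h2 : h ^ k = h ^ c := by
      rw [pow_eq_pow_iff_modEq]
      exact hk3.of_dvd ((orderOf_dvd_of_pow_eq_one hh).trans hdα)
    rw [← h2]
    exact h1
  obtain ⟨m, ρ, rfl⟩ := hψ
  have hdeg : Module.finrank ℂ (Fin m → ℂ) ≤ n := by
    rw [← Cfsg.Agent.Helper74.charDegree_rep ρ]; exact hn
  have hone : ∀ (h : G) (μ : Fin (Module.finrank ℂ (Fin m → ℂ)) → ℂ),
      (∀ k : ℕ, ρ.character (h ^ k) = ∑ i, μ i ^ k) →
      ρ.character 1 = (Module.finrank ℂ (Fin m → ℂ) : ℂ) := by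
    intro h μ h4
    have := h4 0
    simp
  rcases Nat.eq_zero_or_pos a with ha0 | hapos
  · -- level 0: an element of order `p`
    subst ha0
    set g' := g ^ (p ^ (d - 1)) with hg'
    have hg'p : g' ^ p = 1 := by
      rw [hg', ← pow_mul, ← pow_succ, Nat.sub_add_cancel (by omega), ← hd, pow_orderOf_eq_one]
    have hg'1 : g' ≠ 1 := by
      intro h1
      have h2 : orderOf g ∣ p ^ (d - 1) := orderOf_dvd_of_pow_eq_one h1
      rw [hd] at h2
      have := (Nat.pow_dvd_pow_iff_le_right hp.one_lt).1 h2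
      omega
    obtain ⟨bb, μ, -, h2, -, h4⟩ :=
      Cfsg.Agent.Helper80.exists_eigen_data_rep ρ g' (isOfFinOrder_of_finite g')
    have hμp : ∀ i, μ i ^ p = 1 := by
      intro i
      obtain ⟨c, hc⟩ := orderOf_dvd_of_pow_eq_one hg'p
      rw [hc, pow_mul, h2, one_pow]
    have hg'd : g' ^ (p ^ d) = 1 := by
      obtain ⟨e, rfl⟩ : ∃ e, d = e + 1 := ⟨d - 1, by omega⟩
      rw [pow_succ', pow_mul, hg'p, one_pow]
    have hall := eigen_level_zero p _ (lt_of_le_of_lt (Nat.add_le_add_right hdeg 1) hnp) μ hμp (by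
      intro j hj1 hjp
      have hcj : j.Coprime p := (Nat.coprime_of_lt_prime (by omega) hjp hp).symm
      have := key j hcj (by simp [Nat.modEq_one]) g' hg'd
      rw [h4] at this
      have h41 := h4 1
      simp only [pow_one] at h41
      rw [h41] at this
      exact this)
    apply hg'1
    apply hfaith
    rw [hone g' μ h4]
    have h41 := h4 1
    simp only [pow_one] at h41
    rw [h41]
    simp [hall]
  · -- level `a ≥ 1`
    obtain ⟨bb, μ, -, h2, -, h4⟩ :=
      Cfsg.Agent.Helper80.exists_eigen_data_rep ρ g (isOfFinOrder_of_finite g)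
    have hμd : ∀ i, μ i ^ (p ^ d) = 1 := by
      intro i
      rw [← hd]; exact h2 i
    have hgd : g ^ (p ^ d) = 1 := by rw [← hd]; exact pow_orderOf_eq_one g
    have hall := eigen_level p a d _ had.le (by omega) μ hμd (by
      intro j _
      have hpa : p ∣ p ^ a * j := dvd_mul_of_dvd_left (dvd_pow_self p (by omega)) j
      have hc0 : 1 + p ^ a * j ≡ 1 [MOD p] := by
        have := (Nat.modEq_zero_iff_dvd.2 hpa).add_left 1
        simpa using this
      have hcj : (1 + p ^ a * j).Coprime p := by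
        rw [Nat.Coprime, hc0.gcd_eq]
        exact Nat.gcd_one_left _
      have hc1 : 1 + p ^ a * j ≡ 1 [MOD p ^ a] := by
        have := (Nat.modEq_zero_iff_dvd.2 (dvd_mul_right (p ^ a) j)).add_left 1
        simpa using this
      have := key _ hcj hc1 g hgd
      rw [h4] at this
      have h41 := h4 1
      simp only [pow_one] at h41
      rw [h41] at this
      exact this)
    have hga : g ^ (p ^ a) = 1 := by
      apply hfaith
      rw [hone g μ h4, h4]
      simp [hall]
    have := Nat.le_of_dvd (pow_pos hp.pos a) (orderOf_dvd_of_pow_eq_one hga)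
    omega


/-- the `p`-part of an element whose order does not divide `p^a` times the `p'`-part of `|G|` -/
theorem exists_pPart_of_not_dvd {G : Type u} [Group G] [Finite G] (p : ℕ) (hp : p.Prime) (a : ℕ)
    (g : G) (hg : ¬ orderOf g ∣ p ^ a * ordCompl[p] (Nat.card G)) :
    (∃ k : ℕ, orderOf (g ^ ordCompl[p] (orderOf g)) = p ^ k) ∧
      p ^ a < orderOf (g ^ ordCompl[p] (orderOf g)) := by
  have ho : 0 < orderOf g := orderOf_pos g
  have hNpos : 0 < Nat.card G := Nat.card_pos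
  have h1 : orderOf (g ^ ordCompl[p] (orderOf g)) = ordProj[p] (orderOf g) := by
    rw [orderOf_pow_of_dvd (Nat.ordCompl_pos p ho.ne').ne' (Nat.ordCompl_dvd _ p)]
    exact Nat.div_eq_of_eq_mul_left (Nat.ordCompl_pos p ho.ne')
      (Nat.ordProj_mul_ordCompl_eq_self _ p).symm
  refine ⟨⟨_, h1⟩, ?_⟩
  rw [h1]
  by_contra hle
  push Not at hle
  apply hg
  have h2 : (orderOf g).factorization p ≤ a := (Nat.pow_le_pow_iff_right hp.one_lt).1 hle
  have h3 : ordCompl[p] (orderOf g) ∣ ordCompl[p] (Nat.card G) :=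
    Nat.ordCompl_dvd_ordCompl_of_dvd (orderOf_dvd_natCard g) p
  calc orderOf g = ordProj[p] (orderOf g) * ordCompl[p] (orderOf g) :=
        (Nat.ordProj_mul_ordCompl_eq_self _ p).symm
    _ ∣ p ^ a * ordCompl[p] (Nat.card G) := Nat.mul_dvd_mul (pow_dvd_pow p h2) h3

/-- **(C6)** -/
theorem exists_commute_of_galois {G : Type u} [Group G] [Finite G] (ψ : G → ℂ)
    (hψ : IsIrrCharacter G ψ) (hfaith : ∀ g : G, ψ g = ψ 1 → g = 1) (n : ℕ)
    (hn : charDegree ψ ≤ n) (p r : ℕ) (hp : p.Prime) (hr : r.Prime) (hpr : p ≠ r)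
    (hnp : n + 1 < p) (hnr : n + 1 < r) (a b : ℕ)
    (hx : ∃ g : G, (∃ k : ℕ, orderOf g = p ^ k) ∧ p ^ a < orderOf g)
    (hy : ∃ g : G, (∃ k : ℕ, orderOf g = r ^ k) ∧ r ^ b < orderOf g) :
    ∃ x y : G, Commute x y ∧ (∃ k : ℕ, orderOf x = p ^ k) ∧ p ^ a < orderOf x ∧
      (∃ k : ℕ, orderOf y = r ^ k) ∧ r ^ b < orderOf y := by
  classical
  have : Fintype G := Fintype.ofFinite G
  have hψc : IsCharacter G ψ := Cfsg.Agent.Helper74.isCharacter_of_isIrr hψ
  obtain ⟨k, hk1, hk2, gk, hgk⟩ := exists_moving ψ hψc hfaith n hn p hp hnp a hx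
  obtain ⟨l, hl1, hl2, gl, hgl⟩ := exists_moving ψ hψc hfaith n hn r hr hnr b hy
  have hψk : IsIrrCharacter G (fun g => ψ (g ^ k)) :=
    Cfsg.Agent.Helper82.galoisConj_isIrrCharacter hψ k hk1
  have hψl : IsIrrCharacter G (fun g => ψ (g ^ l)) :=
    Cfsg.Agent.Helper82.galoisConj_isIrrCharacter hψ l hl1
  have hψkl : IsIrrCharacter G (fun g => ψ (g ^ (k * l))) :=
    Cfsg.Agent.Helper82.galoisConj_isIrrCharacter hψ (k * l) (Nat.Coprime.mul_left hk1 hl1)
  have hkne : (⟨fun g => ψ (g ^ k), hψk⟩ : IrrCharacter G) ≠ ⟨ψ, hψ⟩ := by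
    intro h
    have := congrArg (fun χ : IrrCharacter G => (χ : G → ℂ) gk) h
    exact hgk this
  have hlne : (⟨fun g => ψ (g ^ l), hψl⟩ : IrrCharacter G) ≠ ⟨ψ, hψ⟩ := by
    intro h
    have := congrArg (fun χ : IrrCharacter G => (χ : G → ℂ) gl) h
    exact hgl this
  -- `η` does not vanish identically
  have hη : ∃ g : G, ψ (g ^ (k * l)) - ψ (g ^ l) - ψ (g ^ k) + ψ g ≠ 0 := by
    by_contra hcon
    push Not at hcon
    have hfun : (fun g => ψ (g ^ (k * l))) + ψ = (fun g => ψ (g ^ l)) + (fun g => ψ (g ^ k)) := by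
      funext g
      have := hcon g
      simp only [Pi.add_apply]
      linear_combination this
    have h1 := congrArg (fun φ => classInner φ ψ) hfun
    simp only [Cfsg.Agent.Helper74.classInner_add_left] at h1
    have e1 : classInner ψ ψ = 1 := Cfsg.Agent.Helper74.irr_inner_self (⟨ψ, hψ⟩ : IrrCharacter G)
    have e2 : classInner (fun g => ψ (g ^ k)) ψ = 0 := Cfsg.Agent.Helper74.irr_inner_ne hkne
    have e3 : classInner (fun g => ψ (g ^ l)) ψ = 0 := Cfsg.Agent.Helper74.irr_inner_ne hlne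
    rw [e1, e2, e3] at h1
    by_cases hkl : (⟨fun g => ψ (g ^ (k * l)), hψkl⟩ : IrrCharacter G) = ⟨ψ, hψ⟩
    · have e4 : classInner (fun g => ψ (g ^ (k * l))) ψ = 1 := by
        have := Cfsg.Agent.Helper74.irr_inner_self (⟨ψ, hψ⟩ : IrrCharacter G)
        have h5 : (fun g => ψ (g ^ (k * l))) = ψ := congrArg Subtype.val hkl
        rw [h5]; exact this
      rw [e4] at h1
      norm_num at h1
    · have e4 : classInner (fun g => ψ (g ^ (k * l))) ψ = 0 :=
        Cfsg.Agent.Helper74.irr_inner_ne hkl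
      rw [e4] at h1
      norm_num at h1
  obtain ⟨g, hg⟩ := hη
  -- the order of `g` is divisible by high powers of `p` and of `r`
  have hgp : ¬ orderOf g ∣ p ^ a * ordCompl[p] (Nat.card G) := by
    intro hdvd
    apply hg
    have h1 : g ^ k = g := by
      have : g ^ k = g ^ 1 := by
        rw [pow_eq_pow_iff_modEq]
        exact hk2.of_dvd hdvd
      simpa using this
    have h2 : (g ^ l) ^ k = g ^ l := by
      have : (g ^ l) ^ k = (g ^ l) ^ 1 := by
        rw [pow_eq_pow_iff_modEq]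
        exact hk2.of_dvd ((orderOf_pow_dvd l).trans hdvd)
      simpa using this
    rw [mul_comm k l, pow_mul, h2, h1]
    ring
  have hgr : ¬ orderOf g ∣ r ^ b * ordCompl[r] (Nat.card G) := by
    intro hdvd
    apply hg
    have h1 : g ^ l = g := by
      have : g ^ l = g ^ 1 := by
        rw [pow_eq_pow_iff_modEq]
        exact hl2.of_dvd hdvd
      simpa using this
    have h2 : (g ^ k) ^ l = g ^ k := by
      have : (g ^ k) ^ l = (g ^ k) ^ 1 := by
        rw [pow_eq_pow_iff_modEq]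
        exact hl2.of_dvd ((orderOf_pow_dvd k).trans hdvd)
      simpa using this
    rw [pow_mul, h2, h1]
    ring
  obtain ⟨hx1, hx2⟩ := exists_pPart_of_not_dvd p hp a g hgp
  obtain ⟨hy1, hy2⟩ := exists_pPart_of_not_dvd r hr b g hgr
  exact ⟨g ^ ordCompl[p] (orderOf g), g ^ ordCompl[r] (orderOf g),
    (Commute.refl g).pow_pow _ _, hx1, hx2, hy1, hy2⟩

end Cfsg.Agent.Helper31.Blich
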