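import Mathlib
import Cfsg.Agent.Helper77.Blk.Defs

/-!
# Piece (MCA) `alpha_cent` of helper77's S3888 (Blackburn) skeleton (#13307).
-/

set_option autoImplicit false

universe u

namespace Cfsg.Agent.Helper31.Blk

open Subgroup Cfsg.Agent.Helper77.Blk

section alpha
variable {G : Type u} [Group G] [Finite G] {p : ℕ} [hp : Fact p.Prime]

/-- an element of a `p`-group outside a subgroup containing all elements of order dividing `p` has a
power `w'` (commuting with whatever `w` commutes with) such that `w'^p ≠ 1` and `(w'^p)^p = 1`. -/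
theorem MCA_exists_pow (hG : IsPGroup p G) (w : G) (hw : w ^ p ≠ 1) :
    ∃ n : ℕ, (w ^ n) ^ p ≠ 1 ∧ ((w ^ n) ^ p) ^ p = 1 := by
  obtain ⟨k, hk⟩ := (IsPGroup.iff_orderOf.mp hG) w
  have hk2 : 2 ≤ k := by
    by_contra hlt
    have hk01 : k = 0 ∨ k = 1 := by omega
    apply hw
    rcases hk01 with rfl | rfl
    · rw [pow_zero, orderOf_eq_one_iff] at hk
      rw [hk, one_pow]
    · rw [pow_one] at hk
      rw [← hk, pow_orderOf_eq_one]
  refine ⟨p ^ (k - 2), ?_, ?_⟩
  · rw [← pow_mul, ← pow_succ]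
    intro h
    have hdvd := orderOf_dvd_of_pow_eq_one h
    rw [hk, Nat.pow_dvd_pow_iff_le_right hp.out.one_lt] at hdvd
    omega
  · rw [← pow_mul, ← pow_mul]
    have : p ^ (k - 2) * (p * p) = p ^ k := by
      rw [← mul_assoc, ← pow_succ, ← pow_succ]
      congr 1
      omega
    rw [this, ← hk, pow_orderOf_eq_one]

/-- (MCA) in case alpha, for `b1 ∉ C` with `b1^p ∈ E`: every `w ∈ C` commuting with `b1` lies in `E`. -/
theorem alpha_cent (hG : IsPGroup p G) (E : Subgroup G) [E.Normal] (hEcard : Nat.card E = p ^ 2)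
    (hEexp : ∀ e ∈ E, e ^ p = 1) (hall : ∀ g : G, g ^ p = 1 → g ∈ E) (b1 : G) (hACT : TransvAct E b1)
    (hb1 : b1 ∉ centralizer (E : Set G)) (hb1p : b1 ^ p ∈ E) :
    ∀ w ∈ centralizer (E : Set G), b1⁻¹ * w * b1 = w → w ∈ E := by
  intro w hwC hwb
  by_contra hwE
  -- `E ≤ C`
  have hEC : E ≤ centralizer (E : Set G) := by
    intro e he
    rw [mem_centralizer_iff]
    intro h hh
    have := IsPGroup.commutative_of_card_eq_prime_sq hEcard ⟨h, hh⟩ ⟨e, he⟩
    exact congrArg Subtype.val this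
  -- an element of `E` moved by `b1`
  obtain ⟨e2, he2, hmove⟩ : ∃ e2 ∈ E, b1⁻¹ * e2 * b1 ≠ e2 := by
    by_contra hno
    push_neg at hno
    apply hb1
    rw [mem_centralizer_iff]
    intro h hh
    have := hno h hh
    calc h * b1 = b1 * (b1⁻¹ * h * b1) := by group
      _ = b1 * h := by rw [this]
  obtain ⟨hfix1, hfix, -⟩ := hACT e2 he2 hmove
  set e1 := e2⁻¹ * (b1⁻¹ * e2 * b1) with he1
  have he1E : e1 ∈ E := E.mul_mem (E.inv_mem he2) (by
    have := (inferInstance : E.Normal).conj_mem e2 he2 b1⁻¹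
    simpa using this)
  have he1ne : e1 ≠ 1 := by
    intro h
    apply hmove
    have : e2 * e1 = b1⁻¹ * e2 * b1 := by rw [he1]; group
    rw [← this, h, mul_one]
  have he1ord : orderOf e1 = p := orderOf_eq_prime (hEexp e1 he1E) he1ne
  have hZcard : Nat.card (zpowers e1) = p := by rw [Nat.card_zpowers, he1ord]
  -- `b1 ^ p` is a nontrivial element of `zpowers e1`
  have hb1pne : b1 ^ p ≠ 1 := fun h => hb1 (hEC (hall b1 h))
  have hb1pfix : b1⁻¹ * b1 ^ p * b1 = b1 ^ p := by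
    rw [mul_assoc, ← pow_succ, pow_succ', ← mul_assoc, inv_mul_cancel, one_mul]
  have hb1pZ : b1 ^ p ∈ zpowers e1 := hfix _ hb1p hb1pfix
  -- the power `w'` of `w`
  have hwp : w ^ p ≠ 1 := fun h => hwE (hall w h)
  obtain ⟨n, hn1, hn2⟩ := MCA_exists_pow hG w hwp
  set w' := w ^ n with hw'
  have hcomm : Commute b1 w := by
    have : w * b1 = b1 * w := by
      calc w * b1 = b1 * (b1⁻¹ * w * b1) := by group
        _ = b1 * w := by rw [hwb]
    exact this.symm
  have hcomm' : Commute b1 w' := hcomm.pow_right n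
  have htE : w' ^ p ∈ E := hall _ hn2
  have htfix : b1⁻¹ * w' ^ p * b1 = w' ^ p := by
    have := (hcomm'.pow_right p).eq
    rw [mul_assoc, ← this, ← mul_assoc, inv_mul_cancel, one_mul]
  have htZ : w' ^ p ∈ zpowers e1 := hfix _ htE htfix
  -- `w'^p` is a power of `b1^p`
  have hgen : zpowers (⟨b1 ^ p, hb1pZ⟩ : zpowers e1) = ⊤ :=
    zpowers_eq_top_of_prime_card hZcard (by
      intro h
      exact hb1pne (congrArg Subtype.val h))
  have hmem : (⟨w' ^ p, htZ⟩ : zpowers e1) ∈ zpowers (⟨b1 ^ p, hb1pZ⟩ : zpowers e1) := by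
    rw [hgen]; exact mem_top _
  obtain ⟨j, hj⟩ := mem_zpowers_iff.mp hmem
  have hj' : (b1 ^ p) ^ j = w' ^ p := by
    have := congrArg Subtype.val hj
    simpa using this
  -- `p ∤ j`
  have hpj : ¬ (p : ℤ) ∣ j := by
    rintro ⟨c, rfl⟩
    apply hn1
    rw [← hj', zpow_mul, zpow_natCast, hEexp _ hb1p, one_zpow]
  -- `(b1^j * w'⁻¹)^p = 1`
  have hx : (b1 ^ j * w'⁻¹) ^ p = 1 := by
    have hc : Commute (b1 ^ j) w'⁻¹ := (hcomm'.zpow_left j).inv_right
    rw [hc.mul_pow, inv_pow, ← hj', ← zpow_natCast (b1 ^ j) p, ← zpow_mul, mul_comm j, zpow_mul,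
      zpow_natCast, mul_inv_cancel]
  have hxE : b1 ^ j * w'⁻¹ ∈ E := hall _ hx
  have hw'C : w' ∈ centralizer (E : Set G) := (centralizer (E : Set G)).pow_mem hwC n
  have hbjC : b1 ^ j ∈ centralizer (E : Set G) := by
    have := (centralizer (E : Set G)).mul_mem (hEC hxE) hw'C
    simpa using this
  have hbpC : b1 ^ (p : ℤ) ∈ centralizer (E : Set G) := by
    rw [zpow_natCast]; exact hEC hb1p
  -- Bezout
  have hcop : IsCoprime j (p : ℤ) := by
    have hpp : Prime (p : ℤ) := Nat.prime_iff_prime_int.mp hp.out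
    exact ((Prime.coprime_iff_not_dvd hpp).mpr hpj).symm
  obtain ⟨a, b, hab⟩ := hcop
  apply hb1
  have : b1 = (b1 ^ j) ^ a * (b1 ^ (p : ℤ)) ^ b := by
    rw [← zpow_mul, ← zpow_mul, ← zpow_add, mul_comm j a, mul_comm (p : ℤ) b, hab, zpow_one]
  rw [this]
  exact (centralizer (E : Set G)).mul_mem ((centralizer (E : Set G)).zpow_mem hbjC a)
    ((centralizer (E : Set G)).zpow_mem hbpC b)

end alpha

end Cfsg.Agent.Helper31.Blk
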