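import Mathlib
import Cfsg.Agent.Helper78.Residue

set_option autoImplicit false

/-! # Piece (B-RK) of S4607: the reduction of an idempotent matrix over the local ring has rank
equal to the trace -/

namespace Cfsg.Agent.Helper31.BrandtRK

open Module Cfsg Cfsg.Agent.Helper78 Cfsg.Agent.Helper77
open scoped Matrix

section general

variable {K : Type*} [Field K] {m n : Type*} [Fintype m] [Fintype n]

/-- A matrix of rank `s` has `s` linearly independent rows. -/
theorem exists_rows (A : Matrix m n K) {s : ℕ} (hs : A.rank = s) :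
    ∃ r : Fin s → m, LinearIndependent K (fun i => A (r i)) := by
  classical
  subst hs
  obtain ⟨κ, a, ha, hsp, hli⟩ := exists_linearIndependent' K A.row
  have : Finite κ := Finite.of_injective a ha
  have := Fintype.ofFinite κ
  have hcard : Fintype.card κ = A.rank := by
    rw [A.rank_eq_finrank_span_row, ← hsp, finrank_span_eq_card hli]
  let e : Fin A.rank ≃ κ := (Fintype.equivFinOfCardEq hcard).symm
  exact ⟨a ∘ e, hli.comp e e.injective⟩

/-- A matrix of rank `s` has a nonzero `s × s` minor. -/
theorem exists_minor (A : Matrix m n K) :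
    ∃ (r : Fin A.rank → m) (c : Fin A.rank → n), (A.submatrix r c).det ≠ 0 := by
  classical
  obtain ⟨r, hr⟩ := exists_rows A rfl
  have hBrank : (A.submatrix r id).rank = A.rank := by
    have h := LinearIndependent.rank_matrix (M := A.submatrix r id) hr
    rw [h, Fintype.card_fin]
  have hT : (A.submatrix r id)ᵀ.rank = A.rank := by rw [Matrix.rank_transpose, hBrank]
  obtain ⟨c, hc⟩ := exists_rows (A.submatrix r id)ᵀ hT
  refine ⟨r, c, ?_⟩
  have hu : IsUnit ((A.submatrix r c)ᵀ) := Matrix.linearIndependent_rows_iff_isUnit.mp hc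
  have hd := (Matrix.isUnit_iff_isUnit_det _).mp hu
  rw [Matrix.det_transpose] at hd
  exact hd.ne_zero

omit [Fintype m] in
theorem rank_add_le' [Finite m] (A B : Matrix m n K) : (A + B).rank ≤ A.rank + B.rank := by
  unfold Matrix.rank
  rw [Matrix.mulVecLin_add]
  exact (Submodule.finrank_mono (LinearMap.range_add_le _ _)).trans
    (Submodule.finrank_add_le_finrank_add_finrank _ _)

/-- The rank of an idempotent matrix over a field is its trace. -/
theorem rank_eq_trace_of_idem [DecidableEq n] (E : Matrix n n K) (hE : E * E = E) :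
    ((E.rank : ℕ) : K) = E.trace := by
  have hid : IsIdempotentElem (Matrix.toLin' E) := by
    unfold IsIdempotentElem
    rw [Module.End.mul_eq_comp, ← Matrix.toLin'_mul, hE]
  have h := (LinearMap.IsIdempotentElem.isProj_range _ hid).trace
  rw [Matrix.trace_toLin'_eq] at h
  rw [h]
  rfl

/-- Reduction does not increase the rank. -/
theorem rank_map_le {R L : Type*} [CommRing R] [Field L] (f : R →+* K) (g : R →+* L)
    (hfg : ∀ x, g x = 0 → f x = 0) (X : Matrix m n R) :
    (X.map f).rank ≤ (X.map g).rank := by
  classical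
  obtain ⟨r, c, hdet⟩ := exists_minor (X.map f)
  have h1 : (f.mapMatrix (X.submatrix r c)).det ≠ 0 := hdet
  rw [← RingHom.map_det] at h1
  have h3 : g (X.submatrix r c).det ≠ 0 := fun h => h1 (hfg _ h)
  rw [RingHom.map_det] at h3
  have hu : IsUnit (g.mapMatrix (X.submatrix r c)) :=
    (Matrix.isUnit_iff_isUnit_det _).mpr (isUnit_iff_ne_zero.mpr h3)
  have h5 : ((X.map g).submatrix r c).rank = (X.map f).rank := by
    have := Matrix.rank_of_isUnit _ hu
    rw [Fintype.card_fin] at this
    exact this
  rw [← h5]
  exact Matrix.rank_submatrix_le _ r c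

end general

variable (M : Ideal AlgInt) [M.IsPrime]

/-- (B-RK), strong form: the reduction of an idempotent matrix over the local ring has the same
rank, and this rank is the trace. -/
theorem rank_map_resMap {ι : Type*} [Fintype ι] [DecidableEq ι] (E : Matrix ι ι ℂ)
    (hE : ∀ i j, MemLocalRing M (E i j)) (hidem : E * E = E) :
    (E.map (resMap M)).rank = E.rank ∧ ((E.rank : ℕ) : ℂ) = E.trace := by
  classical
  let ιR : ↥(localRing M) →+* ℂ := (localRing M).subtype
  let π : ↥(localRing M) →+* ResField M := Ideal.Quotient.mk (localIdeal M)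
  let E' : Matrix ι ι ↥(localRing M) := fun i j => ⟨E i j, hE i j⟩
  have hEι : ιR.mapMatrix E' = E := by
    ext i j
    rfl
  have hEπ : π.mapMatrix E' = E.map (resMap M) := by
    ext i j
    exact (resMap_of_mem (hE i j)).symm
  have hinj : Function.Injective
      (ιR.mapMatrix : Matrix ι ι ↥(localRing M) →+* Matrix ι ι ℂ) := by
    intro A B hAB
    ext i j
    have := congrFun (congrFun hAB i) j
    exact this
  have hidem' : E' * E' = E' := by
    apply hinj
    rw [map_mul, hEι, hidem]
  have hbar : π.mapMatrix E' * π.mapMatrix E' = π.mapMatrix E' := by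
    rw [← map_mul, hidem']
  have hfg : ∀ x, ιR x = 0 → π x = 0 := by
    intro x hx
    have : x = 0 := Subtype.ext hx
    rw [this, map_zero]
  have ha : (π.mapMatrix E').rank ≤ E.rank := by
    have := rank_map_le π ιR hfg E'
    rw [← hEι]
    exact this
  have hb : (1 - π.mapMatrix E').rank ≤ (1 - E).rank := by
    have := rank_map_le π ιR hfg (1 - E')
    have e1 : (1 - E').map π = 1 - π.mapMatrix E' := by
      rw [← RingHom.mapMatrix_apply, map_sub, map_one]
    have e2 : (1 - E').map ιR = 1 - E := by
      rw [← RingHom.mapMatrix_apply, map_sub, map_one, hEι]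
    rw [e1, e2] at this
    exact this
  have hc : E.rank + (1 - E).rank ≤ Fintype.card ι := by
    apply Matrix.rank_add_rank_le_card_of_mul_eq_zero
    rw [mul_sub, mul_one, hidem, sub_self]
  have hd : Fintype.card ι ≤ (π.mapMatrix E').rank + (1 - π.mapMatrix E').rank := by
    calc Fintype.card ι = (1 : Matrix ι ι (ResField M)).rank := Matrix.rank_one.symm
      _ = (π.mapMatrix E' + (1 - π.mapMatrix E')).rank := by rw [add_sub_cancel]
      _ ≤ _ := rank_add_le' _ _
  have hrank : (E.map (resMap M)).rank = E.rank := by
    rw [← hEπ]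
    omega
  exact ⟨hrank, rank_eq_trace_of_idem E hidem⟩

/-- (B-RK) the reduction of an idempotent matrix over the local ring has rank equal to the
trace. -/
theorem rank_map_resMap_eq_trace {ι : Type*} [Fintype ι] [DecidableEq ι] (E : Matrix ι ι ℂ)
    (hE : ∀ i j, MemLocalRing M (E i j)) (hidem : E * E = E) :
    (((E.map (resMap M)).rank : ℕ) : ℂ) = E.trace := by
  obtain ⟨h1, h2⟩ := rank_map_resMap M E hE hidem
  rw [h1, h2]

end Cfsg.Agent.Helper31.BrandtRK
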