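import Mathlib
import Cfsg.Prelude.Def_SolvableStructure
import Cfsg.Agent.Helper35.CPDef

/-!
# Pieces (P1), (P2) of helper35's plan for S3033: lifting prime-power elements through a
homomorphism; the conjugate-pair condition passes to quotients.
-/

set_option autoImplicit false

namespace Cfsg.Agent.Helper31.CP

open Cfsg.Agent.Helper35.CP

theorem exists_primePow_pow_map_eq {G H : Type*} [Group G] [Monoid H] (φ : G →* H) (g : G)
    (hg : IsOfFinOrder g) {t : ℕ} (ht : t.Prime) {f : ℕ} (h : φ g ^ t ^ f = 1) :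
    ∃ j : ℕ, (∃ e : ℕ, orderOf (g ^ j) = t ^ e) ∧ φ (g ^ j) = φ g := by
  have hn : orderOf g ≠ 0 := (orderOf_pos_iff.2 hg).ne'
  obtain ⟨k, s, hts, hks⟩ := Nat.exists_eq_pow_mul_and_not_dvd hn t ht.ne_one
  by_cases hf : t ^ f = 1
  · refine ⟨0, ⟨0, by simp⟩, ?_⟩
    rw [hf, pow_one] at h
    rw [pow_zero, map_one, h]
  · have h1 : 1 < t ^ f := lt_of_le_of_ne (Nat.one_le_iff_ne_zero.2 (pow_ne_zero _ ht.ne_zero))
      (Ne.symm hf)
    have hcop : Nat.Coprime s (t ^ f) :=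
      Nat.Coprime.pow_right _ ((Nat.Prime.coprime_iff_not_dvd ht).2 hts).symm
    obtain ⟨s', -, hs'⟩ := Nat.exists_mul_mod_eq_one_of_coprime hcop h1
    refine ⟨s * s', ?_, ?_⟩
    · have hpow : (g ^ (s * s')) ^ (t ^ k) = 1 := by
        rw [← pow_mul]
        have : s * s' * t ^ k = orderOf g * s' := by rw [hks]; ring
        rw [this, pow_mul, pow_orderOf_eq_one, one_pow]
      exact (Nat.dvd_prime_pow ht).1 (orderOf_dvd_of_pow_eq_one hpow) |>.imp fun e he => he.2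
    · rw [map_pow]
      have hdec := Nat.div_add_mod (s * s') (t ^ f)
      rw [hs'] at hdec
      rw [← hdec, pow_add, pow_mul, h, one_pow, one_mul, pow_one]

theorem conjPair_quotient {G : Type*} [Group G] [Finite G] (h : ConjPair G) (N : Subgroup G)
    [N.Normal] : ConjPair (G ⧸ N) := by
  intro p q hp hq hpq xbar gbar hx hg hdvd
  obtain ⟨a, ha⟩ := hx
  obtain ⟨b, hb⟩ := hg
  obtain ⟨x0, rfl⟩ := QuotientGroup.mk'_surjective N xbar
  obtain ⟨g0, rfl⟩ := QuotientGroup.mk'_surjective N gbar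
  obtain ⟨j, ⟨e, hje⟩, hjx⟩ := exists_primePow_pow_map_eq (QuotientGroup.mk' N) x0
    (isOfFinOrder_of_finite x0) hp (f := a) (by rw [← ha]; exact pow_orderOf_eq_one _)
  obtain ⟨i, ⟨e', hie⟩, hig⟩ := exists_primePow_pow_map_eq (QuotientGroup.mk' N) g0
    (isOfFinOrder_of_finite g0) hq (f := b) (by rw [← hb]; exact pow_orderOf_eq_one _)
  apply h p q hp hq hpq (x0 ^ j) (g0 ^ i) ⟨e, hje⟩ ⟨e', hie⟩
  have hmap : (Subgroup.zpowers (x0 ^ j) ⊔
      Subgroup.zpowers (g0 ^ i * x0 ^ j * (g0 ^ i)⁻¹)).map (QuotientGroup.mk' N) =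
      Subgroup.zpowers (QuotientGroup.mk' N x0) ⊔
        Subgroup.zpowers (QuotientGroup.mk' N g0 * QuotientGroup.mk' N x0 *
          (QuotientGroup.mk' N g0)⁻¹) := by
    rw [Subgroup.map_sup, MonoidHom.map_zpowers, MonoidHom.map_zpowers, map_mul, map_mul,
      map_inv, hjx, hig]
  exact hdvd.trans (hmap ▸ Subgroup.card_map_dvd _ _)

end Cfsg.Agent.Helper31.CP
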