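import Mathlib
import Cfsg.Prelude.Def_SolvableStructure
import Cfsg.Agent.Helper35.CPDef

/-!
# Piece (P6) of helper35's plan for S3033: in a supersolvable group, outside a proper normal
subgroup `Z` there is an element of prime power order generating a normal subgroup modulo `Z`.
-/

set_option autoImplicit false

namespace Cfsg.Agent.Helper31.CP

/-- some generator `g ∉ Z` of the supersolvable chain has `⟨g⟩ Z / Z` normal -/
theorem exists_elt_normal_mod {M : Type*} [Group M] [Finite M] (hss : Cfsg.IsSupersolvable M)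
    (Z : Subgroup M) [Z.Normal] (hZ : Z ≠ ⊤) :
    ∃ g : M, g ∉ Z ∧ ∀ m : M, ∃ z ∈ Z, ∃ k : ℕ, m * g * m⁻¹ = z * g ^ k := by
  classical
  obtain ⟨n, H, h0, hlast, hnorm, hstep⟩ := hss
  have hex : ∃ i : ℕ, ∃ hi : i < n + 1, ¬ H ⟨i, hi⟩ ≤ Z :=
    ⟨n, Nat.lt_succ_self n, by
      have : H ⟨n, Nat.lt_succ_self n⟩ = ⊤ := hlast
      rw [this]
      intro hle
      exact hZ (top_le_iff.1 hle)⟩
  obtain ⟨hi, hiZ⟩ := Nat.find_spec hex
  have hmin := fun j (hj : j < Nat.find hex) => Nat.find_min hex hj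
  set i := Nat.find hex with hidef
  have hi0 : i ≠ 0 := by
    intro h
    apply hiZ
    have : H ⟨i, hi⟩ = H 0 := by congr 1; exact Fin.ext h
    rw [this, h0]
    exact bot_le
  obtain ⟨i', hi'⟩ := Nat.exists_eq_succ_of_ne_zero hi0
  have hi'n : i' < n := by omega
  obtain ⟨g, hg⟩ := hstep ⟨i', hi'n⟩
  have hsucc : (⟨i', hi'n⟩ : Fin n).succ = ⟨i, hi⟩ := Fin.ext (by simp [hi'])
  have hcast : H (⟨i', hi'n⟩ : Fin n).castSucc ≤ Z := by
    have := hmin i' (by omega)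
    push Not at this
    exact this (by omega)
  rw [hsucc] at hg
  have hgZ : g ∉ Z := by
    intro hgZ
    apply hiZ
    rw [hg]
    exact sup_le hcast (Subgroup.zpowers_le.2 hgZ)
  refine ⟨g, hgZ, fun m => ?_⟩
  have hgH : g ∈ H ⟨i, hi⟩ := by
    rw [hg]
    exact Subgroup.mem_sup_right (Subgroup.mem_zpowers g)
  have hconj : m * g * m⁻¹ ∈ H ⟨i, hi⟩ := (hnorm ⟨i, hi⟩).conj_mem g hgH m
  rw [hg] at hconj
  have := hnorm (⟨i', hi'n⟩ : Fin n).castSucc
  have hset : m * g * m⁻¹ ∈ ((H (⟨i', hi'n⟩ : Fin n).castSucc ⊔ Subgroup.zpowers g :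
      Subgroup M) : Set M) := hconj
  rw [Subgroup.normal_mul, Set.mem_mul] at hset
  obtain ⟨z, hz, y, hy, hzy⟩ := hset
  have hy' : y ∈ Submonoid.powers g := mem_powers_iff_mem_zpowers.2 hy
  obtain ⟨k, rfl⟩ := (Submonoid.mem_powers_iff y g).1 hy'
  exact ⟨z, hcast hz, k, hzy.symm⟩

theorem exists_primePow_elt_normal_mod {M : Type*} [Group M] [Finite M]
    (hss : Cfsg.IsSupersolvable M) (Z : Subgroup M) [Z.Normal] (hZ : Z ≠ ⊤) :
    ∃ (a : M) (t e : ℕ), t.Prime ∧ orderOf a = t ^ e ∧ a ∉ Z ∧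
      ∀ m : M, ∃ z ∈ Z, ∃ k : ℕ, m * a * m⁻¹ = z * a ^ k := by
  obtain ⟨g, hgZ, hg⟩ := exists_elt_normal_mod hss Z hZ
  -- the image of `g` in `M ⧸ Z`
  have hπg : (QuotientGroup.mk' Z g) ≠ 1 := by
    intro h
    exact hgZ ((QuotientGroup.eq_one_iff g).1 h)
  have hord : orderOf (QuotientGroup.mk' Z g) ≠ 1 := fun h => hπg (orderOf_eq_one_iff.1 h)
  obtain ⟨t, ht, htd⟩ := Nat.exists_prime_and_dvd hord
  have hn : orderOf g ≠ 0 := (orderOf_pos g).ne'
  obtain ⟨e, s, hts, hes⟩ := Nat.exists_eq_pow_mul_and_not_dvd hn t ht.ne_one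
  have hs0 : s ≠ 0 := by
    rintro rfl
    exact hts (dvd_zero t)
  have hsd : s ∣ orderOf g := ⟨t ^ e, by rw [hes]; ring⟩
  have hoa : orderOf (g ^ s) = t ^ e := by
    rw [orderOf_pow_of_dvd hs0 hsd, hes]
    exact Nat.mul_div_cancel _ (Nat.pos_of_ne_zero hs0)
  refine ⟨g ^ s, t, e, ht, hoa, ?_, ?_⟩
  · intro haZ
    have h1 : (QuotientGroup.mk' Z g) ^ s = 1 := by
      rw [← map_pow]
      exact (QuotientGroup.eq_one_iff _).2 haZ
    exact hts (htd.trans (orderOf_dvd_of_pow_eq_one h1))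
  · intro m
    obtain ⟨z, hz, k, hk⟩ := hg m
    -- work in the quotient
    have hq : QuotientGroup.mk' Z (m * g ^ s * m⁻¹) = QuotientGroup.mk' Z ((g ^ s) ^ k) := by
      have h1 : QuotientGroup.mk' Z (m * g * m⁻¹) = QuotientGroup.mk' Z (g ^ k) := by
        have hz1 : QuotientGroup.mk' Z z = 1 := (QuotientGroup.eq_one_iff z).2 hz
        rw [hk, map_mul, hz1, one_mul]
      have h2 : m * g ^ s * m⁻¹ = (m * g * m⁻¹) ^ s := conj_pow.symm
      rw [h2, map_pow, h1, ← map_pow, ← pow_mul, ← pow_mul, mul_comm]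
    have hmem : (m * g ^ s * m⁻¹) * ((g ^ s) ^ k)⁻¹ ∈ Z := by
      rw [← QuotientGroup.eq_one_iff, ← QuotientGroup.mk'_apply, map_mul, map_inv, hq,
        mul_inv_cancel]
    exact ⟨(m * g ^ s * m⁻¹) * ((g ^ s) ^ k)⁻¹, hmem, k, by group⟩

end Cfsg.Agent.Helper31.CP
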