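import Cfsg.Agent.Helper31.PSolvExt
import Cfsg.Agent.Helper31.BGTrans3
import Cfsg.Agent.Helper54.PConstrained3
import Cfsg.Agent.S1902
import Cfsg.Agent.S0026

/-!
# Control of `q'`-cores under a coprime operator group (helper31)

`G = HP` with `H ⊴ G`, `(|H|, |P|) = 1`, `[H, P]` solvable, `z` a `q`-element of `C_H(P)`:
`(O_{q'}(C_H(z)) ∩ O_{q'}(C_H(P))) [O_{q'}(C_H(z)), P] ≤ O_{q'}(H)`.
-/

set_option autoImplicit false
open Cfsg
open scoped commutatorElement

namespace Cfsg.Agent.Helper31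

universe u

theorem AInv.sup {G : Type*} [Group G] {A U V : Subgroup G} (hU : AInv A U) (hV : AInv A V) :
    AInv A (U ⊔ V) := by
  intro b hb u hu
  have h1 : (U ⊔ V).map (MulAut.conj b).toMonoidHom ≤ U ⊔ V := by
    rw [Subgroup.map_sup]
    apply sup_le_sup
    · rintro _ ⟨u, hu, rfl⟩; exact hU b hb u hu
    · rintro _ ⟨v, hv, rfl⟩; exact hV b hb v hv
  exact h1 ⟨u, hu, rfl⟩

/-- `O_{q'}` is the `π`-core for `π` the set of primes other than `q`. -/
theorem pPrimeCore_eq_piCore {K : Type u} [Group K] {q : ℕ} (hq : q.Prime) :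
    pPrimeCore q K = piCore (primesNotDvd q) K := by
  unfold pPrimeCore piCore
  congr 1
  ext N
  simp only [Set.mem_setOf_eq]
  constructor
  · rintro ⟨hn, hc⟩
    refine ⟨hn, fun r hr hdvd => ⟨hr, fun hrq => ?_⟩⟩
    exact hr.one_lt.ne' (Nat.eq_one_of_dvd_coprimes hc hdvd hrq)
  · rintro ⟨hn, hc⟩
    refine ⟨hn, ?_⟩
    rw [Nat.coprime_comm, hq.coprime_iff_not_dvd]
    intro hdvd
    exact (hc q hq hdvd).2 dvd_rfl

theorem map_pPrimeCore_eq_piCoreOf {G : Type u} [Group G] {q : ℕ} (hq : q.Prime)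
    (K : Subgroup G) :
    (pPrimeCore q ↥K).map K.subtype = piCoreOf (primesNotDvd q) K := by
  unfold piCoreOf
  rw [pPrimeCore_eq_piCore hq]

theorem coprime_of_primesNotDvd {n q : ℕ}
    (h : ∀ r : ℕ, r.Prime → r ∣ n → r ∈ primesNotDvd q) : n.Coprime q := by
  by_contra hc
  obtain ⟨r, hr, h1, h2⟩ := Nat.Prime.not_coprime_iff_dvd.mp hc
  exact (h r hr h1).2 h2

/-- A group with normal series `1 ≤ L ≤ WL ≤ Γ`, `L` solvable, `W` a `q'`-group and `Γ/WL` a
`q`-group, is `q`-solvable. -/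
theorem isPSolvable_of_tower {Γ : Type u} [Group Γ] [Finite Γ] {q : ℕ} [Fact q.Prime]
    (L W : Subgroup Γ) [L.Normal] (hn : (W ⊔ L).Normal) (hsol : Group.IsSolvable L)
    (hW : (Nat.card W).Coprime q) (hidx : ∃ j : ℕ, (W ⊔ L).index = q ^ j) :
    IsPSolvable q Γ := by
  apply isPSolvable_of_solvable_normal L hsol
  set N : Subgroup (Γ ⧸ L) := (W ⊔ L).map (QuotientGroup.mk' L) with hN
  haveI : N.Normal := Subgroup.Normal.map hn _ (QuotientGroup.mk'_surjective L)
  have hN2 : N = W.map (QuotientGroup.mk' L) := by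
    rw [hN, Subgroup.map_sup, QuotientGroup.map_mk'_self, sup_bot_eq]
  apply isPSolvable_of_quotient_of_card N
  · right
    rw [hN2]
    exact Nat.Coprime.coprime_dvd_left (Subgroup.card_map_dvd _ _) hW
  · apply isPSolvable_of_card
    left
    obtain ⟨j, hj⟩ := hidx
    refine ⟨j, ?_⟩
    rw [← Subgroup.index_eq_card, hN,
      Subgroup.index_map_eq _ (QuotientGroup.mk'_surjective L)
        (by rw [QuotientGroup.ker_mk']; exact le_sup_right), hj]

/-- If `S` is `q`-solvable, `z ∈ S` a `q`-element and `X₀ ≤ C_S(z)` is a `q'`-subgroup normalized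
by `C_S(z)`, then `X₀ ≤ O_{q'}(S)`. -/
theorem le_map_pPrimeCore_of_centralizer {G : Type u} [Group G] [Finite G] {q : ℕ}
    [Fact q.Prime] (S : Subgroup G) (hS : IsPSolvable q ↥S) (z : G) (hzS : z ∈ S)
    (hz : ∃ k : ℕ, orderOf z = q ^ k) (X₀ : Subgroup G) (hX₀S : X₀ ≤ S)
    (hX₀z : X₀ ≤ Subgroup.centralizer ({z} : Set G))
    (hn : S ⊓ Subgroup.centralizer ({z} : Set G) ≤ Subgroup.normalizer (X₀ : Set G))
    (hc : (Nat.card X₀).Coprime q) :
    X₀ ≤ (pPrimeCore q ↥S).map S.subtype := by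
  intro x hx
  have hcons : IsPConstrained q ↥S := Cfsg.Agent.S1902.isPConstrained_of_isPSolvable hS
  have hzp : IsPGroup q (Subgroup.zpowers (⟨z, hzS⟩ : ↥S)) := by
    rw [IsPGroup.iff_card]
    obtain ⟨k, hk⟩ := hz
    refine ⟨k, ?_⟩
    rw [Nat.card_zpowers, ← hk]
    exact Subgroup.orderOf_mk z hzS
  have hkey := Cfsg.Agent.Helper54.map_pPrimeCore_centralizer hcons (⟨z, hzS⟩ : ↥S) hzp
  set f : ↥(Subgroup.centralizer ({(⟨z, hzS⟩ : ↥S)} : Set ↥S)) →* G :=
    S.subtype.comp (Subgroup.centralizer ({(⟨z, hzS⟩ : ↥S)} : Set ↥S)).subtype with hf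
  have hfinj : Function.Injective f :=
    (Subgroup.subtype_injective _).comp (Subgroup.subtype_injective _)
  have hfmem : ∀ g : ↥(Subgroup.centralizer ({(⟨z, hzS⟩ : ↥S)} : Set ↥S)),
      f g ∈ S ⊓ Subgroup.centralizer ({z} : Set G) := by
    intro g
    refine Subgroup.mem_inf.mpr ⟨g.1.2, ?_⟩
    rw [Subgroup.mem_centralizer_singleton_iff]
    have := Subgroup.mem_centralizer_singleton_iff.mp g.2
    exact congrArg Subtype.val this
  set N := X₀.comap f with hN
  have hNn : N.Normal := by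
    constructor
    intro n hn' g
    rw [hN, Subgroup.mem_comap] at hn' ⊢
    rw [map_mul, map_mul, map_inv]
    exact (Subgroup.mem_normalizer_iff.mp (hn (hfmem g)) _).mp hn'
  have hNc : (Nat.card N).Coprime q := by
    have h1 : Nat.card N = Nat.card (N.map f) := (Subgroup.card_map_of_injective hfinj).symm
    have h2 : Nat.card (N.map f) ∣ Nat.card X₀ :=
      Subgroup.card_dvd_of_le (Subgroup.map_comap_le _ _)
    rw [h1]
    exact Nat.Coprime.coprime_dvd_left h2 hc
  have hNle := Cfsg.Agent.Lib.le_pPrimeCore hNn hNc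
  have hxS : x ∈ S := hX₀S hx
  have hx2 : (⟨x, hxS⟩ : ↥S) ∈ Subgroup.centralizer ({(⟨z, hzS⟩ : ↥S)} : Set ↥S) := by
    rw [Subgroup.mem_centralizer_singleton_iff]
    apply Subtype.ext
    exact Subgroup.mem_centralizer_singleton_iff.mp (hX₀z hx)
  have hx3 : (⟨⟨x, hxS⟩, hx2⟩ :
      ↥(Subgroup.centralizer ({(⟨z, hzS⟩ : ↥S)} : Set ↥S))) ∈ N := by
    rw [hN, Subgroup.mem_comap]
    exact hx
  have hx4 : (⟨x, hxS⟩ : ↥S) ∈ (pPrimeCore q ↥(Subgroup.centralizer
      ({(⟨z, hzS⟩ : ↥S)} : Set ↥S))).map (Subgroup.centralizer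
      ({(⟨z, hzS⟩ : ↥S)} : Set ↥S)).subtype := ⟨_, hNle hx3, rfl⟩
  rw [hkey] at hx4
  exact ⟨_, (Subgroup.mem_inf.mp hx4).1, rfl⟩

/-- **Core control.**  `G = HP`, `H ⊴ G`, `(|P|,|H|) = 1`, `[H,P]` solvable, `z` a `q`-element of
`C_H(P)`.  Then `(O_{q'}(C_H(z)) ∩ O_{q'}(C_H(P))) [O_{q'}(C_H(z)), P] ≤ O_{q'}(H)`. -/
theorem core_control {G : Type u} [Group G] [Finite G] {q : ℕ} [Fact q.Prime]
    (H P : Subgroup G) [hHn : H.Normal] (hHP : H ⊔ P = ⊤)
    (hcop : (Nat.card P).Coprime (Nat.card H))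
    (hPsol : Group.IsSolvable P ∨ Group.IsSolvable H)
    (hsol : Group.IsSolvable ↥⁅H, P⁆) (z : G) (hzH : z ∈ H)
    (hzP : z ∈ Subgroup.centralizer (P : Set G)) (hz : ∃ k : ℕ, orderOf z = q ^ k) :
    (piCoreOf (primesNotDvd q) (H ⊓ Subgroup.centralizer ({z} : Set G)) ⊓
        piCoreOf (primesNotDvd q) (H ⊓ Subgroup.centralizer (P : Set G))) ⊔
      ⁅piCoreOf (primesNotDvd q) (H ⊓ Subgroup.centralizer ({z} : Set G)), P⁆ ≤
    piCoreOf (primesNotDvd q) H := by
  have hq : q.Prime := Fact.out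
  set π := primesNotDvd q with hπ
  set Cz := Subgroup.centralizer ({z} : Set G) with hCz
  set CP := Subgroup.centralizer (P : Set G) with hCP
  set X := piCoreOf π (H ⊓ Cz) with hX
  set W := piCoreOf π (H ⊓ CP) with hW
  set L : Subgroup G := ⁅H, P⁆ with hL
  have hall : ∀ K : Subgroup G, K ≤ Subgroup.normalizer (H : Set G) := fun K => by
    rw [Subgroup.normalizer_eq_top_iff.mpr hHn]; exact le_top
  have hLH : L ≤ H := Subgroup.commutator_le_left H P
  have hLn : L.Normal := by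
    rw [← Subgroup.normalizer_eq_top_iff, eq_top_iff, ← hHP]
    exact sup_le (Subgroup.normalizer_commutator_ge_left H P) (Subgroup.normalizer_commutator_ge_right H P)
  have hallL : ∀ K : Subgroup G, K ≤ Subgroup.normalizer (L : Set G) := fun K => by
    rw [Subgroup.normalizer_eq_top_iff.mpr hLn]; exact le_top
  have hH0 : L ⊔ (H ⊓ CP) = H := Cfsg.Agent.S0026.result P H (hall P) hcop hPsol
  -- `P` normalizes `H ⊓ CP` and `H ⊓ Cz`
  have hPCP : P ≤ Subgroup.normalizer ((H ⊓ CP : Subgroup G) : Set G) :=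
    AInv.le_normalizer (AInv.inf (ainv_of_le_normalizer (hall P))
      (ainv_of_le_normalizer (Subgroup.le_normalizer.trans (normalizer_le_normalizer_centralizer P))))
  have hPleCz : P ≤ Cz := by
    intro x hx
    rw [hCz, Subgroup.mem_centralizer_singleton_iff]
    exact (Subgroup.mem_centralizer_iff.mp hzP x hx)
  have hPCz : P ≤ Subgroup.normalizer ((H ⊓ Cz : Subgroup G) : Set G) :=
    AInv.le_normalizer (AInv.inf (ainv_of_le_normalizer (hall P))
      (ainv_of_le_normalizer (hPleCz.trans Subgroup.le_normalizer)))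
  have hPX : P ≤ Subgroup.normalizer (X : Set G) :=
    hPCz.trans (normalizer_le_normalizer_piCoreOf π _)
  have hPW : P ≤ Subgroup.normalizer (W : Set G) :=
    hPCP.trans (normalizer_le_normalizer_piCoreOf π _)
  -- the normal subgroup `M = W L`
  set M : Subgroup G := W ⊔ L with hM
  have hWH : W ≤ H := (piCoreOf_le π _).trans inf_le_left
  have hMH : M ≤ H := sup_le hWH hLH
  have hHM : H ≤ Subgroup.normalizer (M : Set G) := by
    have h1 : H ⊓ CP ≤ Subgroup.normalizer (M : Set G) :=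
      AInv.le_normalizer (AInv.sup (ainv_of_le_normalizer (le_normalizer_piCoreOf π _))
        (ainv_of_le_normalizer (hallL _)))
    have h2 : L ≤ Subgroup.normalizer (M : Set G) :=
      (le_sup_right : L ≤ M).trans Subgroup.le_normalizer
    rw [← hH0]
    exact sup_le h2 h1
  have hPM : P ≤ Subgroup.normalizer (M : Set G) :=
    AInv.le_normalizer (AInv.sup (ainv_of_le_normalizer hPW) (ainv_of_le_normalizer (hallL _)))
  have hMn : M.Normal := by
    rw [← Subgroup.normalizer_eq_top_iff, eq_top_iff, ← hHP]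
    exact sup_le hHM hPM
  have hallM : ∀ K : Subgroup G, K ≤ Subgroup.normalizer (M : Set G) := fun K => by
    rw [Subgroup.normalizer_eq_top_iff.mpr hMn]; exact le_top
  -- reduce to `X ⊓ M`
  have hXle : X ≤ H ⊓ Cz := piCoreOf_le π _
  have hred : (X ⊓ W) ⊔ ⁅X, P⁆ ≤ X ⊓ M := by
    apply sup_le
    · exact inf_le_inf_left X le_sup_left
    · apply le_inf
      · exact Subgroup.le_normalizer_iff_commutator_le_left.mp hPX
      · exact (Subgroup.commutator_mono (hXle.trans inf_le_left) le_rfl).trans le_sup_right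
  refine hred.trans ?_
  -- the `q`-solvable group `S' = M ⟨z⟩`
  set S' : Subgroup G := M ⊔ Subgroup.zpowers z with hS'
  have hMS' : M ≤ S' := le_sup_left
  have hzS' : z ∈ S' := (le_sup_right : Subgroup.zpowers z ≤ S') (Subgroup.mem_zpowers z)
  have hS'H : S' ≤ H := sup_le hMH (Subgroup.zpowers_le.mpr hzH)
  have hWS' : W ≤ S' := (le_sup_left : W ≤ M).trans hMS'
  have hLS' : L ≤ S' := (le_sup_right : L ≤ M).trans hMS'
  have hWcop : (Nat.card W).Coprime q := coprime_of_primesNotDvd (piCoreOf_primes π _)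
  have hS'sol : IsPSolvable q ↥S' := by
    have : (L.subgroupOf S').Normal := Subgroup.normal_subgroupOf
    have hsup : W.subgroupOf S' ⊔ L.subgroupOf S' = M.subgroupOf S' :=
      (Subgroup.subgroupOf_sup hWS' hLS').symm
    apply isPSolvable_of_tower (L.subgroupOf S') (W.subgroupOf S')
    · rw [hsup]; exact Subgroup.normal_subgroupOf
    · exact Group.isSolvable_of_isSolvable_injective (f := (Subgroup.subgroupOfEquivOfLe hLS').toMonoidHom)
        (Subgroup.subgroupOfEquivOfLe hLS').injective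
    · rw [Cfsg.Agent.Helper1.card_subgroupOf_of_le hWS']; exact hWcop
    · rw [hsup]
      obtain ⟨k, hk⟩ := hz
      have h1 : (M.subgroupOf S').index = M.relIndex (Subgroup.zpowers z) := by
        show M.relIndex S' = _
        rw [hS', Subgroup.relIndex_sup_left]
      have h2 : M.relIndex (Subgroup.zpowers z) ∣ q ^ k := by
        rw [← hk, ← Nat.card_zpowers]
        exact Subgroup.relIndex_dvd_card _ _
      obtain ⟨j, _, hj⟩ := (Nat.dvd_prime_pow hq).mp h2
      exact ⟨j, h1.trans hj⟩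
  -- `X ⊓ M ≤ O_{q'}(S')`
  have hX₀ : X ⊓ M ≤ piCoreOf π S' := by
    rw [hπ, ← map_pPrimeCore_eq_piCoreOf hq]
    apply le_map_pPrimeCore_of_centralizer S' hS'sol z hzS' hz
    · exact inf_le_right.trans hMS'
    · exact inf_le_left.trans (hXle.trans inf_le_right)
    · have h1 : S' ⊓ Cz ≤ H ⊓ Cz := inf_le_inf_right _ hS'H
      exact AInv.le_normalizer (AInv.inf
        (ainv_of_le_normalizer (h1.trans (le_normalizer_piCoreOf π _)))
        (ainv_of_le_normalizer (hallM _)))
    · have hXcop : (Nat.card X).Coprime q := coprime_of_primesNotDvd (piCoreOf_primes π _)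
      exact Nat.Coprime.coprime_dvd_left (Subgroup.card_dvd_of_le inf_le_left) hXcop
  -- descend to `M`, then to `H`
  have hY : piCoreOf π S' ⊓ M ≤ piCoreOf π M := by
    apply le_piCoreOf_of_normal inf_le_right
    · exact AInv.le_normalizer (AInv.inf
        (ainv_of_le_normalizer (hMS'.trans (le_normalizer_piCoreOf π _)))
        (ainv_of_le_normalizer (hallM _)))
    · intro r hr hdvd
      exact piCoreOf_primes π S' r hr (hdvd.trans (Subgroup.card_dvd_of_le inf_le_left))
  have hMH' : piCoreOf π M ≤ piCoreOf π H :=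
    le_piCoreOf_of_normal ((piCoreOf_le π M).trans hMH)
      (hHM.trans (normalizer_le_normalizer_piCoreOf π M)) (piCoreOf_primes π M)
  exact (le_inf hX₀ inf_le_right).trans (hY.trans hMH')

end Cfsg.Agent.Helper31
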