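import Cfsg.Agent.Helper43.Cov2.P7Defs
import Cfsg.Agent.S0246

/-!
# Piece (7D4) of helper43's S2500 part 7 skeleton (#12305): the centre of `Sp₆(F)` normalises
every subalgebra of `M₆(F)` (central elements are scalar matrices).
-/

set_option autoImplicit false

namespace Cfsg.Agent.Helper31.Cov2.P7

open Matrix Cfsg.Agent.Helper43.Cov2.P7

variable {F : Type*} [Field F]

/-- (7D4) -/
theorem center_le_normK (K₀ : Subalgebra F (M6 F)) : Subgroup.center (Sp6 F) ≤ normK K₀ := by
  intro Z hZ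
  obtain ⟨a, ha⟩ := Cfsg.Agent.S0246.central_scalar Z hZ
  rw [mem_normK]
  intro k
  have hk : (Z : M6 F) * k * ((Z⁻¹ : Sp6 F) : M6 F) = k := by
    have hcomm : (Z : M6 F) * k = k * (Z : M6 F) := by
      rw [ha, Matrix.smul_mul, Matrix.mul_smul, Matrix.one_mul, Matrix.mul_one]
    rw [hcomm, Matrix.mul_assoc, coe_mul_inv_Sp6, Matrix.mul_one]
  rw [hk]

end Cfsg.Agent.Helper31.Cov2.P7
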