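import Cfsg.Agent.Helper43.Cov2.P7Defs

/-!
# Piece (A2) of helper43's S2500 part 7 skeleton (#12305): over a field of characteristic 3, an
element `s` of `Sp₆` of order prime to 3 with `s² - γ s + 1 = 0`, `γ² = 4`, is `± 1`.

From `s² = γ s - 1` we get `s³ = (γ² - 1) s - γ = -γ` (as `γ² = 4 = 1`), so `s³ = ∓ 1`.
-/

set_option autoImplicit false

namespace Cfsg.Agent.Helper31.Cov2.P7

open Matrix Cfsg.Agent.Helper43.Cov2.P7

variable {F : Type*} [Field F]

theorem A2_three_eq_zero [Fintype F] (a : ℕ) (ha : 1 ≤ a) (hF : Fintype.card F = 3 ^ a) :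
    (3 : F) = 0 := by
  have h1 : ((Fintype.card F : ℕ) : F) = 0 := Nat.cast_card_eq_zero F
  rw [hF, Nat.cast_pow] at h1
  have h2 := pow_eq_zero_iff (by omega : a ≠ 0) |>.mp h1
  exact_mod_cast h2

theorem A2_coe_pow (s : Sp6 F) (n : ℕ) : ((s ^ n : Sp6 F) : M6 F) = (s : M6 F) ^ n := by
  induction n with
  | zero => rw [pow_zero, pow_zero, coe_one_Sp6]
  | succ n ih => rw [pow_succ, pow_succ, coe_mul_Sp6, ih]

theorem A2_cube (S : M6 F) (γ : F) (hs : S * S - γ • S + 1 = 0) :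
    S ^ 3 = (γ ^ 2 - 1) • S - γ • (1 : M6 F) := by
  have h1 : S * S = γ • S - 1 := by
    have := hs
    rw [add_eq_zero_iff_eq_neg, sub_eq_iff_eq_add] at this
    rw [this]
    abel
  rw [pow_succ, pow_two, h1, Matrix.sub_mul, Matrix.smul_mul, h1, Matrix.one_mul, smul_sub,
    smul_smul, sub_smul, one_smul, pow_two]
  abel

/-- (A2) a semisimple `s` with `(s ∓ 1)² = 0` is `± 1`. -/
theorem pm_one_of_sq [Fintype F] (a : ℕ) (ha : 1 ≤ a) (hF : Fintype.card F = 3 ^ a) (s : Sp6 F)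
    (m : ℕ) (hm : Nat.Coprime m 3) (hsm : s ^ m = 1) (γ : F) (hγ : γ ^ 2 = 4)
    (hs : (s : M6 F) * (s : M6 F) - γ • (s : M6 F) + 1 = 0) :
    (s : M6 F) = 1 ∨ (s : M6 F) = -1 := by
  have h3 : (3 : F) = 0 := A2_three_eq_zero a ha hF
  have hcube := A2_cube (s : M6 F) γ hs
  have hγ1 : γ ^ 2 - 1 = 0 := by
    rw [hγ]
    linear_combination h3
  rw [hγ1, zero_smul, zero_sub] at hcube
  have hγ2 : γ = 2 ∨ γ = -2 := by
    have : (γ - 2) * (γ + 2) = 0 := by linear_combination hγ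
    rcases mul_eq_zero.mp this with h | h
    · left; linear_combination h
    · right; linear_combination h
  rcases hγ2 with rfl | rfl
  · -- `s ^ 3 = 1`
    left
    have hc : (s : M6 F) ^ 3 = 1 := by
      rw [hcube]
      have : (2 : F) = -1 := by linear_combination h3
      rw [this, neg_smul, neg_neg, one_smul]
    have hs3 : s ^ 3 = 1 := by
      apply Subtype.ext
      rw [A2_coe_pow, hc, coe_one_Sp6]
    have hd : orderOf s ∣ Nat.gcd m 3 :=
      Nat.dvd_gcd (orderOf_dvd_of_pow_eq_one hsm) (orderOf_dvd_of_pow_eq_one hs3)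
    rw [Nat.Coprime.gcd_eq_one hm, Nat.dvd_one, orderOf_eq_one_iff] at hd
    rw [hd, coe_one_Sp6]
  · -- `s ^ 3 = -1`
    right
    have hc : (s : M6 F) ^ 3 = -1 := by
      rw [hcube]
      have : (-(-2 : F)) = -1 := by linear_combination h3
      rw [← neg_smul, this, neg_smul, one_smul]
    have hs6 : s ^ 6 = 1 := by
      apply Subtype.ext
      rw [A2_coe_pow, coe_one_Sp6, show (6 : ℕ) = 3 * 2 from rfl, pow_mul, hc]
      simp
    have hd : orderOf s ∣ Nat.gcd m 6 :=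
      Nat.dvd_gcd (orderOf_dvd_of_pow_eq_one hsm) (orderOf_dvd_of_pow_eq_one hs6)
    have hd2 : Nat.gcd m 6 ∣ 2 := by
      have h6 : Nat.gcd m 6 ∣ 3 * 2 := Nat.gcd_dvd_right m 6
      have hcop : Nat.Coprime (Nat.gcd m 6) 3 :=
        Nat.Coprime.coprime_dvd_left (Nat.gcd_dvd_left m 6) hm
      exact hcop.dvd_of_dvd_mul_left h6
    have hs2 : s ^ 2 = 1 := orderOf_dvd_iff_pow_eq_one.mp (hd.trans hd2)
    have hS2 : (s : M6 F) ^ 2 = 1 := by
      rw [← A2_coe_pow, hs2, coe_one_Sp6]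
    rw [pow_succ, hS2, one_mul] at hc
    exact hc

end Cfsg.Agent.Helper31.Cov2.P7
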