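import Mathlib

/-!
# S0679 piece (G72) for helper54: a group of order 72 has at most 16 subgroups of order 3
-/

set_option autoImplicit false

namespace Cfsg.Agent.Helper31.D11

/-- a generator of a subgroup of order 3 -/
theorem exists_gen_of_card_three {H : Type*} [Group H] (K : Subgroup H) (hK : Nat.card K = 3) :
    ∃ g : H, orderOf g = 3 ∧ Subgroup.zpowers g = K := by
  haveI : Fact (Nat.Prime 3) := ⟨by norm_num⟩
  haveI : Finite K := Nat.finite_of_card_ne_zero (by rw [hK]; norm_num)
  haveI : IsCyclic K := isCyclic_of_prime_card hK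
  obtain ⟨g, hg⟩ := IsCyclic.exists_generator (α := K)
  have hgo : orderOf g = 3 := by
    rw [orderOf_eq_card_of_forall_mem_zpowers hg, hK]
  refine ⟨(g : H), by rw [Subgroup.orderOf_coe, hgo], ?_⟩
  have hle : Subgroup.zpowers (g : H) ≤ K := by
    rw [Subgroup.zpowers_le]
    exact g.2
  apply Subgroup.eq_of_le_of_card_ge hle
  rw [Nat.card_zpowers, Subgroup.orderOf_coe, hgo, hK]

/-- (G72) -/
theorem card_subgroups_order_three_le {H : Type*} [Group H] [Finite H] (hH : Nat.card H = 72) :
    Nat.card {K : Subgroup H // Nat.card K = 3} ≤ 16 := by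
  classical
  haveI : Fact (Nat.Prime 3) := ⟨by norm_num⟩
  haveI := Fintype.ofFinite H
  haveI : Fintype (Sylow 3 H) := Fintype.ofFinite _
  -- Sylow facts
  have hP9 : ∀ P : Sylow 3 H, Nat.card P = 9 ∧ (P : Subgroup H).index = 8 := by
    intro P
    obtain ⟨n, hn⟩ := P.2.exists_card_eq
    have hmul := (P : Subgroup H).card_mul_index
    rw [hH, hn] at hmul
    have hnd : ¬ 3 ∣ (P : Subgroup H).index := P.not_dvd_index
    have hn3 : n < 3 := by
      by_contra hcon
      rw [not_lt] at hcon
      have h27 : 27 ∣ 72 := by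
        rw [← hmul]
        exact Dvd.dvd.mul_right (pow_dvd_pow 3 hcon) _
      norm_num at h27
    interval_cases n
    · exact absurd ⟨24, by omega⟩ hnd
    · exact absurd ⟨8, by omega⟩ hnd
    · exact ⟨hn, by omega⟩
  have hn3 : Nat.card (Sylow 3 H) ≤ 4 := by
    have P : Sylow 3 H := default
    have h1 := P.card_dvd_index
    rw [(hP9 P).2] at h1
    have h2 : Nat.card (Sylow 3 H) % 3 = 1 % 3 := card_sylow_modEq_one 3 H
    have hle : Nat.card (Sylow 3 H) ≤ 8 := Nat.le_of_dvd (by norm_num) h1
    generalize Nat.card (Sylow 3 H) = m at h1 h2 hle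
    interval_cases m <;> omega
  -- the elements of order 3
  let X : Finset H := Finset.univ.filter (fun x => orderOf x = 3)
  have hX : X.card ≤ 32 := by
    have hsub : X ⊆ (Finset.univ : Finset (Sylow 3 H)).biUnion
        (fun P => (Finset.univ.filter (fun x : H => x ∈ P)).erase 1) := by
      intro x hx
      have hxo : orderOf x = 3 := (Finset.mem_filter.mp hx).2
      have hp : IsPGroup 3 (Subgroup.zpowers x) :=
        IsPGroup.of_card (n := 1) (by rw [Nat.card_zpowers, hxo, pow_one])
      obtain ⟨P, hP⟩ := hp.exists_le_sylow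
      rw [Finset.mem_biUnion]
      refine ⟨P, Finset.mem_univ _, ?_⟩
      rw [Finset.mem_erase, Finset.mem_filter]
      refine ⟨?_, Finset.mem_univ _, hP (Subgroup.mem_zpowers x)⟩
      rintro rfl
      rw [orderOf_one] at hxo
      norm_num at hxo
    have hcardP : ∀ P : Sylow 3 H,
        ((Finset.univ.filter (fun x : H => x ∈ P)).erase 1).card = 8 := by
      intro P
      rw [Finset.card_erase_of_mem (by
        rw [Finset.mem_filter]; exact ⟨Finset.mem_univ _, Subgroup.one_mem _⟩)]
      have : (Finset.univ.filter (fun x : H => x ∈ P)).card = 9 := by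
        rw [← (hP9 P).1, Nat.card_eq_fintype_card, Fintype.card_subtype]
        rfl
      rw [this]
    calc X.card ≤ _ := Finset.card_le_card hsub
      _ ≤ ∑ P : Sylow 3 H, ((Finset.univ.filter (fun x : H => x ∈ P)).erase 1).card :=
          Finset.card_biUnion_le
      _ = ∑ _P : Sylow 3 H, 8 := Finset.sum_congr rfl (fun P _ => hcardP P)
      _ = Fintype.card (Sylow 3 H) * 8 := by
          rw [Finset.sum_const, Finset.card_univ, smul_eq_mul]
      _ ≤ 32 := by
          rw [← Nat.card_eq_fintype_card]
          omega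
  -- two elements of order 3 in each subgroup of order 3
  have hex : ∀ K : {K : Subgroup H // Nat.card K = 3},
      ∃ g : H, orderOf g = 3 ∧ Subgroup.zpowers g = K.1 := fun K =>
    exists_gen_of_card_three K.1 K.2
  choose gen hgen3 hgenK using hex
  let ψ : {K : Subgroup H // Nat.card K = 3} × Bool → X := fun Kb =>
    if Kb.2 then ⟨gen Kb.1, Finset.mem_filter.mpr ⟨Finset.mem_univ _, hgen3 Kb.1⟩⟩
    else ⟨(gen Kb.1)⁻¹, Finset.mem_filter.mpr ⟨Finset.mem_univ _, by
      rw [orderOf_inv]; exact hgen3 Kb.1⟩⟩
  have hψz : ∀ Kb, Subgroup.zpowers ((ψ Kb : X) : H) = Kb.1.1 := by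
    rintro ⟨K, b⟩
    cases b
    · simp only [ψ, Bool.false_eq_true, if_false]
      rw [Subgroup.zpowers_inv, hgenK]
    · simp only [ψ, if_true]
      rw [hgenK]
  have hψinj : Function.Injective ψ := by
    rintro ⟨K, b⟩ ⟨K', b'⟩ h
    have hKK : K = K' := by
      apply Subtype.ext
      rw [← hψz (K, b), ← hψz (K', b'), h]
    subst hKK
    have hne : gen K ≠ (gen K)⁻¹ := by
      intro he
      have h2 : gen K ^ 2 = 1 := by
        rw [pow_two]
        nth_rewrite 2 [he]
        exact mul_inv_cancel _
      have := orderOf_dvd_of_pow_eq_one h2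
      rw [hgen3 K] at this
      norm_num at this
    have hb : b = b' := by
      cases b <;> cases b'
      · rfl
      · exfalso
        have := congrArg (fun x : X => (x : H)) h
        simp only [ψ, Bool.false_eq_true, if_false, if_true] at this
        exact hne this.symm
      · exfalso
        have := congrArg (fun x : X => (x : H)) h
        simp only [ψ, Bool.false_eq_true, if_false, if_true] at this
        exact hne this
      · rfl
    rw [hb]
  haveI : Finite {K : Subgroup H // Nat.card K = 3} := inferInstance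
  have hcard := Nat.card_le_card_of_injective ψ hψinj
  rw [Nat.card_prod, Nat.card_eq_fintype_card (α := Bool), Fintype.card_bool,
    Nat.card_eq_fintype_card (α := X), Fintype.card_coe] at hcard
  omega

end Cfsg.Agent.Helper31.D11
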