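import Mathlib

/-!
# S0679 piece (S5) for helper54: the order of a group with a self-centralising Sylow 5-subgroup of
order 5 is `5 * k * n₅` with `k ∣ 4`
-/

set_option autoImplicit false

namespace Cfsg.Agent.Helper31.D11

open Equiv MulAction

variable {α : Type*} [Fintype α] [DecidableEq α]

/-- (S5) -/
theorem card_eq_five_mul [Fact (Nat.Prime 5)] (G : Subgroup (Perm α))
    (h5 : 5 ∣ Nat.card G) (h25 : ¬ 25 ∣ Nat.card G)
    (hC : ∀ f y : Perm α, f ∈ G → y ∈ G → orderOf f = 5 → Commute f y → (orderOf y).Prime →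
      orderOf y = 5) :
    ∃ k : ℕ, k ∣ 4 ∧ Nat.card G = 5 * k * Nat.card (Sylow 5 G) := by
  classical
  -- a Sylow 5-subgroup `F`, of order 5
  let F : Sylow 5 G := default
  have hF5 : Nat.card F = 5 := by
    obtain ⟨n, hn⟩ := F.2.exists_card_eq
    have h1 : 5 ∣ Nat.card F := F.dvd_card_of_dvd_card h5
    have h2 : Nat.card F ∣ Nat.card G := Subgroup.card_subgroup_dvd_card _
    rw [hn] at h1 h2 ⊢
    have hn2 : n < 2 := by
      by_contra hcon
      rw [not_lt] at hcon
      exact h25 (dvd_trans (pow_dvd_pow 5 hcon) h2)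
    interval_cases n
    · norm_num at h1
    · norm_num
  -- `F` is cyclic, generated by `f` of order 5
  have : IsCyclic F := isCyclic_of_prime_card hF5
  obtain ⟨f, hf⟩ := IsCyclic.exists_generator (α := F)
  have hfo : orderOf f = 5 := by
    rw [orderOf_eq_card_of_forall_mem_zpowers hf, hF5]
  have hfo' : orderOf (((f : F) : G) : Perm α) = 5 := by
    rw [Subgroup.orderOf_coe, Subgroup.orderOf_coe, hfo]
  -- the centraliser `C` of `F` has order 5
  set C : Subgroup G := Subgroup.centralizer ((F : Subgroup G) : Set G) with hCdef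
  have hFC : (F : Subgroup G) ≤ C := Subgroup.le_centralizer (F : Subgroup G)
  have hCprime : ∀ r : ℕ, r.Prime → r ∣ Nat.card C → r = 5 := by
    intro r hr hdvd
    have : Fact r.Prime := ⟨hr⟩
    obtain ⟨y, hy⟩ := exists_prime_orderOf_dvd_card' r hdvd
    have hyo : orderOf (((y : C) : G) : Perm α) = r := by
      rw [Subgroup.orderOf_coe, Subgroup.orderOf_coe, hy]
    have hcomm : Commute (((f : F) : G) : Perm α) (((y : C) : G) : Perm α) := by
      have h1 := (Subgroup.mem_centralizer_iff.mp y.2) ((f : F) : G) f.2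
      -- h1 : ↑f * ↑y = ↑y * ↑f  in G
      have h2 := congrArg (fun g : G => (g : Perm α)) h1
      exact h2
    have := hC _ _ ((f : F) : G).2 ((y : C) : G).2 hfo' hcomm (by rw [hyo]; exact hr)
    rw [hyo] at this
    exact this
  have hC5 : Nat.card C = 5 := by
    have h1 : 5 ∣ Nat.card C := by
      rw [← hF5]
      exact Subgroup.card_dvd_of_le hFC
    have h2 : Nat.card C ∣ Nat.card G := Subgroup.card_subgroup_dvd_card _
    obtain ⟨c, hc⟩ := h1
    have hc1 : c = 1 := by
      by_contra hne
      obtain ⟨r, hr, hrc⟩ := Nat.exists_prime_and_dvd hne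
      have hr5 : r = 5 := hCprime r hr (hc ▸ Dvd.dvd.mul_left hrc 5)
      subst hr5
      apply h25
      refine dvd_trans ?_ h2
      rw [hc]
      exact Nat.mul_dvd_mul_left 5 hrc
    rw [hc, hc1]
  -- `N / C` embeds in `Aut F`, of order 4
  set N : Subgroup G := Subgroup.normalizer ((F : Subgroup G) : Set G) with hNdef
  have hkey : (C.subgroupOf N).index ∣ 4 := by
    have key := Subgroup.card_dvd_of_injective _
      (QuotientGroup.kerLift_injective (F : Subgroup G).normalizerMonoidHom)
    rw [Subgroup.normalizerMonoidHom_ker, ← Subgroup.index] at key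
    rw [IsCyclic.card_mulAut F, hF5] at key
    have ht : Nat.totient 5 = 4 := by decide
    rwa [ht] at key
  have hCN : C ≤ N := Subgroup.centralizer_le_normalizer _
  have hcardeq : Nat.card (C.subgroupOf N) = Nat.card C :=
    Nat.card_congr (Subgroup.subgroupOfEquivOfLe hCN).toEquiv
  have hNcard : Nat.card N = 5 * (C.subgroupOf N).index := by
    rw [← (C.subgroupOf N).card_mul_index, hcardeq, hC5]
  refine ⟨(C.subgroupOf N).index, hkey, ?_⟩
  have hidx : Nat.card (Sylow 5 G) = N.index := F.card_eq_index_normalizer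
  rw [hidx, ← hNcard]
  exact (N.card_mul_index).symm

end Cfsg.Agent.Helper31.D11
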