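import Cfsg.Agent.Helper31.D8G3

/-!
# (G2) for helper62's S3716 : fusion of the elements of order 3 and 6 in the `3² : D₈` configuration
-/

set_option autoImplicit false
open Finset

namespace Cfsg.Agent.Helper31.D8

open Cfsg Cfsg.Agent.Helper62.D8

universe u

section grp
variable {G : Type u} [Group G]

section basic
variable {T : Subgroup G} {x y t f : G}

/-- `f * t = t * f⁻¹` -/
theorem nd_ft (hd : NData8 T x y t f) : f * t = t * f⁻¹ := by
  have h := hd.tf
  have h2 : t * f = f⁻¹ * t := by rw [← h]; group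
  calc f * t = f * (t * f) * f⁻¹ := by group
    _ = f * (f⁻¹ * t) * f⁻¹ := by rw [h2]
    _ = t * f⁻¹ := by group

/-- `f²` centralizes `t` -/
theorem nd_cfft (hd : NData8 T x y t f) : MulAut.conj (f * f) t = t := by
  rw [MulAut.conj_apply]
  have h1 := nd_ft hd
  have h4 : f⁻¹ * f⁻¹ * f⁻¹ * f⁻¹ = 1 := by
    have := hd.f4
    calc f⁻¹ * f⁻¹ * f⁻¹ * f⁻¹ = (f ^ 4)⁻¹ := by group
      _ = 1 := by rw [this, inv_one]
  calc f * f * t * (f * f)⁻¹ = f * (f * t) * f⁻¹ * f⁻¹ := by group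
    _ = f * (t * f⁻¹) * f⁻¹ * f⁻¹ := by rw [h1]
    _ = (f * t) * f⁻¹ * f⁻¹ * f⁻¹ := by group
    _ = (t * f⁻¹) * f⁻¹ * f⁻¹ * f⁻¹ := by rw [h1]
    _ = t * (f⁻¹ * f⁻¹ * f⁻¹ * f⁻¹) := by group
    _ = t := by rw [h4, mul_one]

theorem nd_cffx (hd : NData8 T x y t f) : MulAut.conj (f * f) x = x⁻¹ := by
  rw [conj_mul_apply', nd_cfx hd, nd_cfy hd]

theorem nd_cffy (hd : NData8 T x y t f) : MulAut.conj (f * f) y = y⁻¹ := by
  rw [conj_mul_apply', nd_cfy hd, map_inv, nd_cfx hd]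

/-- conjugation by a power of `t` fixes `x` -/
theorem nd_ctpow_x (hd : NData8 T x y t f) (j : ℕ) : MulAut.conj (t ^ j) x = x := by
  induction j with
  | zero => simp
  | succ j ih => rw [pow_succ, conj_mul_apply', nd_ctx hd, ih]

/-- conjugation by an element of `T` fixes the elements of `T` -/
theorem nd_cT (hd : NData8 T x y t f) {s z : G} (hs : s ∈ T) (hz : z ∈ T) :
    MulAut.conj s z = z := by
  rw [MulAut.conj_apply, hd.commT s hs z hz, mul_inv_cancel_right]

/-- the `⟨f⟩`-orbit of `x` -/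
theorem nd_cfpow_x (hd : NData8 T x y t f) (i : ℕ) :
    MulAut.conj (f ^ i) x = x ∨ MulAut.conj (f ^ i) x = y ∨ MulAut.conj (f ^ i) x = x⁻¹ ∨
      MulAut.conj (f ^ i) x = y⁻¹ := by
  induction i with
  | zero => left; simp
  | succ i ih =>
    rw [pow_succ', conj_mul_apply']
    rcases ih with h | h | h | h
    · rw [h, nd_cfx hd]; right; left; rfl
    · rw [h, nd_cfy hd]; right; right; left; rfl
    · rw [h, map_inv, nd_cfx hd]; right; right; right; rfl
    · rw [h, map_inv, nd_cfy hd, inv_inv]; left; rfl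

/-- the conjugates of `x` under the normalizer -/
theorem nd_conj_x (hd : NData8 T x y t f) {n : G} (hn : n ∈ Subgroup.normalizer (T : Set G)) :
    MulAut.conj n x = x ∨ MulAut.conj n x = y ∨ MulAut.conj n x = x⁻¹ ∨
      MulAut.conj n x = y⁻¹ := by
  obtain ⟨s, hs, i, j, -, -, rfl⟩ := hd.memN n hn
  rw [conj_mul_apply', conj_mul_apply', nd_ctpow_x hd]
  rcases nd_cfpow_x hd i with h | h | h | h
  · rw [h, nd_cT hd hs hd.xT]; left; rfl
  · rw [h, nd_cT hd hs hd.yT]; right; left; rfl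
  · rw [h, nd_cT hd hs (T.inv_mem hd.xT)]; right; right; left; rfl
  · rw [h, nd_cT hd hs (T.inv_mem hd.yT)]; right; right; right; rfl

end basic

/-- (G2) fusion. `hTI` is `Helper89.S3S3.mem_normalizer_of_conj_mem`. -/
theorem fusion8 (T : Subgroup G) (x y t f : G) (hd : NData8 T x y t f)
    (hTI : ∀ g u : G, u ∈ T → u ≠ 1 → g * u * g⁻¹ ∈ T → g ∈ Subgroup.normalizer (T : Set G)) :
    x * y ≠ 1 ∧ (x * y) ^ 3 = 1 ∧ IsConj x x⁻¹ ∧ IsConj (x * y) (x * y)⁻¹ ∧ ¬ IsConj x (x * y) ∧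
      x * t = t * x ∧ t ≠ 1 ∧ IsConj (x * t) (x * t)⁻¹ := by
  have hs := NData8.swap hd
  have hxy : Commute x y := hd.comm
  have hxt : x * t = t * x := by
    have := hd.tx
    calc x * t = (t * x * t⁻¹) * t := by rw [this]
      _ = t * x := by group
  refine ⟨hs.x1, hs.x3, ?_, ?_, ?_, hxt, nd_t_ne_one hd, ?_⟩
  · rw [isConj_iff]
    exact ⟨f * f, nd_cffx hd⟩
  · rw [isConj_iff]
    refine ⟨f * f, ?_⟩
    show MulAut.conj (f * f) (x * y) = (x * y)⁻¹
    rw [map_mul, nd_cffx hd, nd_cffy hd, mul_inv_rev]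
    exact (hxy.inv_inv).eq
  · intro hc
    rw [isConj_iff] at hc
    obtain ⟨c, hc⟩ := hc
    have hcN : c ∈ Subgroup.normalizer (T : Set G) :=
      hTI c x hd.xT hd.x1 (by rw [hc]; exact T.mul_mem hd.xT hd.yT)
    have hc' : MulAut.conj c x = x * y := hc
    rcases nd_conj_x hd hcN with h | h | h | h
    · rw [hc'] at h
      exact hd.y1 (by simpa using h)
    · rw [hc'] at h
      exact hd.x1 (by simpa using h)
    · rw [hc'] at h
      -- x * y = x⁻¹ → y = x⁻¹ * x⁻¹ = x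
      have : y = x := by
        have h2 : y = x⁻¹ * x⁻¹ := by
          calc y = x⁻¹ * (x * y) := by group
            _ = x⁻¹ * x⁻¹ := by rw [h]
        rw [h2, nd_xinv hd, ← pow_add]
        calc x ^ (2 + 2) = x ^ 3 * x := by rw [← pow_succ]
          _ = x := by rw [hd.x3, one_mul]
      exact nd_x_ne_y hd this.symm
    · rw [hc'] at h
      have : x = y := by
        have h2 : x = y⁻¹ * y⁻¹ := by
          calc x = (x * y) * y⁻¹ := by group
            _ = y⁻¹ * y⁻¹ := by rw [h]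
        rw [h2, nd_yinv hd, ← pow_add]
        calc y ^ (2 + 2) = y ^ 3 * y := by rw [← pow_succ]
          _ = y := by rw [hd.y3, one_mul]
      exact nd_x_ne_y hd this
  · rw [isConj_iff]
    refine ⟨f * f, ?_⟩
    show MulAut.conj (f * f) (x * t) = (x * t)⁻¹
    rw [map_mul, nd_cffx hd, nd_cfft hd, mul_inv_rev, nd_tinv hd]
    -- x⁻¹ * t = t * x⁻¹
    calc x⁻¹ * t = x⁻¹ * (t * x) * x⁻¹ := by group
      _ = x⁻¹ * (x * t) * x⁻¹ := by rw [hxt]
      _ = t * x⁻¹ := by group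

end grp

end Cfsg.Agent.Helper31.D8
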