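import Cfsg.Agent.Helper62.D8.Defs

/-!
# (G3) for helper62's S3716 : the symmetry of `3² : D₈` exchanging the two classes of
elements of order 3, plus basic consequences of `NData8`
-/

set_option autoImplicit false
open Finset

namespace Cfsg.Agent.Helper31.D8

open Cfsg Cfsg.Agent.Helper62.D8

universe u

section grp
variable {G : Type u} [Group G]

section basic
variable {T : Subgroup G} {x y t f : G}

theorem nd_tinv (hd : NData8 T x y t f) : t⁻¹ = t := by
  have h := hd.t2
  rw [pow_two] at h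
  exact inv_eq_of_mul_eq_one_left h

theorem nd_xinv (hd : NData8 T x y t f) : x⁻¹ = x ^ 2 := by
  have h := hd.x3
  rw [pow_succ] at h
  exact inv_eq_of_mul_eq_one_left h

theorem nd_yinv (hd : NData8 T x y t f) : y⁻¹ = y ^ 2 := by
  have h := hd.y3
  rw [pow_succ] at h
  exact inv_eq_of_mul_eq_one_left h

theorem nd_ctx (hd : NData8 T x y t f) : MulAut.conj t x = x := hd.tx
theorem nd_cty (hd : NData8 T x y t f) : MulAut.conj t y = y⁻¹ := hd.ty
theorem nd_cfx (hd : NData8 T x y t f) : MulAut.conj f x = y := hd.fx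
theorem nd_cfy (hd : NData8 T x y t f) : MulAut.conj f y = x⁻¹ := hd.fy
theorem nd_ctf (hd : NData8 T x y t f) : MulAut.conj t f = f⁻¹ := hd.tf

theorem nd_cfix (hd : NData8 T x y t f) : MulAut.conj f⁻¹ x = y⁻¹ := by
  rw [map_inv, MulAut.inv_apply, MulEquiv.symm_apply_eq, map_inv, nd_cfy hd, inv_inv]

theorem nd_cfiy (hd : NData8 T x y t f) : MulAut.conj f⁻¹ y = x := by
  rw [map_inv, MulAut.inv_apply, MulEquiv.symm_apply_eq, nd_cfx hd]

theorem conj_mul_apply' (g h z : G) :
    MulAut.conj (g * h) z = MulAut.conj g (MulAut.conj h z) := by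
  rw [map_mul]; rfl

theorem nd_orderOf_x (hd : NData8 T x y t f) : orderOf x = 3 :=
  orderOf_eq_prime hd.x3 hd.x1

theorem nd_orderOf_y (hd : NData8 T x y t f) : orderOf y = 3 :=
  orderOf_eq_prime hd.y3 hd.y1

theorem nd_x_ne_y (hd : NData8 T x y t f) : x ≠ y := by
  intro h
  have := hd.indep 1 1 (by simpa using h)
  exact hd.x1 (by simpa using this)

theorem nd_x_ne_yinv (hd : NData8 T x y t f) : x ≠ y⁻¹ := by
  intro h
  rw [nd_yinv hd] at h
  have := hd.indep 1 2 (by simpa using h)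
  exact hd.x1 (by simpa using this)

theorem nd_x_ne_xinv (hd : NData8 T x y t f) : x ≠ x⁻¹ := by
  intro h
  have h2 : x ^ 2 = 1 := by rw [pow_two]; nth_rewrite 2 [h]; exact mul_inv_cancel x
  have h3 := hd.x3
  rw [pow_succ, h2, one_mul] at h3
  exact hd.x1 h3

theorem nd_y_ne_yinv (hd : NData8 T x y t f) : y ≠ y⁻¹ := by
  intro h
  have h2 : y ^ 2 = 1 := by rw [pow_two]; nth_rewrite 2 [h]; exact mul_inv_cancel y
  have h3 := hd.y3
  rw [pow_succ, h2, one_mul] at h3
  exact hd.y1 h3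

theorem nd_t_ne_one (hd : NData8 T x y t f) : t ≠ 1 := by
  intro h
  have := hd.ty
  rw [h] at this
  simp at this
  exact nd_y_ne_yinv hd this

end basic

/-- (G3) the symmetry exchanging the two classes. -/
theorem NData8.swap {T : Subgroup G} {x y t f : G} (hd : NData8 T x y t f) :
    NData8 T (x * y) (x * y⁻¹) (f * t) f⁻¹ := by
  have hxy : Commute x y := hd.comm
  have hxyi : Commute x y⁻¹ := hxy.inv_right
  have hox := nd_orderOf_x hd
  have hoy := nd_orderOf_y hd
  have htinv := nd_tinv hd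
  refine
    { x3 := ?_
      y3 := ?_
      x1 := ?_
      y1 := ?_
      comm := ?_
      commT := hd.commT
      xT := T.mul_mem hd.xT hd.yT
      yT := T.mul_mem hd.xT (T.inv_mem hd.yT)
      indep := ?_
      memT := ?_
      tN := Subgroup.mul_mem _ hd.fN hd.tN
      fN := Subgroup.inv_mem _ hd.fN
      t2 := ?_
      f4 := ?_
      tf := ?_
      tx := ?_
      ty := ?_
      fx := ?_
      fy := ?_
      memN := ?_ }
  · rw [hxy.mul_pow, hd.x3, hd.y3, one_mul]
  · rw [hxyi.mul_pow, hd.x3, inv_pow, hd.y3, inv_one, one_mul]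
  · intro h
    exact nd_x_ne_yinv hd (eq_inv_of_mul_eq_one_left h)
  · intro h
    exact nd_x_ne_y hd (by simpa using eq_inv_of_mul_eq_one_left h)
  · exact hd.commT _ (T.mul_mem hd.xT hd.yT) _ (T.mul_mem hd.xT (T.inv_mem hd.yT))
  · -- indep
    intro i k h
    rw [hxy.mul_pow, hxyi.mul_pow, inv_pow] at h
    -- x^i y^i = x^k y^{-k}
    have h1 : x ^ (i + 2 * k) = y ^ (2 * (i + k)) := by
      have e1 : x ^ i * y ^ (i + k) = x ^ k := by
        rw [pow_add, ← mul_assoc, h, inv_mul_cancel_right]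
      have e2 : x ^ (i + 2 * k) * y ^ (i + k) = 1 := by
        have hc : Commute (x ^ (2 * k)) (y ^ (i + k)) := (hxy.pow_pow _ _)
        calc x ^ (i + 2 * k) * y ^ (i + k) = x ^ i * x ^ (2 * k) * y ^ (i + k) := by rw [pow_add]
          _ = x ^ (2 * k) * (x ^ i * y ^ (i + k)) := by
              rw [(Commute.pow_pow (Commute.refl x) i (2 * k)).eq, mul_assoc]
          _ = x ^ (2 * k) * x ^ k := by rw [e1]
          _ = (x ^ 3) ^ k := by rw [← pow_add, ← pow_mul]; congr 1; ring
          _ = 1 := by rw [hd.x3, one_pow]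
      have e3 : x ^ (i + 2 * k) = (y ^ (i + k))⁻¹ := eq_inv_of_mul_eq_one_left e2
      rw [e3, ← inv_pow, nd_yinv hd, ← pow_mul]
    have h2 : x ^ (i + 2 * k) = 1 := hd.indep _ _ h1
    have h3 : y ^ (2 * (i + k)) = 1 := by rw [← h1, h2]
    have d1 : 3 ∣ i + 2 * k := by rw [← hox]; exact orderOf_dvd_of_pow_eq_one h2
    have d2 : 3 ∣ 2 * (i + k) := by rw [← hoy]; exact orderOf_dvd_of_pow_eq_one h3
    have d3 : 3 ∣ i := by omega
    obtain ⟨c, rfl⟩ := d3
    rw [pow_mul, hxy.mul_pow, hd.x3, hd.y3, one_mul, one_pow]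
  · -- memT
    intro s hs
    obtain ⟨a, b, rfl⟩ := hd.memT s hs
    refine ⟨2 * (a + b), 2 * a + b, ?_⟩
    rw [hxy.mul_pow, hxyi.mul_pow]
    have hc1 : Commute (y ^ (2 * (a + b))) (x ^ (2 * a + b)) := (hxy.pow_pow _ _).symm
    calc x ^ a * y ^ b
        = (x ^ 3) ^ (a + b) * x ^ a * y ^ b := by rw [hd.x3, one_pow, one_mul]
      _ = x ^ (2 * (a + b)) * x ^ (2 * a + b) * y ^ b := by
          rw [← pow_mul, ← pow_add, ← pow_add]; congr 2; ring
      _ = x ^ (2 * (a + b)) * x ^ (2 * a + b) * (y ^ (2 * (a + b)) * (y⁻¹) ^ (2 * a + b)) := by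
          congr 1
          have : 2 * (a + b) = b + (2 * a + b) := by ring
          rw [this, pow_add, inv_pow, mul_inv_cancel_right]
      _ = x ^ (2 * (a + b)) * y ^ (2 * (a + b)) * (x ^ (2 * a + b) * y⁻¹ ^ (2 * a + b)) := by
          rw [mul_assoc, mul_assoc, ← mul_assoc (x ^ (2 * a + b)), ← hc1.eq]
          simp only [mul_assoc]
  · -- t2
    have h : MulAut.conj t f = f⁻¹ := hd.tf
    rw [pow_two]
    have : t * f = f⁻¹ * t := by
      have := hd.tf
      rw [← this]; group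
    calc f * t * (f * t) = f * (t * f) * t := by group
      _ = f * (f⁻¹ * t) * t := by rw [this]
      _ = t ^ 2 := by rw [mul_inv_cancel_left, pow_two]
      _ = 1 := hd.t2
  · rw [inv_pow, hd.f4, inv_one]
  · -- tf
    show MulAut.conj (f * t) f⁻¹ = f⁻¹⁻¹
    rw [conj_mul_apply', map_inv, nd_ctf hd, inv_inv, MulAut.conj_apply]
    group
  · -- tx
    show MulAut.conj (f * t) (x * y) = x * y
    rw [conj_mul_apply', map_mul, nd_ctx hd, nd_cty hd, map_mul, map_inv, nd_cfx hd,
      nd_cfy hd, inv_inv]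
    exact hxy.symm.eq
  · -- ty
    show MulAut.conj (f * t) (x * y⁻¹) = (x * y⁻¹)⁻¹
    rw [conj_mul_apply', map_mul, map_inv, nd_ctx hd, nd_cty hd, inv_inv, map_mul,
      nd_cfx hd, nd_cfy hd, mul_inv_rev, inv_inv]
  · -- fx
    show MulAut.conj f⁻¹ (x * y) = x * y⁻¹
    rw [map_mul, nd_cfix hd, nd_cfiy hd]
    exact hxyi.symm.eq
  · -- fy
    show MulAut.conj f⁻¹ (x * y⁻¹) = (x * y)⁻¹
    rw [map_mul, map_inv (MulAut.conj f⁻¹) y, nd_cfix hd, nd_cfiy hd, mul_inv_rev]
  · -- memN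
    intro n hn
    obtain ⟨s, hs, i, j, hi, hj, rfl⟩ := hd.memN n hn
    have hf4 := hd.f4
    have ht2 := hd.t2
    refine ⟨s, hs, ?_⟩
    interval_cases j
    · -- j = 0
      refine ⟨(4 - i) % 4, 0, Nat.mod_lt _ (by norm_num), by norm_num, ?_⟩
      congr 1
      rw [pow_zero, pow_zero, mul_one, mul_one, inv_pow]
      interval_cases i
      · simp
      · norm_num
        exact eq_inv_of_mul_eq_one_left (by rw [← pow_succ']; exact hf4)
      · norm_num
        exact eq_inv_of_mul_eq_one_left (by rw [← pow_add]; exact hf4)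
      · norm_num
        exact eq_inv_of_mul_eq_one_left (by rw [← pow_succ]; exact hf4)
    · -- j = 1
      refine ⟨(5 - i) % 4, 1, Nat.mod_lt _ (by norm_num), by norm_num, ?_⟩
      congr 1
      rw [pow_one, pow_one, inv_pow, ← mul_assoc]
      congr 1
      interval_cases i
      · norm_num
      · norm_num
      · norm_num
        have : f ^ 2 * f ^ 2 = 1 := by rw [← pow_add]; exact hf4
        calc f ^ 2 = (f ^ 2 * f ^ 2) * ((f ^ 3)⁻¹ * f) := by group
          _ = (f ^ 3)⁻¹ * f := by rw [this, one_mul]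
      · norm_num
        have : f ^ 2 * f ^ 2 = 1 := by rw [← pow_add]; exact hf4
        calc f ^ 3 = (f ^ 2 * f ^ 2) * ((f ^ 2)⁻¹ * f) := by group
          _ = (f ^ 2)⁻¹ * f := by rw [this, one_mul]

end grp

end Cfsg.Agent.Helper31.D8
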