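import Cfsg.Agent.Helper31.D8G2

/-!
# (G4) for helper62's S3716 : the centralizers of `x` and of `x * t` in the `3² : D₈` configuration
have orders 18 and 6
-/

set_option autoImplicit false
open Finset

namespace Cfsg.Agent.Helper31.D8

open Cfsg Cfsg.Agent.Helper62.D8

universe u

section grp
variable {G : Type u} [Group G]

section basic
variable {T : Subgroup G} {x y t f : G}

theorem nd_t_not_mem (hd : NData8 T x y t f) : t ∉ T := by
  intro h
  have h1 := hd.commT t h y hd.yT
  have h2 := hd.ty
  rw [h1, mul_inv_cancel_right] at h2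
  exact nd_y_ne_yinv hd h2

theorem nd_xt_comm (hd : NData8 T x y t f) : x * t = t * x := by
  have := hd.tx
  calc x * t = (t * x * t⁻¹) * t := by rw [this]
    _ = t * x := by group

theorem nd_tpow_comm_x (hd : NData8 T x y t f) (j : ℕ) : t ^ j * x = x * t ^ j := by
  have h : Commute t x := (nd_xt_comm hd).symm
  exact (h.pow_left j).eq

/-- an element of the centralizer of `x` is in `T ⟨t⟩` -/
theorem nd_mem_cent_x (hd : NData8 T x y t f)
    (hloc : ∀ u ∈ T, u ≠ 1 → Subgroup.centralizer ({u} : Set G) ≤ Subgroup.normalizer (T : Set G))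
    {g : G} (hg : g ∈ Subgroup.centralizer ({x} : Set G)) :
    ∃ s ∈ T, ∃ j : ℕ, j < 2 ∧ g = s * t ^ j := by
  have hgN := hloc x hd.xT hd.x1 hg
  obtain ⟨s, hs, i, j, hi, hj, rfl⟩ := hd.memN g hgN
  have hcx : MulAut.conj (s * (f ^ i * t ^ j)) x = x := by
    rw [MulAut.conj_apply]
    rw [Subgroup.mem_centralizer_singleton_iff] at hg
    rw [hg, mul_inv_cancel_right]
  rw [conj_mul_apply', conj_mul_apply', nd_ctpow_x hd] at hcx
  have hfi : MulAut.conj (f ^ i) x ∈ T := by
    rcases nd_cfpow_x hd i with h | h | h | h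
    · rw [h]; exact hd.xT
    · rw [h]; exact hd.yT
    · rw [h]; exact T.inv_mem hd.xT
    · rw [h]; exact T.inv_mem hd.yT
  rw [nd_cT hd hs hfi] at hcx
  have hi0 : i = 0 := by
    interval_cases i
    · rfl
    · exfalso
      rw [pow_one, nd_cfx hd] at hcx
      exact nd_x_ne_y hd hcx.symm
    · exfalso
      rw [pow_two, nd_cffx hd] at hcx
      exact nd_x_ne_xinv hd hcx.symm
    · exfalso
      rw [show f ^ 3 = f * (f * f) by rw [pow_succ', pow_two], conj_mul_apply', nd_cffx hd,
        map_inv, nd_cfx hd] at hcx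
      exact nd_x_ne_yinv hd hcx.symm
  subst hi0
  exact ⟨s, hs, j, hj, by rw [pow_zero, one_mul]⟩

/-- uniqueness of the decomposition `s * t ^ j` -/
theorem nd_decomp_unique (hd : NData8 T x y t f) {s s' : G} (hs : s ∈ T) (hs' : s' ∈ T)
    {j j' : ℕ} (hj : j < 2) (hj' : j' < 2) (h : s * t ^ j = s' * t ^ j') : s = s' ∧ j = j' := by
  have hnt := nd_t_not_mem hd
  interval_cases j <;> interval_cases j'
  · simp only [pow_zero, mul_one] at h
    exact ⟨h, rfl⟩
  · exfalso
    simp only [pow_zero, mul_one, pow_one] at h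
    apply hnt
    have : t = s'⁻¹ * s := by rw [h]; group
    rw [this]
    exact T.mul_mem (T.inv_mem hs') hs
  · exfalso
    simp only [pow_zero, mul_one, pow_one] at h
    apply hnt
    have : t = s⁻¹ * s' := by rw [← h]; group
    rw [this]
    exact T.mul_mem (T.inv_mem hs) hs'
  · simp only [pow_one] at h
    exact ⟨mul_right_cancel h, rfl⟩

end basic

/-- (G4) centralizer orders. -/
theorem card_centralizers8 [Finite G] (T : Subgroup G) (x y t f : G) (hd : NData8 T x y t f)
    (hcard : Nat.card T = 9)
    (hloc : ∀ u ∈ T, u ≠ 1 → Subgroup.centralizer ({u} : Set G) ≤ Subgroup.normalizer (T : Set G)) :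
    Nat.card (Subgroup.centralizer ({x} : Set G)) = 18 ∧
      Nat.card (Subgroup.centralizer ({x * t} : Set G)) = 6 := by
  have hxt := nd_xt_comm hd
  constructor
  · -- `C(x) = T ⟨t⟩`
    have hT2 : Nat.card (T × Fin 2) = 18 := by
      rw [Nat.card_prod, hcard]; simp
    have hmem : ∀ p : T × Fin 2, (p.1 : G) * t ^ (p.2 : ℕ) ∈
        Subgroup.centralizer ({x} : Set G) := by
      intro p
      rw [Subgroup.mem_centralizer_singleton_iff]
      rw [mul_assoc, nd_tpow_comm_x hd, ← mul_assoc, ← mul_assoc, hd.commT _ p.1.2 x hd.xT]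
    let φ : T × Fin 2 → Subgroup.centralizer ({x} : Set G) := fun p => ⟨_, hmem p⟩
    have hφ : Function.Bijective φ := by
      constructor
      · intro p p' h
        have h' : (p.1 : G) * t ^ (p.2 : ℕ) = (p'.1 : G) * t ^ (p'.2 : ℕ) :=
          congrArg Subtype.val h
        obtain ⟨h1, h2⟩ := nd_decomp_unique hd p.1.2 p'.1.2 p.2.2 p'.2.2 h'
        exact Prod.ext (Subtype.ext h1) (Fin.ext h2)
      · intro g
        obtain ⟨s, hs, j, hj, hg⟩ := nd_mem_cent_x hd hloc g.2
        exact ⟨(⟨s, hs⟩, ⟨j, hj⟩), Subtype.ext hg.symm⟩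
    rw [← Nat.card_congr (Equiv.ofBijective φ hφ), hT2]
  · -- `C(x t) = ⟨x⟩ ⟨t⟩`
    have h32 : Nat.card (Fin 3 × Fin 2) = 6 := by
      rw [Nat.card_prod]; simp
    have hmem : ∀ p : Fin 3 × Fin 2, x ^ (p.1 : ℕ) * t ^ (p.2 : ℕ) ∈
        Subgroup.centralizer ({x * t} : Set G) := by
      intro p
      rw [Subgroup.mem_centralizer_singleton_iff]
      have hc : Commute x t := hxt
      have h1 : Commute (x ^ (p.1 : ℕ) * t ^ (p.2 : ℕ)) (x * t) :=
        Commute.mul_left (Commute.mul_right (Commute.pow_left (Commute.refl x) _)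
          (hc.pow_left _)) (Commute.mul_right (hc.symm.pow_left _)
          (Commute.pow_left (Commute.refl t) _))
      exact h1.eq
    let ψ : Fin 3 × Fin 2 → Subgroup.centralizer ({x * t} : Set G) := fun p => ⟨_, hmem p⟩
    have hψ : Function.Bijective ψ := by
      constructor
      · intro p p' h
        have h' : x ^ (p.1 : ℕ) * t ^ (p.2 : ℕ) = x ^ (p'.1 : ℕ) * t ^ (p'.2 : ℕ) :=
          congrArg Subtype.val h
        obtain ⟨h1, h2⟩ := nd_decomp_unique hd (T.pow_mem hd.xT _) (T.pow_mem hd.xT _)
          p.2.2 p'.2.2 h'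
        have h3 : (p.1 : ℕ) = (p'.1 : ℕ) := by
          have := pow_injOn_Iio_orderOf (x := x)
            (by rw [nd_orderOf_x hd]; exact p.1.2) (by rw [nd_orderOf_x hd]; exact p'.1.2) h1
          exact this
        exact Prod.ext (Fin.ext h3) (Fin.ext h2)
      · rintro ⟨g, hg⟩
        rw [Subgroup.mem_centralizer_singleton_iff] at hg
        -- `g` commutes with `(x t)^2 = x^2`, hence with `x`
        have hgc : Commute g (x * t) := hg
        have hsq : (x * t) ^ 2 = x ^ 2 := by
          rw [(show Commute x t from hxt).mul_pow, hd.t2, mul_one]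
        have hgx2 : Commute g (x ^ 2) := by
          have := hgc.pow_right 2
          rwa [hsq] at this
        have hgx : Commute g x := by
          have h4 : (x ^ 2) ^ 2 = x := by
            rw [← pow_mul]
            calc x ^ (2 * 2) = x ^ 3 * x := by rw [← pow_succ]
              _ = x := by rw [hd.x3, one_mul]
          have := hgx2.pow_right 2
          rwa [h4] at this
        have hgt : Commute g t := by
          have h5 : t = x⁻¹ * (x * t) := by group
          have := Commute.mul_right hgx.inv_right hgc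
          rwa [← h5] at this
        have hgC : g ∈ Subgroup.centralizer ({x} : Set G) := by
          rw [Subgroup.mem_centralizer_singleton_iff]; exact hgx.eq
        obtain ⟨s, hs, j, hj, hgs⟩ := nd_mem_cent_x hd hloc hgC
        -- `s` commutes with `t`
        have hst : Commute s t := by
          have h1 : Commute (s * t ^ j) t := by rw [← hgs]; exact hgt
          have h2 : s = (s * t ^ j) * (t ^ j)⁻¹ := by group
          have := Commute.mul_left h1 ((Commute.pow_left (Commute.refl t) j).inv_left)
          rwa [← h2] at this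
        obtain ⟨a, b, hsab⟩ := hd.memT s hs
        -- `y ^ b = 1`
        have hyb : y ^ b = 1 := by
          have h1 : MulAut.conj t s = s := by
            rw [MulAut.conj_apply, ← hst.eq, mul_inv_cancel_right]
          rw [hsab, map_mul, map_pow, map_pow, nd_ctx hd, nd_cty hd] at h1
          have h2 : y⁻¹ ^ b = y ^ b := mul_left_cancel h1
          have h3 : y ^ (2 * b) = 1 := by
            rw [two_mul, pow_add]
            nth_rewrite 1 [← h2]
            rw [inv_pow, inv_mul_cancel]
          have d1 : 3 ∣ 2 * b := by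
            rw [← nd_orderOf_y hd]; exact orderOf_dvd_of_pow_eq_one h3
          have d2 : 3 ∣ b := by omega
          obtain ⟨c, rfl⟩ := d2
          rw [pow_mul, hd.y3, one_pow]
        have hsx : s = x ^ (a % 3) := by
          rw [hsab, hyb, mul_one, ← nd_orderOf_x hd, pow_mod_orderOf]
        refine ⟨(⟨a % 3, Nat.mod_lt _ (by norm_num)⟩, ⟨j, hj⟩), Subtype.ext ?_⟩
        show x ^ (a % 3) * t ^ j = g
        rw [hgs, hsx]
    rw [← Nat.card_congr (Equiv.ofBijective ψ hψ), h32]

end grp

end Cfsg.Agent.Helper31.D8
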