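import Mathlib

/-!
# Piece (QC) of helper78's plan for S4719: centralizers in a quotient are not larger
-/

set_option autoImplicit false

namespace Cfsg.Agent.Helper31.DC

theorem card_centralizer_quotient_le {G : Type*} [Group G] [Finite G] (A : Subgroup G) [A.Normal]
    (v : G) :
    Nat.card (Subgroup.centralizer ({(QuotientGroup.mk v : G ⧸ A)} : Set (G ⧸ A))) ≤
      Nat.card (Subgroup.centralizer ({v} : Set G)) := by
  classical
  set Cbar := Subgroup.centralizer ({(QuotientGroup.mk v : G ⧸ A)} : Set (G ⧸ A)) with hCbar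
  set C := Subgroup.centralizer ({v} : Set G) with hC
  set X : Subgroup G := Cbar.comap (QuotientGroup.mk' A) with hX
  have h1 : Nat.card X = Nat.card Cbar * Nat.card A := by
    have hidx : X.index = Cbar.index :=
      Subgroup.index_comap_of_surjective _ (QuotientGroup.mk'_surjective A)
    have e1 := Subgroup.card_mul_index X
    have e2 := Subgroup.card_mul_index Cbar
    have e3 := Subgroup.card_eq_card_quotient_mul_card_subgroup A
    have hpos : 0 < Cbar.index := Nat.pos_of_ne_zero Subgroup.index_ne_zero_of_finite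
    have : Nat.card X * Cbar.index = (Nat.card Cbar * Nat.card A) * Cbar.index := by
      rw [← hidx, e1, e3, ← e2, hidx]; ring
    exact Nat.eq_of_mul_eq_mul_right hpos this
  have h2 : Nat.card X ≤ Nat.card A * Nat.card C := by
    have hf : ∀ x : X, (x : G) * v * (x : G)⁻¹ * v⁻¹ ∈ A := by
      intro x
      have hx : (QuotientGroup.mk' A) (x : G) ∈ Cbar := x.2
      rw [hCbar, Subgroup.mem_centralizer_singleton_iff] at hx
      rw [← QuotientGroup.eq_one_iff]
      have hx' : (QuotientGroup.mk (x : G) : G ⧸ A) * QuotientGroup.mk v =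
          QuotientGroup.mk v * QuotientGroup.mk (x : G) := hx
      simp only [QuotientGroup.mk_mul, QuotientGroup.mk_inv]
      rw [hx']
      group
    let F : X → G := fun x => (x : G) * v * (x : G)⁻¹
    let r : G → X := Function.invFun F
    have hr : ∀ x : X, F (r (F x)) = F x := fun x => Function.invFun_eq ⟨x, rfl⟩
    have hc : ∀ x : X, ((r (F x) : X) : G)⁻¹ * (x : G) ∈ C := by
      intro x
      rw [hC, Subgroup.mem_centralizer_singleton_iff]
      have h := hr x
      simp only [F] at h
      have h' : ((r (F x) : X) : G) * v * ((r (F x) : X) : G)⁻¹ = (x : G) * v * (x : G)⁻¹ := h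
      calc ((r (F x) : X) : G)⁻¹ * (x : G) * v
          = ((r (F x) : X) : G)⁻¹ * ((x : G) * v * (x : G)⁻¹) * (x : G) := by group
        _ = ((r (F x) : X) : G)⁻¹ * (((r (F x) : X) : G) * v * ((r (F x) : X) : G)⁻¹) * (x : G) := by
            rw [h']
        _ = v * (((r (F x) : X) : G)⁻¹ * (x : G)) := by group
    let g : X → A × C := fun x => (⟨(x : G) * v * (x : G)⁻¹ * v⁻¹, hf x⟩,
      ⟨((r (F x) : X) : G)⁻¹ * (x : G), hc x⟩)
    have hg : Function.Injective g := by
      intro x y hxy
      have e1 : (x : G) * v * (x : G)⁻¹ * v⁻¹ = (y : G) * v * (y : G)⁻¹ * v⁻¹ :=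
        congrArg (fun z => ((z.1 : A) : G)) hxy
      have e2 : ((r (F x) : X) : G)⁻¹ * (x : G) = ((r (F y) : X) : G)⁻¹ * (y : G) :=
        congrArg (fun z => ((z.2 : C) : G)) hxy
      have e3 : F x = F y := mul_right_cancel e1
      rw [e3] at e2
      exact Subtype.ext (mul_left_cancel e2)
    calc Nat.card X ≤ Nat.card (A × C) := Nat.card_le_card_of_injective g hg
      _ = Nat.card A * Nat.card C := Nat.card_prod _ _
  have hApos : 0 < Nat.card A := Nat.card_pos
  have h3 : Nat.card A * Nat.card Cbar ≤ Nat.card A * Nat.card C := by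
    rw [mul_comm, ← h1]; exact h2
  exact Nat.le_of_mul_le_mul_left h3 hApos

end Cfsg.Agent.Helper31.DC
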