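import Mathlib
import Cfsg.Agent.Helper55.BrauerFowler

/-!
# Piece (SC) of helper78's plan for S4719: Brauer-Fowler, a small conjugacy class
-/

set_option autoImplicit false

namespace Cfsg.Agent.Helper31.DC

open Finset Cfsg.Agent.Helper55

theorem exists_small_class {G : Type*} [Group G] [Finite G] (t₁ t₂ : G) (h1 : orderOf t₁ = 2)
    (h2 : orderOf t₂ = 2) (hne : t₁ ≠ t₂) (c : ℕ)
    (hc1 : Nat.card (Subgroup.centralizer ({t₁} : Set G)) ≤ c) :
    ∃ g : G, g ≠ 1 ∧ (Subgroup.centralizer ({g} : Set G)).index ≤ 2 * c ^ 2 := by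
  classical
  have : Fintype G := Fintype.ofFinite G
  by_contra hcon
  push Not at hcon
  have hcpos : 1 ≤ c := le_trans (Nat.card_pos) hc1
  have hn2 : 2 ≤ (invs G).card :=
    Finset.one_lt_card.2 ⟨t₁, mem_invs.2 h1, t₂, mem_invs.2 h2, hne⟩
  have hN : Fintype.card G ≤ c * (invs G).card :=
    (card_le_card_centralizer_mul_card_invs h1).trans (Nat.mul_le_mul_right _ hc1)
  have hNpos : 0 < Fintype.card G := Fintype.card_pos
  -- `n² ≤ n + S`
  have hA : (invs G).card ^ 2 ≤ (invs G).card +
      ∑ g ∈ (univ : Finset G).erase 1, Nat.card (Subgroup.centralizer ({g} : Set G)) := by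
    rw [← sum_card_bfFiber, ← Finset.add_sum_erase _ _ (mem_univ (1 : G))]
    exact add_le_add card_bfFiber_one_le (Finset.sum_le_sum fun g _ => card_bfFiber_le g)
  -- `2 c² S ≤ (N - 1) N`
  have hB : 2 * c ^ 2 *
      ∑ g ∈ (univ : Finset G).erase 1, Nat.card (Subgroup.centralizer ({g} : Set G)) ≤
      (Fintype.card G - 1) * Fintype.card G := by
    rw [Finset.mul_sum]
    have := Finset.sum_le_card_nsmul ((univ : Finset G).erase 1)
      (fun g => 2 * c ^ 2 * Nat.card (Subgroup.centralizer ({g} : Set G))) (Fintype.card G) ?_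
    · rw [Finset.card_erase_of_mem (mem_univ _), Finset.card_univ, smul_eq_mul] at this
      exact this
    · intro g hg
      have hg1 : g ≠ 1 := (Finset.mem_erase.1 hg).1
      have hlt := hcon g hg1
      have hmul := Subgroup.card_mul_index (Subgroup.centralizer ({g} : Set G))
      rw [Nat.card_eq_fintype_card (α := G)] at hmul
      show 2 * c ^ 2 * Nat.card (Subgroup.centralizer ({g} : Set G)) ≤ Fintype.card G
      rw [← hmul, mul_comm]
      exact Nat.mul_le_mul_left _ hlt.le
  have hC : (Fintype.card G - 1) * Fintype.card G < Fintype.card G * Fintype.card G :=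
    Nat.mul_lt_mul_of_pos_right (Nat.sub_lt hNpos Nat.one_pos) hNpos
  have hD : Fintype.card G * Fintype.card G ≤ (c * (invs G).card) * (c * (invs G).card) :=
    Nat.mul_le_mul hN hN
  set n := (invs G).card with hn
  set S := ∑ g ∈ (univ : Finset G).erase 1, Nat.card (Subgroup.centralizer ({g} : Set G)) with hS
  have hE : 2 * c ^ 2 * S < (c * n) * (c * n) := lt_of_le_of_lt hB (lt_of_lt_of_le hC hD)
  have hF : 2 * c ^ 2 * n ^ 2 ≤ 2 * c ^ 2 * (n + S) := Nat.mul_le_mul_left _ hA
  have hG : c ^ 2 * n * 2 ≤ c ^ 2 * n * n := Nat.mul_le_mul_left _ hn2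
  nlinarith [hE, hF, hG]

end Cfsg.Agent.Helper31.DC
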