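import Cfsg.Agent.Helper34.KInfQuadMain
import Cfsg.Agent.Helper34.KInfQuadStable
import Cfsg.Agent.Helper33.KInfTransfer
import Cfsg.Agent.Helper97.QuadSection

/-!
# Glauberman's K-infinity subgroup for an arbitrary `p`-subgroup above `O_p(G)`

The helper33/helper34 development of Glauberman's theorem (`K_∞(S) ⊴ G` for a Sylow `p`-subgroup `S`
of a `p`-stable group `G` with `C_G(O_p(G)) ≤ O_p(G)`) never uses that `S` is a Sylow subgroup, only
that `S` is a `p`-subgroup containing `O_p(G)`.  We record this generalisation, for groups with abelian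
Sylow `2`-subgroups and odd `p`.
-/

set_option autoImplicit false
set_option linter.style.haveILetI false

open scoped commutatorElement

universe u

namespace Cfsg.Agent.Helper31.KA

open Cfsg.Agent.Helper33 Cfsg.Agent.Helper34.KQ

section Element

variable {G : Type u} [Group G] [Finite G] {p : ℕ} [hp : Fact p.Prime]

/-- If the lower K-infinity subgroup of the `p`-subgroup `R ≥ O_p(G)` is not normal in `G`, some term
of the K-sequence of `R` is not contained in `O_p(G)`. -/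
theorem exists_kSeq_not_le_pCore (R : Subgroup G) (hRp : IsPGroup p R)
    (hTS : Cfsg.pCore p G ≤ R)
    (hK : ¬ (Cfsg.inducedFunctor Cfsg.kInfLower R).Normal) :
    (∃ n, ¬ Cfsg.kSeqEven ↥R n ≤ (Cfsg.pCore p G).subgroupOf R) ∨
      (∃ n, ¬ Cfsg.kSeqOdd ↥R (n + 1) ≤ (Cfsg.pCore p G).subgroupOf R) := by
  by_contra hall
  push Not at hall
  obtain ⟨T', hT'⟩ : ∃ T' : Subgroup ↥R, T' = (Cfsg.pCore p G).subgroupOf R := ⟨_, rfl⟩
  rw [← hT'] at hall
  obtain ⟨hL, -⟩ := kInf_subgroup_eq (P := ↥R) T' (fun n => ⟨hall.1 n, hall.2 n⟩)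
  obtain ⟨f, hf⟩ : ∃ f : ↥T' →* G, f = R.subtype.comp T'.subtype := ⟨_, rfl⟩
  have hfinj : Function.Injective f := by
    rw [hf]
    exact (R.subtype_injective).comp T'.subtype_injective
  have hfrange : f.range = Cfsg.pCore p G := by
    rw [hf, MonoidHom.range_eq_map, ← Subgroup.map_map, ← MonoidHom.range_eq_map,
      Subgroup.range_subtype, hT', Subgroup.map_subgroupOf_eq_of_le hTS]
  have hT'p : IsPGroup p ↥T' := hRp.to_subgroup T'
  haveI : (Cfsg.pCore p G).Normal := Cfsg.Agent.Helper33.pCore_normal p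
  have hTp : IsPGroup p (Cfsg.pCore p G) := Cfsg.Agent.Helper33.pCore_isPGroup
  apply hK
  have hW := isCharPFunctor_kInfLower.{u} p
  have h1 : Cfsg.inducedFunctor Cfsg.kInfLower R =
      Cfsg.inducedFunctor Cfsg.kInfLower (Cfsg.pCore p G) := by
    have h2 := map_eq_inducedFunctor_range hW hT'p f hfinj
    rw [hfrange] at h2
    rw [← h2, hf, ← Subgroup.map_map, hL]
    rfl
  rw [h1]
  exact inducedFunctor_normal_of_normal hW _ hTp

/-- The refined case analysis of helper34, for a `p`-subgroup `R ≥ O_p(G)`. -/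
theorem exists_refined_in_group (R : Subgroup G) (hRp : IsPGroup p R)
    (hTS : Cfsg.pCore p G ≤ R) (A : Subgroup G)
    (hAT : A ≤ Cfsg.pCore p G) (hAn : A.Normal)
    (hA2 : ⁅A, A⁆ ≤ Subgroup.centralizer ((A : Subgroup G) : Set G))
    (hA3 : ⁅Cfsg.pCore p G, A⁆ ≤ A ⊓ Subgroup.centralizer ((A : Subgroup G) : Set G))
    (hK : ¬ (Cfsg.inducedFunctor Cfsg.kInfLower R).Normal) :
    ∃ B : Subgroup G, B ≤ R ∧ ¬ B ≤ Cfsg.pCore p G ∧
      ((∃ R' : Subgroup G, A ≤ R' ∧ B ∈ Cfsg.kLowerStarFamily R') ∨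
        ⁅⁅A, B⁆, B⁆ = ⊥ ∨
        (B ∈ Cfsg.classTwoSubgroups G ∧ A ≤ Subgroup.normalizer (B : Set G) ∧
          ⁅A, ⁅B, B⁆⁆ = ⊥ ∧
          ⁅⁅A ⊓ Subgroup.centralizer ((A : Subgroup G) : Set G), B⁆, B⁆ = ⊥)) := by
  have hAS : A ≤ R := hAT.trans hTS
  have hinj : Function.Injective R.subtype := Subgroup.subtype_injective _
  obtain ⟨A', hA'⟩ : ∃ A' : Subgroup ↥R, A' = A.subgroupOf R := ⟨_, rfl⟩
  obtain ⟨T', hT'⟩ : ∃ T' : Subgroup ↥R, T' = (Cfsg.pCore p G).subgroupOf R := ⟨_, rfl⟩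
  have hA'map : A'.map R.subtype = A := by
    rw [hA']; exact Subgroup.map_subgroupOf_eq_of_le hAS
  have hT'map : T'.map R.subtype = Cfsg.pCore p G := by
    rw [hT']; exact Subgroup.map_subgroupOf_eq_of_le hTS
  haveI hA'n : A'.Normal := by
    rw [hA']; exact Subgroup.Normal.subgroupOf hAn _
  have hZmap : (A' ⊓ Subgroup.centralizer (A' : Set ↥R)).map
      R.subtype = A ⊓ Subgroup.centralizer ((A : Subgroup G) : Set G) := by
    rw [map_inf_centralizer _ hinj, hA'map]
  have hA2' : ⁅A', A'⁆ ≤ Subgroup.centralizer (A' : Set ↥R) := by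
    rw [← map_le_centralizer_map_iff _ hinj, Subgroup.map_commutator, hA'map]
    exact hA2
  have hTA' : ⁅T', A'⁆ ≤ A' ⊓ Subgroup.centralizer (A' : Set ↥R) := by
    rw [← Subgroup.map_le_map_iff_of_injective hinj, Subgroup.map_commutator, hA'map, hT'map, hZmap]
    exact hA3
  have hseq := exists_kSeq_not_le_pCore R hRp hTS hK
  rw [← hT'] at hseq
  obtain ⟨B, hBT, hcase⟩ := exists_refined T' A' hA2' hTA' hseq
  refine ⟨B.map R.subtype, Subgroup.map_subtype_le B, ?_, ?_⟩
  · intro hle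
    apply hBT
    rw [hT']
    exact Subgroup.map_le_iff_le_comap.mp hle
  · rcases hcase with ⟨R', hAR, hBR⟩ | hq | ⟨h1, h3, h4, h5⟩
    · left
      refine ⟨R'.map R.subtype, ?_, (map_mem_lowerStar_iff _ hinj R' B).mpr hBR⟩
      rw [← hA'map]
      exact Subgroup.map_mono hAR
    · right; left
      have := congrArg (Subgroup.map R.subtype) hq
      rw [Subgroup.map_commutator, Subgroup.map_commutator, hA'map, Subgroup.map_bot] at this
      exact this
    · right; right
      refine ⟨(map_mem_classTwo_iff _ hinj B).mpr h1, ?_, ?_, ?_⟩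
      · rw [← hA'map]
        exact (map_le_normalizer_map_iff _ hinj A' B).mpr h3
      · have := congrArg (Subgroup.map R.subtype) h4
        rw [Subgroup.map_commutator, Subgroup.map_commutator, hA'map, Subgroup.map_bot] at this
        exact this
      · have := congrArg (Subgroup.map R.subtype) h5
        rw [Subgroup.map_commutator, Subgroup.map_commutator, hZmap, Subgroup.map_bot] at this
        exact this

/-- Glauberman's quadratic element for a `p`-subgroup `R ≥ O_p(G)` with `K_∞(R)` not normal. -/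
theorem exists_quadratic_chief_element (R : Subgroup G) (hRp : IsPGroup p R)
    (hTS : Cfsg.pCore p G ≤ R)
    (hCT : Subgroup.centralizer ((Cfsg.pCore p G : Subgroup G) : Set G) ≤ Cfsg.pCore p G)
    (hK : ¬ (Cfsg.inducedFunctor Cfsg.kInfLower R).Normal) :
    ∃ (g : G) (U V : Subgroup G), Cfsg.IsChiefFactor U V ∧ U ≤ Cfsg.pCore p G ∧
      ⁅⁅U, Subgroup.zpowers g⁆, Subgroup.zpowers g⁆ ≤ V ∧ ¬ ⁅U, Subgroup.zpowers g⁆ ≤ V := by
  obtain ⟨A, hAT, hAn, hA2, hA3, hA4⟩ := exists_critical_pCore (G := G) (p := p)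
  haveI := hAn
  obtain ⟨S, hRS⟩ := hRp.exists_le_sylow
  obtain ⟨B, hBR, hBT, hcase⟩ := exists_refined_in_group R hRp hTS A hAT hAn hA2 hA3 hK
  have hBS : B ≤ (S : Subgroup G) := hBR.trans hRS
  have hq : QConcl S A := by
    rcases hcase with ⟨R', hAR, hBR'⟩ | hq | ⟨h1, h3, h4, h5⟩
    · exact qconcl_of_lower S A hAT hA2 hA3 hA4 hCT B R' hBS hBT hAR hBR'
    · exact qconcl_of_quad S A hAT hA4 hCT B hBS hBT hq
    · exact qconcl_of_test S A hAT hA4 hCT B hBS hBT h1 h3 h4 h5
  obtain ⟨g, -, -, -, -, U, V, hUV, hUA, h3, h4⟩ := hq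
  exact ⟨g, U, V, hUV, hUA.trans hAT, h3, h4⟩

end Element

end Cfsg.Agent.Helper31.KA
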