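import Cfsg.Agent.Helper31.KInfAbove

/-!
# `K_∞(R) ⊴ G` for `p`-subgroups `R ≥ O_p(G)` in groups with abelian Sylow `2`-subgroups

* `pow_mem_of_isChiefFactor`: a `p`-chief factor has exponent `p`;
* `commutator_le_of_quadratic_chief`: in a group with abelian Sylow `2`-subgroups (`p` odd), an
  element acting quadratically on a `p`-chief factor centralizes it;
* `kInfLower_normal_of_pCore_le`: Glauberman's theorem for an arbitrary `p`-subgroup above `O_p(G)`;
* `inducedFunctor_map_subtype`: transport of the induced functor along the inclusion of a subgroup.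
-/

set_option autoImplicit false
set_option linter.style.haveILetI false

open scoped commutatorElement

universe u

namespace Cfsg.Agent.Helper31.KA

open Cfsg.Agent.Helper33 Cfsg.Agent.Helper34.KQ

section Chief

variable {G : Type*} [Group G] [Finite G] {p : ℕ} [hp : Fact p.Prime]

/-- A chief factor `U / V` with `U` a `p`-group and `[U, U] ≤ V` has exponent `p`. -/
theorem pow_mem_of_isChiefFactor {U V : Subgroup G} (hUV : Cfsg.IsChiefFactor U V)
    (hUp : IsPGroup p U) (hcomm : ⁅U, U⁆ ≤ V) : ∀ u ∈ U, u ^ p ∈ V := by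
  obtain ⟨hlt, hUn, hVn, hmax⟩ := hUV
  haveI := hUn
  haveI := hVn
  -- commutation modulo `V`
  have hmulpow : ∀ u ∈ U, ∀ v ∈ U, u ^ p ∈ V → v ^ p ∈ V → (u * v) ^ p ∈ V := by
    intro u hu v hv hup hvp
    have hc : Commute (QuotientGroup.mk' V u) (QuotientGroup.mk' V v) := by
      rw [← commutatorElement_eq_one_iff_commute, ← map_commutatorElement,
        QuotientGroup.mk'_apply, QuotientGroup.eq_one_iff]
      exact hcomm (Subgroup.commutator_mem_commutator hu hv)
    have h1 : (QuotientGroup.mk' V (u * v)) ^ p = 1 := by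
      rw [map_mul, hc.mul_pow, ← map_pow, ← map_pow, QuotientGroup.mk'_apply,
        QuotientGroup.mk'_apply, (QuotientGroup.eq_one_iff _).mpr hup,
        (QuotientGroup.eq_one_iff _).mpr hvp, mul_one]
    rw [← map_pow, QuotientGroup.mk'_apply, QuotientGroup.eq_one_iff] at h1
    exact h1
  let N : Subgroup G :=
    { carrier := {u | u ∈ U ∧ u ^ p ∈ V}
      mul_mem' := by
        rintro u v ⟨hu, hup⟩ ⟨hv, hvp⟩
        exact ⟨U.mul_mem hu hv, hmulpow u hu v hv hup hvp⟩
      one_mem' := ⟨U.one_mem, by rw [one_pow]; exact V.one_mem⟩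
      inv_mem' := by
        rintro u ⟨hu, hup⟩
        exact ⟨U.inv_mem hu, by rw [inv_pow]; exact V.inv_mem hup⟩ }
  have hNmem : ∀ u, u ∈ N ↔ u ∈ U ∧ u ^ p ∈ V := fun u => Iff.rfl
  have hNn : N.Normal := by
    constructor
    intro n hn g
    rw [hNmem] at hn ⊢
    refine ⟨hUn.conj_mem n hn.1 g, ?_⟩
    rw [conj_pow]
    exact hVn.conj_mem _ hn.2 g
  have hVN : V ≤ N := fun v hv => (hNmem v).mpr ⟨hlt.le hv, V.pow_mem hv p⟩
  have hNU : N ≤ U := fun u hu => ((hNmem u).mp hu).1
  rcases hmax N hNn hVN hNU with h | h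
  · exfalso
    obtain ⟨u₀, hu₀U, hu₀V⟩ := SetLike.exists_of_lt hlt
    have hex : ∃ k : ℕ, u₀ ^ (p ^ k) ∈ V := by
      obtain ⟨k, hk⟩ := hUp ⟨u₀, hu₀U⟩
      refine ⟨k, ?_⟩
      have : u₀ ^ (p ^ k) = 1 := by
        have := congrArg Subtype.val hk
        simpa using this
      rw [this]; exact V.one_mem
    classical
    obtain ⟨k, hk⟩ : ∃ k, k = Nat.find hex := ⟨_, rfl⟩
    have hkV : u₀ ^ (p ^ k) ∈ V := hk ▸ Nat.find_spec hex
    cases k with
    | zero =>
      rw [pow_zero, pow_one] at hkV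
      exact hu₀V hkV
    | succ m =>
      have hm : ¬ u₀ ^ (p ^ m) ∈ V := by
        intro hcon
        have := Nat.find_min' hex hcon
        omega
      apply hm
      have hmem : u₀ ^ (p ^ m) ∈ N := by
        rw [hNmem]
        refine ⟨U.pow_mem hu₀U _, ?_⟩
        rw [← pow_mul, ← pow_succ]
        exact hkV
      rw [h] at hmem
      exact hmem
  · intro u hu
    have : u ∈ N := h ▸ hu
    exact ((hNmem u).mp this).2

/-- In a finite group with an abelian Sylow `2`-subgroup and `p` odd, an element acting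
quadratically on a chief factor `U / V` inside `O_p(G)` centralizes it. -/
theorem commutator_le_of_quadratic_chief (hp2 : p ≠ 2) (T2 : Sylow 2 G)
    (hT2 : IsMulCommutative T2) {U V : Subgroup G} (hUV : Cfsg.IsChiefFactor U V)
    (hUT : U ≤ Cfsg.pCore p G) (g : G)
    (h3 : ⁅⁅U, Subgroup.zpowers g⁆, Subgroup.zpowers g⁆ ≤ V) :
    ⁅U, Subgroup.zpowers g⁆ ≤ V := by
  have hUV' := hUV
  obtain ⟨hlt, hUn, hVn, hmax⟩ := hUV
  haveI := hUn
  haveI := hVn
  haveI hTn : (Cfsg.pCore p G).Normal := Cfsg.Agent.Helper33.pCore_normal p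
  have hTp : IsPGroup p (Cfsg.pCore p G) := Cfsg.Agent.Helper33.pCore_isPGroup
  have hUp : IsPGroup p U := hTp.to_le hUT
  have hcomm : ⁅U, U⁆ ≤ V :=
    (Subgroup.commutator_mono hUT le_rfl).trans
      (Cfsg.Agent.Helper33.commutator_le_of_isChiefFactor (Cfsg.pCore p G) hTp hUV')
  have hpow := pow_mem_of_isChiefFactor hUV' hUp hcomm
  have hst := Cfsg.Agent.Helper97.QuadSection.isPStableOnSection_of_comm_sylow_two hp2 T2 hT2 U V
    hlt.le hcomm hpow
  obtain ⟨D, hDn, hCD, ⟨k, hk⟩, hgD⟩ := hst g h3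
  obtain ⟨π, hπ⟩ : ∃ π : G →* G ⧸ V, π = QuotientGroup.mk' V := ⟨_, rfl⟩
  have hπs : Function.Surjective π := hπ ▸ QuotientGroup.mk'_surjective V
  have hker : π.ker = V := by rw [hπ]; exact QuotientGroup.ker_mk' V
  obtain ⟨P, hP⟩ : ∃ P : Subgroup (G ⧸ V), P = U.map π := ⟨_, rfl⟩
  haveI hPn : P.Normal := hP ▸ Subgroup.Normal.map hUn π hπs
  have hPp : IsPGroup p P := hP ▸ hUp.map π
  have hcomapU : (U.map π).comap π = U := by
    rw [Subgroup.comap_map_eq, hker, sup_eq_left.mpr hlt.le]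
  have hP0 : P ≠ ⊥ := by
    intro h
    rw [hP, Subgroup.map_eq_bot_iff, hker] at h
    exact absurd h (not_le_of_gt hlt)
  have hmin : ∀ N : Subgroup (G ⧸ V), N.Normal → N ≤ P → N = ⊥ ∨ N = P := by
    intro N hN hNP
    have hN' : N = (N.comap π).map π := (Subgroup.map_comap_eq_self_of_surjective hπs N).symm
    have h1 : V ≤ N.comap π := by
      intro v hv
      rw [Subgroup.mem_comap]
      have h6 : π v = 1 := by
        rw [hπ]; exact (QuotientGroup.eq_one_iff v).mpr hv
      rw [h6]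
      exact N.one_mem
    have h2 : N.comap π ≤ U := by
      rw [← hcomapU, ← hP]
      exact Subgroup.comap_mono hNP
    rcases hmax (N.comap π) (hN.comap π) h1 h2 with h5 | h5
    · left
      rw [hN', h5, Subgroup.map_eq_bot_iff, hker]
    · right
      rw [hN', h5, hP]
  have hcore := pCore_quotient_centralizer_eq_bot P hPp hP0 hmin
  -- the section kernel is the preimage of the centralizer of `P`
  have hCdef : Cfsg.sectionKernel U V = (Subgroup.centralizer ((P : Subgroup (G ⧸ V)) : Set (G ⧸ V))).comap π := by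
    rw [hP, hπ]; rfl
  haveI hCn : (Cfsg.sectionKernel U V).Normal := by
    rw [hCdef]
    haveI : (Subgroup.centralizer ((P : Subgroup (G ⧸ V)) : Set (G ⧸ V))).Normal :=
      Subgroup.normal_centralizer
    exact Subgroup.Normal.comap inferInstance π
  have hDp : ∀ d ∈ D, d ^ (p ^ k) ∈ Cfsg.sectionKernel U V := by
    intro d hd
    haveI : ((Cfsg.sectionKernel U V).subgroupOf D).Normal := Subgroup.Normal.subgroupOf hCn D
    have h1 := Subgroup.pow_index_mem ((Cfsg.sectionKernel U V).subgroupOf D) (⟨d, hd⟩ : D)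
    rw [show ((Cfsg.sectionKernel U V).subgroupOf D).index = (Cfsg.sectionKernel U V).relIndex D
      from rfl, hk, Subgroup.mem_subgroupOf] at h1
    simpa using h1
  have hle : D.map π ≤ Subgroup.centralizer ((P : Subgroup (G ⧸ V)) : Set (G ⧸ V)) := by
    apply (Cfsg.Agent.Helper47.pCore_quotient_eq_bot_iff
      (Subgroup.centralizer ((P : Subgroup (G ⧸ V)) : Set (G ⧸ V)))).mp hcore
    · exact Subgroup.Normal.map hDn π hπs
    · rintro _ ⟨d, hd, rfl⟩
      refine ⟨k, ?_⟩
      have := hDp d hd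
      rw [hCdef, Subgroup.mem_comap, map_pow] at this
      exact this
  have hmem' : π g ∈ Subgroup.centralizer ((P : Subgroup (G ⧸ V)) : Set (G ⧸ V)) :=
    hle ⟨g, hgD, rfl⟩
  have h7 : ⁅U, Subgroup.zpowers g⁆ ≤ π.ker := by
    rw [← Subgroup.map_eq_bot_iff, Subgroup.map_commutator, MonoidHom.map_zpowers, ← hP,
      Subgroup.commutator_comm, Subgroup.commutator_eq_bot_iff_le_centralizer, Subgroup.zpowers_le]
    exact hmem'
  exact h7.trans hker.le

end Chief

end Cfsg.Agent.Helper31.KA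

namespace Cfsg.Agent.Helper31.KA

open Cfsg.Agent.Helper33 Cfsg.Agent.Helper34.KQ

section Main

variable {G : Type u} [Group G] [Finite G] {p : ℕ} [hp : Fact p.Prime]

/-- **Glauberman's theorem above `O_p(G)`.**  Let `G` be a finite group with an abelian Sylow
`2`-subgroup, `p` odd, `C_G(O_p(G)) ≤ O_p(G)`.  Then for EVERY `p`-subgroup `R` containing `O_p(G)`
(not only the Sylow `p`-subgroups) the lower K-infinity subgroup of `R` is normal in `G`. -/
theorem kInfLower_normal_of_pCore_le (hp2 : p ≠ 2) (T2 : Sylow 2 G) (hT2 : IsMulCommutative T2)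
    (hCT : Subgroup.centralizer ((Cfsg.pCore p G : Subgroup G) : Set G) ≤ Cfsg.pCore p G)
    (R : Subgroup G) (hRp : IsPGroup p R) (hTS : Cfsg.pCore p G ≤ R) :
    (Cfsg.inducedFunctor Cfsg.kInfLower R).Normal := by
  by_contra hK
  obtain ⟨g, U, V, hUV, hUT, h3, h4⟩ := exists_quadratic_chief_element R hRp hTS hCT hK
  exact h4 (commutator_le_of_quadratic_chief hp2 T2 hT2 hUV hUT g h3)

/-- Transport of an induced functor along the inclusion of a subgroup `M` of `G`. -/
theorem inducedFunctor_map_subtype {W : ∀ (Q : Type u) [Group Q], Subgroup Q}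
    (hW : Cfsg.IsCharPFunctor.{u} p W) (M R : Subgroup G) (hRM : R ≤ M) (hRp : IsPGroup p R) :
    (Cfsg.inducedFunctor W (R.subgroupOf M)).map M.subtype = Cfsg.inducedFunctor W R := by
  obtain ⟨f₁, hf₁⟩ : ∃ f₁ : ↥(R.subgroupOf M) →* ↥M, f₁ = (R.subgroupOf M).subtype := ⟨_, rfl⟩
  have hf₁inj : Function.Injective f₁ := hf₁ ▸ Subgroup.subtype_injective _
  have hXp : IsPGroup p ↥(R.subgroupOf M) := by
    have : IsPGroup p ↥(R.subgroupOf M) := hRp.comap_subtype
    exact this
  have h1 := map_eq_inducedFunctor_range hW hXp f₁ hf₁inj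
  have hr1 : f₁.range = R.subgroupOf M := by
    rw [hf₁]; exact Subgroup.range_subtype _
  rw [hr1] at h1
  obtain ⟨f₂, hf₂⟩ : ∃ f₂ : ↥(R.subgroupOf M) →* G, f₂ = M.subtype.comp f₁ := ⟨_, rfl⟩
  have hf₂inj : Function.Injective f₂ := by
    rw [hf₂]; exact (M.subtype_injective).comp hf₁inj
  have h2 := map_eq_inducedFunctor_range hW hXp f₂ hf₂inj
  have hr2 : f₂.range = R := by
    rw [hf₂, MonoidHom.range_eq_map, ← Subgroup.map_map, ← MonoidHom.range_eq_map, hr1,
      Subgroup.map_subgroupOf_eq_of_le hRM]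
  rw [hr2] at h2
  rw [← h1, ← h2, hf₂, Subgroup.map_map]

end Main

end Cfsg.Agent.Helper31.KA
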