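import Cfsg.Agent.Helper85.KLDefs
import Cfsg.Agent.Helper85.PPrimeResidual
import Cfsg.Agent.Helper55.KLRestr
import Cfsg.Agent.Helper55.KLConj
import Cfsg.Agent.Helper50.KLC
import Cfsg.Agent.Helper87.FusionRS
import Cfsg.Agent.Helper87.FusionFrobenius
import Cfsg.Agent.Helper87.FusionExtend
import Cfsg.Agent.Helper2.FusGT1

set_option autoImplicit false

/-! # Piece (F) of S5142: the induction on `|T| - |P|` -/

namespace Cfsg.Agent.Helper31.KLF

open Cfsg Cfsg.FusionSystem Cfsg.Agent.Helper87 Cfsg.Agent.Helper85.KL Cfsg.Agent.Helper55.KLRestr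

variable {Ω : Type*} [Group Ω] {S T : Subgroup Ω}

/-- `A_P` as a subgroup of `Aut(T)`. -/
def restrSub (F : FusionSystem S) (D : FusionSystem T) (hD : D.IsInvariantIn F) (P : Subgroup Ω) (hPT : P ≤ T) :
    Subgroup (MulAut T) where
  carrier := restrSet F D P
  mul_mem' := fun ha hb => mul_mem_restrSet F D hD ha hb
  one_mem' := autGroup_le_restrSet F D hD hPT (Subgroup.one_mem _)
  inv_mem' := fun ha => inv_mem_restrSet F D hD ha

theorem mem_restrSub (F : FusionSystem S) (D : FusionSystem T) (hD : D.IsInvariantIn F) (P : Subgroup Ω)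
    (hPT : P ≤ T) (α : MulAut T) : α ∈ restrSub F D hD P hPT ↔ α ∈ restrSet F D P := Iff.rfl

/-- The automorphisms of `T` induced by `C_S(P)` lie in `A_P`. -/
theorem autInducedBy_le_restrSet (F : FusionSystem S) (D : FusionSystem T) (hTS : T ≤ S) {P : Subgroup Ω}
    (hPT : P ≤ T) {σ : MulAut T} (hσ : σ ∈ autInducedBy (centralizerIn S P) T) : σ ∈ restrSet F D P := by
  obtain ⟨g, hg, hgx⟩ := (mem_autInducedBy_iff _ _ σ).mp hσ
  refine ⟨Subgroup.subset_closure ?_, hPT, ?_⟩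
  · exact mem_of_eq F (F.conj_mem hTS hg.1) (fun x => hgx x)
  · refine mem_of_eq D (subtype_mem D hPT) (fun x => ?_)
    show ((σ ⟨(x : Ω), hPT x.2⟩ : T) : Ω) = (x : Ω)
    rw [hgx]
    have h1 : (x : Ω) * g = g * (x : Ω) := Subgroup.mem_centralizer_iff.mp hg.2 _ x.2
    rw [← h1, mul_inv_cancel_right]

/-- The automorphisms of `T` induced by a subgroup of the `p`-group `S` form a `p`-group. -/
theorem isPGroup_autInducedBy {p : ℕ} (hS : IsPGroup p S) (K : Subgroup Ω) (hK : K ≤ S) :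
    IsPGroup p (autInducedBy K T) := by
  rintro ⟨σ, hσ⟩
  obtain ⟨g, hg, hgx⟩ := (mem_autInducedBy_iff _ _ σ).mp hσ
  obtain ⟨k, hk⟩ := hS ⟨g, hK hg⟩
  have hk' : g ^ p ^ k = 1 := by
    have := congrArg Subtype.val hk
    simpa using this
  refine ⟨k, Subtype.ext ?_⟩
  show σ ^ p ^ k = 1
  ext x
  have h1 := Cfsg.Agent.Helper2.FusGT.pow_apply_of_conj σ g (fun z => hgx z) (p ^ k) x
  rw [hk'] at h1
  rw [h1]
  simp

/-- **Piece (F)**, with the pieces (A-ii), (C), (E) as explicit hypotheses. -/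
theorem exists_pow_mem_autGroup' [Finite S] (p : ℕ) [Fact p.Prime] (hS : IsPGroup p S) (F : FusionSystem S)
    (D : FusionSystem T) (hD : D.IsWeaklyNormalIn F p)
    (hA1 : ∀ (P P₀ : Subgroup Ω) (ρ : P →* Ω), ρ ∈ D.Hom P → ρ.range = P₀ →
      restrSet F D P ⊆ restrSet F D P₀)
    (hA2 : ∀ (P₀ P₁ : Subgroup Ω), P₀ ≤ T → P₁ ≤ T → ∀ α₁ : MulAut T, α₁ ∈ F.autGroup T →
      (∀ x : T, (x : Ω) ∈ P₀ ↔ ((α₁ x : T) : Ω) ∈ P₁) → ∀ α : MulAut T, α ∈ restrSet F D P₀ →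
      α₁ * α * α₁⁻¹ ∈ restrSet F D P₁)
    (hA3 : ∀ α β : MulAut T, α ∈ F.autGroup T → β ∈ D.autGroup T → α * β * α⁻¹ ∈ D.autGroup T)
    (hCC : ∀ X B Y Z : Subgroup (MulAut T), B ≤ Y → Y ≤ X → Z ≤ X →
      (∀ x ∈ X, ∀ b ∈ B, x * b * x⁻¹ ∈ B) → (∀ y ∈ Y, ∃ k : ℕ, y ^ p ^ k ∈ B) → IsPGroup p Z →
      (∀ x ∈ X, ∃ y ∈ Y, ∃ z ∈ Z, x = y * z) → ∀ x ∈ X, ∃ k : ℕ, x ^ p ^ k ∈ B)
    (hE : ∀ P : Subgroup Ω, P ≤ T → F.IsFullyNormalized P → centralizerIn T P ≤ P →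
      ∀ α : MulAut T, α ∈ restrSet F D P →
      ∃ s ∈ centralizerIn S P, ∃ σ ∈ F.autGroup T, (∀ t : T, ((σ t : T) : Ω) = s * (t : Ω) * s⁻¹) ∧
        α * σ⁻¹ ∈ restrSet F D (normalizerIn T P))
    {P : Subgroup Ω} (hP : TCentric F T P) (α : MulAut T) (hα : α ∈ restrSet F D P) :
    ∃ k : ℕ, α ^ p ^ k ∈ D.autGroup T := by
  classical
  have hDi : D.IsInvariantIn F := hD.2.2
  have hTsc : F.StronglyClosed T := hDi.2.1
  have hTS : T ≤ S := hTsc.1
  have hTp : IsPGroup p T := hS.to_le hTS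
  have hfinT : Finite T := finite_of_le hTS
  have hfinA : Finite (MulAut T) := finite_mulAut_of_le hTS
  suffices H : ∀ n : ℕ, ∀ P : Subgroup Ω, Nat.card T - Nat.card P = n → TCentric F T P →
      ∀ α ∈ restrSet F D P, ∃ k : ℕ, α ^ p ^ k ∈ D.autGroup T from H _ P rfl hP α hα
  intro n
  induction n using Nat.strong_induction_on with
  | _ n ih =>
  intro P hn hP α hα
  have hPT : P ≤ T := hP.1
  by_cases hPeq : P = T
  · rw [hPeq] at hα
    refine ⟨0, ?_⟩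
    rw [pow_zero, pow_one]
    exact mem_autGroup_of_mem_restrSet_self F D hα
  · -- a fully normalized conjugate
    obtain ⟨P₁, ⟨ξ, hξ, hξr⟩, hP₁n⟩ := exists_isConj_fullyNormalized F (hPT.trans hTS)
    subst hξr
    have hP₁conj : F.IsConj P ξ.range := ⟨ξ, hξ, rfl⟩
    -- Frattini
    obtain ⟨α₁, hα₁, ξ₀, hξ₀, hξeq⟩ := hDi.2.2.2 P hPT ξ hξ
    have hξ₀T : ∀ x : P, ξ₀ x ∈ T := (D.le_of_mem hξ₀).2
    have hP₀T : ξ₀.range ≤ T := by
      rintro _ ⟨x, rfl⟩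
      exact hξ₀T x
    have hP₁T : ξ.range ≤ T := by
      rintro _ ⟨x, rfl⟩
      exact hTsc.2 P hPT ξ hξ x
    have hiff : ∀ x : T, (x : Ω) ∈ ξ₀.range ↔ ((α₁ x : T) : Ω) ∈ ξ.range := by
      intro x
      constructor
      · rintro ⟨y, hy⟩
        refine ⟨y, ?_⟩
        rw [hξeq y (hξ₀T y)]
        have e : (⟨ξ₀ y, hξ₀T y⟩ : T) = x := Subtype.ext hy
        rw [e]
      · rintro ⟨y, hy⟩
        rw [hξeq y (hξ₀T y)] at hy
        have e : (⟨ξ₀ y, hξ₀T y⟩ : T) = x := α₁.injective (Subtype.ext hy)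
        exact ⟨y, congrArg Subtype.val e⟩
    have hα0 : α ∈ restrSet F D ξ₀.range := hA1 P ξ₀.range ξ₀ hξ₀ rfl hα
    have hα1 : α₁ * α * α₁⁻¹ ∈ restrSet F D ξ.range := hA2 ξ₀.range ξ.range hP₀T hP₁T α₁ hα₁ hiff α hα0
    suffices hcl : ∃ k : ℕ, (α₁ * α * α₁⁻¹) ^ p ^ k ∈ D.autGroup T by
      obtain ⟨k, hk⟩ := hcl
      refine ⟨k, ?_⟩
      have h1 := hA3 α₁⁻¹ _ (Subgroup.inv_mem _ hα₁) hk
      have e : α₁⁻¹ * (α₁ * α * α₁⁻¹) ^ p ^ k * α₁⁻¹⁻¹ = α ^ p ^ k := by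
        rw [conj_pow]
        group
      rwa [e] at h1
    -- cardinalities
    have hcardP₁ : Nat.card ξ.range = Nat.card P :=
      (Nat.card_congr (MonoidHom.ofInjective (F.injective_of_mem hξ)).toEquiv).symm
    have hP₁lt : ξ.range < T := by
      refine lt_of_le_of_ne hP₁T ?_
      intro h
      apply hPeq
      exact Subgroup.eq_of_le_of_card_ge hPT (by rw [← hcardP₁, h])
    have hRgt : ξ.range < normalizerIn T ξ.range := lt_normalizerIn hTp hP₁lt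
    have hRT : normalizerIn T ξ.range ≤ T := inf_le_left
    have hP₁c : centralizerIn T ξ.range ≤ ξ.range := hP.2 _ hP₁conj
    have hRc : TCentric F T (normalizerIn T ξ.range) := by
      refine ⟨hRT, ?_⟩
      rintro Q ⟨φ, hφ, hφr⟩
      have hφ₁ : φ.comp (Subgroup.inclusion hRgt.le) ∈ F.Hom ξ.range := restrict_mem F hφ hRgt.le
      have hQ₁Q : (φ.comp (Subgroup.inclusion hRgt.le)).range ≤ Q := by
        rw [← hφr]
        rintro _ ⟨x, rfl⟩
        exact ⟨_, rfl⟩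
      have hconj' : F.IsConj P (φ.comp (Subgroup.inclusion hRgt.le)).range :=
        isConj_trans F hP₁conj ⟨_, hφ₁, rfl⟩
      have h1 := hP.2 _ hconj'
      intro x hx
      apply hQ₁Q
      apply h1
      exact ⟨hx.1, Subgroup.centralizer_le (by exact_mod_cast hQ₁Q) hx.2⟩
    have hfinR : Finite (normalizerIn T ξ.range) := finite_of_le (hRT.trans hTS)
    have hcardR : Nat.card P < Nat.card (normalizerIn T ξ.range) := by
      rw [← hcardP₁]
      exact card_lt_card_of_lt hRgt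
    have hY : ∀ y ∈ restrSet F D (normalizerIn T ξ.range), ∃ k : ℕ, y ^ p ^ k ∈ D.autGroup T := by
      intro y hy
      refine ih (Nat.card T - Nat.card (normalizerIn T ξ.range)) ?_ _ rfl hRc y hy
      have h2 : Nat.card (normalizerIn T ξ.range) ≤ Nat.card T := Subgroup.card_le_of_le hRT
      omega
    -- apply (C)
    have hmain := hCC (restrSub F D hDi ξ.range hP₁T) (D.autGroup T)
      (restrSub F D hDi (normalizerIn T ξ.range) hRT) (autInducedBy (centralizerIn S ξ.range) T)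
      (fun β hβ => autGroup_le_restrSet F D hDi hRT hβ)
      (fun β hβ => restrSet_mono F D hRgt.le hβ)
      (fun σ hσ => autInducedBy_le_restrSet F D hTS hP₁T hσ)
      (fun x hx b hb => hA3 x b hx.1 hb)
      hY
      (isPGroup_autInducedBy hS _ inf_le_left)
      (fun x hx => by
        obtain ⟨s, hs, σ, hσF, hσs, hxσ⟩ := hE ξ.range hP₁T hP₁n hP₁c x hx
        refine ⟨x * σ⁻¹, hxσ, σ, ?_, ?_⟩
        · exact (mem_autInducedBy_iff _ _ σ).mpr ⟨s, hs, hσs⟩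
        · rw [inv_mul_cancel_right])
    exact hmain _ hα1

/-- **Piece (F)**, with only piece (E) (`restrSet_step`) as an explicit hypothesis. -/
theorem exists_pow_mem_autGroup_of_step [Finite S] (p : ℕ) [Fact p.Prime] (hS : IsPGroup p S)
    (F : FusionSystem S) (D : FusionSystem T) (hD : D.IsWeaklyNormalIn F p)
    (hE : ∀ P : Subgroup Ω, P ≤ T → F.IsFullyNormalized P → centralizerIn T P ≤ P →
      ∀ α : MulAut T, α ∈ restrSet F D P →
      ∃ s ∈ centralizerIn S P, ∃ σ ∈ F.autGroup T, (∀ t : T, ((σ t : T) : Ω) = s * (t : Ω) * s⁻¹) ∧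
        α * σ⁻¹ ∈ restrSet F D (normalizerIn T P))
    {P : Subgroup Ω} (hP : TCentric F T P) (α : MulAut T) (hα : α ∈ restrSet F D P) :
    ∃ k : ℕ, α ^ p ^ k ∈ D.autGroup T := by
  have hfinA : Finite (MulAut T) := finite_mulAut_of_le hD.2.2.2.1.1
  exact exists_pow_mem_autGroup' p hS F D hD
    (fun _ _ ρ hρ hρr => Cfsg.Agent.Helper55.KLConj.restrSet_subset_of_conj F D hD.2.2 ρ hρ hρr)
    (fun _ _ h0 h1 α₁ hα₁ h _ hα => Cfsg.Agent.Helper55.KLConj.conj_mem_restrSet F D hD.2.2 h0 h1 α₁ hα₁ h hα)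
    (fun _ _ hα hβ => Cfsg.Agent.Helper55.KLConj.conj_mem_autGroup F D hD.2.2 hα hβ)
    (fun X B Y Z => Cfsg.Agent.Helper50.KL.exists_pow_mem_of_mul p X B Y Z)
    hE hP α hα

end Cfsg.Agent.Helper31.KLF
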