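import Mathlib

/-!
# S3612 pieces (STABEQ), (SWAP) for helper61: stabilisers of fixed points
-/

set_option autoImplicit false

namespace Cfsg.Agent.Helper31.N2

open MulAction

/-- (STABEQ) a point fixed by the stabiliser of `d` has the same stabiliser -/
theorem stab_eq_of_fixed {K : Type*} [Group K] [Finite K] {R : Type*} [MulAction K R]
    [IsPretransitive K R] (d x : R) (hx : ∀ h : K, h • d = d → h • x = x) :
    ∀ h : K, h • x = x → h • d = d := by
  have hle : stabilizer K d ≤ stabilizer K x := fun h hh => hx h hh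
  obtain ⟨g, hg⟩ := exists_smul_eq K d x
  have hcard : Nat.card (stabilizer K x) = Nat.card (stabilizer K d) := by
    rw [← hg, stabilizer_smul_eq_stabilizer_map_conj]
    exact Subgroup.card_map_of_injective (MulAut.conj g).injective
  have heq := Subgroup.eq_of_le_of_card_ge hle hcard.le
  intro h hh
  have h1 : h ∈ stabilizer K x := hh
  rw [← heq] at h1
  exact h1

/-- (SWAP) in a finite 2-transitive group, if `G_{ab}` fixes `c` then `G_{ac}` fixes `b` -/
theorem fix_swap {G : Type*} [Group G] [Finite G] {Ω : Type*} [MulAction G Ω]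
    (h2 : ∀ a b c d : Ω, a ≠ b → c ≠ d → ∃ g : G, g • a = c ∧ g • b = d) (a b c : Ω)
    (hab : a ≠ b) (hac : a ≠ c) (hc : ∀ g : G, g • a = a → g • b = b → g • c = c) :
    ∀ g : G, g • a = a → g • c = c → g • b = b := by
  set S : Subgroup G := stabilizer G a ⊓ stabilizer G b with hS
  set T : Subgroup G := stabilizer G a ⊓ stabilizer G c with hT
  have hST : S ≤ T := by
    intro h hh
    rw [hS, Subgroup.mem_inf, mem_stabilizer_iff, mem_stabilizer_iff] at hh
    rw [hT, Subgroup.mem_inf, mem_stabilizer_iff, mem_stabilizer_iff]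
    exact ⟨hh.1, hc h hh.1 hh.2⟩
  obtain ⟨g, hga, hgb⟩ := h2 a b a c hab hac
  have hga' : g⁻¹ • a = a := by rw [inv_smul_eq_iff, hga]
  have hgc' : g⁻¹ • c = b := by rw [inv_smul_eq_iff, hgb]
  have hmap : T.map (MulAut.conj g⁻¹).toMonoidHom ≤ S := by
    intro x hx
    obtain ⟨h, hh, rfl⟩ := Subgroup.mem_map.mp hx
    rw [hT, Subgroup.mem_inf, mem_stabilizer_iff, mem_stabilizer_iff] at hh
    rw [hS, Subgroup.mem_inf, mem_stabilizer_iff, mem_stabilizer_iff]
    simp only [MulEquiv.coe_toMonoidHom, MulAut.conj_apply, inv_inv]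
    constructor
    · rw [mul_smul, mul_smul, hga, hh.1, hga']
    · rw [mul_smul, mul_smul, hgb, hh.2, hgc']
  have hcard : Nat.card T ≤ Nat.card S := by
    rw [← Subgroup.card_map_of_injective (K := T) (f := (MulAut.conj g⁻¹).toMonoidHom)
      (MulAut.conj g⁻¹).injective]
    exact Subgroup.card_le_of_le hmap
  have heq := Subgroup.eq_of_le_of_card_ge hST hcard
  intro h hha hhc
  have h1 : h ∈ T := by
    rw [hT, Subgroup.mem_inf, mem_stabilizer_iff, mem_stabilizer_iff]
    exact ⟨hha, hhc⟩
  rw [← heq, hS, Subgroup.mem_inf, mem_stabilizer_iff, mem_stabilizer_iff] at h1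
  exact h1.2

end Cfsg.Agent.Helper31.N2
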