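import Mathlib
import Cfsg.Agent.Helper31.N2STABEQ

/-!
# S3612 pieces (FIXDVD), (INVOL) for helper61: the fixed points of a point stabiliser `H = K_d` of
a transitive finite group form the `N_K(H)`-orbit of `d`, of size `|N_K(H) : H|`
-/

set_option autoImplicit false

namespace Cfsg.Agent.Helper31.N2

open MulAction

section

variable {K : Type*} [Group K] [Finite K] {R : Type*} [MulAction K R] [IsPretransitive K R]

/-- `g • d` is fixed by `K_d` iff `g` normalises `K_d` -/
theorem smul_fixed_iff_mem_normalizer (d : R) (g : K) :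
    (∀ h : K, h • d = d → h • (g • d) = g • d) ↔
      g ∈ Subgroup.normalizer ((stabilizer K d : Subgroup K) : Set K) := by
  have hconj : ∀ h : K, (g * h * g⁻¹) • (g • d) = g • (h • d) := by
    intro h
    rw [mul_smul, mul_smul, inv_smul_smul]
  constructor
  · intro hx
    have hback := stab_eq_of_fixed d (g • d) hx
    rw [Subgroup.mem_normalizer_iff]
    intro h
    rw [mem_stabilizer_iff, mem_stabilizer_iff]
    constructor
    · intro hh
      apply hback
      rw [hconj, hh]
    · intro hh
      have h1 := hx _ hh
      rw [hconj] at h1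
      exact smul_left_cancel g h1
  · intro hg h hh
    rw [Subgroup.mem_normalizer_iff] at hg
    have h1 : g⁻¹ * h * g ∈ stabilizer K d := by
      rw [hg (g⁻¹ * h * g)]
      have e : g * (g⁻¹ * h * g) * g⁻¹ = h := by group
      rw [e]
      exact hh
    rw [mem_stabilizer_iff, mul_smul, mul_smul, inv_smul_eq_iff] at h1
    exact h1

/-- the number of fixed points of `K_d` is `|N_K(K_d) : K_d|` -/
theorem card_fixed_eq_relIndex (d : R) :
    Nat.card {x : R // ∀ h : K, h • d = d → h • x = x} =
      (stabilizer K d).relIndex (Subgroup.normalizer ((stabilizer K d : Subgroup K) : Set K)) := by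
  set N : Subgroup K := Subgroup.normalizer ((stabilizer K d : Subgroup K) : Set K) with hN
  have hset : {x : R | ∀ h : K, h • d = d → h • x = x} = orbit N d := by
    ext x
    constructor
    · intro hx
      obtain ⟨g, rfl⟩ := exists_smul_eq K d x
      have hg : g ∈ N := (smul_fixed_iff_mem_normalizer d g).mp hx
      exact ⟨⟨g, hg⟩, rfl⟩
    · rintro ⟨n, rfl⟩
      exact (smul_fixed_iff_mem_normalizer d (n : K)).mpr n.2
  have hstab : stabilizer N d = (stabilizer K d).subgroupOf N := by
    ext n
    rw [mem_stabilizer_iff, Subgroup.mem_subgroupOf, mem_stabilizer_iff]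
    rfl
  have h1 : Nat.card {x : R // ∀ h : K, h • d = d → h • x = x} =
      Nat.card ↥{x : R | ∀ h : K, h • d = d → h • x = x} := rfl
  rw [h1, hset, Nat.card_coe_set_eq, ← index_stabilizer, hstab]
  rfl

end

/-- (FIXDVD) the number of fixed points of a point stabiliser of a transitive group divides the
degree -/
theorem card_fixed_dvd {K : Type*} [Group K] [Finite K] {R : Type*} [Finite R]
    [MulAction K R] [IsPretransitive K R] (d : R) :
    Nat.card {x : R // ∀ h : K, h • d = d → h • x = x} ∣ Nat.card R := by
  rw [card_fixed_eq_relIndex d, ← index_stabilizer_of_transitive (G := K) (x := d)]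
  exact Dvd.intro _ (Subgroup.relIndex_mul_index Subgroup.le_normalizer)

/-- (INVOL) a transitive finite group in which a point stabiliser has an even number of fixed
points contains an "involution modulo the stabiliser" normalising it -/
theorem exists_invol_mod_stab {K : Type*} [Group K] [Finite K] {R : Type*} [Finite R]
    [MulAction K R] [IsPretransitive K R] (d : R)
    (heven : Even (Nat.card {x : R // ∀ h : K, h • d = d → h • x = x})) :
    ∃ u : K, u • d ≠ d ∧ (u * u) • d = d ∧ ∀ h : K, h • d = d → (u⁻¹ * h * u) • d = d := by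
  rw [card_fixed_eq_relIndex d] at heven
  set H : Subgroup K := stabilizer K d with hH
  set N : Subgroup K := Subgroup.normalizer ((H : Subgroup K) : Set K) with hN
  haveI : (H.subgroupOf N).Normal := Subgroup.normal_in_normalizer
  haveI : Fact (Nat.Prime 2) := ⟨Nat.prime_two⟩
  have h2 : 2 ∣ Nat.card (N ⧸ H.subgroupOf N) := by
    rw [← Subgroup.index_eq_card]
    exact even_iff_two_dvd.mp heven
  obtain ⟨x, hx⟩ := exists_prime_orderOf_dvd_card' 2 h2
  obtain ⟨u, rfl⟩ := QuotientGroup.mk_surjective x
  have hne : (u : N ⧸ H.subgroupOf N) ≠ 1 := by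
    intro h1
    rw [h1, orderOf_one] at hx
    norm_num at hx
  have hsq : ((u * u : N) : N ⧸ H.subgroupOf N) = 1 := by
    rw [QuotientGroup.mk_mul, ← pow_two, ← hx]
    exact pow_orderOf_eq_one _
  rw [Ne, QuotientGroup.eq_one_iff, Subgroup.mem_subgroupOf] at hne
  rw [QuotientGroup.eq_one_iff, Subgroup.mem_subgroupOf] at hsq
  refine ⟨(u : K), ?_, ?_, ?_⟩
  · intro h
    exact hne h
  · exact hsq
  · intro h hh
    have hu : (u : K) ∈ Subgroup.normalizer ((H : Subgroup K) : Set K) := u.2
    rw [Subgroup.mem_normalizer_iff] at hu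
    have h1 : u⁻¹.1 * h * u.1 ∈ H := by
      rw [hu (u⁻¹.1 * h * u.1)]
      have e : u.1 * (u⁻¹.1 * h * u.1) * u.1⁻¹ = h := by
        rw [Subgroup.coe_inv]
        group
      rw [e]
      exact hh
    rw [Subgroup.coe_inv] at h1
    exact h1

end Cfsg.Agent.Helper31.N2
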