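import Mathlib

/-!
# Piece (N6) of helper99's plan for S2676: index data from a multiset of block lengths
-/

set_option autoImplicit false

namespace Cfsg.Agent.Helper31.S2676

universe u

/-- a multiset all of whose multiplicities are even is a double -/
theorem exists_half (s : Multiset ℕ) (h : ∀ a, Even (s.count a)) : ∃ t : Multiset ℕ, t + t = s := by
  classical
  refine ⟨∑ j ∈ s.toFinset, Multiset.replicate (s.count j / 2) j, ?_⟩
  ext a
  rw [Multiset.count_add, Multiset.count_sum']
  simp only [Multiset.count_replicate]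
  rw [Finset.sum_ite_eq' s.toFinset a]
  split_ifs with ha
  · obtain ⟨c, hc⟩ := h a
    omega
  · rw [Multiset.mem_toFinset] at ha
    rw [Multiset.count_eq_zero_of_notMem ha]
    exact Nat.add_zero 0

theorem exists_index_data {F : Type u} [Field F] {ν : F} (hν : ¬ IsSquare ν) (μ : Multiset ℕ)
    (T : Finset ℕ) (hpos : ∀ a ∈ μ, 0 < a) (hodd : ∀ j, Odd j → Even (μ.count j))
    (hT : ∀ j ∈ T, Even j ∧ j ∈ μ) :
    ∃ (E P : Type) (_ : Fintype E) (_ : Fintype P) (lenE : E → ℕ) (coefE : E → F) (lenP : P → ℕ),
      (∀ e, Even (lenE e)) ∧ (∀ e, 0 < lenE e) ∧ (∀ q, Odd (lenP q)) ∧ (∀ e, coefE e ≠ 0) ∧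
      Finset.univ.val.map lenE + (Finset.univ.val.map lenP + Finset.univ.val.map lenP) = μ ∧
      ∀ j, j ∈ T ↔ ¬ IsSquare (∏ e ∈ Finset.univ.filter (fun e => lenE e = j), coefE e) := by
  classical
  have hν0 : ν ≠ 0 := by
    rintro rfl
    exact hν ⟨0, by simp⟩
  -- the odd part is a double
  obtain ⟨μH, hμH⟩ := exists_half (μ.filter (fun a => ¬ Even a)) (by
    intro a
    by_cases ha : Even a
    · rw [Multiset.count_filter_of_neg (p := fun a => ¬ Even a) (by simpa using ha)]
      exact ⟨0, rfl⟩
    · rw [Multiset.count_filter_of_pos (p := fun a => ¬ Even a) ha]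
      exact hodd a (Nat.not_even_iff_odd.1 ha))
  set L : List ℕ := (μ.filter (fun a => Even a)).toList with hL
  set LP : List ℕ := μH.toList with hLP
  have hLmem : ∀ x, x ∈ L ↔ x ∈ μ ∧ Even x := by
    intro x
    rw [hL, Multiset.mem_toList, Multiset.mem_filter]
  have hLPmem : ∀ x ∈ LP, ¬ Even x := by
    intro x hx
    rw [hLP, Multiset.mem_toList] at hx
    have : x ∈ μ.filter (fun a => ¬ Even a) := by
      rw [← hμH]; exact Multiset.mem_add.2 (Or.inl hx)
    exact (Multiset.mem_filter.1 this).2
  refine ⟨Fin L.length, Fin LP.length, inferInstance, inferInstance, L.get,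
    fun e => if L.get e ∈ T ∧ L.idxOf (L.get e) = e.val then ν else 1, LP.get, ?_, ?_, ?_, ?_, ?_, ?_⟩
  · intro e
    exact ((hLmem _).1 (L.get_mem e)).2
  · intro e
    exact hpos _ ((hLmem _).1 (L.get_mem e)).1
  · intro q
    exact Nat.not_even_iff_odd.1 (hLPmem _ (LP.get_mem q))
  · intro e
    dsimp only
    split_ifs
    · exact hν0
    · exact one_ne_zero
  · rw [Fin.univ_val_map, Fin.univ_val_map, List.ofFn_get, List.ofFn_get, hL, hLP,
      Multiset.coe_toList, Multiset.coe_toList, hμH]
    exact Multiset.filter_add_not _ _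
  · intro j
    constructor
    · intro hj
      have hjL : j ∈ L := (hLmem j).2 ⟨(hT j hj).2, (hT j hj).1⟩
      have hi0 : L.idxOf j < L.length := List.idxOf_lt_length_iff.2 hjL
      have hget : L.get ⟨L.idxOf j, hi0⟩ = j := by
        simp [List.get_eq_getElem]
      have hprod : ∏ e ∈ Finset.univ.filter (fun e => L.get e = j),
          (if L.get e ∈ T ∧ L.idxOf (L.get e) = e.val then ν else 1) = ν := by
        rw [Finset.prod_eq_single_of_mem (⟨L.idxOf j, hi0⟩ : Fin L.length)]
        · rw [hget, if_pos ⟨hj, rfl⟩]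
        · simp
        · intro e he hne
          have hej : L.get e = j := (Finset.mem_filter.1 he).2
          rw [hej, if_neg]
          rintro ⟨-, h2⟩
          apply hne
          exact Fin.ext h2.symm
      rw [hprod]
      exact hν
    · intro hns
      by_contra hj
      apply hns
      have hprod : ∏ e ∈ Finset.univ.filter (fun e => L.get e = j),
          (if L.get e ∈ T ∧ L.idxOf (L.get e) = e.val then ν else 1) = 1 := by
        apply Finset.prod_eq_one
        intro e he
        have hej : L.get e = j := (Finset.mem_filter.1 he).2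
        rw [hej, if_neg]
        rintro ⟨h1, -⟩
        exact hj h1
      rw [hprod]
      exact ⟨1, by simp⟩

end Cfsg.Agent.Helper31.S2676
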