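import Mathlib

/-!
# Piece (N7) of helper99's plan for S2676: counting pairs (partition, subset of even parts)
-/

set_option autoImplicit false

namespace Cfsg.Agent.Helper31.S2676

theorem card_subsets (A : Finset ℕ) : Nat.card {T : Finset ℕ // T ⊆ A} = 2 ^ A.card := by
  have e : {T : Finset ℕ // T ⊆ A} ≃ ↥A.powerset :=
    Equiv.subtypeEquivRight (fun T => Finset.mem_powerset.symm)
  rw [Nat.card_congr e, Nat.card_eq_fintype_card, Fintype.card_coe, Finset.card_powerset]

theorem finite_subsets (A : Finset ℕ) : Finite {T : Finset ℕ // T ⊆ A} := by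
  have e : {T : Finset ℕ // T ⊆ A} ≃ ↥A.powerset :=
    Equiv.subtypeEquivRight (fun T => Finset.mem_powerset.symm)
  exact Finite.of_equiv _ e.symm

theorem card_sigma_powerset (n : ℕ) (Pr : Nat.Partition n → Prop) [DecidablePred Pr] :
    Nat.card (Σ μ : {μ : Nat.Partition n // Pr μ},
      {T : Finset ℕ // T ⊆ μ.1.parts.toFinset.filter (fun j => Even j)}) =
      ∑ μ ∈ Finset.univ.filter Pr, 2 ^ ((μ.parts.toFinset.filter (fun j : ℕ => Even j)).card) := by
  have : ∀ μ : {μ : Nat.Partition n // Pr μ},
      Finite {T : Finset ℕ // T ⊆ μ.1.parts.toFinset.filter (fun j => Even j)} :=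
    fun μ => finite_subsets _
  rw [Nat.card_sigma]
  simp only [card_subsets]
  rw [Finset.sum_subtype (Finset.univ.filter Pr) (p := Pr) (by simp)
    (fun μ => 2 ^ ((μ.parts.toFinset.filter (fun j : ℕ => Even j)).card))]

end Cfsg.Agent.Helper31.S2676
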