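import Mathlib
import Cfsg.Agent.Helper45.OddBN.SgDefs

/-!
# (BR2) for helper45's S2547 : the coordinate change from the antidiagonal form to `quadFormOdd`

`cMat`, `cInv` are textual copies of the definitions of the skeleton (which are not on main).
-/

set_option autoImplicit false

namespace Cfsg.Agent.Helper31.OddStBR2

open Matrix Cfsg Cfsg.Agent.Helper5.SuBN Cfsg.Agent.Helper45.OddBN

variable {F : Type*} [Field F] (m : ℕ)

/-- the coordinate change: `x₀ = w_m`, `x_i = w_i`, `y_i = 2 w_{2m-i}` -/
def cMat (m : ℕ) (F : Type*) [Field F] : Matrix (Unit ⊕ (Fin m ⊕ Fin m)) (Fin (2 * m + 1)) F :=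
  Matrix.of fun a b => match a with
    | .inl _ => if b.val = m then 1 else 0
    | .inr (.inl i) => if b.val = i.val then 1 else 0
    | .inr (.inr i) => if b.val = 2 * m - i.val then 2 else 0

/-- the inverse coordinate change -/
def cInv (m : ℕ) (F : Type*) [Field F] : Matrix (Fin (2 * m + 1)) (Unit ⊕ (Fin m ⊕ Fin m)) F :=
  Matrix.of fun b a => match a with
    | .inl _ => if b.val = m then 1 else 0
    | .inr (.inl i) => if b.val = i.val then 1 else 0
    | .inr (.inr i) => if b.val = 2 * m - i.val then 2⁻¹ else 0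

/-- the index bijection -/
def eIdx (m : ℕ) : Unit ⊕ (Fin m ⊕ Fin m) ≃ Fin (2 * m + 1) where
  toFun a := match a with
    | .inl _ => ⟨m, by omega⟩
    | .inr (.inl i) => ⟨i.val, by have := i.2; omega⟩
    | .inr (.inr i) => ⟨2 * m - i.val, by have := i.2; omega⟩
  invFun b :=
    if h : b.val < m then .inr (.inl ⟨b.val, h⟩)
    else if h' : b.val = m then .inl ()
    else .inr (.inr ⟨2 * m - b.val, by have := b.2; omega⟩)
  left_inv a := by
    rcases a with _ | i | i
    · simp
    · simp
    · have := i.2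
      have h1 : ¬ (2 * m - i.val < m) := by omega
      have h2 : ¬ (2 * m - i.val = m) := by omega
      simp only [h1, h2, dite_false]
      congr 2
      apply Fin.ext
      show 2 * m - (2 * m - i.val) = i.val
      omega
  right_inv b := by
    by_cases h : b.val < m
    · simp [h]
    · by_cases h' : b.val = m
      · simp [h']
        apply Fin.ext
        exact h'.symm
      · simp only [h, h', dite_false]
        apply Fin.ext
        show 2 * m - (2 * m - b.val) = b.val
        have := b.2
        omega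

/-- the scaling factors -/
def cc (m : ℕ) (F : Type*) [Field F] : Unit ⊕ (Fin m ⊕ Fin m) → F
  | .inl _ => 1
  | .inr (.inl _) => 1
  | .inr (.inr _) => 2

/-- the inverse scaling factors -/
def cc' (m : ℕ) (F : Type*) [Field F] : Unit ⊕ (Fin m ⊕ Fin m) → F
  | .inl _ => 1
  | .inr (.inl _) => 1
  | .inr (.inr _) => 2⁻¹

theorem cMat_apply (a : Unit ⊕ (Fin m ⊕ Fin m)) (b : Fin (2 * m + 1)) :
    cMat m F a b = if b = eIdx m a then cc m F a else 0 := by
  rcases a with _ | i | i <;> simp [cMat, eIdx, cc, Fin.ext_iff]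

theorem cInv_apply (b : Fin (2 * m + 1)) (a : Unit ⊕ (Fin m ⊕ Fin m)) :
    cInv m F b a = if b = eIdx m a then cc' m F a else 0 := by
  rcases a with _ | i | i <;> simp [cInv, eIdx, cc', Fin.ext_iff]

theorem cc_mul_cc' (h2 : (2 : F) ≠ 0) (a : Unit ⊕ (Fin m ⊕ Fin m)) : cc m F a * cc' m F a = 1 := by
  rcases a with _ | i | i <;> simp [cc, cc', h2]

theorem cMat_mulVec (w : Fin (2 * m + 1) → F) (a : Unit ⊕ (Fin m ⊕ Fin m)) :
    (cMat m F *ᵥ w) a = cc m F a * w (eIdx m a) := by
  rw [Matrix.mulVec, dotProduct, Finset.sum_eq_single (eIdx m a)]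
  · rw [cMat_apply, if_pos rfl]
  · intro b _ hb
    rw [cMat_apply, if_neg hb, zero_mul]
  · intro h; exact absurd (Finset.mem_univ _) h

theorem rev_eIdx_inl : Fin.rev (eIdx m (.inl ())) = eIdx m (.inl ()) := by
  apply Fin.ext
  rw [Fin.val_rev]
  show 2 * m + 1 - (m + 1) = m
  omega

theorem rev_eIdx_inl' : Fin.rev (eIdx m (.inl default)) = eIdx m (.inl ()) := rev_eIdx_inl m

theorem rev_eIdx_inr_inl (i : Fin m) : Fin.rev (eIdx m (.inr (.inl i))) = eIdx m (.inr (.inr i)) := by
  apply Fin.ext
  rw [Fin.val_rev]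
  show 2 * m + 1 - (i.val + 1) = 2 * m - i.val
  omega

theorem rev_eIdx_inr_inr (i : Fin m) : Fin.rev (eIdx m (.inr (.inr i))) = eIdx m (.inr (.inl i)) := by
  apply Fin.ext
  rw [Fin.val_rev]
  show 2 * m + 1 - (2 * m - i.val + 1) = i.val
  have := i.2
  omega

/-- (BR2) the coordinate change is invertible and carries the antidiagonal form to `quadFormOdd` -/
theorem cMat_spec (h2 : (2 : F) ≠ 0) :
    cMat m F * cInv m F = 1 ∧ cInv m F * cMat m F = 1 ∧
      ∀ w : Fin (2 * m + 1) → F,
        Cfsg.quadFormOdd m F (cMat m F *ᵥ w) = hermJ (RingHom.id F) w w := by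
  refine ⟨?_, ?_, ?_⟩
  · ext a a'
    rw [Matrix.mul_apply, Finset.sum_eq_single (eIdx m a)]
    · rw [cMat_apply, if_pos rfl, cInv_apply, Matrix.one_apply]
      by_cases h : a = a'
      · subst h
        rw [if_pos rfl, if_pos rfl, cc_mul_cc' m h2]
      · rw [if_neg h, if_neg (fun h' => h ((eIdx m).injective h')), mul_zero]
    · intro b _ hb
      rw [cMat_apply, if_neg hb, zero_mul]
    · intro h; exact absurd (Finset.mem_univ _) h
  · ext b b'
    rw [Matrix.mul_apply, Finset.sum_eq_single ((eIdx m).symm b)]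
    · rw [cInv_apply, cMat_apply, Equiv.apply_symm_apply, if_pos rfl, Matrix.one_apply]
      by_cases h : b = b'
      · subst h
        rw [if_pos rfl, if_pos rfl, mul_comm, cc_mul_cc' m h2]
      · rw [if_neg h, if_neg (fun h' => h h'.symm), mul_zero]
    · intro a _ ha
      have : b ≠ eIdx m a := by
        intro h
        apply ha
        rw [h, Equiv.symm_apply_apply]
      rw [cInv_apply, if_neg this, zero_mul]
    · intro h; exact absurd (Finset.mem_univ _) h
  · intro w
    unfold Cfsg.quadFormOdd hermJ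
    simp only [cMat_mulVec]
    rw [← Equiv.sum_comp (eIdx m), Fintype.sum_sum_type, Fintype.sum_sum_type]
    simp only [Fintype.sum_unique, rev_eIdx_inl', rev_eIdx_inr_inl, rev_eIdx_inr_inr, RingHom.id_apply,
      cc]
    rw [← Finset.sum_add_distrib]
    have : ∀ i : Fin m, 1 * w (eIdx m (.inr (.inl i))) * (2 * w (eIdx m (.inr (.inr i)))) =
        w (eIdx m (.inr (.inl i))) * w (eIdx m (.inr (.inr i))) +
          w (eIdx m (.inr (.inr i))) * w (eIdx m (.inr (.inl i))) := by
      intro i; ring
    rw [Finset.sum_congr rfl (fun i _ => this i)]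
    ring

end Cfsg.Agent.Helper31.OddStBR2
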