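import Mathlib
import Cfsg.Agent.Helper45.OddBN.SgDefs
import Cfsg.Prelude.Def_Classical

/-!
# (BR3) for helper45's S2547 : `SO_{2m+1}` of the antidiagonal form and the isometry group of
`quadFormOdd`

Given any invertible coordinate change `C` carrying the quadratic form `w ↦ hermJ id w w` to
`quadFormOdd m F`, conjugation by `C` is an injective homomorphism
`SOJ (2m+1) F →* isometryGroup F (quadFormOdd m F)`, and every isometry is `±1` times an element
of the image (`-1` is central and has determinant `-1` in odd dimension).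
-/

set_option autoImplicit false

namespace Cfsg.Agent.Helper31.OddStBR3

open Matrix Cfsg Cfsg.Agent.Helper5.SuBN Cfsg.Agent.Helper45.OddBN

variable {F : Type*} [Field F]

section form
variable {n : ℕ}

/-- the antidiagonal form is symmetric -/
theorem hermJ_id_comm (u v : Fin n → F) : hermJ (RingHom.id F) u v = hermJ (RingHom.id F) v u := by
  unfold hermJ
  rw [← Equiv.sum_comp Fin.revPerm]
  refine Finset.sum_congr rfl fun i _ => ?_
  simp only [Fin.revPerm_apply, Fin.rev_rev, RingHom.id_apply]
  ring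

/-- polarization -/
theorem hermJ_id_polar (u v : Fin n → F) :
    hermJ (RingHom.id F) (u + v) (u + v) =
      hermJ (RingHom.id F) u u + hermJ (RingHom.id F) v v + 2 * hermJ (RingHom.id F) u v := by
  rw [two_mul]
  nth_rewrite 5 [hermJ_id_comm]
  unfold hermJ
  simp only [Pi.add_apply, RingHom.id_apply, ← Finset.sum_add_distrib]
  refine Finset.sum_congr rfl fun i _ => ?_
  ring

/-- a matrix preserving the quadratic form `w ↦ hermJ w w` preserves the bilinear form -/
theorem hermJ_id_of_quad (h2 : (2 : F) ≠ 0) (M : Matrix (Fin n) (Fin n) F)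
    (hM : ∀ w : Fin n → F, hermJ (RingHom.id F) (M *ᵥ w) (M *ᵥ w) = hermJ (RingHom.id F) w w)
    (u v : Fin n → F) : hermJ (RingHom.id F) (M *ᵥ u) (M *ᵥ v) = hermJ (RingHom.id F) u v := by
  have h1 := hermJ_id_polar (M *ᵥ u) (M *ᵥ v)
  have h3 := hermJ_id_polar u v
  rw [← Matrix.mulVec_add, hM, hM, hM, h3] at h1
  have h4 : 2 * hermJ (RingHom.id F) (M *ᵥ u) (M *ᵥ v) = 2 * hermJ (RingHom.id F) u v := by
    linear_combination -h1
  exact mul_left_cancel₀ h2 h4

/-- the relations of a matrix preserving the bilinear form -/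
theorem rel_of_preserves (M : Matrix (Fin n) (Fin n) F)
    (hM : ∀ u v : Fin n → F, hermJ (RingHom.id F) (M *ᵥ u) (M *ᵥ v) = hermJ (RingHom.id F) u v)
    (a b : Fin n) :
    ∑ i, M i a * (RingHom.id F) (M (Fin.rev i) b) = if a = Fin.rev b then 1 else 0 := by
  have h := hM (Pi.single a 1) (Pi.single b 1)
  rw [hermJ_single, hermJ_single_single] at h
  exact h

/-- the determinant of a matrix satisfying the relations is `±1` -/
theorem det_of_rel (M : Matrix (Fin n) (Fin n) F)
    (hM : ∀ a b : Fin n, ∑ i, M i a * (RingHom.id F) (M (Fin.rev i) b) = if a = Fin.rev b then 1 else 0) :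
    M.det = 1 ∨ M.det = -1 := by
  set N : Matrix (Fin n) (Fin n) F := (M.submatrix Fin.revPerm Fin.revPerm)ᵀ with hN
  have hNM : N * M = 1 := by
    ext a c
    rw [Matrix.mul_apply, Matrix.one_apply]
    have h := hM (Fin.rev a) c
    rw [← Equiv.sum_comp Fin.revPerm] at h
    simp only [Fin.revPerm_apply, Fin.rev_rev, RingHom.id_apply] at h
    rw [show (∑ j, N a j * M j c) = ∑ i, M (Fin.rev i) (Fin.rev a) * M i c from rfl, h]
    by_cases hac : a = c
    · rw [if_pos hac, if_pos (by rw [hac])]
    · rw [if_neg hac, if_neg (fun h' => hac (Fin.rev_injective h'))]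
  have hdetN : N.det = M.det := by
    rw [hN, Matrix.det_transpose, Matrix.det_submatrix_equiv_self]
  have h1 : M.det * M.det = 1 := by
    have := congrArg Matrix.det hNM
    rwa [Matrix.det_mul, hdetN, Matrix.det_one] at this
  have h2 : (M.det - 1) * (M.det + 1) = 0 := by linear_combination h1
  rcases mul_eq_zero.mp h2 with h | h
  · left; linear_combination h
  · right; linear_combination h

end form

section bridge
variable (m : ℕ)

local notation "ι" => (Unit ⊕ (Fin m ⊕ Fin m))

theorem quadFormOdd_neg (u : ι → F) : Cfsg.quadFormOdd m F (-u) = Cfsg.quadFormOdd m F u := by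
  unfold Cfsg.quadFormOdd
  simp

/-- (BR3) `SO_n` for the antidiagonal form embeds into the isometry group of `quadFormOdd`, and
`O = {±1} × SO` -/
theorem exists_hom_isometryGroup (h2 : (2 : F) ≠ 0)
    (C : Matrix (Unit ⊕ (Fin m ⊕ Fin m)) (Fin (2 * m + 1)) F)
    (C' : Matrix (Fin (2 * m + 1)) (Unit ⊕ (Fin m ⊕ Fin m)) F)
    (h1 : C * C' = 1) (h1' : C' * C = 1)
    (hQ : ∀ w : Fin (2 * m + 1) → F,
      Cfsg.quadFormOdd m F (C *ᵥ w) = hermJ (RingHom.id F) w w) :
    ∃ f : SOJ (2 * m + 1) F →* ↥(Cfsg.isometryGroup F (Cfsg.quadFormOdd m F)),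
      Function.Injective f ∧
      ∀ o : ↥(Cfsg.isometryGroup F (Cfsg.quadFormOdd m F)),
        ∃ z ∈ Subgroup.center ↥(Cfsg.isometryGroup F (Cfsg.quadFormOdd m F)),
          ∃ g : SOJ (2 * m + 1) F, o = z * f g := by
  -- the matrix of the image
  set A : SOJ (2 * m + 1) F → Matrix ι ι F := fun g => C * mat g * C' with hA
  have hA1 : A 1 = 1 := by
    show C * mat (1 : SOJ (2 * m + 1) F) * C' = 1
    rw [mat_one, Matrix.mul_one, h1]
  have hAmul : ∀ g h : SOJ (2 * m + 1) F, A (g * h) = A g * A h := by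
    intro g h
    show C * mat (g * h) * C' = C * mat g * C' * (C * mat h * C')
    rw [mat_mul]
    calc C * (mat g * mat h) * C' = C * mat g * ((C' * C) * (mat h * C')) := by
          rw [h1', Matrix.one_mul]; simp only [Matrix.mul_assoc]
      _ = C * mat g * C' * (C * mat h * C') := by
          simp only [Matrix.mul_assoc]
  have hAinv : ∀ g : SOJ (2 * m + 1) F, A g * A g⁻¹ = 1 ∧ A g⁻¹ * A g = 1 := by
    intro g
    constructor
    · rw [← hAmul, mul_inv_cancel, hA1]
    · rw [← hAmul, inv_mul_cancel, hA1]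
  have hAQ : ∀ (g : SOJ (2 * m + 1) F) (u : ι → F),
      Cfsg.quadFormOdd m F (A g *ᵥ u) = Cfsg.quadFormOdd m F u := by
    intro g u
    have e1 : A g *ᵥ u = C *ᵥ (mat g *ᵥ (C' *ᵥ u)) := by
      show (C * mat g * C') *ᵥ u = _
      rw [Matrix.mulVec_mulVec, Matrix.mulVec_mulVec]
    rw [e1, hQ]
    have e2 := g.2 (C' *ᵥ u) (C' *ᵥ u)
    rw [slToMat_apply] at e2
    rw [show mat g = g.1.1 from rfl, e2, ← hQ, Matrix.mulVec_mulVec, h1, Matrix.one_mulVec]
  -- the homomorphism
  let fu : SOJ (2 * m + 1) F → (Matrix ι ι F)ˣ := fun g =>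
    ⟨A g, A g⁻¹, (hAinv g).1, (hAinv g).2⟩
  have hfu_mem : ∀ g, fu g ∈ Cfsg.isometryGroup F (Cfsg.quadFormOdd m F) := by
    intro g u v
    exact hAQ g u
  let f : SOJ (2 * m + 1) F →* ↥(Cfsg.isometryGroup F (Cfsg.quadFormOdd m F)) :=
    { toFun := fun g => ⟨fu g, hfu_mem g⟩
      map_one' := by
        apply Subtype.ext
        apply Units.ext
        exact hA1
      map_mul' := by
        intro g h
        apply Subtype.ext
        apply Units.ext
        exact hAmul g h }
  have hf_coe : ∀ g, (((f g : ↥(Cfsg.isometryGroup F (Cfsg.quadFormOdd m F))) :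
      (Matrix ι ι F)ˣ) : Matrix ι ι F) = C * mat g * C' := fun g => rfl
  have hCAC : ∀ g : SOJ (2 * m + 1) F, C' * (C * mat g * C') * C = mat g := by
    intro g
    calc C' * (C * mat g * C') * C = (C' * C) * mat g * (C' * C) := by
          simp only [Matrix.mul_assoc]
      _ = mat g := by rw [h1', Matrix.one_mul, Matrix.mul_one]
  refine ⟨f, ?_, ?_⟩
  · -- injective
    intro g g' h
    have h' : C * mat g * C' = C * mat g' * C' := by
      rw [← hf_coe, ← hf_coe, h]
    apply mat_injective
    rw [← hCAC g, h', hCAC g']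
  · -- the cover
    intro o
    set O : Matrix ι ι F := ((o : (Matrix ι ι F)ˣ) : Matrix ι ι F) with hO
    have hoQ : ∀ u : ι → F, Cfsg.quadFormOdd m F (O *ᵥ u) = Cfsg.quadFormOdd m F u :=
      fun u => o.2 u u
    set M : Matrix (Fin (2 * m + 1)) (Fin (2 * m + 1)) F := C' * O * C with hM
    have hCM : C * M * C' = O := by
      calc C * (C' * O * C) * C' = (C * C') * O * (C * C') := by simp only [Matrix.mul_assoc]
        _ = O := by rw [h1, Matrix.one_mul, Matrix.mul_one]
    have hMq : ∀ w, hermJ (RingHom.id F) (M *ᵥ w) (M *ᵥ w) = hermJ (RingHom.id F) w w := by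
      intro w
      rw [← hQ, ← hQ]
      have : C *ᵥ (M *ᵥ w) = O *ᵥ (C *ᵥ w) := by
        rw [Matrix.mulVec_mulVec, Matrix.mulVec_mulVec, hM]
        congr 1
        calc C * (C' * O * C) = (C * C') * O * C := by simp only [Matrix.mul_assoc]
          _ = O * C := by rw [h1, Matrix.one_mul]
      rw [this, hoQ]
    have hMrel := rel_of_preserves M (hermJ_id_of_quad h2 M hMq)
    rcases det_of_rel M hMrel with hdet | hdet
    · -- `det M = 1`
      obtain ⟨g, hg⟩ := exists_of_isUJ (σ := RingHom.id F) (M := M) ⟨hdet, hMrel⟩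
      refine ⟨1, Subgroup.one_mem _, g, ?_⟩
      rw [one_mul]
      apply Subtype.ext
      apply Units.ext
      rw [hf_coe, hg, hCM]
    · -- `det M = -1`
      have hneg : IsUJ (RingHom.id F) (-M) := by
        constructor
        · rw [Matrix.det_neg, hdet, Fintype.card_fin]
          have : (-1 : F) ^ (2 * m + 1) = -1 := by
            rw [pow_succ, pow_mul]; simp
          rw [this]; ring
        · intro a b
          rw [← hMrel a b]
          refine Finset.sum_congr rfl fun i _ => ?_
          simp only [Matrix.neg_apply, RingHom.id_apply]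
          ring
      obtain ⟨g, hg⟩ := exists_of_isUJ hneg
      have hzmem : (-1 : (Matrix ι ι F)ˣ) ∈ Cfsg.isometryGroup F (Cfsg.quadFormOdd m F) := by
        intro u v
        show Cfsg.quadFormOdd m F (((-1 : (Matrix ι ι F)ˣ) : Matrix ι ι F) *ᵥ u) = _
        rw [Units.val_neg, Units.val_one, Matrix.neg_mulVec, Matrix.one_mulVec, quadFormOdd_neg]
      refine ⟨⟨-1, hzmem⟩, ?_, g, ?_⟩
      · rw [Subgroup.mem_center_iff]
        intro h
        apply Subtype.ext
        apply Units.ext
        show ((h : (Matrix ι ι F)ˣ) : Matrix ι ι F) * ((-1 : (Matrix ι ι F)ˣ) : Matrix ι ι F) =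
          ((-1 : (Matrix ι ι F)ˣ) : Matrix ι ι F) * ((h : (Matrix ι ι F)ˣ) : Matrix ι ι F)
        rw [Units.val_neg, Units.val_one, mul_neg, mul_one, neg_mul, one_mul]
      · apply Subtype.ext
        apply Units.ext
        show O = ((-1 : (Matrix ι ι F)ˣ) : Matrix ι ι F) * (C * mat g * C')
        rw [Units.val_neg, Units.val_one, hg, neg_mul, one_mul, Matrix.mul_neg, Matrix.neg_mul,
          neg_neg, hCM]

end bridge

end Cfsg.Agent.Helper31.OddStBR3
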