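import Mathlib
import Cfsg.Agent.Helper12.GammaOQ
import Cfsg.Agent.Helper12.GammaOT
import Cfsg.Agent.Helper5.OutPlusA
import Cfsg.Agent.Helper5.OutPlusDefs
import Cfsg.Agent.S2724

set_option autoImplicit false
set_option linter.unusedSectionVars false

/-! # Piece (OA) of S2607/S2608: `Out(PΩ⁺_{2m}(q))`, `q ≡ 3 (mod 4)`, `m` odd, `m ≥ 4` -/

namespace Cfsg.Agent.Helper31.OutPlusOA

open Matrix Module QuadraticMap Cfsg.Agent.Helper44 Cfsg.Agent.Helper12.GammaO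

variable {F : Type*} [Field F] [Fintype F]

theorem out_plusForm_odd_A {p f m : ℕ} [Fact p.Prime] (hf : 1 ≤ f)
    (hF : Fintype.card F = p ^ f) (hp : p ≠ 2) (hm : 4 ≤ m)
    (htop : Cfsg.gammaPOmega F (Cfsg.quadFormPlus m F) = ⊤) (hA : p ^ f % 4 = 3 ∧ Odd m) :
    Nonempty (Cfsg.Out (Cfsg.POmega F (Cfsg.quadFormPlus m F))
      ≃* Multiplicative (ZMod 2 × ZMod 2 × ZMod f)) := by
  have hpo : Odd p := (Fact.out : p.Prime).odd_of_ne_two hp
  have hq : Odd (Fintype.card F) := by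
    rw [hF]
    exact hpo.pow
  have h2 : (2 : F) ≠ 0 := two_ne_zero_of_odd_card rfl hq
  have hQ := nondegenerate_plusForm (F := F) m
  have hcardι : Fintype.card (Fin m ⊕ Fin m) = 2 * m := Cfsg.Agent.Helper5.OutPlus.card_index_plus m
  have hn : 7 ≤ Fintype.card (Fin m ⊕ Fin m) := by
    rw [hcardι]
    omega
  have htop' : Cfsg.gammaPOmega F ⇑(plusForm m F) = ⊤ := htop
  have hstd : ∀ σ : F ≃+* F, Cfsg.IsSemisimilarityPair ⇑(plusForm m F)
      (1 : GL (Fin m ⊕ Fin m) F) σ :=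
    fun σ => Cfsg.Agent.Helper5.OutPlus.isSemisimilarityPair_plusForm m σ
  obtain ⟨hcardF, hcyc⟩ := Cfsg.Agent.Helper37.OutPsl.card_ringAut hF hf
  have hcrit := exists_neg_one_mem_Omega_plus_iff (F := F) rfl hq m
  have hiff : negOne (plusForm m F) ∈ Cfsg.Omega F (Cfsg.quadFormPlus m F)
      ↔ ¬ (Odd m ∧ Fintype.card F % 4 = 3) := by
    rw [← pow_mod_four_eq_one_iff _ _ hq, ← hcrit]
    exact negOne_mem_iff (plusForm m F)
  set i₀ : Fin m := ⟨0, by omega⟩ with hi₀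
  have ht : plusForm m F (uVec m F i₀) ≠ 0 := plusForm_uVec_ne_zero i₀
  have hc' : Odd m ∧ Fintype.card F % 4 = 3 := ⟨hA.2, by rw [hF]; exact hA.1⟩
  obtain ⟨φ, hs, hkφ⟩ := (Cfsg.Agent.S2724.result hq hm).1 hc'
  have hneg : negOne (plusForm m F) ∉ Cfsg.Omega F ⇑(plusForm m F) :=
    fun h => (hiff.1 h) hc'
  obtain ⟨e⟩ := nonempty_ker_tauOut_equiv (plusForm m F) hQ hn htop' φ hs hkφ
  have hcomm : ∀ x y : Cfsg.Out (Cfsg.POmega F ⇑(plusForm m F)), x * y = y * x :=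
    commutative_of_cyclic_center_quotient (tauOut (plusForm m F) hQ hn htop')
      (ker_tauOut_le_center (plusForm m F) h2 hQ ht m hcardι hn htop' hneg)
  obtain ⟨e1⟩ := nonempty_mulEquiv_ker_prod hcomm (tauOut (plusForm m F) hQ hn htop')
    (secOut (plusForm m F) hstd) (tauOut_secOut (plusForm m F) hQ hn htop' hstd)
  obtain ⟨g⟩ := Cfsg.Agent.Helper37.OutPsl.nonempty_galIso hF hf
  exact ⟨((e1.trans (MulEquiv.prodCongr e g)).trans
    (MulEquiv.prodMultiplicative (ZMod 2 × ZMod 2) (ZMod f)).symm).trans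
      (AddEquiv.toMultiplicative AddEquiv.prodAssoc)⟩

end Cfsg.Agent.Helper31.OutPlusOA
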