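import Cfsg.Agent.Helper86.PG63.Defs

/-!
# (M4) for helper86's S3664 : the element `h7` of order 7 of `Sz(8)` fixes the matrix unit `E₀₁`
-/

set_option autoImplicit false

namespace Cfsg.Agent.Helper31.PG63

open Cfsg Cfsg.Agent.Helper86.PG63 Cfsg.Agent.Helper6

theorem h7_coe : ((h7 : SL4) : M4) =
    Matrix.diagonal ![F8.α ^ 3, F8.α ^ 2, (F8.α ^ 2)⁻¹, (F8.α ^ 3)⁻¹] := by
  rfl

theorem frobSL_h7_coe : ((frobSL h7 : SL4) : M4) =
    Matrix.diagonal ![F8.α ^ 6, F8.α ^ 4, (F8.α ^ 4)⁻¹, (F8.α ^ 6)⁻¹] := by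
  show (h7 : M4).map frobF8 = _
  rw [h7_coe]
  ext i j
  fin_cases i <;> fin_cases j <;> simp [Matrix.diagonal, frobF8_apply] <;> decide

/-- (M4) `h7` fixes a matrix unit -/
theorem fix_h7 : actM h7 E01 = E01 ∧ E01 ≠ 0 := by
  constructor
  · unfold actM
    rw [frobSL_h7_coe, h7_coe, Matrix.diagonal_transpose]
    ext i j
    rw [Matrix.mul_diagonal, Matrix.diagonal_mul]
    fin_cases i <;> fin_cases j <;> simp [E01] <;> decide
  · intro h
    have := congrFun (congrFun h 0) 1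
    simp [E01] at this

end Cfsg.Agent.Helper31.PG63
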