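import Mathlib
import Cfsg.Agent.Helper48.BG142A

/-!
# The abstract `n`-gon count (helper31)

Pure counting behind B-G 14.5-14.7 in the form needed to kill "polygons" of maximal subgroups of
type `P1`: a finite family `M i` with `σ`-cores `S i`, components `C i = Z ∩ S i` of a subgroup `Z`,
tilde sets `B i` with `|B i| ≥ (|S i| - 1) |G : M i|`, and a set `CT` (the class support of the
elements of `Z` with at least two nontrivial components) with `|CT| ≥ |G : Z| |T|`.
All disjointness statements are derived from hypotheses on element orders.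
-/

set_option autoImplicit false
set_option linter.unusedSectionVars false
set_option linter.unusedVariables false
set_option linter.style.haveILetI false

namespace Cfsg.Agent.Helper31.PolygonCount

open Cfsg.Agent.Helper48.BG142

variable {G : Type*} [Group G]

/-- `card_classSupport` of helper48 with "`Z` centralizes `T`" weakened to "`Z` normalizes `T`"
(so `Z` may be non-abelian): if `T` is normalized by `Z` and `g z g⁻¹ ∈ T` with `z ∈ T` forces
`g ∈ Z`, the union of the conjugates of `T` has `|G : Z| · |T|` elements. -/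
theorem card_classSupport_of_normalizes [Finite G] (Z : Subgroup G) (T : Set G)
    (hnorm : ∀ h ∈ Z, ∀ z ∈ T, h * z * h⁻¹ ∈ T)
    (hTI : ∀ g : G, ∀ z ∈ T, g * z * g⁻¹ ∈ T → g ∈ Z) :
    Set.ncard (classSupport T) = Z.index * Set.ncard T := by
  classical
  rw [← Nat.card_coe_set_eq, ← Nat.card_coe_set_eq, Subgroup.index_eq_card,
    ← Nat.card_prod]
  symm
  refine Nat.card_congr (Equiv.ofBijective
    (fun x : (G ⧸ Z) × T => (⟨x.1.out * (x.2 : G) * x.1.out⁻¹, x.1.out, x.2, x.2.2, rfl⟩ :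
      classSupport T)) ⟨?_, ?_⟩)
  · rintro ⟨q, ⟨z, hz⟩⟩ ⟨q', ⟨z', hz'⟩⟩ h
    have h1 : q.out * z * q.out⁻¹ = q'.out * z' * q'.out⁻¹ := congrArg Subtype.val h
    have h2 : (q'.out⁻¹ * q.out) * z * (q'.out⁻¹ * q.out)⁻¹ = z' := by
      have : (q'.out⁻¹ * q.out) * z * (q'.out⁻¹ * q.out)⁻¹
          = q'.out⁻¹ * (q.out * z * q.out⁻¹) * q'.out := by group
      rw [this, h1]; group
    have h3 : q'.out⁻¹ * q.out ∈ Z := hTI _ z hz (by rw [h2]; exact hz')
    have h5 : q' = q := by
      rw [← QuotientGroup.out_eq' q', ← QuotientGroup.out_eq' q]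
      exact QuotientGroup.eq.2 h3
    subst h5
    have h4 : z' = z := by
      rw [← h2]; simp
    subst h4; rfl
  · rintro ⟨a, g, z, hz, rfl⟩
    obtain ⟨h, hh⟩ := QuotientGroup.mk_out_eq_mul Z g
    refine ⟨((g : G ⧸ Z), ⟨(h : G)⁻¹ * z * ((h : G)⁻¹)⁻¹, hnorm _ (Z.inv_mem h.2) z hz⟩), ?_⟩
    apply Subtype.ext
    show (g : G ⧸ Z).out * ((h : G)⁻¹ * z * ((h : G)⁻¹)⁻¹) * (g : G ⧸ Z).out⁻¹ = g * z * g⁻¹
    rw [hh]
    group

/-- the order of a conjugate -/
theorem orderOf_conj' (g z : G) : orderOf (g * z * g⁻¹) = orderOf z := by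
  have : g * z * g⁻¹ = MulAut.conj g z := by simp [MulAut.conj_apply]
  rw [this]
  exact MulEquiv.orderOf_eq _ z

/-- the number of elements of `Z` outside the union of pairwise trivially intersecting
subgroups `C i ≤ Z` (the hypothesis `hTcard` of `polygon_false`) -/
theorem ncard_sdiff_components [Finite G] {ι : Type*} [Fintype ι] [Nonempty ι]
    (C : ι → Subgroup G) (Z : Subgroup G) (hCZ : ∀ i, C i ≤ Z)
    (hdisj : ∀ i j, i ≠ j → C i ⊓ C j = ⊥) :
    Set.ncard ((Z : Set G) \ ⋃ i, (C i : Set G)) + ∑ i, (Nat.card (C i) - 1) + 1 = Nat.card Z := by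
  classical
  haveI := Fintype.ofFinite G
  set U : Set G := ⋃ i, (C i : Set G) with hU
  have hUZ : U ⊆ (Z : Set G) := by
    intro w hw
    rw [hU, Set.mem_iUnion] at hw
    obtain ⟨i, hi⟩ := hw
    exact hCZ i hi
  have h1 : Set.ncard ((Z : Set G) \ U) + Set.ncard U = Set.ncard (Z : Set G) :=
    Set.ncard_sdiff_add_ncard_of_subset hUZ (Set.toFinite _)
  have hZc : Set.ncard (Z : Set G) = Nat.card Z := rfl
  -- the pieces `C i \ {1}`
  set D : ι → Finset G := fun i => ((C i : Set G) \ {1}).toFinset with hD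
  have hDd : ∀ i j, i ≠ j → Disjoint (D i) (D j) := by
    intro i j hij
    rw [Finset.disjoint_left]
    intro w hwi hwj
    simp only [hD, Set.mem_toFinset, Set.mem_sdiff, SetLike.mem_coe, Set.mem_singleton_iff] at hwi hwj
    have : w ∈ C i ⊓ C j := Subgroup.mem_inf.2 ⟨hwi.1, hwj.1⟩
    rw [hdisj i j hij, Subgroup.mem_bot] at this
    exact hwi.2 this
  have hDc : ∀ i, (D i).card = Nat.card (C i) - 1 := by
    intro i
    rw [hD]
    simp only
    rw [← Set.ncard_eq_toFinset_card', Set.ncard_sdiff_singleton_of_mem (C i).one_mem]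
    rfl
  have hUf : U.toFinset = insert (1 : G) (Finset.univ.biUnion D) := by
    ext w
    simp only [hU, hD, Set.mem_toFinset, Set.mem_iUnion, SetLike.mem_coe, Finset.mem_insert,
      Finset.mem_biUnion, Finset.mem_univ, true_and, Set.mem_sdiff, Set.mem_singleton_iff]
    constructor
    · rintro ⟨i, hi⟩
      by_cases hw : w = 1
      · exact Or.inl hw
      · exact Or.inr ⟨i, hi, hw⟩
    · rintro (rfl | ⟨i, hi, -⟩)
      · exact ⟨Classical.arbitrary ι, (C _).one_mem⟩
      · exact ⟨i, hi⟩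
  have h1n : (1 : G) ∉ Finset.univ.biUnion D := by
    rw [Finset.mem_biUnion]
    rintro ⟨i, -, hi⟩
    simp [hD] at hi
  have h2 : Set.ncard U = 1 + ∑ i, (Nat.card (C i) - 1) := by
    rw [Set.ncard_eq_toFinset_card' U, hUf, Finset.card_insert_of_notMem h1n,
      Finset.card_biUnion (fun i _ j _ hij => hDd i j hij)]
    rw [Finset.sum_congr rfl (fun i _ => hDc i)]
    ring
  omega


/-- **the abstract `n`-gon count**. -/
theorem polygon_false [Finite G] {ι : Type*} [Fintype ι] (hn : 2 ≤ Fintype.card ι)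
    (π : ι → Set ℕ) (M S C : ι → Subgroup G) (Z : Subgroup G) (T CT : Set G) (B : ι → Set G)
    (hB : ∀ i, (Nat.card (S i) - 1) * (M i).index ≤ (B i).ncard)
    (hBπ : ∀ i, ∀ w ∈ B i, (∃ p ∈ π i, p.Prime ∧ p ∣ orderOf w) ∧
      ∀ j, j ≠ i → ∀ p ∈ π j, p.Prime → ¬ p ∣ orderOf w)
    (hCT : Z.index * T.ncard ≤ CT.ncard)
    (hCTπ : ∀ w ∈ CT, ∃ j k, j ≠ k ∧ (∃ p ∈ π j, p.Prime ∧ p ∣ orderOf w) ∧
      (∃ p ∈ π k, p.Prime ∧ p ∣ orderOf w))
    (hTcard : T.ncard + ∑ i, (Nat.card (C i) - 1) + 1 = Nat.card Z)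
    (hM : ∀ i, Nat.card (M i) * Nat.card (C i) = Nat.card (S i) * Nat.card Z)
    (hCS : ∀ i, 3 * Nat.card (C i) ≤ Nat.card (S i)) : False := by
  classical
  haveI := Fintype.ofFinite G
  -- disjointness statements
  have hd1 : ∀ i j, i ≠ j → Disjoint (B i).toFinset (B j).toFinset := by
    intro i j hij
    rw [Finset.disjoint_left]
    intro w hwi hwj
    rw [Set.mem_toFinset] at hwi hwj
    obtain ⟨⟨p, hpi, hp, hpw⟩, -⟩ := hBπ i w hwi
    exact (hBπ j w hwj).2 i hij p hpi hp hpw
  have hd2 : ∀ i, Disjoint CT.toFinset (B i).toFinset := by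
    intro i
    rw [Finset.disjoint_left]
    intro w hwc hwi
    rw [Set.mem_toFinset] at hwc hwi
    obtain ⟨j, k, hjk, ⟨p, hpj, hp, hpw⟩, ⟨p', hpk, hp', hpw'⟩⟩ := hCTπ w hwc
    by_cases hji : j = i
    · have hki : k ≠ i := fun h => hjk (hji.trans h.symm)
      exact (hBπ i w hwi).2 k hki p' hpk hp' hpw'
    · exact (hBπ i w hwi).2 j hji p hpj hp hpw
  have h1B : ∀ i, (1 : G) ∉ (B i).toFinset := by
    intro i h
    rw [Set.mem_toFinset] at h
    obtain ⟨⟨p, -, hp, hpw⟩, -⟩ := hBπ i 1 h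
    rw [orderOf_one] at hpw
    exact hp.one_lt.ne' (Nat.dvd_one.1 hpw)
  have h1CT : (1 : G) ∉ CT.toFinset := by
    intro h
    rw [Set.mem_toFinset] at h
    obtain ⟨j, k, -, ⟨p, -, hp, hpw⟩, -⟩ := hCTπ 1 h
    rw [orderOf_one] at hpw
    exact hp.one_lt.ne' (Nat.dvd_one.1 hpw)
  -- the union count
  set UB : Finset G := Finset.univ.biUnion (fun i => (B i).toFinset) with hUB
  have hUBcard : UB.card = ∑ i, (B i).ncard := by
    rw [hUB, Finset.card_biUnion (fun i _ j _ hij => hd1 i j hij)]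
    exact Finset.sum_congr rfl (fun i _ => (Set.ncard_eq_toFinset_card' (B i)).symm)
  have hdCU : Disjoint CT.toFinset UB := by
    rw [hUB, Finset.disjoint_biUnion_right]
    exact fun i _ => hd2 i
  have h1U : (1 : G) ∉ CT.toFinset ∪ UB := by
    rw [Finset.mem_union, not_or]
    refine ⟨h1CT, ?_⟩
    rw [hUB, Finset.mem_biUnion]
    rintro ⟨i, -, hi⟩
    exact h1B i hi
  have hIV : 1 + CT.ncard + ∑ i, (B i).ncard ≤ Nat.card G := by
    have h1 : (insert (1 : G) (CT.toFinset ∪ UB)).card ≤ Fintype.card G :=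
      Finset.card_le_univ _
    rw [Finset.card_insert_of_notMem h1U, Finset.card_union_of_disjoint hdCU, hUBcard,
      ← Set.ncard_eq_toFinset_card' CT, ← Nat.card_eq_fintype_card] at h1
    omega
  -- arithmetic
  set g := Nat.card G with hg
  set z := Nat.card Z with hz
  have hzpos : 0 < z := Nat.card_pos
  have hgpos : 0 < g := Nat.card_pos
  have hZidx : Z.index * z = g := by rw [hz, hg, mul_comm]; exact Subgroup.card_mul_index Z
  -- (III)
  have hIII : g * T.ncard ≤ z * CT.ncard := by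
    calc g * T.ncard = z * (Z.index * T.ncard) := by rw [← hZidx]; ring
      _ ≤ z * CT.ncard := Nat.mul_le_mul_left _ hCT
  -- per-index inequality
  have hper : ∀ i, 3 * (g * Nat.card (C i)) ≤ 3 * (z * (B i).ncard) + g := by
    intro i
    have hMidx : (M i).index * Nat.card (M i) = g := by
      rw [hg, mul_comm]; exact Subgroup.card_mul_index (M i)
    have hcpos : 0 < Nat.card (C i) := Nat.card_pos
    have hspos : 0 < Nat.card (S i) := Nat.card_pos
    obtain ⟨a, ha⟩ : ∃ a, Nat.card (S i) = a + 1 := ⟨Nat.card (S i) - 1, by omega⟩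
    have hB' : a * (M i).index ≤ (B i).ncard := by
      have := hB i
      rwa [ha, Nat.add_sub_cancel] at this
    -- `3 z ≤ m`
    have h3z : 3 * z ≤ Nat.card (M i) := by
      have h1 : 3 * z * Nat.card (C i) ≤ Nat.card (M i) * Nat.card (C i) := by
        rw [hM i]
        calc 3 * z * Nat.card (C i) = (3 * Nat.card (C i)) * z := by ring
          _ ≤ Nat.card (S i) * z := Nat.mul_le_mul_right _ (hCS i)
      exact Nat.le_of_mul_le_mul_right h1 hcpos
    -- `g c = idx (a + 1) z`
    have h2 : g * Nat.card (C i) = (M i).index * ((a + 1) * z) := by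
      rw [← hMidx, mul_assoc, hM i, ha]
    have h3 : 3 * ((M i).index * z) ≤ g := by
      calc 3 * ((M i).index * z) = (M i).index * (3 * z) := by ring
        _ ≤ (M i).index * Nat.card (M i) := Nat.mul_le_mul_left _ h3z
        _ = g := hMidx
    have h4 : z * (a * (M i).index) ≤ z * (B i).ncard := Nat.mul_le_mul_left _ hB'
    calc 3 * (g * Nat.card (C i)) = 3 * (z * (a * (M i).index)) + 3 * ((M i).index * z) := by
          rw [h2]; ring
      _ ≤ 3 * (z * (B i).ncard) + g := by omega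
  -- sum over `i`
  set n := Fintype.card ι with hn'
  set Cs := ∑ i, Nat.card (C i) with hCs
  set SB := ∑ i, (B i).ncard with hSB
  have hsum : 3 * (g * Cs) ≤ 3 * (z * SB) + n * g := by
    have := Finset.sum_le_sum (fun i (_ : i ∈ Finset.univ) => hper i)
    rw [Finset.sum_add_distrib, ← Finset.mul_sum, ← Finset.mul_sum, ← Finset.mul_sum,
      ← Finset.mul_sum, Finset.sum_const, Finset.card_univ, smul_eq_mul] at this
    exact this
  -- (V)
  have hV : T.ncard + Cs + 1 = z + n := by
    have h1 : ∑ i, (Nat.card (C i) - 1) + n = Cs := by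
      have h0 : n = ∑ _i : ι, 1 := by rw [hn']; simp
      rw [hCs, h0, ← Finset.sum_add_distrib]
      refine Finset.sum_congr rfl (fun i _ => ?_)
      have : 0 < Nat.card (C i) := Nat.card_pos
      omega
    omega
  -- final contradiction
  have hV' : g * T.ncard + g * Cs + g = g * z + g * n := by
    have : g * (T.ncard + Cs + 1) = g * (z + n) := by rw [hV]
    linarith
  have hIV' : 3 * z + 3 * (z * CT.ncard) + 3 * (z * SB) ≤ 3 * (z * g) := by
    have := Nat.mul_le_mul_left (3 * z) hIV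
    linarith
  have hng : 2 * g ≤ n * g := Nat.mul_le_mul_right _ hn
  have hzg : z * g = g * z := mul_comm _ _
  have hgn : g * n = n * g := mul_comm _ _
  linarith

end Cfsg.Agent.Helper31.PolygonCount
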