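import Cfsg.Agent.Helper31.PronAL.Main

/-!
# S2225 block AL (helper99 #15044): deliverable
`Cfsg.Agent.Helper31.Pron.sl_char2_pronormal` (proved in `Cfsg/Agent/Helper31/PronAL/Main.lean`):
every odd-index subgroup of `PSL_n(F)`, `F` a finite field of characteristic `2`, is pronormal.
-/
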