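import Mathlib
import Cfsg.Agent.S0799
import Cfsg.Agent.S3820
import Cfsg.Agent.Helper71.PronormalSelfNorm
import Cfsg.Agent.Helper46.MxKleinPSL
import Cfsg.Agent.Helper46.MxTorus
import Cfsg.Agent.Helper46.SubfieldPSL

/-!
# helper31, PRON block C2 piece (A2) (for helper95 #15695, S2225/S2226)

A Sylow 2-subgroup `P` whose normaliser lies in a "generalised dihedral" group `C` over `R`
(elements of `C` outside `R` invert `R`, and `R` has index at most two in `C`), with `P` not
inside `R`, is self-normalising.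
-/

set_option autoImplicit false

namespace Cfsg.Agent.Helper31.PronC2

open Cfsg.Agent.S4269 (cj mem_cj cj_mul cj_of_mem cj_of_mem_normalizer)
open Cfsg.Agent.Helper71 Cfsg.Agent.Helper41 Cfsg.Agent.Helper46.Mx

section abstract
variable {G : Type*} [Group G] [Finite G]

/-- an element of odd order of the normaliser is trivial -/
theorem eq_one_of_odd_of_mem_normalizer (P : Sylow 2 G) (R C : Subgroup G)
    (hinv : ∀ c ∈ C, c ∉ R → ∀ r ∈ R, c * r * c⁻¹ = r⁻¹)
    (hidx : ∀ c₁ ∈ C, ∀ c₂ ∈ C, c₁ ∉ R → c₂ ∉ R → c₁ * c₂ ∈ R)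
    (hNC : Subgroup.normalizer ((P : Subgroup G) : Set G) ≤ C) (hPR : ¬ (P : Subgroup G) ≤ R)
    (x : G) (hxN : x ∈ Subgroup.normalizer ((P : Subgroup G) : Set G)) (hodd : Odd (orderOf x)) :
    x = 1 := by
  have hxC : x ∈ C := hNC hxN
  -- `x ∈ R`
  have hxR : x ∈ R := by
    by_contra hx
    have h2 : x * x ∈ R := hidx x hxC x hxC hx hx
    obtain ⟨m, hm⟩ := hodd
    have hpow : (x * x) ^ (m + 1) = x := by
      rw [← pow_two, ← pow_mul]
      have : 2 * (m + 1) = orderOf x + 1 := by omega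
      rw [this, pow_succ, pow_orderOf_eq_one, one_mul]
    exact hx (hpow ▸ R.pow_mem h2 (m + 1))
  -- pick `t ∈ P \ R`
  obtain ⟨t, htP, htR⟩ := SetLike.not_le_iff_exists.mp hPR
  have htN : t ∈ Subgroup.normalizer ((P : Subgroup G) : Set G) := Subgroup.le_normalizer htP
  have htC : t ∈ C := hNC htN
  have hinvx : t * x * t⁻¹ = x⁻¹ := hinv t htC htR x hxR
  have h1 : x * t * x⁻¹ ∈ (P : Subgroup G) := (hxN t).mp htP
  have h2 : x * x ∈ (P : Subgroup G) := by
    have : x * x = (x * t * x⁻¹) * t⁻¹ := by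
      have h3 : t * x⁻¹ * t⁻¹ = x := by
        have := congrArg (·⁻¹) hinvx
        simpa [mul_assoc] using this
      calc x * x = x * (t * x⁻¹ * t⁻¹) := by rw [h3]
        _ = (x * t * x⁻¹) * t⁻¹ := by simp only [mul_assoc]
    rw [this]
    exact (P : Subgroup G).mul_mem h1 ((P : Subgroup G).inv_mem htP)
  -- `x * x` has order a power of two and odd order
  have hP2 : IsPGroup 2 (P : Subgroup G) := P.isPGroup'
  obtain ⟨k, hk⟩ := (IsPGroup.iff_orderOf.mp hP2) ⟨x * x, h2⟩
  have hk' : orderOf (x * x) = 2 ^ k := by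
    rw [← hk]
    exact (Subgroup.orderOf_mk (x * x) h2).symm
  have hdvd : orderOf (x * x) ∣ orderOf x := by
    rw [← pow_two]
    exact orderOf_pow_dvd 2
  have hoddxx : Odd (orderOf (x * x)) := Odd.of_dvd_nat hodd hdvd
  have hk0 : k = 0 := by
    rcases Nat.eq_zero_or_pos k with h | h
    · exact h
    · exfalso
      have : Even (2 ^ k) := (Nat.even_pow' (Nat.pos_iff_ne_zero.mp h)).mpr even_two
      rw [← hk'] at this
      exact (Nat.not_even_iff_odd.mpr hoddxx) this
  rw [hk0, pow_zero, orderOf_eq_one_iff] at hk'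
  -- so `x ^ 2 = 1` with `x` of odd order
  have hdvd2 : orderOf x ∣ 2 := by
    apply orderOf_dvd_of_pow_eq_one
    rw [pow_two]; exact hk'
  have : orderOf x = 1 := by
    rcases (Nat.dvd_prime Nat.prime_two).mp hdvd2 with h | h
    · exact h
    · exfalso
      rw [h] at hodd
      exact (by decide : ¬ Odd 2) hodd
  exact orderOf_eq_one_iff.mp this

/-- (A2) -/
theorem selfnorm_of_genDih (P : Sylow 2 G) (R C : Subgroup G)
    (hinv : ∀ c ∈ C, c ∉ R → ∀ r ∈ R, c * r * c⁻¹ = r⁻¹)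
    (hidx : ∀ c₁ ∈ C, ∀ c₂ ∈ C, c₁ ∉ R → c₂ ∉ R → c₁ * c₂ ∈ R)
    (hNC : Subgroup.normalizer ((P : Subgroup G) : Set G) ≤ C) (hPR : ¬ (P : Subgroup G) ≤ R) :
    Subgroup.normalizer ((P : Subgroup G) : Set G) = P := by
  have hle : (P : Subgroup G) ≤ Subgroup.normalizer ((P : Subgroup G) : Set G) :=
    Subgroup.le_normalizer
  have hN2 : IsPGroup 2 (Subgroup.normalizer ((P : Subgroup G) : Set G)) := by
    rw [IsPGroup.iff_orderOf]
    rintro ⟨x, hx⟩
    -- decompose the order of `x`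
    have hpos : 0 < orderOf x := orderOf_pos x
    obtain ⟨k, m, hm, hkm⟩ := Nat.exists_eq_two_pow_mul_odd (Nat.pos_iff_ne_zero.mp hpos)
    have hy : x ^ (2 ^ k) = 1 := by
      apply eq_one_of_odd_of_mem_normalizer P R C hinv hidx hNC hPR
      · exact Subgroup.pow_mem _ hx _
      · rw [orderOf_pow' x (pow_ne_zero k two_ne_zero)]
        have : Nat.gcd (orderOf x) (2 ^ k) = 2 ^ k := by
          rw [hkm]
          exact Nat.gcd_eq_right (Dvd.intro _ rfl)
        rw [this, hkm, Nat.mul_div_cancel_left _ (pow_pos two_pos k)]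
        exact hm
    have hdvd : orderOf x ∣ 2 ^ k := orderOf_dvd_of_pow_eq_one hy
    obtain ⟨j, _, hj⟩ := (Nat.dvd_prime_pow Nat.prime_two).mp hdvd
    refine ⟨j, ?_⟩
    rw [← hj]
    exact Subgroup.orderOf_mk x hx
  exact P.is_maximal' hN2 hle

end abstract

end Cfsg.Agent.Helper31.PronC2
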