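import Mathlib
import Cfsg.Agent.S0799
import Cfsg.Agent.S3820
import Cfsg.Agent.Helper71.PronormalSelfNorm
import Cfsg.Agent.Helper46.MxKleinPSL
import Cfsg.Agent.Helper46.MxTorus
import Cfsg.Agent.Helper46.SubfieldPSL

/-!
# helper31, PRON block C2 piece (A3) (for helper95 #15695, S2225/S2226)

If every Klein four-subgroup of the Sylow 2-subgroup `P` (of order at least 8) is
self-centralising in `G`, then `Z(P)` has a unique involution `z`, and `N_G(P) ≤ C_G(z)`.
-/

set_option autoImplicit false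

namespace Cfsg.Agent.Helper31.PronC2

open Cfsg.Agent.S4269 (cj mem_cj cj_mul cj_of_mem cj_of_mem_normalizer)
open Cfsg.Agent.Helper71 Cfsg.Agent.Helper41 Cfsg.Agent.Helper46.Mx

section abstract
variable {G : Type*} [Group G] [Finite G]

/-- a central involution of `P` exists -/
theorem exists_central_invol_aux (P : Sylow 2 G) (h8 : 8 ≤ Nat.card (P : Subgroup G)) :
    ∃ z : G, z ∈ (P : Subgroup G) ∧ z ≠ 1 ∧ z * z = 1 ∧ ∀ p ∈ (P : Subgroup G), p * z = z * p := by
  have hP2 : IsPGroup 2 (P : Subgroup G) := P.isPGroup'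
  haveI : Nontrivial (P : Subgroup G) := by
    rw [← Finite.one_lt_card_iff_nontrivial]
    omega
  haveI : Nontrivial (Subgroup.center (P : Subgroup G)) := hP2.center_nontrivial
  have hZ2 : IsPGroup 2 (Subgroup.center (P : Subgroup G)) :=
    hP2.to_subgroup (Subgroup.center (P : Subgroup G))
  obtain ⟨k, hk⟩ := IsPGroup.iff_card.mp hZ2
  have hk0 : k ≠ 0 := by
    rintro rfl
    have h1 : 1 < Nat.card (Subgroup.center (P : Subgroup G)) :=
      Finite.one_lt_card_iff_nontrivial.mpr inferInstance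
    rw [hk, pow_zero] at h1
    exact lt_irrefl _ h1
  have hdvd : 2 ∣ Nat.card (Subgroup.center (P : Subgroup G)) := by
    rw [hk]
    exact dvd_pow_self 2 hk0
  obtain ⟨z0, hz0⟩ := exists_prime_orderOf_dvd_card' (G := Subgroup.center (P : Subgroup G)) 2 hdvd
  have hz0ne : z0 ≠ 1 := by
    rintro rfl
    rw [orderOf_one] at hz0
    exact absurd hz0 (by norm_num)
  have hz0sq : z0 * z0 = 1 := by
    have h := pow_orderOf_eq_one z0
    rw [hz0, pow_two] at h
    exact h
  refine ⟨((z0 : (P : Subgroup G)) : G), (z0 : (P : Subgroup G)).2, ?_, ?_, ?_⟩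
  · intro h
    apply hz0ne
    apply Subtype.ext
    apply Subtype.ext
    exact h
  · have := congrArg (fun w : Subgroup.center (P : Subgroup G) => ((w : (P : Subgroup G)) : G)) hz0sq
    simpa using this
  · intro p hp
    have hmem : (z0 : (P : Subgroup G)) ∈ Subgroup.center (P : Subgroup G) := z0.2
    rw [Subgroup.mem_center_iff] at hmem
    have := hmem ⟨p, hp⟩
    have := congrArg (fun w : (P : Subgroup G) => (w : G)) this
    simpa using this

/-- uniqueness of the central involution -/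
theorem central_invol_unique (P : Sylow 2 G) (h8 : 8 ≤ Nat.card (P : Subgroup G))
    (hcent : ∀ V : Subgroup G, V ≤ P → IsKleinFour V → ∀ g : G, (∀ v ∈ V, g * v = v * g) → g ∈ V)
    (z z' : G) (hz : z ∈ (P : Subgroup G)) (hz1 : z ≠ 1) (hzz : z * z = 1)
    (hzc : ∀ p ∈ (P : Subgroup G), p * z = z * p)
    (hz' : z' ∈ (P : Subgroup G)) (hz'1 : z' ≠ 1) (hz'z' : z' * z' = 1)
    (hz'c : ∀ p ∈ (P : Subgroup G), p * z' = z' * p) : z' = z := by
  classical
  by_contra hne
  have hcomm : z * z' = z' * z := hz'c z hz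
  have hV : IsKleinFour (kleinOf z z' hzz hz'z' hcomm) :=
    isKleinFour_kleinOf hzz hz'z' hcomm hz1 hz'1 (fun h => hne h.symm)
  have hVP : kleinOf z z' hzz hz'z' hcomm ≤ (P : Subgroup G) := by
    intro x hx
    rcases (mem_kleinOf hzz hz'z' hcomm x).mp hx with rfl | rfl | rfl | rfl
    · exact one_mem _
    · exact hz
    · exact hz'
    · exact mul_mem hz hz'
  have hPV : (P : Subgroup G) ≤ kleinOf z z' hzz hz'z' hcomm := by
    intro g hg
    apply hcent _ hVP hV g
    intro v hv
    rcases (mem_kleinOf hzz hz'z' hcomm v).mp hv with rfl | rfl | rfl | rfl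
    · rw [mul_one, one_mul]
    · exact hzc g hg
    · exact hz'c g hg
    · rw [← mul_assoc, hzc g hg, mul_assoc, hz'c g hg, ← mul_assoc]
  have hcard : Nat.card (P : Subgroup G) ≤ Nat.card (kleinOf z z' hzz hz'z' hcomm) :=
    Subgroup.card_le_of_le hPV
  rw [card_kleinOf hzz hz'z' hcomm hz1 hz'1 (fun h => hne h.symm)] at hcard
  omega

/-- (A3) -/
theorem exists_central_involution (P : Sylow 2 G) (h8 : 8 ≤ Nat.card (P : Subgroup G))
    (hcent : ∀ V : Subgroup G, V ≤ P → IsKleinFour V → ∀ g : G, (∀ v ∈ V, g * v = v * g) → g ∈ V) :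
    ∃ z : G, z ∈ (P : Subgroup G) ∧ z ≠ 1 ∧ z * z = 1 ∧
      Subgroup.normalizer ((P : Subgroup G) : Set G) ≤ Subgroup.centralizer {z} := by
  obtain ⟨z, hz, hz1, hzz, hzc⟩ := exists_central_invol_aux P h8
  refine ⟨z, hz, hz1, hzz, ?_⟩
  intro n hn
  have hn' : ∀ h : G, h ∈ (P : Subgroup G) ↔ n * h * n⁻¹ ∈ (P : Subgroup G) := fun h => hn h
  have hconj : n * z * n⁻¹ = z := by
    apply central_invol_unique P h8 hcent z (n * z * n⁻¹) hz hz1 hzz hzc
    · exact (hn' z).mp hz
    · intro h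
      apply hz1
      have : z = n⁻¹ * (n * z * n⁻¹) * n := by simp [mul_assoc]
      rw [this, h]; simp
    · calc n * z * n⁻¹ * (n * z * n⁻¹) = n * (z * z) * n⁻¹ := by simp [mul_assoc]
        _ = 1 := by rw [hzz]; simp
    · intro p hp
      -- `n⁻¹ p n ∈ P`
      have hq : n⁻¹ * p * n ∈ (P : Subgroup G) := by
        rw [hn' (n⁻¹ * p * n)]
        have : n * (n⁻¹ * p * n) * n⁻¹ = p := by simp [mul_assoc]
        rw [this]; exact hp
      have hc := hzc _ hq
      calc p * (n * z * n⁻¹) = n * ((n⁻¹ * p * n) * z) * n⁻¹ := by simp [mul_assoc]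
        _ = n * (z * (n⁻¹ * p * n)) * n⁻¹ := by rw [hc]
        _ = n * z * n⁻¹ * p := by simp [mul_assoc]
  rw [Subgroup.mem_centralizer_iff]
  intro h hh
  rw [Set.mem_singleton_iff] at hh
  subst hh
  -- `h * n = n * h`
  have : n * h = (n * h * n⁻¹) * n := by simp [mul_assoc]
  rw [this, hconj]

end abstract

end Cfsg.Agent.Helper31.PronC2
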