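import Cfsg.Agent.Helper78.PsuII.Stmts

/-!
# S2089 block II part A, piece (AB): the Bruhat decomposition of `⟨Ũ, Ñ⟩` (backup for helper78's farm #14873)
-/

set_option autoImplicit false
set_option linter.unusedSectionVars false
set_option linter.unusedVariables false

namespace Cfsg.Agent.Helper31.PsuII

open Cfsg.Agent.Helper43.PsuM Cfsg.Agent.Helper78.PsuII

universe u

section lift

variable {Γ G : Type u} [Group Γ] [Group G] [Finite Γ] {r : ℕ} (τ : Γ →* G)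
  (hτ : Function.Surjective τ) (hc : τ.ker ≤ Subgroup.center Γ) (p : ℕ) [Fact p.Prime]
  (hcop : (Nat.card τ.ker).Coprime p) (D : RData G r) (hD : D.IsSplit p) (hG : GFacts D p)

include hτ hc hcop hD hG

/-- (AB) the Bruhat decomposition of `⟨Ũ, Ñ⟩`. -/
theorem bruhat (hLF : LFacts τ p D) (hHF : HFacts τ p D) (hNF : NFacts τ p D)
    (hRF : RFacts τ p D) : Bruhat τ p D := by
  -- basic inclusions
  have hUB : Ut τ p D ≤ Bt τ p D := le_sup_left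
  have hHB : Ht τ p D ≤ Bt τ p D := le_sup_right
  have hHN : Ht τ p D ≤ Nt τ p D := le_sup_left
  have hHiH : ∀ i, Hit τ p D i ≤ Ht τ p D := fun i => le_iSup (fun i => Hit τ p D i) i
  have hNiN : ∀ i, ∀ a ∈ Nit τ p D i, a ∈ Nt τ p D := by
    intro i a ha
    apply (le_sup_right : Subgroup.closure (⋃ i, Nit τ p D i) ≤ Nt τ p D)
    apply Subgroup.subset_closure
    exact Set.mem_iUnion.mpr ⟨i, ha⟩
  -- the set `S = B̃ Ñ B̃`
  set S : Set Γ := {g | ∃ b ∈ Bt τ p D, ∃ ν ∈ Nt τ p D, ∃ b' ∈ Bt τ p D, g = b * ν * b'} with hS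
  have hS1 : (1 : Γ) ∈ S :=
    ⟨1, Subgroup.one_mem _, 1, Subgroup.one_mem _, 1, Subgroup.one_mem _, by simp⟩
  have hBS : ∀ b₀ ∈ Bt τ p D, ∀ s ∈ S, b₀ * s ∈ S := by
    rintro b₀ hb₀ _ ⟨b, hb, ν, hν, b', hb', rfl⟩
    exact ⟨b₀ * b, Subgroup.mul_mem _ hb₀ hb, ν, hν, b', hb', by group⟩
  have hSB : ∀ s ∈ S, ∀ b₀ ∈ Bt τ p D, s * b₀ ∈ S := by
    rintro _ ⟨b, hb, ν, hν, b', hb', rfl⟩ b₀ hb₀
    exact ⟨b, hb, ν, hν, b' * b₀, Subgroup.mul_mem _ hb' hb₀, by group⟩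
  have hNS : ∀ ν ∈ Nt τ p D, ν ∈ S := fun ν hν =>
    ⟨1, Subgroup.one_mem _, ν, hν, 1, Subgroup.one_mem _, by simp⟩
  -- `B̃ = Ũ H̃`
  have hBdec : ∀ b ∈ Bt τ p D, ∃ u ∈ Ut τ p D, ∃ h ∈ Ht τ p D, b = u * h := by
    intro b hb
    have hb' : b ∈ Ut τ p D ⊔ Ht τ p D := hb
    rw [sup_comm] at hb'
    -- closure induction on `H̃ ⊔ Ũ`
    have key : ∀ g ∈ Ht τ p D ⊔ Ut τ p D, ∃ u ∈ Ut τ p D, ∃ h ∈ Ht τ p D, g = u * h := by
      intro g hg
      rw [Subgroup.sup_eq_closure] at hg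
      induction hg using Subgroup.closure_induction with
      | mem x hx =>
        rcases hx with hx | hx
        · exact ⟨1, Subgroup.one_mem _, x, hx, by simp⟩
        · exact ⟨x, hx, 1, Subgroup.one_mem _, by simp⟩
      | one => exact ⟨1, Subgroup.one_mem _, 1, Subgroup.one_mem _, by simp⟩
      | mul x y _ _ hx hy =>
        obtain ⟨u₁, hu₁, h₁, hh₁, rfl⟩ := hx
        obtain ⟨u₂, hu₂, h₂, hh₂, rfl⟩ := hy
        refine ⟨u₁ * (h₁ * u₂ * h₁⁻¹), Subgroup.mul_mem _ hu₁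
          (hHF.norm_U h₁ (hHF.map_le h₁ hh₁) u₂ hu₂), h₁ * h₂, Subgroup.mul_mem _ hh₁ hh₂, by group⟩
      | inv x _ hx =>
        obtain ⟨u₁, hu₁, h₁, hh₁, rfl⟩ := hx
        have hh₁' : h₁⁻¹ ∈ Ht τ p D := Subgroup.inv_mem _ hh₁
        refine ⟨h₁⁻¹ * u₁⁻¹ * h₁⁻¹⁻¹, hHF.norm_U h₁⁻¹ (hHF.map_le _ hh₁') u₁⁻¹
          (Subgroup.inv_mem _ hu₁), h₁⁻¹, hh₁', by group⟩
    exact key b hb'
  -- main step
  have hmain : ∀ i, ∀ a ∈ Nit τ p D i, ∀ s ∈ S, a * s ∈ S := by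
    rintro i a ha _ ⟨b, hb, ν, hν, b', hb', rfl⟩
    obtain ⟨u, hu, h, hh, rfl⟩ := hBdec b hb
    obtain ⟨y, hy, x, hx, rfl, hay⟩ := hRF.factor i u hu
    have haN : a ∈ Nt τ p D := hNiN i a ha
    obtain ⟨μ, hμ⟩ : ∃ μ, μ = h * ν := ⟨_, rfl⟩
    have hμN : μ ∈ Nt τ p D := by rw [hμ]; exact Subgroup.mul_mem _ (hHN hh) hν
    -- suffices `a x μ ∈ S`
    have hsuff : a * x * μ ∈ S → a * (y * x * h * ν * b') ∈ S := by
      intro hs
      have h1 := hSB _ (hBS (a * y * a⁻¹) (hUB (hay a ha)) _ hs) b' hb'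
      have e : a * y * a⁻¹ * (a * x * μ) * b' = a * (y * x * h * ν * b') := by
        rw [hμ]; group
      rwa [e] at h1
    apply hsuff
    rcases hRF.dichotomy i μ hμN with hX | hY
    · -- `μ⁻¹ X̃_i μ ≤ Ũ`
      refine ⟨1, Subgroup.one_mem _, a * μ, Subgroup.mul_mem _ haN hμN, μ⁻¹ * x * μ,
        hUB (hX x hx), by group⟩
    · by_cases hx1 : x = 1
      · rw [hx1, mul_one]
        exact hNS _ (Subgroup.mul_mem _ haN hμN)
      · obtain ⟨x₁, hx₁, h₁, hh₁, x₂, hx₂, hrk⟩ := hRF.rank_one i a ha x hx hx1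
        have haa : a * a ∈ Hit τ p D i := hNF.sq i a ha
        have haaH : τ (a * a) ∈ D.H := haa.2
        obtain ⟨y₂, hy₂⟩ : ∃ y₂, y₂ = a * x₂ * a⁻¹ := ⟨_, rfl⟩
        have hy₂Y : y₂ ∈ Yt τ p D i := by rw [hy₂]; exact hNF.conj_X i a ha x₂ hx₂
        have hμ'N : a * a * μ ∈ Nt τ p D := Subgroup.mul_mem _ (hHN (hHiH i haa)) hμN
        -- `(a a)⁻¹ y₂ (a a) ∈ Ỹ_i`
        have hconj : (a * a)⁻¹ * y₂ * ((a * a)⁻¹)⁻¹ ∈ Yt τ p D i := by
          apply hLF.conj_plift (D.Y i) (D.Y i) (hG.pY i) (hG.pY i) (a * a)⁻¹ _ y₂ hy₂Y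
          intro z hz
          rw [mem_cj_iff] at hz
          have hinvH : τ (a * a)⁻¹ ∈ D.H := by
            rw [map_inv]; exact D.H.inv_mem haaH
          have h2 := hG.H_Y i (τ (a * a)⁻¹) hinvH _ hz
          have e : τ (a * a)⁻¹ * ((τ (a * a)⁻¹)⁻¹ * z * τ (a * a)⁻¹) * (τ (a * a)⁻¹)⁻¹ = z := by
            group
          rwa [e] at h2
        have hUmem : (a * a * μ)⁻¹ * y₂ * (a * a * μ) ∈ Ut τ p D := by
          have h3 := hY _ hconj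
          have e : μ⁻¹ * ((a * a)⁻¹ * y₂ * ((a * a)⁻¹)⁻¹) * μ
              = (a * a * μ)⁻¹ * y₂ * (a * a * μ) := by
            simp only [mul_inv_rev, inv_inv, mul_assoc]
          rwa [e] at h3
        refine ⟨x₁ * h₁, Subgroup.mul_mem _ (hUB (hLF.Xt_le_Ut i hx₁)) (hHB (hHiH i hh₁)),
          a * a * μ, hμ'N, (a * a * μ)⁻¹ * y₂ * (a * a * μ), hUB hUmem, ?_⟩
        have e1 : a * x * μ = (a * x * a⁻¹) * a * μ := by group
        rw [e1, hrk]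
        have e2 : x₁ * h₁ * (a * a * μ) * ((a * a * μ)⁻¹ * y₂ * (a * a * μ))
            = x₁ * h₁ * y₂ * (a * a * μ) := by
          simp only [mul_inv_rev, mul_assoc, mul_inv_cancel_left]
        rw [e2, hy₂]
        group
  -- the subgroup `T`
  let T : Subgroup Γ :=
    { carrier := {g | (∀ s ∈ S, g * s ∈ S) ∧ (∀ s ∈ S, g⁻¹ * s ∈ S)}
      mul_mem' := by
        rintro g₁ g₂ ⟨h1, h1'⟩ ⟨h2, h2'⟩
        refine ⟨fun s hs => ?_, fun s hs => ?_⟩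
        · have := h1 _ (h2 s hs)
          rwa [← mul_assoc] at this
        · have := h2' _ (h1' s hs)
          rwa [← mul_assoc, ← mul_inv_rev] at this
      one_mem' := ⟨fun s hs => by rwa [one_mul], fun s hs => by rwa [inv_one, one_mul]⟩
      inv_mem' := by
        rintro g ⟨h1, h1'⟩
        exact ⟨h1', fun s hs => by rw [inv_inv]; exact h1 s hs⟩ }
  have hBT : Bt τ p D ≤ T := fun b hb =>
    ⟨fun s hs => hBS b hb s hs, fun s hs => hBS b⁻¹ (Subgroup.inv_mem _ hb) s hs⟩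
  have hNiT : ∀ i, ∀ a ∈ Nit τ p D i, a ∈ T := by
    intro i a ha
    refine ⟨fun s hs => hmain i a ha s hs, fun s hs => ?_⟩
    have haa : a * a ∈ Hit τ p D i := hNF.sq i a ha
    have h1 := hBS (a * a)⁻¹ (Subgroup.inv_mem _ (hHB (hHiH i haa))) _ (hmain i a ha s hs)
    have e : (a * a)⁻¹ * (a * s) = a⁻¹ * s := by group
    rwa [e] at h1
  have hNT : Nt τ p D ≤ T := by
    apply sup_le (hHB.trans hBT)
    rw [Subgroup.closure_le]
    intro a ha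
    obtain ⟨i, hai⟩ := Set.mem_iUnion.mp ha
    exact hNiT i a hai
  intro g hg
  have hgT : g ∈ T := (sup_le (hUB.trans hBT) hNT) hg
  have := hgT.1 1 hS1
  rw [mul_one] at this
  exact this

end lift

end Cfsg.Agent.Helper31.PsuII
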