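import Cfsg.Agent.Helper43.PsuM.RDefs

/-!
# Piece (RED) `noStem_of` of helper43's S2089 block R (#14254).
-/

set_option autoImplicit false

namespace Cfsg.Agent.Helper31.PsuM

open scoped commutatorElement
open Cfsg.Agent.Helper96.StLift
open Cfsg.Agent.Helper43.PsuM

universe u

/-- a finite commutative group of order divisible by `p` has a subgroup of index `p`. -/
theorem RED_exists_index_eq_prime (A : Type u) [Group A] [Finite A] (hcomm : ∀ a b : A, a * b = b * a)
    (p : ℕ) [hp : Fact p.Prime] (hdvd : p ∣ Nat.card A) : ∃ B : Subgroup A, B.index = p := by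
  obtain ⟨a, m, hm, hcard⟩ :=
    Nat.exists_eq_pow_mul_and_not_dvd (Nat.card_pos (α := A)).ne' p hp.out.ne_one
  let φ : A →* A := MonoidHom.mk' (fun x => x ^ m) (fun x y => Commute.mul_pow (hcomm x y) m)
  have hφ : ∀ x, φ x = x ^ m := fun _ => rfl
  have hR : IsPGroup p φ.range := by
    rintro ⟨_, x, rfl⟩
    refine ⟨a, Subtype.ext ?_⟩
    show (φ x) ^ p ^ a = 1
    rw [hφ, ← pow_mul, mul_comm, ← hcard, pow_card_eq_one']
  obtain ⟨b, hb⟩ := IsPGroup.iff_card.mp hR
  have hb1 : b ≠ 0 := by
    rintro rfl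
    rw [pow_zero] at hb
    obtain ⟨x, hx⟩ := exists_prime_orderOf_dvd_card' p hdvd
    have hxm : x ^ m = 1 := by
      haveI : Subsingleton φ.range := (Nat.card_eq_one_iff_unique.mp hb).1
      have h1 : (⟨φ x, x, rfl⟩ : φ.range) = 1 := Subsingleton.elim _ _
      have := congrArg Subtype.val h1
      simpa [hφ] using this
    exact hm (hx ▸ orderOf_dvd_of_pow_eq_one hxm)
  obtain ⟨K, hK⟩ := Sylow.exists_subgroup_card_pow_prime p (n := b - 1) (G := φ.range)
    (by rw [hb]; exact pow_dvd_pow p (Nat.sub_le b 1))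
  refine ⟨K.comap φ.rangeRestrict, ?_⟩
  rw [Subgroup.index_comap_of_surjective _ φ.rangeRestrict_surjective]
  have h2 := K.card_mul_index
  rw [hK, hb] at h2
  have h3 : p ^ b = p ^ (b - 1) * p := by
    rw [← pow_succ]
    congr 1
    omega
  rw [h3] at h2
  exact Nat.eq_of_mul_eq_mul_left (pow_pos hp.out.pos _) h2

/-- (RED) split into the `p`-part and the `p'`-part. -/
theorem noStem_of {G : Type u} [Group G] [Finite G] (p : ℕ) [Fact p.Prime]
    (h1 : NoStemP G p) (h2 : NoStemP' G p) : NoStem G := by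
  intro Γ _ _ τ hstem
  by_cases hdvd : p ∣ Nat.card τ.ker
  · exfalso
    obtain ⟨hsurj, hcen, hcomm⟩ := hstem
    have hab : ∀ a b : ↥τ.ker, a * b = b * a := by
      intro a b
      apply Subtype.ext
      have := hcen b.2
      rw [Subgroup.mem_center_iff] at this
      exact this a
    obtain ⟨B, hB⟩ := RED_exists_index_eq_prime ↥τ.ker hab p hdvd
    let Z₀ : Subgroup Γ := B.map τ.ker.subtype
    have hZ₀le : Z₀ ≤ τ.ker := Subgroup.map_subtype_le B
    haveI hZ₀n : Z₀.Normal := by
      constructor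
      intro n hn g
      have hnc : n ∈ Subgroup.center Γ := hcen (hZ₀le hn)
      rw [Subgroup.mem_center_iff] at hnc
      rw [hnc g, mul_inv_cancel_right]
      exact hn
    let τ' : Γ ⧸ Z₀ →* G := QuotientGroup.lift Z₀ τ (fun x hx => hZ₀le hx)
    have hτ' : ∀ x : Γ, τ' (x : Γ ⧸ Z₀) = τ x := fun x => rfl
    have hsurj' : Function.Surjective τ' := by
      intro g
      obtain ⟨x, rfl⟩ := hsurj g
      exact ⟨(x : Γ ⧸ Z₀), hτ' x⟩
    have hkermem : ∀ q ∈ τ'.ker, ∃ x ∈ τ.ker, (x : Γ ⧸ Z₀) = q := by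
      intro q hq
      obtain ⟨x, rfl⟩ := QuotientGroup.mk_surjective q
      refine ⟨x, ?_, rfl⟩
      rw [MonoidHom.mem_ker] at hq ⊢
      rw [← hτ' x]
      exact hq
    refine h1 (Γ ⧸ Z₀) τ' ⟨hsurj', ?_, ?_⟩ ?_
    · intro q hq
      obtain ⟨x, hx, rfl⟩ := hkermem q hq
      rw [Subgroup.mem_center_iff]
      intro r
      obtain ⟨y, rfl⟩ := QuotientGroup.mk_surjective r
      have hxc := hcen hx
      rw [Subgroup.mem_center_iff] at hxc
      rw [← QuotientGroup.mk_mul, ← QuotientGroup.mk_mul, hxc y]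
    · intro q hq
      obtain ⟨x, hx, rfl⟩ := hkermem q hq
      have hxc : x ∈ commutator Γ := hcomm hx
      have h3 : (x : Γ ⧸ Z₀) ∈ (commutator Γ).map (QuotientGroup.mk' Z₀) := ⟨x, hxc, rfl⟩
      rw [commutator_def, Subgroup.map_commutator,
        Subgroup.map_top_of_surjective _ (QuotientGroup.mk'_surjective Z₀)] at h3
      rw [commutator_def]
      exact h3
    · -- cardinality of the kernel
      have e1 : Nat.card Γ = Nat.card (Γ ⧸ Z₀) * Nat.card Z₀ :=
        Subgroup.card_eq_card_quotient_mul_card_subgroup Z₀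
      have e2 : Nat.card τ.ker * Nat.card G = Nat.card Γ := by
        have := τ.ker.card_mul_index
        rwa [Subgroup.index_ker, MonoidHom.range_eq_top.mpr hsurj, Subgroup.card_top] at this
      have e3 : Nat.card τ'.ker * Nat.card G = Nat.card (Γ ⧸ Z₀) := by
        have := τ'.ker.card_mul_index
        rwa [Subgroup.index_ker, MonoidHom.range_eq_top.mpr hsurj', Subgroup.card_top] at this
      have e4 : Nat.card τ.ker = Nat.card Z₀ * p := by
        have := B.card_mul_index
        rw [hB] at this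
        rw [← this]
        congr 1
        exact (Subgroup.card_map_of_injective (Subgroup.subtype_injective _)).symm
      have hG : 0 < Nat.card G := Nat.card_pos
      have hZ : 0 < Nat.card Z₀ := Nat.card_pos
      have e5 : Nat.card Z₀ * Nat.card G * Nat.card τ'.ker = Nat.card Z₀ * Nat.card G * p := by
        calc Nat.card Z₀ * Nat.card G * Nat.card τ'.ker
            = (Nat.card τ'.ker * Nat.card G) * Nat.card Z₀ := by ring
          _ = Nat.card Γ := by rw [e3, ← e1]
          _ = Nat.card τ.ker * Nat.card G := e2.symm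
          _ = Nat.card Z₀ * Nat.card G * p := by rw [e4]; ring
      exact Nat.eq_of_mul_eq_mul_left (Nat.mul_pos hZ hG) e5
  · exact h2 Γ τ hstem ((Nat.Prime.coprime_iff_not_dvd Fact.out).mpr hdvd).symm

end Cfsg.Agent.Helper31.PsuM
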