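import Mathlib
import Cfsg.Agent.Helper46.RSp.Defs
import Cfsg.Agent.Helper13.SympGen2

/-!
# (PF), (PEN) for helper46's S2281 (n ≥ 3), relative to the facts of (UWA2) taken as hypotheses
-/

set_option autoImplicit false
set_option linter.unusedSectionVars false
set_option linter.unusedVariables false

namespace Cfsg.Agent.Helper31.RSp

open Matrix Cfsg.Agent.Helper13 Cfsg.Agent.Helper46.RSp

variable {K : Type*} [Field K] {j : ℕ}

local notation "Vec" => (Fin (j + 3) ⊕ Fin (j + 3) → K)
local notation "Mat" => Matrix (Fin (j + 3) ⊕ Fin (j + 3)) (Fin (j + 3) ⊕ Fin (j + 3)) K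
local notation "Mk" => Matrix (Fin (j + 3)) (Fin (j + 3)) K
local notation "SpG" => Matrix.symplecticGroup (Fin (j + 3)) K
local notation "B" => Cfsg.sympForm (j + 3) K

/-- own copy of the chain step `(STEP)` -/
theorem hasM_step' {H : Subgroup SpG} {M : Mat} (hM : HasM H M) {w y : Vec} {z : K}
    (hMw : M *ᵥ w = w) (hyw : B y w = 0) (hE : HasM H (eichS w y z)) :
    HasM H (eichS w (M *ᵥ y - y) (-(B y (M *ᵥ y)))) := by
  have h1 : HasM H (eichS w (M *ᵥ y) z) := by
    have := hasM_conj_eichS hM hE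
    rwa [hMw] at this
  have h2 : HasM H (eichS w (-y) (-z)) := HasM.eichS_inv hyw hE
  have hpres := (mem_symplecticGroup_iff_preserves M).mp hM.mem
  have hMyw : B (M *ᵥ y) w = 0 := by
    have := hpres y w
    rw [hMw] at this
    rw [this, hyw]
  have hnyw : B (-y) w = 0 := by rw [sympForm_neg_left, hyw, neg_zero]
  have h3 := h1.mul h2
  rw [eichS_mul _ _ hMyw hnyw] at h3
  refine h3.of_eq ?_
  congr 1
  · rw [sub_eq_add_neg]
  · rw [sympForm_neg_left]; ring

/-- the basis vectors `f_l` are orthogonal to `w = e_1` or `f_1` for `l ≥ 2` -/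
theorem form_bF_w {w : Vec} (hw : w = bE i1 ∨ w = bF i1) (l : Fin (j + 3)) (hl : 1 ≤ l.val) :
    B (bF l) w = 0 := by
  rcases hw with rfl | rfl
  · rw [form_bE_right, bF_apply_inr, if_neg]
    intro h
    have := congrArg Fin.val h
    simp [i1] at this
    omega
  · rw [form_bF_right, bF_apply_inl, neg_zero]

/-- (PF) from the facts `(UWA2)` -/
theorem pure_f_all_aux (c : K) {H : Subgroup SpG} (hUW : HasM H (UWM c)) {w : Vec}
    (hw : w = bE i1 ∨ w = bF i1) (hfix : UWM c *ᵥ w = w)
    (hbF : ∀ l : Fin (j + 3), 1 ≤ l.val → ∀ hl' : l.val < j + 2,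
      UWM c *ᵥ (bF l : Vec) = bF l - bF ⟨l.val + 1, by omega⟩)
    (h3 : ∀ t : K, HasM H (eichS w (t • bF i3) 0)) :
    ∀ l : Fin (j + 3), 2 ≤ l.val → ∀ t : K, HasM H (eichS w (t • bF l) 0) := by
  have key : ∀ n : ℕ, ∀ l : Fin (j + 3), l.val = n + 2 → ∀ t : K, HasM H (eichS w (t • bF l) 0) := by
    intro n
    induction n with
    | zero =>
      intro l hl t
      have : l = i3 := Fin.ext (by simp [i3, hl])
      rw [this]
      exact h3 t
    | succ n ih =>
      intro l hl t
      -- the predecessor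
      have hlt : n + 2 < j + 3 := by have := l.2; omega
      set l' : Fin (j + 3) := ⟨n + 2, hlt⟩ with hl'
      have hl'1 : 1 ≤ l'.val := by simp [hl']
      have hl'2 : l'.val < j + 2 := by have := l.2; simp [hl']; omega
      have hE := ih l' rfl (-t)
      have hyw : B ((-t) • bF l' : Vec) w = 0 := by
        rw [sympForm_smul_left, form_bF_w hw l' hl'1, mul_zero]
      have hs := hasM_step' hUW hfix hyw hE
      have hl_eq : l = ⟨l'.val + 1, by omega⟩ := Fin.ext (by simp [hl', hl])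
      refine hs.of_eq ?_
      rw [Matrix.mulVec_smul, hbF l' hl'1 hl'2, ← hl_eq]
      congr 1
      · module
      · rw [sympForm_smul_left, sympForm_smul_right, sympForm_sub_right, sympForm_self, zero_sub,
          form_bF_right, bF_apply_inl, neg_zero, neg_zero, mul_zero, mul_zero, neg_zero]
  intro l hl t
  exact key (l.val - 2) l (by omega) t

/-- (PEN) from the facts `(UWA2)` -/
theorem hasM_eN_aux (c : K) {H : Subgroup SpG} (hUW : HasM H (UWM c)) {w : Vec}
    (hw : w = bE i1 ∨ w = bF i1) (hfix : UWM c *ᵥ w = w)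
    (hbFN : UWM c *ᵥ (bF iN : Vec) = bF iN + c • sE)
    (hbEN : UWM c *ᵥ (bE iN : Vec) = sE)
    (hN : ∀ t : K, HasM H (eichS w (t • bF iN) 0)) :
    ∀ t : K, HasM H (eichS w ((t * c) • bE iN) (-(t ^ 2 * c))) := by
  intro t
  have hN1 : 1 ≤ (iN : Fin (j + 3)).val := by simp [iN]
  have hyw : B (t • bF iN : Vec) w = 0 := by
    rw [sympForm_smul_left, form_bF_w hw iN hN1, mul_zero]
  have hs := hasM_step' hUW hfix hyw (hN t)
  -- the step gives `E(w, (t c) sE, -t² c)`
  have hs' : HasM H (eichS w ((t * c) • sE) (-(t ^ 2 * c))) := by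
    refine hs.of_eq ?_
    rw [Matrix.mulVec_smul, hbFN]
    congr 1
    · module
    · rw [sympForm_smul_left, sympForm_smul_right, sympForm_add_right, sympForm_self, zero_add,
        sympForm_smul_right, form_bF_left]
      have : (sE : Vec) (Sum.inl iN) = 1 := by
        show (if 1 ≤ (iN : Fin (j + 3)).val then (1 : K) else 0) = 1
        rw [if_pos hN1]
      rw [this]; ring
  -- conjugate by the inverse of `UW'`
  obtain ⟨x, hx, hxm⟩ := hUW
  have hxi : HasM H ((x⁻¹ : SpG) : Mat) := hasM_coe (inv_mem hx)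
  have hinv : ((x⁻¹ : SpG) : Mat) * UWM c = 1 := by rw [← hxm]; exact coe_inv_mul x
  have h1 : ((x⁻¹ : SpG) : Mat) *ᵥ (sE : Vec) = bE iN := by
    rw [← hbEN, Matrix.mulVec_mulVec, hinv, Matrix.one_mulVec]
  have h2 : ((x⁻¹ : SpG) : Mat) *ᵥ w = w := by
    nth_rewrite 1 [← hfix]
    rw [Matrix.mulVec_mulVec, hinv, Matrix.one_mulVec]
  have h3 := hasM_conj_eichS hxi hs'
  rwa [h2, Matrix.mulVec_smul, h1] at h3

end Cfsg.Agent.Helper31.RSp
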