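import Mathlib
import Cfsg.Agent.Helper31.RSpAux
import Cfsg.Agent.Helper67.RSpUWA2

/-!
# (PF), (PEN) for helper46's S2281 (n ≥ 3) : Skel-verbatim statements
-/

set_option autoImplicit false
set_option linter.unusedSectionVars false
set_option linter.unusedVariables false

namespace Cfsg.Agent.Helper31.RSp

open Matrix Cfsg.Agent.Helper13 Cfsg.Agent.Helper46.RSp

variable {K : Type*} [Field K] {j : ℕ}

local notation "Vec" => (Fin (j + 3) ⊕ Fin (j + 3) → K)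
local notation "Mat" => Matrix (Fin (j + 3) ⊕ Fin (j + 3)) (Fin (j + 3) ⊕ Fin (j + 3)) K
local notation "Mk" => Matrix (Fin (j + 3)) (Fin (j + 3)) K
local notation "SpG" => Matrix.symplecticGroup (Fin (j + 3)) K
local notation "B" => Cfsg.sympForm (j + 3) K

theorem UWM_fix_w (c : K) {w : Vec} (hw : w = bE i1 ∨ w = bF i1) : UWM c *ᵥ w = w := by
  rcases hw with rfl | rfl
  · exact Cfsg.Agent.Helper67.RSp.UWM_bE1 c
  · exact Cfsg.Agent.Helper67.RSp.UWM_bF1 c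

/-- (PF) all pure `E(w, t f_l, 0)`, `l ≥ 3` -/
theorem pure_f_all (c : K) {H : Subgroup SpG} (hUW : HasM H (UWM c)) {w : Vec} (hw : w = bE i1 ∨ w = bF i1)
    (h3 : ∀ t : K, HasM H (eichS w (t • bF i3) 0)) :
    ∀ l : Fin (j + 3), 2 ≤ l.val → ∀ t : K, HasM H (eichS w (t • bF l) 0) :=
  pure_f_all_aux c hUW hw (UWM_fix_w c hw)
    (fun l h1 h2 => Cfsg.Agent.Helper67.RSp.UWM_bF c l h1 h2) h3

/-- (PEN) the non-pure elements over `e_n` -/
theorem hasM_eN (c : K) {H : Subgroup SpG} (hUW : HasM H (UWM c)) {w : Vec} (hw : w = bE i1 ∨ w = bF i1)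
    (hN : ∀ t : K, HasM H (eichS w (t • bF iN) 0)) :
    ∀ t : K, HasM H (eichS w ((t * c) • bE iN) (-(t ^ 2 * c))) :=
  hasM_eN_aux c hUW hw (UWM_fix_w c hw) (Cfsg.Agent.Helper67.RSp.UWM_bFN c)
    (by rw [Cfsg.Agent.Helper67.RSp.UWM_bE c iN (by simp [iN]), Cfsg.Agent.Helper67.RSp.pE_iN]) hN

end Cfsg.Agent.Helper31.RSp
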