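import Mathlib
import Cfsg.Agent.Helper77.Res.Defs
import Cfsg.Agent.Helper77.Blk.Defs
import Cfsg.Agent.Helper37.BlkK
import Cfsg.Agent.Helper30.BlkK2
import Cfsg.Agent.Helper90.BlkAG
import Cfsg.Agent.Helper63.BlkH1
import Cfsg.Agent.Helper75.BlkH2

/-!
# Piece (C1) `abelian_of_central` of helper77's S5289 skeleton (#14084).
-/

set_option autoImplicit false

universe u

namespace Cfsg.Agent.Helper31.Res

open Subgroup Cfsg.Agent.Helper77.Res

variable {Ω : Type u} [Group Ω] {p : ℕ} [hp : Fact p.Prime]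

/-- a nonabelian metacyclic `p`-group has a characteristic subgroup of order `p` (the subgroup of order `p` of the
cyclic derived subgroup). -/
theorem C1_char_line {G : Type u} [Group G] [Finite G] (hG : IsPGroup p G) (hmeta : Cfsg.IsMetacyclic G)
    (hna : commutator G ≠ ⊥) :
    ∃ L : Subgroup G, Nat.card L = p ∧ (∀ x ∈ L, x ^ p = 1) ∧ ∀ α : MulAut G, ∀ x ∈ L, α x ∈ L := by
  obtain ⟨N, hN, hNc, hQc⟩ := hmeta
  have hle : commutator G ≤ N := by
    letI : CommGroup (G ⧸ N) := IsCyclic.commGroup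
    have := Abelianization.commutator_subset_ker (QuotientGroup.mk' N)
    rwa [QuotientGroup.ker_mk'] at this
  haveI : IsCyclic ↥(commutator G) := isCyclic_of_le hle
  obtain ⟨c, hc⟩ := IsCyclic.exists_generator (α := ↥(commutator G))
  have hc1 : (c : G) ≠ 1 := by
    intro h
    apply hna
    rw [eq_bot_iff]
    intro x hx
    obtain ⟨j, hj⟩ := Subgroup.mem_zpowers_iff.mp (hc ⟨x, hx⟩)
    have hj' : (c : G) ^ j = x := by
      have := congrArg Subtype.val hj
      simpa using this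
    rw [Subgroup.mem_bot, ← hj', h, one_zpow]
  obtain ⟨k, hk⟩ := (IsPGroup.iff_orderOf.mp hG) (c : G)
  have hk1 : 1 ≤ k := by
    by_contra hlt
    have : k = 0 := by omega
    rw [this, pow_zero, orderOf_eq_one_iff] at hk
    exact hc1 hk
  set z : G := (c : G) ^ (p ^ (k - 1)) with hz
  have hzp : z ^ p = 1 := by
    rw [hz, ← pow_mul, ← pow_succ]
    have : k - 1 + 1 = k := by omega
    rw [this, ← hk, pow_orderOf_eq_one]
  have hz1 : z ≠ 1 := by
    apply pow_ne_one_of_lt_orderOf (pow_pos hp.out.pos _).ne'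
    rw [hk]
    exact Nat.pow_lt_pow_right hp.out.one_lt (by omega)
  have hzC : z ∈ commutator G := (commutator G).pow_mem c.2 _
  -- elements of `commutator G` of order dividing `p` are powers of `z`
  have hkey : ∀ y ∈ commutator G, y ^ p = 1 → y ∈ zpowers z := by
    intro y hy hyp
    obtain ⟨j, hj⟩ := Subgroup.mem_zpowers_iff.mp (hc ⟨y, hy⟩)
    have hj' : (c : G) ^ j = y := by
      have := congrArg Subtype.val hj
      simpa using this
    have h1 : (c : G) ^ (j * (p : ℤ)) = 1 := by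
      rw [zpow_mul, hj', zpow_natCast, hyp]
    have h2 : ((orderOf (c : G) : ℕ) : ℤ) ∣ j * (p : ℤ) := orderOf_dvd_iff_zpow_eq_one.mpr h1
    rw [hk] at h2
    have h3 : ((p ^ (k - 1) : ℕ) : ℤ) ∣ j := by
      have hpk : ((p ^ k : ℕ) : ℤ) = ((p ^ (k - 1) : ℕ) : ℤ) * (p : ℤ) := by
        rw [← Nat.cast_mul, ← pow_succ]
        congr 2
        omega
      rw [hpk] at h2
      exact Int.dvd_of_mul_dvd_mul_right (by exact_mod_cast hp.out.ne_zero) h2
    obtain ⟨j', rfl⟩ := h3
    rw [Subgroup.mem_zpowers_iff]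
    refine ⟨j', ?_⟩
    rw [← hj', hz, ← zpow_natCast, ← zpow_mul]
  refine ⟨zpowers z, ?_, ?_, ?_⟩
  · rw [Nat.card_zpowers]
    exact orderOf_eq_prime hzp hz1
  · intro x hx
    obtain ⟨j, rfl⟩ := Subgroup.mem_zpowers_iff.mp hx
    rw [← zpow_natCast, ← zpow_mul, mul_comm, zpow_mul, zpow_natCast, hzp, one_zpow]
  · intro α x hx
    obtain ⟨j, rfl⟩ := Subgroup.mem_zpowers_iff.mp hx
    rw [map_zpow]
    apply (zpowers z).zpow_mem
    apply hkey
    · have hchar : (commutator G).Characteristic := inferInstance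
      have := hchar.fixed α
      have h4 : z ∈ (commutator G).comap α.toMonoidHom := by rw [this]; exact hzC
      exact h4
    · rw [← map_pow, hzp, map_one]

section localcfg
variable {T P : Subgroup Ω} {A : Subgroup (MulAut ↥P)} {B : Subgroup (MulAut ↥T)}

/-- (C1) `R = Ω₁(P) ≅ C_p²` central in `P`, `A` not `p`-closed ⇒ `P` abelian. -/
theorem abelian_of_central (h5 : 5 ≤ p) (hc : Cfg p T P A B) (hnpc : ¬ PClosed T P A)
    (hRexp : ∀ r ∈ Cfsg.omegaOne p P, r ^ p = 1) (hRcard : Nat.card (Cfsg.omegaOne p P) = p ^ 2)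
    (hline : ∀ L : Subgroup Ω, L ≤ Cfsg.omegaOne p P → Nat.card L = p →
      (∀ α ∈ A, ∀ x : P, (x : Ω) ∈ L → ((α x : P) : Ω) ∈ L) → PClosed T P A)
    (hcen : ∀ r ∈ Cfsg.omegaOne p P, ∀ x ∈ P, r * x = x * r) : ∀ x ∈ P, ∀ y ∈ P, x * y = y * x := by
  have hp2 : p ≠ 2 := by omega
  haveI : Finite T := hc.fin
  haveI : Finite P := Finite.of_injective (Subgroup.inclusion hc.le) (Subgroup.inclusion_injective hc.le)
  have hPp : IsPGroup p P := hc.pgrp.to_le hc.le
  have hRP : Cfsg.omegaOne p P ≤ P := by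
    unfold Cfsg.omegaOne
    rw [Subgroup.closure_le]
    intro x hx
    exact hx.1
  have hmemR : ∀ c : P, c ^ p = 1 → (c : Ω) ∈ Cfsg.omegaOne p P := by
    intro c hcp
    apply Subgroup.subset_closure
    refine ⟨c.2, ?_⟩
    have := congrArg Subtype.val hcp
    simpa using this
  -- `↥P` is `p`-central
  have hPC : Cfsg.Agent.Helper77.Blk.PCentral p ↥P := by
    intro c hcp
    rw [Subgroup.mem_center_iff]
    intro g
    apply Subtype.ext
    show (g : Ω) * (c : Ω) = (c : Ω) * (g : Ω)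
    exact (hcen _ (hmemR c hcp) g g.2).symm
  have hK : Cfsg.Agent.Helper77.Blk.PropK.{u} p := Cfsg.Agent.Helper37.Blk.lemmaK hp2
  have hK2 : Cfsg.Agent.Helper77.Blk.PropK2.{u} p := Cfsg.Agent.Helper30.Blk.propK2 hp2 hK
  have hAG : Cfsg.Agent.Helper77.Blk.PropAG.{u} p := Cfsg.Agent.Helper90.Blk.propAG hp2 hK hK2
  have hH2 : Cfsg.Agent.Helper77.Blk.PropH2.{u} p :=
    Cfsg.Agent.Helper75.Blk.propH2 hp2 (Cfsg.Agent.Helper63.Blk.propH1 hp2)
  have hidx : (Cfsg.powerClosure p 1 (⊤ : Subgroup ↥P)).index ≤ p ^ 2 := by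
    have h1 := hAG ↥P hPp hPC ((Cfsg.omegaOne p P).subgroupOf P) (fun c hcp => by
      rw [Subgroup.mem_subgroupOf]
      exact hmemR c hcp)
    have h2 : Nat.card ((Cfsg.omegaOne p P).subgroupOf P) = p ^ 2 := by
      rw [← hRcard]
      exact Nat.card_congr (Subgroup.subgroupOfEquivOfLe hRP).toEquiv
    rwa [h2] at h1
  have hmeta : Cfsg.IsMetacyclic ↥P := hH2 ↥P hPp hidx
  -- the commutator subgroup is trivial
  have hcomm : commutator ↥P = ⊥ := by
    by_contra hna
    obtain ⟨L, hLcard, hLexp, hLinv⟩ := C1_char_line hPp hmeta hna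
    apply hnpc
    apply hline (L.map P.subtype)
    · rintro _ ⟨l, hl, rfl⟩
      exact hmemR l (hLexp l hl)
    · rw [Subgroup.card_map_of_injective (Subgroup.subtype_injective P)]
      exact hLcard
    · intro α _ x hx
      obtain ⟨l, hl, hlx⟩ := hx
      have : l = x := Subtype.ext hlx
      subst this
      exact ⟨α l, hLinv α l hl, rfl⟩
  have hcen' : Subgroup.center ↥P = ⊤ := (_root_.commutator_eq_bot_iff_center_eq_top ↥P).mp hcomm
  intro x hx y hy
  have h1 : (⟨x, hx⟩ : ↥P) ∈ Subgroup.center ↥P := by rw [hcen']; exact Subgroup.mem_top _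
  have h2 := Subgroup.mem_center_iff.mp h1 ⟨y, hy⟩
  exact (congrArg Subtype.val h2).symm

end localcfg

end Cfsg.Agent.Helper31.Res
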