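import Mathlib
import Cfsg.Agent.Helper77.Res.Defs
import Cfsg.Agent.Helper87.FusionBasic

/-!
# Pieces (GR) `rad_of_isRadical` and (G0) `normal_sylow_top` of helper77's S5289 skeleton (#14084).
-/

set_option autoImplicit false

universe u

namespace Cfsg.Agent.Helper31.Res

open Subgroup Cfsg.Agent.Helper77.Res

variable {Ω : Type u} [Group Ω] {p : ℕ} [hp : Fact p.Prime]

section glue
variable {S : Subgroup Ω} [Finite S]

open Cfsg Cfsg.FusionSystem Cfsg.Agent.Helper87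

/-- (GR) `F`-radical ⇒ `Rad`.  (A normal `p`-subgroup of `Aut_F(Q)` lies in `O_p(Aut_F(Q)) = Inn(Q)`.) -/
theorem rad_of_isRadical (hS : IsPGroup p S) (F : FusionSystem S) (Q : Subgroup Ω) (hQ : F.IsRadical p Q) :
    Rad p Q (F.autGroup Q) := by
  intro N hNA hNp hNn β hβ
  have hnormal : (N.subgroupOf (F.autGroup Q)).Normal := by
    refine ⟨fun n hn g => ?_⟩
    rw [Subgroup.mem_subgroupOf] at hn ⊢
    exact hNn g.1 g.2 n.1 hn
  have hp' : IsPGroup p (N.subgroupOf (F.autGroup Q)) := hNp.comap_subtype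
  have hle : N.subgroupOf (F.autGroup Q) ≤ pCore p (F.autGroup Q) := le_sSup ⟨hnormal, hp'⟩
  have hmem : (⟨β, hNA hβ⟩ : F.autGroup Q) ∈ pCore p (F.autGroup Q) := hle (by
    rw [Subgroup.mem_subgroupOf]; exact hβ)
  have hInn : β ∈ Inn Q := by
    rw [← hQ.2]
    exact ⟨⟨β, hNA hβ⟩, hmem, rfl⟩
  obtain ⟨q, rfl⟩ := hInn
  exact ⟨q, q.2, fun x => rfl⟩

/-- the only `F`-conjugate of `S` is `S`. -/
theorem G0_eq_of_isConj_top (F : FusionSystem S) {Q : Subgroup Ω} (h : F.IsConj S Q) : Q = S := by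
  obtain ⟨φ, hφ, rfl⟩ := h
  have hle : φ.range ≤ S := by
    rintro _ ⟨x, rfl⟩
    exact (F.le_of_mem hφ).2 x
  have hcard : Nat.card φ.range = Nat.card S :=
    (Nat.card_congr (MonoidHom.ofInjective (F.injective_of_mem hφ)).toEquiv).symm
  exact Subgroup.eq_of_le_of_card_ge hle (by rw [hcard])

/-- `Aut_S(S)` is normal in `Aut(S)`. -/
theorem G0_autInducedBy_self_normal (T : Subgroup Ω) : (autInducedBy T T).Normal := by
  refine ⟨fun α hα β => ?_⟩
  rw [mem_autInducedBy_iff] at hα ⊢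
  obtain ⟨g, hg, hgx⟩ := hα
  refine ⟨((β ⟨g, hg⟩ : T) : Ω), (β ⟨g, hg⟩).2, fun x => ?_⟩
  have h1 : α (β⁻¹ x) = ⟨g, hg⟩ * β⁻¹ x * (⟨g, hg⟩ : T)⁻¹ := Subtype.ext (by rw [hgx]; rfl)
  show ((β (α (β⁻¹ x)) : T) : Ω) = _
  rw [h1, map_mul, map_mul, map_inv, MulAut.apply_inv_self]
  rfl

/-- (G0) `Aut_F(S)` has a normal Sylow `p`-subgroup. -/
theorem normal_sylow_top (hS : IsPGroup p S) (F : FusionSystem S) (hF : F.IsSaturated p) :
    ∃ R : Sylow p ↥(F.autGroup S), (R : Subgroup ↥(F.autGroup S)).Normal := by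
  obtain ⟨Q, hconj, hQa, -⟩ := hF S le_rfl
  have hQ : Q = S := G0_eq_of_isConj_top F hconj
  subst hQ
  obtain ⟨-, R, hR⟩ := hQa
  refine ⟨R, ?_⟩
  rw [hR]
  have := G0_autInducedBy_self_normal Q
  exact Subgroup.Normal.subgroupOf this _

end glue

end Cfsg.Agent.Helper31.Res
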