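import Mathlib

/-!
# Piece (W4a) of helper47's plan for S3793 (Shult-Gross): the numerics of the exceptional case
-/

set_option autoImplicit false

namespace Cfsg.Agent.Helper31.SG

/-- W4a: the numerics forcing the exceptional case. -/
theorem numerics {p q b k : ℕ} (hp : p.Prime) (hp2 : p ≠ 2) (hq : q.Prime) (hb : 1 ≤ b)
    (hk : 1 ≤ k) (hle : q ^ (2 * k) ≤ (p ^ b - 1) ^ 2) (hdvd : q ^ (2 * k) ≡ 1 [MOD p ^ b]) :
    q = 2 ∧ p ^ b = 2 ^ k + 1 := by
  have hP1 : 1 ≤ p ^ b := Nat.one_le_pow _ _ hp.pos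
  have hA2 : 2 ≤ q ^ k := by
    calc 2 ≤ q := hq.two_le
      _ = q ^ 1 := (pow_one q).symm
      _ ≤ q ^ k := Nat.pow_le_pow_right hq.pos hk
  have hsq : q ^ (2 * k) = (q ^ k) ^ 2 := by rw [pow_mul']
  have hAle : q ^ k ≤ p ^ b - 1 := by
    rw [hsq] at hle
    exact (Nat.pow_le_pow_iff_left two_ne_zero).1 hle
  have hdvd' : p ^ b ∣ (q ^ k - 1) * (q ^ k + 1) := by
    have h1 : (q ^ k - 1) * (q ^ k + 1) = q ^ (2 * k) - 1 := by
      rw [hsq]
      obtain ⟨A, hA⟩ : ∃ A, q ^ k = A + 1 := ⟨q ^ k - 1, by omega⟩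
      rw [hA]
      have : (A + 1) ^ 2 - 1 = A * (A + 2) := by
        have : (A + 1) ^ 2 = A * (A + 2) + 1 := by ring
        omega
      rw [this]
      simp
    rw [h1]
    exact (Nat.modEq_iff_dvd' (Nat.one_le_pow _ _ hq.pos)).1 hdvd.symm
  have hpb : p ∣ p ^ b := dvd_pow_self p (by omega)
  have hkey : p ^ b = q ^ k + 1 := by
    by_cases h1 : p ∣ q ^ k - 1
    · exfalso
      have h2 : ¬ p ∣ q ^ k + 1 := by
        intro h2
        have h3 : p ∣ (q ^ k + 1) - (q ^ k - 1) := Nat.dvd_sub h2 h1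
        have h4 : (q ^ k + 1) - (q ^ k - 1) = 2 := by omega
        rw [h4] at h3
        have := (Nat.prime_dvd_prime_iff_eq hp Nat.prime_two).1 h3
        exact hp2 this
      have hc : (p ^ b).Coprime (q ^ k + 1) :=
        Nat.Coprime.pow_left _ ((Nat.Prime.coprime_iff_not_dvd hp).2 h2)
      have h5 : p ^ b ∣ q ^ k - 1 := hc.dvd_of_dvd_mul_right hdvd'
      have := Nat.le_of_dvd (by omega) h5
      omega
    · have hc : (p ^ b).Coprime (q ^ k - 1) :=
        Nat.Coprime.pow_left _ ((Nat.Prime.coprime_iff_not_dvd hp).2 h1)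
      have h5 : p ^ b ∣ q ^ k + 1 := hc.dvd_of_dvd_mul_left hdvd'
      have := Nat.le_of_dvd (by omega) h5
      omega
  have hodd : Odd (p ^ b) := (hp.odd_of_ne_two hp2).pow
  have heven : Even (q ^ k) := by
    obtain ⟨c, hc⟩ := hodd
    exact ⟨c, by omega⟩
  have hq2 : q = 2 := by
    have := (Nat.even_pow.1 heven).1
    exact (Nat.Prime.even_iff hq).1 this
  exact ⟨hq2, by rw [hkey, hq2]⟩

end Cfsg.Agent.Helper31.SG
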