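-- helper31: S2412 piece (B0e) for helper38 (#11641): the root groups `E(e_0, t f_j, 0)`, `E(e_0, t e_j, 0)`, `j ≠ 0`.
import Mathlib
import Cfsg.Agent.Helper38.SU2G.Defs

set_option autoImplicit false
set_option linter.unusedSectionVars false

namespace Cfsg.Agent.Helper31.SU2G

open Matrix Cfsg.Agent.Helper84.PSU Cfsg.Agent.Helper38.SU2G

variable {K : Type*} [Field K] {m r : ℕ}

local notation "Vec" => (I (m + 2) r → K)
local notation "Mat" => Matrix (I (m + 2) r) (I (m + 2) r) K

variable (bar : K →+* K) (hb : ∀ x, bar (bar x) = x)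

set_option quotPrecheck false in
local notation "SUk" => ↥(SUm (m + 2) r bar)

theorem hf_vE_vE (i j : Fin (m + 2)) : hf bar (vE i : Vec) (vE j) = 0 := hf_bv_ee bar i j
theorem hf_vF_vF (i j : Fin (m + 2)) : hf bar (vF i : Vec) (vF j) = 0 := hf_bv_ff bar i j
theorem hf_vE_vF (i j : Fin (m + 2)) : hf bar (vE i : Vec) (vF j) = if i = j then 1 else 0 :=
  hf_bv_ef bar i j
theorem hf_vF_vE (i j : Fin (m + 2)) : hf bar (vF i : Vec) (vE j) = if i = j then 1 else 0 :=
  hf_bv_fe bar i j

/-- `g = E(e_j, f_j', 0)` fixes `e_0` when `j' ≠ 0` -/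
theorem g_mulVec_e0 (j j' : Fin (m + 2)) (hj' : j' ≠ i0) :
    eichM bar (vE j) (vF j') 0 *ᵥ (vE i0 : Vec) = vE i0 := by
  rw [eichM_mulVec, hf_vE_vE, hf_vE_vF, if_neg (Ne.symm hj')]
  simp

/-- `g = E(e_j, f_j', 0)` maps `f_j ↦ f_j + f_j'` -/
theorem g_mulVec_fj (j j' : Fin (m + 2)) :
    eichM bar (vE j) (vF j') 0 *ᵥ (vF j : Vec) = vF j + vF j' := by
  rw [eichM_mulVec, hf_vF_vE, if_pos rfl, hf_vF_vF]
  simp

/-- `g = E(e_j, f_j', 0)` maps `e_j' ↦ e_j' - e_j` -/
theorem g_mulVec_ej' (j j' : Fin (m + 2)) :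
    eichM bar (vE j) (vF j') 0 *ᵥ (vE j' : Vec) = vE j' + -vE j := by
  rw [eichM_mulVec, hf_vE_vE, hf_vE_vF, if_pos rfl]
  simp [sub_eq_add_neg]

include hb in
/-- one step: an element of `L` fixing `u` and mapping `y ↦ y + y'` carries the root group of `(u, y)` to that of
`(u, y')` -/
theorem rgz_step {L : Subgroup SUk} {u y y' : Vec} {M : Mat} (hM : HasM bar L M) (hMu : M *ᵥ u = u)
    (hMy : M *ᵥ y = y + y') (huu : hf bar u u = 0) (hyu : hf bar y u = 0) (hy'u : hf bar y' u = 0)
    (hyy' : hf bar y (y + y') = 0) (h : RGz bar L u y) : RGz bar L u y' := by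
  intro t
  have h1 := hasM_conj_eichM bar L hM (h t)
  rw [hMu, Matrix.mulVec_smul, hMy] at h1
  have h2 := h (-t)
  have h3 := HasM.eich_mul bar hb huu
    (by rw [hf_smul_left, hf_add_left, hyu, hy'u]; ring)
    (by rw [hf_smul_left, hyu, mul_zero]) h1 h2
  refine h3.of_eq bar ?_
  have e1 : t • (y + y') + -t • y = t • y' := by module
  have e2 : (0 : K) + 0 - hf bar (-t • y) (t • (y + y')) = 0 := by
    rw [hf_smul_left, hf_smul_right, hyy']; ring
  rw [e1, e2]

theorem rgz_neg {L : Subgroup SUk} {u y : Vec} (h : RGz bar L u (-y)) : RGz bar L u y := by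
  intro t
  have := h (-t)
  rwa [smul_neg, neg_smul, neg_neg] at this

include hb in
/-- (B0e) -/
theorem b0e_piece (L : Subgroup SUk)
    (h1 : ∀ (i : Fin (m + 2)) (h : i.val + 1 < m + 2), RGz bar L (vE i) (vF ⟨i.val + 1, h⟩))
    (h2 : RGz bar L (vE il) (vE i0)) :
    (∀ j : Fin (m + 2), j ≠ i0 → RGz bar L (vE i0) (vF j)) ∧ (∀ j : Fin (m + 2), j ≠ i0 → RGz bar L (vE i0) (vE j)) := by
  -- the elements `g_j = E(e_j, f_{j+1}, 0)` of `L`
  have hg : ∀ (j : Fin (m + 2)) (h : j.val + 1 < m + 2),
      HasM bar L (eichM bar (vE j) (vF ⟨j.val + 1, h⟩) 0) := by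
    intro j h
    have := h1 j h 1
    rwa [one_smul] at this
  constructor
  · -- the `f_j`
    have key : ∀ n : ℕ, ∀ j : Fin (m + 2), j.val = n + 1 → RGz bar L (vE i0) (vF j) := by
      intro n
      induction n with
      | zero =>
        intro j hj
        have h0 := h1 i0 (by show 0 + 1 < m + 2; omega)
        have e : (⟨(i0 : Fin (m + 2)).val + 1, by show 0 + 1 < m + 2; omega⟩ : Fin (m + 2)) = j :=
          Fin.ext (by rw [hj]; rfl)
        rwa [e] at h0
      | succ n ih =>
        intro j hj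
        have hj2 := j.2
        set j' : Fin (m + 2) := ⟨n + 1, by omega⟩ with hj'
        have hlt : j'.val + 1 < m + 2 := by show n + 1 + 1 < m + 2; omega
        have e : (⟨j'.val + 1, hlt⟩ : Fin (m + 2)) = j := Fin.ext (by rw [hj])
        have hjne : j ≠ i0 := by
          intro h0
          have := congrArg Fin.val h0
          rw [hj] at this
          exact absurd this (by show n + 1 + 1 ≠ 0; omega)
        have hj'ne : j' ≠ i0 := by
          intro h0
          have := congrArg Fin.val h0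
          exact absurd this (by show n + 1 ≠ 0; omega)
        have hgj := hg j' hlt
        rw [e] at hgj
        refine rgz_step bar hb hgj (g_mulVec_e0 bar j' j hjne) (g_mulVec_fj bar j' j)
          (hf_vE_vE bar _ _) ?_ ?_ ?_ (ih j' rfl)
        · rw [hf_vF_vE, if_neg hj'ne]
        · rw [hf_vF_vE, if_neg hjne]
        · rw [hf_add_right, hf_vF_vF, hf_vF_vF, add_zero]
    intro j hj
    obtain ⟨n, hn⟩ : ∃ n, j.val = n + 1 := by
      have : j.val ≠ 0 := fun h => hj (Fin.ext h)
      exact ⟨j.val - 1, by omega⟩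
    exact key n j hn
  · -- the `e_j`
    have hlast : RGz bar L (vE i0) (vE il) := by
      intro t
      have h3 := h2 (-bar t)
      rw [eichM_swap, eichM_smul_left bar hb, mul_zero] at h3
      refine h3.of_eq bar ?_
      congr 1
      rw [map_neg, hb, smul_neg, neg_smul, neg_neg]
    have key : ∀ k : ℕ, ∀ j : Fin (m + 2), j.val + k = m + 1 → RGz bar L (vE i0) (vE j) := by
      intro k
      induction k with
      | zero =>
        intro j hj
        have e : j = il := Fin.ext (by rw [Nat.add_zero] at hj; rw [hj]; rfl)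
        rw [e]
        exact hlast
      | succ k ih =>
        intro j hj
        have hlt : j.val + 1 < m + 2 := by omega
        set j' : Fin (m + 2) := ⟨j.val + 1, hlt⟩ with hj'
        have hj'ne : j' ≠ i0 := by
          intro h0
          have := congrArg Fin.val h0
          exact absurd this (by show j.val + 1 ≠ 0; omega)
        have ih' := ih j' (by show j.val + 1 + k = m + 1; omega)
        apply rgz_neg
        refine rgz_step bar hb (hg j hlt) (g_mulVec_e0 bar j j' hj'ne) (g_mulVec_ej' bar j j')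
          (hf_vE_vE bar _ _) (hf_vE_vE bar _ _) ?_ ?_ ih'
        · rw [hf_neg_left, hf_vE_vE, neg_zero]
        · rw [hf_add_right, hf_neg_right, hf_vE_vE, hf_vE_vE, neg_zero, add_zero]
    intro j hj
    have hj2 := j.2
    exact key (m + 1 - j.val) j (by omega)

end Cfsg.Agent.Helper31.SU2G
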