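-- helper31: S2412 piece (TOP) for helper38 (#11651): a subgroup of the hyperbolic model `SUm (m + 2) r` of `SU_n(q)`
-- containing all unitary transvections is everything; port of helper72's `RUn.eq_top_of_tv`.
import Mathlib
import Cfsg.Prelude.Def_Classical
import Cfsg.Agent.Helper38.SU2G.Defs
import Cfsg.Agent.Helper84.RUn.Transfer
import Cfsg.Agent.Helper13.UGen9
import Cfsg.Agent.Helper72.RUnTOP

set_option autoImplicit false
set_option linter.unusedSectionVars false

namespace Cfsg.Agent.Helper31.SU2G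

open Matrix Cfsg.Agent.Helper84.PSU Cfsg.Agent.Helper38.SU2G

variable {K : Type*} [Field K] {m r : ℕ}

local notation "Vec" => (I (m + 2) r → K)
local notation "Mat" => Matrix (I (m + 2) r) (I (m + 2) r) K

variable (bar : K →+* K) (hb : ∀ x, bar (bar x) = x)

set_option quotPrecheck false in
local notation "SUk" => ↥(SUm (m + 2) r bar)

/-- (TOP) a subgroup of the hyperbolic model of `SU_n(q)` containing all unitary transvections is everything
(port of `Cfsg.Agent.Helper72.RUn.eq_top_of_tv` from `SUm (j + 2) 1` to `SUm (m + 2) r`). -/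
theorem top_piece [Fintype K] {q : ℕ} (hK : Fintype.card K = q ^ 2) (hq : ∀ x, bar x = x ^ q)
    (L : Subgroup SUk)
    (hL : ∀ (v : Vec) (z : K), hf bar v v = 0 → z + bar z = 0 → HasM bar L (eichM bar v 0 z)) : L = ⊤ := by
  obtain ⟨φ, e, P, P', hPP', hP'P, hsf, hφ⟩ := Cfsg.Agent.Helper84.RUn.exists_transfer_n hK bar hq (m + 2) r
  have h32 : ¬ (2 * (m + 2) + r = 3 ∧ q = 2) := by
    rintro ⟨h, _⟩
    omega
  have hgen := Cfsg.Agent.Helper13.closure_tvSet_eq_top (n := 2 * (m + 2) + r) hK h32
  -- the image of `H` contains all transvections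
  have hsub : Cfsg.Agent.Helper13.tvSet (2 * (m + 2) + r) K q ⊆
      ((L.map φ.toMonoidHom : Subgroup (Cfsg.SU (2 * (m + 2) + r) K q)) : Set _) := by
    rintro A ⟨v, c, hv, hA⟩
    by_cases hv0 : v = 0
    · have hA1 : A = 1 := by
        apply Cfsg.Agent.Helper13.suMat_injective
        rw [Cfsg.Agent.Helper13.suMat_one]
        have hA' : Cfsg.Agent.Helper13.suMat A = Cfsg.unitaryTransvection (2 * (m + 2) + r) q v c := hA
        rw [hA', hv0]
        apply Cfsg.Agent.Helper13.mat_ext_mulVec
        intro x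
        rw [Cfsg.Agent.Helper13.unitaryTransvection_mulVec, smul_zero, add_zero, Matrix.one_mulVec]
      rw [hA1]
      exact Subgroup.one_mem _
    · have hc : c + c ^ q = 0 := Cfsg.Agent.Helper72.RUn.TOP_trace_zero hK A v c hv hv0 hA
      -- the vector of the model
      set v' : Vec := P' *ᵥ (v ∘ e) with hv'
      have hPv' : P *ᵥ v' = v ∘ e := by
        rw [hv', Matrix.mulVec_mulVec, hPP', Matrix.one_mulVec]
      have hfv' : hf bar v' v' = 0 := by
        rw [← hsf, hPv', ← hermForm_eq_sf bar e q hq, hv]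
      have hz : c + bar c = 0 := by rw [hq]; exact hc
      obtain ⟨x, hxH, hx⟩ := hL v' c hfv' hz
      refine ⟨x, hxH, ?_⟩
      apply Cfsg.Agent.Helper13.suMat_injective
      have hA' : Cfsg.Agent.Helper13.suMat A = Cfsg.unitaryTransvection (2 * (m + 2) + r) q v c := hA
      have hφx : Cfsg.Agent.Helper13.suMat (φ.toMonoidHom x) =
          (P * mt bar x * P').submatrix e.symm e.symm := hφ x
      rw [hA', hφx, hx]
      apply Cfsg.Agent.Helper13.mat_ext_mulVec
      intro u
      have hcomp : ∀ a b : Fin (2 * (m + 2) + r) → K, a ∘ e = b ∘ e → a = b := by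
        intro a b hab
        funext i
        have := congrFun hab (e.symm i)
        simpa using this
      apply hcomp
      have h1 := psiM_mulVec e P P' (eichM bar v' 0 c) u
      unfold psiM at h1
      rw [h1, Cfsg.Agent.Helper13.unitaryTransvection_mulVec]
      -- compute the left side
      have h2 : (P * eichM bar v' 0 c * P') *ᵥ (u ∘ e) =
          P *ᵥ (eichM bar v' 0 c *ᵥ (P' *ᵥ (u ∘ e))) := by
        rw [Matrix.mulVec_mulVec, Matrix.mulVec_mulVec, Matrix.mul_assoc]
      rw [h2, eichM_mulVec, hf_zero_right, zero_smul, smul_zero, add_zero, sub_zero,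
        Matrix.mulVec_add, Matrix.mulVec_smul, hPv', Matrix.mulVec_mulVec, hPP', Matrix.one_mulVec]
      have h3 : hf bar (P' *ᵥ (u ∘ e)) v' = Cfsg.hermForm (2 * (m + 2) + r) K q u v := by
        rw [← hsf, hPv', Matrix.mulVec_mulVec, hPP', Matrix.one_mulVec,
          ← hermForm_eq_sf bar e q hq]
      rw [h3]
      funext i
      simp only [Pi.add_apply, Pi.smul_apply, Function.comp_apply, smul_eq_mul]
  have hle : (⊤ : Subgroup (Cfsg.SU (2 * (m + 2) + r) K q)) ≤ L.map φ.toMonoidHom := by
    rw [← hgen]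
    exact (Subgroup.closure_le _).mpr hsub
  rw [eq_top_iff]
  intro g _
  obtain ⟨x, hx, hxg⟩ := hle (Subgroup.mem_top (φ g))
  have : x = g := φ.injective hxg
  rw [← this]
  exact hx


end Cfsg.Agent.Helper31.SU2G
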