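import Mathlib
import Cfsg.Prelude.Def_Local
import Cfsg.Prelude.Def_SolvableStructure
import Cfsg.Agent.Helper71.SchDefs
import Cfsg.Agent.Helper11.PSolvable
import Cfsg.Agent.Helper54.PConstrained
import Cfsg.Agent.Helper54.PLength
import Cfsg.Agent.Helper54.BG36Plumb
import Cfsg.Agent.Helper63.PSeriesTools
import Cfsg.Agent.Lib.Cores
import Cfsg.Agent.Helper50.SchB2
import Cfsg.Agent.Helper50.SchB3a

set_option autoImplicit false

/-! # Piece (B3b) of S4394: the case `|S : Z(S)| ≠ p ^ 2` -/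

namespace Cfsg.Agent.Helper31.SchB3b

open scoped commutatorElement
open Cfsg Cfsg.Agent.Helper71.Sch

theorem commutatorElement_mul_left' {G : Type*} [Group G] (a b c : G) :
    ⁅a * b, c⁆ = a * ⁅b, c⁆ * a⁻¹ * ⁅a, c⁆ := by
  simp only [commutatorElement_def]
  group

/-- The abstract form: `R` a normal self-centralizing `p`-subgroup of index `p` in `S`, with the facts (B2) and
(B3a) as hypotheses. -/
theorem false_of_big_aux {Γ : Type*} [Group Γ] [Finite Γ] {p : ℕ} [Fact p.Prime]
    (R S : Subgroup Γ) [R.Normal] (hRS : R ≤ S) (hRp : IsPGroup p R)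
    (hC : Subgroup.centralizer (R : Set Γ) ≤ R) (hS : SchIn p S)
    (hidx : Nat.card S = p * Nat.card R)
    (hbig : Nat.card S ≠ p ^ 2 * Nat.card ↥(S ⊓ Subgroup.centralizer (S : Set Γ)))
    (hZ : Nat.card ↥(S ⊓ Subgroup.centralizer (S : Set Γ)) = p)
    (u : Γ) (huR : u ∈ R) (huS : u ∉ Subgroup.centralizer (S : Set Γ))
    (hB2 : ∀ N : Subgroup Γ, N.Normal → N ≤ R → (∀ r ∈ R, ∀ a ∈ S, ⁅r, a⁆ ∈ N) →
      (∀ n ∈ N, ∀ a ∈ S, a * n = n * a) → S ≤ R) : False := by
  classical
  have hp : p.Prime := Fact.out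
  have hCS : Subgroup.centralizer (S : Set Γ) ≤ R :=
    (Subgroup.centralizer_le (by exact_mod_cast hRS)).trans hC
  have hZeq : S ⊓ Subgroup.centralizer (S : Set Γ) = Subgroup.centralizer (S : Set Γ) :=
    inf_eq_right.mpr (hCS.trans hRS)
  have hRpos : 0 < Nat.card R := Nat.card_pos
  have hRne : R ≠ S := by
    intro h
    rw [h] at hidx
    have hSpos : 0 < Nat.card S := Nat.card_pos
    have : 1 * Nat.card S = p * Nat.card S := by rw [one_mul]; exact hidx
    have h1 : 1 = p := Nat.eq_of_mul_eq_mul_right hSpos this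
    exact hp.one_lt.ne h1
  by_cases hab : ⁅R, R⁆ = ⊥
  · -- `R` is abelian
    have hRab : ∀ a ∈ R, ∀ b ∈ R, a * b = b * a := by
      intro a ha b hb
      have h1 := Subgroup.commutator_eq_bot_iff_le_centralizer.mp hab ha
      exact (Subgroup.mem_centralizer_iff.mp h1 b hb).symm
    -- an element of `S` outside `R`
    have hx : ∃ x ∈ S, x ∉ R := by
      by_contra h
      push Not at h
      exact hRne (le_antisymm hRS h)
    obtain ⟨x, hxS, hxR⟩ := hx
    -- `S = R ⊔ ⟨x⟩`
    have hTS : R ⊔ Subgroup.zpowers x ≤ S := sup_le hRS (Subgroup.zpowers_le.mpr hxS)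
    have hST : S ≤ R ⊔ Subgroup.zpowers x := by
      obtain ⟨a, ha⟩ := Subgroup.card_dvd_of_le (le_sup_left : R ≤ R ⊔ Subgroup.zpowers x)
      obtain ⟨b, hb⟩ := Subgroup.card_dvd_of_le hTS
      have hab' : a * b = p := by
        have h1 : Nat.card R * (a * b) = Nat.card R * p := by
          rw [← mul_assoc, ← ha, ← hb, hidx, mul_comm]
        exact Nat.eq_of_mul_eq_mul_left hRpos h1
      have ha1 : a ≠ 1 := by
        intro h
        rw [h, mul_one] at ha
        have h2 : R = R ⊔ Subgroup.zpowers x := Subgroup.eq_of_le_of_card_ge le_sup_left ha.le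
        apply hxR
        rw [h2]
        exact le_sup_right (a := R) (Subgroup.mem_zpowers x)
      have hap : a = p := by
        have hdvd : a ∣ p := ⟨b, hab'.symm⟩
        rcases (Nat.dvd_prime hp).mp hdvd with h | h
        · exact absurd h ha1
        · exact h
      have hb1 : b = 1 := by
        rw [hap] at hab'
        have : p * b = p * 1 := by rw [hab', mul_one]
        exact Nat.eq_of_mul_eq_mul_left hp.pos this
      rw [hb1, mul_one] at hb
      have h3 : R ⊔ Subgroup.zpowers x = S := Subgroup.eq_of_le_of_card_ge hTS hb.le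
      exact h3.ge
    -- elements of `R` commuting with `x` are central in `S`
    have hker : ∀ w ∈ R, w * x = x * w → w ∈ Subgroup.centralizer (S : Set Γ) := by
      intro w hw hwx
      have hle : S ≤ Subgroup.centralizer ({w} : Set Γ) := by
        refine hST.trans (sup_le ?_ (Subgroup.zpowers_le.mpr ?_))
        · intro r hr
          rw [Subgroup.mem_centralizer_singleton_iff]
          exact hRab r hr w hw
        · rw [Subgroup.mem_centralizer_singleton_iff]
          exact hwx.symm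
      rw [Subgroup.mem_centralizer_iff]
      intro s hs
      exact Subgroup.mem_centralizer_singleton_iff.mp (hle hs)
    -- the commutator homomorphism
    have hval : ∀ w : R, ⁅(w : Γ), x⁆ ∈ S ⊓ Subgroup.centralizer (S : Set Γ) := by
      intro w
      rw [hZeq]
      exact hS.comm_mem _ (hRS w.2) x hxS
    have hmul : ∀ w w' : R, ⁅((w * w' : R) : Γ), x⁆ = ⁅(w : Γ), x⁆ * ⁅(w' : Γ), x⁆ := by
      intro w w'
      have h1 : ⁅(w' : Γ), x⁆ ∈ Subgroup.centralizer (S : Set Γ) := hS.comm_mem _ (hRS w'.2) x hxS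
      have h2 : ⁅(w : Γ), x⁆ ∈ S := by
        have := hval w
        exact this.1
      have h3 : (w : Γ) * ⁅(w' : Γ), x⁆ = ⁅(w' : Γ), x⁆ * (w : Γ) :=
        Subgroup.mem_centralizer_iff.mp h1 _ (hRS w.2)
      have h4 : ⁅(w : Γ), x⁆ * ⁅(w' : Γ), x⁆ = ⁅(w' : Γ), x⁆ * ⁅(w : Γ), x⁆ :=
        Subgroup.mem_centralizer_iff.mp h1 _ h2
      rw [Subgroup.coe_mul, commutatorElement_mul_left', h3, mul_assoc ⁅(w' : Γ), x⁆, mul_inv_cancel, mul_one,
        h4]
    let f : ↥R →* ↥(S ⊓ Subgroup.centralizer (S : Set Γ)) :=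
      { toFun := fun w => ⟨⁅(w : Γ), x⁆, hval w⟩
        map_one' := by
          apply Subtype.ext
          show ⁅((1 : R) : Γ), x⁆ = 1
          rw [Subgroup.coe_one, commutatorElement_one_left]
        map_mul' := fun w w' => Subtype.ext (hmul w w') }
    have hfker : Nat.card f.ker ≤ p := by
      rw [← hZ]
      refine Nat.card_le_card_of_injective
        (fun w : f.ker => (⟨((w : R) : Γ), ?_⟩ : ↥(S ⊓ Subgroup.centralizer (S : Set Γ)))) ?_
      · have hw : f (w : R) = 1 := w.2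
        have h1 : ⁅((w : R) : Γ), x⁆ = 1 := congrArg Subtype.val hw
        have h2 : ((w : R) : Γ) * x = x * ((w : R) : Γ) := commutatorElement_eq_one_iff_mul_comm.mp h1
        exact ⟨hRS (w : R).2, hker _ (w : R).2 h2⟩
      · intro a b hab'
        have h5 := congrArg Subtype.val hab'
        have h6 : ((a : R) : Γ) = ((b : R) : Γ) := h5
        exact Subtype.ext (Subtype.ext h6)
    have hfrange : Nat.card f.range ≤ p := by
      rw [← hZ]
      exact Nat.le_of_dvd Nat.card_pos (Subgroup.card_subgroup_dvd_card f.range)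
    have hRle : Nat.card R ≤ p ^ 2 := by
      have e1 := Subgroup.index_ker f
      have e2 := Subgroup.card_mul_index f.ker
      rw [e1] at e2
      rw [← e2, pow_two]
      exact Nat.mul_le_mul hfker hfrange
    -- `|R| = p ^ 2`
    have huZ : u ∉ S ⊓ Subgroup.centralizer (S : Set Γ) := fun h => huS h.2
    have hZR : S ⊓ Subgroup.centralizer (S : Set Γ) ≤ R := by
      rw [hZeq]
      exact hCS
    have hRgt : ¬ Nat.card R ≤ p := by
      intro h
      rw [← hZ] at h
      have h2 : S ⊓ Subgroup.centralizer (S : Set Γ) = R := Subgroup.eq_of_le_of_card_ge hZR h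
      apply huZ
      rw [h2]
      exact huR
    obtain ⟨k, hk⟩ := IsPGroup.iff_card.mp hRp
    have hk2 : k = 2 := by
      rcases k with _ | _ | k
      · exfalso
        apply hRgt
        rw [hk, pow_zero]
        exact hp.one_lt.le
      · exfalso
        apply hRgt
        rw [hk, pow_one]
      · rw [hk] at hRle
        have := (Nat.pow_le_pow_iff_right hp.one_lt).mp hRle
        omega
    apply hbig
    rw [hidx, hk, hk2, hZ]
    ring
  · -- `R` is nonabelian
    have hNn : (⁅R, R⁆ : Subgroup Γ).Normal := inferInstance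
    have hNR : ⁅R, R⁆ ≤ R := by
      rw [Subgroup.commutator_le]
      intro a ha b hb
      rw [commutatorElement_def]
      exact R.mul_mem (R.mul_mem (R.mul_mem ha hb) (R.inv_mem ha)) (R.inv_mem hb)
    have hNC : ⁅R, R⁆ ≤ Subgroup.centralizer (S : Set Γ) := by
      rw [Subgroup.commutator_le]
      intro a ha b hb
      exact hS.comm_mem a (hRS ha) b (hRS hb)
    have hNZ : ⁅R, R⁆ ≤ S ⊓ Subgroup.centralizer (S : Set Γ) := le_inf (hNR.trans hRS) hNC
    have hNcard : Nat.card (⁅R, R⁆ : Subgroup Γ) = p := by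
      have hdvd := Subgroup.card_dvd_of_le hNZ
      rw [hZ] at hdvd
      rcases (Nat.dvd_prime hp).mp hdvd with h | h
      · exact absurd (Subgroup.card_eq_one.mp h) hab
      · exact h
    have hNeq : ⁅R, R⁆ = S ⊓ Subgroup.centralizer (S : Set Γ) :=
      Subgroup.eq_of_le_of_card_ge hNZ (by rw [hNcard, hZ])
    have hSR : S ≤ R := by
      apply hB2 ⁅R, R⁆ hNn hNR
      · intro r hr a ha
        rw [hNeq]
        refine ⟨?_, hS.comm_mem r (hRS hr) a ha⟩
        rw [commutatorElement_def]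
        exact S.mul_mem (S.mul_mem (S.mul_mem (hRS hr) ha) (S.inv_mem (hRS hr))) (S.inv_mem ha)
      · intro n hn a ha
        exact Subgroup.mem_centralizer_iff.mp (hNC hn) a ha
    exact hRne (le_antisymm hRS hSR)

/-- (B3b), with (B2) and (B3a) as explicit hypotheses. -/
theorem false_of_big' {Γ : Type*} [Group Γ] [Finite Γ] {p : ℕ} [Fact p.Prime]
    (hB2 : ∀ (N A : Subgroup Γ) [N.Normal], N ≤ Cfsg.pCore p Γ →
      (∀ r ∈ Cfsg.pCore p Γ, ∀ a ∈ A, ⁅r, a⁆ ∈ N) → (∀ n ∈ N, ∀ a ∈ A, a * n = n * a) →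
      A ≤ Cfsg.pCore p Γ)
    (hC : Subgroup.centralizer (Cfsg.pCore p Γ : Set Γ) ≤ Cfsg.pCore p Γ)
    (S : Sylow p Γ) (hS : SchIn p (S : Subgroup Γ))
    (hB3a : Nat.card ↥((S : Subgroup Γ) ⊓ Subgroup.centralizer ((S : Subgroup Γ) : Set Γ)) = p ∧
      ∃ u ∈ Cfsg.pCore p Γ, u ∈ Subgroup.centralizer (Cfsg.pCore p Γ : Set Γ) ∧
        u ∉ Subgroup.centralizer ((S : Subgroup Γ) : Set Γ))
    (hidx : Nat.card (S : Subgroup Γ) = p * Nat.card (Cfsg.pCore p Γ))
    (hbig : Nat.card (S : Subgroup Γ) ≠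
      p ^ 2 * Nat.card ↥((S : Subgroup Γ) ⊓ Subgroup.centralizer ((S : Subgroup Γ) : Set Γ))) :
    False := by
  obtain ⟨hZ, u, huR, -, huS⟩ := hB3a
  exact false_of_big_aux (Cfsg.pCore p Γ) (S : Subgroup Γ) (Cfsg.Agent.Lib.pCore_le_sylow S)
    (Cfsg.Agent.Lib.isPGroup_pCore p) hC hS hidx hbig hZ u huR huS
    (fun N hN hNR h1 h2 => by
      have := hN
      exact hB2 N (S : Subgroup Γ) hNR h1 h2)

/-- **(B3b)** the case `|S : Z(S)| ≠ p ^ 2`. -/
theorem false_of_big {Γ : Type*} [Group Γ] [Finite Γ] {p : ℕ} [Fact p.Prime]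
    (hC : Subgroup.centralizer (Cfsg.pCore p Γ : Set Γ) ≤ Cfsg.pCore p Γ)
    (S : Sylow p Γ) (hS : SchIn p (S : Subgroup Γ))
    (hidx : Nat.card (S : Subgroup Γ) = p * Nat.card (Cfsg.pCore p Γ))
    (hbig : Nat.card (S : Subgroup Γ) ≠
      p ^ 2 * Nat.card ↥((S : Subgroup Γ) ⊓ Subgroup.centralizer ((S : Subgroup Γ) : Set Γ))) :
    False :=
  false_of_big' (fun N A _ hNR h1 h2 => Cfsg.Agent.Helper50.Sch.le_pCore_of_stabilizes hC N A hNR h1 h2)
    hC S hS (Cfsg.Agent.Helper50.Sch.card_center_eq hC S hS hidx) hidx hbig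

end Cfsg.Agent.Helper31.SchB3b
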