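import Mathlib
import Cfsg.Prelude.Def_Local
import Cfsg.Prelude.Def_SolvableStructure
import Cfsg.Agent.Helper71.SchDefs
import Cfsg.Agent.Helper11.PSolvable
import Cfsg.Agent.Helper54.PConstrained
import Cfsg.Agent.Helper54.PLength
import Cfsg.Agent.Helper54.BG36Plumb
import Cfsg.Agent.Helper63.PSeriesTools
import Cfsg.Agent.Lib.Cores

set_option autoImplicit false

/-! # Piece (C1) of S4394: the image of a Sylow `p`-subgroup modulo `O_{p'}(G)` -/

namespace Cfsg.Agent.Helper31.SchC1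

open scoped commutatorElement
open Cfsg

/-- (C1) the image of a Sylow `p`-subgroup in `G / O_{p'}(G)`. -/
theorem exists_sylow_quotient_equiv {G : Type*} [Group G] [Finite G] {p : ℕ} [Fact p.Prime]
    (Q : Sylow p G) :
    ∃ Q' : Sylow p (G ⧸ Cfsg.pPrimeCore p G),
      Nonempty (↥(Q' : Subgroup (G ⧸ Cfsg.pPrimeCore p G)) ≃* ↥(Q : Subgroup G)) := by
  have hsurj : Function.Surjective (QuotientGroup.mk' (Cfsg.pPrimeCore p G)) :=
    QuotientGroup.mk'_surjective _
  refine ⟨Q.mapSurjective hsurj, ?_⟩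
  have hinj : Function.Injective ((QuotientGroup.mk' (Cfsg.pPrimeCore p G)).comp (Q : Subgroup G).subtype) := by
    rw [injective_iff_map_eq_one]
    intro x hx
    have hxN : (x : G) ∈ Cfsg.pPrimeCore p G := by
      have : (QuotientGroup.mk' (Cfsg.pPrimeCore p G)) (x : G) = 1 := hx
      rwa [QuotientGroup.mk'_apply, QuotientGroup.eq_one_iff] at this
    obtain ⟨k, hk⟩ := Q.isPGroup' x
    have h1 : orderOf (x : G) ∣ p ^ k := by
      rw [Subgroup.orderOf_coe]
      exact orderOf_dvd_of_pow_eq_one hk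
    have h2 : orderOf (x : G) ∣ Nat.card (Cfsg.pPrimeCore p G) := by
      have := orderOf_dvd_natCard (⟨(x : G), hxN⟩ : Cfsg.pPrimeCore p G)
      rwa [Subgroup.orderOf_mk] at this
    have hcop : (Nat.card (Cfsg.pPrimeCore p G)).Coprime (p ^ k) :=
      Nat.Coprime.pow_right k (Cfsg.Agent.Lib.card_pPrimeCore_coprime p)
    have h3 : orderOf (x : G) = 1 := Nat.eq_one_of_dvd_coprimes hcop h2 h1
    exact Subtype.ext (orderOf_eq_one_iff.mp h3)
  have hrange : ((QuotientGroup.mk' (Cfsg.pPrimeCore p G)).comp (Q : Subgroup G).subtype).range =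
      ((Q.mapSurjective hsurj : Sylow p (G ⧸ Cfsg.pPrimeCore p G)) :
        Subgroup (G ⧸ Cfsg.pPrimeCore p G)) := by
    rw [MonoidHom.range_comp, Subgroup.range_subtype]
    rfl
  exact ⟨((MonoidHom.ofInjective hinj).trans (MulEquiv.subgroupCongr hrange)).symm⟩

end Cfsg.Agent.Helper31.SchC1
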