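import Mathlib
import Cfsg.Agent.Helper1.ShultDefs
import Cfsg.Agent.Helper31.WardW34
import Cfsg.Agent.Helper2.Basic
import Cfsg.Agent.Helper63.Frattini

/-!
# Shult's theorem for `S₃` (S4305), piece (Br): Lemma B from the minimal configuration
-/

set_option autoImplicit false

namespace Cfsg.Agent.Helper31.Shult

open Subgroup Cfsg.Agent.Helper1.Shult
open scoped commutatorElement

universe u

section aux

variable {H : Type*} [Group H]

theorem conj_mem_of_mem_normalizer {g : H} {X : Subgroup H} (hg : g ∈ normalizer (X : Set H))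
    {x : H} (hx : x ∈ X) : g * x * g⁻¹ ∈ X :=
  (mem_normalizer_iff.1 hg x).1 hx

theorem map_conj_eq_of_mem_normalizer {g : H} {X : Subgroup H}
    (hg : g ∈ normalizer (X : Set H)) : X.map (MulAut.conj g).toMonoidHom = X := by
  ext y
  constructor
  · rintro ⟨x, hx, rfl⟩
    exact conj_mem_of_mem_normalizer hg hx
  · intro hy
    refine ⟨g⁻¹ * y * g, ?_, ?_⟩
    · have := (mem_normalizer_iff.1 hg (g⁻¹ * y * g)).2
      apply this
      have e : g * (g⁻¹ * y * g) * g⁻¹ = y := by group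
      rw [e]
      exact hy
    · show g * (g⁻¹ * y * g) * g⁻¹ = y
      group

theorem mem_normalizer_of_map_conj_eq {g : H} {X : Subgroup H}
    (h : X.map (MulAut.conj g).toMonoidHom = X) : g ∈ normalizer (X : Set H) := by
  rw [mem_normalizer_iff]
  intro x
  constructor
  · intro hx
    rw [← h]
    exact ⟨x, hx, rfl⟩
  · intro hx
    rw [← h] at hx
    obtain ⟨y, hy, hyx⟩ := hx
    have : y = x := by
      have h1 : g * y * g⁻¹ = g * x * g⁻¹ := hyx
      have := congrArg (fun z => g⁻¹ * z * g) h1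
      simpa [mul_assoc] using this
    rw [← this]
    exact hy

theorem normalizer_commutator {g : H} {X Y : Subgroup H} (hX : g ∈ normalizer (X : Set H))
    (hY : g ∈ normalizer (Y : Set H)) : g ∈ normalizer ((⁅X, Y⁆ : Subgroup H) : Set H) := by
  apply mem_normalizer_of_map_conj_eq
  rw [map_commutator, map_conj_eq_of_mem_normalizer hX, map_conj_eq_of_mem_normalizer hY]

theorem normalizer_inf {g : H} {X Y : Subgroup H} (hX : g ∈ normalizer (X : Set H))
    (hY : g ∈ normalizer (Y : Set H)) : g ∈ normalizer ((X ⊓ Y : Subgroup H) : Set H) := by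
  rw [mem_normalizer_iff]
  intro x
  rw [mem_inf, mem_inf, ← mem_normalizer_iff.1 hX x, ← mem_normalizer_iff.1 hY x]

theorem normalizer_centralizer {g : H} {X : Subgroup H} (hX : g ∈ normalizer (X : Set H)) :
    g ∈ normalizer ((centralizer (X : Set H) : Subgroup H) : Set H) := by
  have key : ∀ g : H, g ∈ normalizer (X : Set H) → ∀ c ∈ centralizer (X : Set H),
      g * c * g⁻¹ ∈ centralizer (X : Set H) := by
    intro g hg c hc
    rw [mem_centralizer_iff] at hc ⊢
    intro x hx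
    have hx' : g⁻¹ * x * g ∈ X := by
      have := conj_mem_of_mem_normalizer (inv_mem hg) hx
      simpa using this
    have := hc _ hx'
    calc x * (g * c * g⁻¹) = g * ((g⁻¹ * x * g) * c) * g⁻¹ := by group
      _ = g * (c * (g⁻¹ * x * g)) * g⁻¹ := by rw [this]
      _ = g * c * g⁻¹ * x := by group
  rw [mem_normalizer_iff]
  intro c
  constructor
  · exact key g hX c
  · intro h
    have := key g⁻¹ (inv_mem hX) _ h
    simpa [mul_assoc] using this

theorem inv_inf {σ τ : H} {X Y : Subgroup H} (hX : Inv σ τ X) (hY : Inv σ τ Y) :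
    Inv σ τ (X ⊓ Y) := ⟨normalizer_inf hX.1 hY.1, normalizer_inf hX.2 hY.2⟩

theorem inv_commutator {σ τ : H} {X Y : Subgroup H} (hX : Inv σ τ X) (hY : Inv σ τ Y) :
    Inv σ τ ⁅X, Y⁆ := ⟨normalizer_commutator hX.1 hY.1, normalizer_commutator hX.2 hY.2⟩

theorem inv_centralizer {σ τ : H} {X : Subgroup H} (hX : Inv σ τ X) :
    Inv σ τ (centralizer (X : Set H)) := ⟨normalizer_centralizer hX.1, normalizer_centralizer hX.2⟩

theorem fix_mono {σ τ : H} {X Y : Subgroup H} (h : X ≤ Y) : Fix σ τ X ≤ Fix σ τ Y :=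
  inf_le_inf_right _ h

/-- the elements of exponent `q` of an abelian subgroup -/
def omega (q : ℕ) (Q : Subgroup H) (hQab : ∀ x ∈ Q, ∀ y ∈ Q, x * y = y * x) : Subgroup H where
  carrier := {x | x ∈ Q ∧ x ^ q = 1}
  one_mem' := ⟨Q.one_mem, one_pow q⟩
  mul_mem' := by
    rintro x y ⟨hx, hxq⟩ ⟨hy, hyq⟩
    refine ⟨Q.mul_mem hx hy, ?_⟩
    have hc : Commute x y := hQab x hx y hy
    rw [hc.mul_pow, hxq, hyq, one_mul]
  inv_mem' := by
    rintro x ⟨hx, hxq⟩
    exact ⟨Q.inv_mem hx, by rw [inv_pow, hxq, inv_one]⟩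

theorem mem_omega {q : ℕ} {Q : Subgroup H} {hQab : ∀ x ∈ Q, ∀ y ∈ Q, x * y = y * x} {x : H} :
    x ∈ omega q Q hQab ↔ x ∈ Q ∧ x ^ q = 1 := Iff.rfl

theorem omega_le {q : ℕ} {Q : Subgroup H} {hQab : ∀ x ∈ Q, ∀ y ∈ Q, x * y = y * x} :
    omega q Q hQab ≤ Q := fun _ hx => hx.1

theorem normalizer_omega [Finite H] {q : ℕ} {Q : Subgroup H}
    {hQab : ∀ x ∈ Q, ∀ y ∈ Q, x * y = y * x} {g : H} (hg : g ∈ normalizer (Q : Set H)) :
    g ∈ normalizer ((omega q Q hQab : Subgroup H) : Set H) := by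
  apply mem_normalizer_fintype
  rintro x ⟨hx, hxq⟩
  refine ⟨conj_mem_of_mem_normalizer hg hx, ?_⟩
  rw [conj_pow, hxq, mul_one, mul_inv_cancel]

theorem le_centralizer_comm {X Y : Subgroup H} (h : X ≤ centralizer (Y : Set H)) :
    Y ≤ centralizer (X : Set H) := by
  intro y hy
  rw [mem_centralizer_iff]
  intro x hx
  have := mem_centralizer_iff.1 (h hx) y hy
  exact this.symm

end aux


section aux2

variable {H : Type*} [Group H]

theorem normalizer_sup {g : H} {X Y : Subgroup H} (hX : g ∈ normalizer (X : Set H))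
    (hY : g ∈ normalizer (Y : Set H)) : g ∈ normalizer ((X ⊔ Y : Subgroup H) : Set H) := by
  apply mem_normalizer_of_map_conj_eq
  rw [Subgroup.map_sup, map_conj_eq_of_mem_normalizer hX, map_conj_eq_of_mem_normalizer hY]

theorem inv_sup {σ τ : H} {X Y : Subgroup H} (hX : Inv σ τ X) (hY : Inv σ τ Y) :
    Inv σ τ (X ⊔ Y) := ⟨normalizer_sup hX.1 hY.1, normalizer_sup hX.2 hY.2⟩

/-- the subgroup generated by the `p`-th powers of the elements of `P` -/
def powSub (p : ℕ) (P : Subgroup H) : Subgroup H := closure {y | ∃ x ∈ P, y = x ^ p}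

theorem pow_mem_powSub {p : ℕ} {P : Subgroup H} {x : H} (hx : x ∈ P) : x ^ p ∈ powSub p P :=
  subset_closure ⟨x, hx, rfl⟩

theorem powSub_le {p : ℕ} {P : Subgroup H} : powSub p P ≤ P := by
  unfold powSub
  rw [closure_le]
  rintro _ ⟨x, hx, rfl⟩
  exact P.pow_mem hx p

theorem normalizer_powSub [Finite H] {p : ℕ} {P : Subgroup H} {g : H}
    (hg : g ∈ normalizer (P : Set H)) : g ∈ normalizer ((powSub p P : Subgroup H) : Set H) := by
  have key : ∀ z ∈ closure {y | ∃ x ∈ P, y = x ^ p}, g * z * g⁻¹ ∈ powSub p P := by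
    intro z hz
    induction hz using closure_induction with
    | mem y hy =>
      obtain ⟨x, hx, rfl⟩ := hy
      rw [← conj_pow]
      exact pow_mem_powSub (conj_mem_of_mem_normalizer hg hx)
    | one => simp
    | mul a b _ _ iha ihb =>
      have : g * (a * b) * g⁻¹ = (g * a * g⁻¹) * (g * b * g⁻¹) := by group
      rw [this]
      exact mul_mem iha ihb
    | inv a _ iha =>
      have : g * a⁻¹ * g⁻¹ = (g * a * g⁻¹)⁻¹ := by group
      rw [this]
      exact inv_mem iha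
  apply mem_normalizer_fintype
  intro z hz
  exact key z hz

theorem commutator_le_of_le_normalizer {X Y : Subgroup H} (h : Y ≤ normalizer (X : Set H)) :
    ⁅X, Y⁆ ≤ X := by
  rw [commutator_le]
  intro x hx y hy
  have : ⁅x, y⁆ = x * (y * x⁻¹ * y⁻¹) := by rw [commutatorElement_def]; group
  rw [this]
  exact mul_mem hx (conj_mem_of_mem_normalizer (h hy) (inv_mem hx))

end aux2


section main

variable {H : Type u} [Group H] [Finite H]

theorem card_lt_of_le_of_ne {X Y : Subgroup H} (hle : X ≤ Y) (hne : X ≠ Y) :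
    Nat.card X < Nat.card Y :=
  lt_of_le_of_ne (Subgroup.card_le_of_le hle)
    (fun h => hne (Subgroup.eq_of_le_of_card_ge hle h.ge))

/-- the hypotheses of Lemma B on `P`, `Q` for a fixed module `W` -/
structure BHyp (p q : ℕ) (σ τ : H) (P Q W : Subgroup H) : Prop where
  hP : IsPGroup p P
  hQ : IsPGroup q Q
  hQab : ∀ x ∈ Q, ∀ y ∈ Q, x * y = y * x
  hPinv : Inv σ τ P
  hQinv : Inv σ τ Q
  hPQ : P ≤ normalizer (Q : Set H)
  hPW : P ≤ normalizer (W : Set H)
  hQW : Q ≤ normalizer (W : Set H)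
  hfaith : Q ⊓ centralizer (W : Set H) = ⊥
  hfixQ : Fix σ τ Q = ⊥
  hfixP : Fix σ τ P = ⊥

omit [Finite H] in
theorem BHyp.subQ {p q : ℕ} {σ τ : H} {P Q W Q' : Subgroup H} (hb : BHyp p q σ τ P Q W)
    (hQ'Q : Q' ≤ Q) (hinv : Inv σ τ Q') (hPQ' : P ≤ normalizer (Q' : Set H)) :
    BHyp p q σ τ P Q' W where
  hP := hb.hP
  hQ := hb.hQ.to_le hQ'Q
  hQab := fun x hx y hy => hb.hQab x (hQ'Q hx) y (hQ'Q hy)
  hPinv := hb.hPinv
  hQinv := hinv
  hPQ := hPQ'
  hPW := hb.hPW
  hQW := hQ'Q.trans hb.hQW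
  hfaith := eq_bot_iff.2 (by rw [← hb.hfaith]; exact inf_le_inf_right _ hQ'Q)
  hfixQ := eq_bot_iff.2 (by rw [← hb.hfixQ]; exact fix_mono hQ'Q)
  hfixP := hb.hfixP

omit [Finite H] in
theorem BHyp.subP {p q : ℕ} {σ τ : H} {P Q W P' : Subgroup H} (hb : BHyp p q σ τ P Q W)
    (hP'P : P' ≤ P) (hinv : Inv σ τ P') : BHyp p q σ τ P' Q W where
  hP := hb.hP.to_le hP'P
  hQ := hb.hQ
  hQab := hb.hQab
  hPinv := hinv
  hQinv := hb.hQinv
  hPQ := hP'P.trans hb.hPQ
  hPW := hP'P.trans hb.hPW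
  hQW := hb.hQW
  hfaith := hb.hfaith
  hfixQ := hb.hfixQ
  hfixP := eq_bot_iff.2 (by rw [← hb.hfixP]; exact fix_mono hP'P)

/-- in a finite `p`-group `P`, a subgroup that together with the commutators and the `p`-th powers
generates `P` is `P` -/
theorem eq_of_sup_commutator_powSub {p : ℕ} [Fact p.Prime] {P C : Subgroup H} (hP : IsPGroup p P)
    (hCP : C ≤ P) (h : C ⊔ ⁅P, P⁆ ⊔ powSub p P = P) : C = P := by
  have : Group.IsNilpotent P := hP.isNilpotent
  have h1 : ⁅P, P⁆ ≤ (frattini P).map P.subtype := by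
    rw [← Subgroup.map_subtype_commutator]
    exact Subgroup.map_mono Cfsg.Agent.Helper2.commutator_le_frattini
  have h2 : powSub p P ≤ (frattini P).map P.subtype := by
    unfold powSub
    rw [closure_le]
    rintro _ ⟨x, hx, rfl⟩
    exact ⟨(⟨x, hx⟩ : P) ^ p, Cfsg.Agent.Helper63.pow_prime_mem_frattini hP _, rfl⟩
  have h3 : P ≤ C ⊔ (frattini P).map P.subtype := by
    calc P = C ⊔ ⁅P, P⁆ ⊔ powSub p P := h.symm
      _ ≤ C ⊔ (frattini P).map P.subtype := by
        rw [sup_assoc]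
        exact sup_le_sup_left (sup_le h1 h2) _
  have hΦP : (frattini P).map P.subtype ≤ P := by
    rintro _ ⟨x, -, rfl⟩
    exact x.2
  have h4 : C.subgroupOf P ⊔ frattini P = ⊤ := by
    have e : ((frattini P).map P.subtype).subgroupOf P = frattini P :=
      Subgroup.comap_map_eq_self_of_injective P.subtype_injective _
    rw [← e, ← Subgroup.subgroupOf_sup hCP hΦP, Subgroup.subgroupOf_eq_top]
    exact h3
  have h5 : C.subgroupOf P = ⊤ := frattini_nongenerating h4
  exact le_antisymm hCP (Subgroup.subgroupOf_eq_top.1 h5)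


theorem lemmaB_key
    (hmin : ∀ (H : Type u) [Group H] [Finite H] (p q r : ℕ) [Fact p.Prime] [Fact q.Prime]
      [Fact r.Prime] (σ τ : H) (P Q W CP : Subgroup H), BCfg p q r σ τ P Q W CP → False)
    (p q r : ℕ) [Fact p.Prime] [Fact q.Prime] [Fact r.Prime] (σ τ : H) (W : Subgroup H)
    (hS : S3Pair σ τ) (hp2 : p ≠ 2) (hp3 : p ≠ 3) (hq2 : q ≠ 2) (hq3 : q ≠ 3) (hr2 : r ≠ 2)
    (hr3 : r ≠ 3) (hpq : p ≠ q) (hqr : q ≠ r) (hW : IsEA r W) (hWr : IsPGroup r W)
    (hWinv : Inv σ τ W) (hfixW : Fix σ τ W = ⊥) :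
    ∀ n : ℕ, ∀ P Q : Subgroup H, Nat.card Q + Nat.card P = n → BHyp p q σ τ P Q W →
      P ≤ centralizer (Q : Set H) := by
  intro n
  induction n using Nat.strong_induction_on with
  | _ n ih =>
  intro P Q hn hb
  by_contra hnot
  have IH : ∀ P' Q' : Subgroup H, Nat.card Q' + Nat.card P' < Nat.card Q + Nat.card P →
      BHyp p q σ τ P' Q' W → P' ≤ centralizer (Q' : Set H) := by
    intro P' Q' hlt hb'
    exact ih _ (hn ▸ hlt) P' Q' rfl hb'
  have hcop : (Nat.card Q).Coprime (Nat.card P) :=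
    IsPGroup.coprime_card_of_ne q p hpq.symm Q P hb.hQ hb.hP
  obtain ⟨hsplit1, hsplit2⟩ := Ward.abelian_coprime_split Q P hb.hQab hb.hPQ hcop
  have hQP_le : ⁅Q, P⁆ ≤ Q := commutator_le_of_le_normalizer hb.hPQ
  have hne : ⁅Q, P⁆ ≠ ⊥ := by
    intro h
    rw [commutator_eq_bot_iff_le_centralizer] at h
    exact hnot (le_centralizer_comm h)
  have hPP : P ≤ normalizer (P : Set H) := le_normalizer
  -- (i) `Q` has exponent `q`
  have hQexp : ∀ x ∈ Q, x ^ q = 1 := by
    by_contra hex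
    have hQ1ne : omega q Q hb.hQab ≠ Q := by
      intro h
      apply hex
      intro x hx
      rw [← h] at hx
      exact hx.2
    have hlt : Nat.card (omega q Q hb.hQab) < Nat.card Q := card_lt_of_le_of_ne omega_le hQ1ne
    have hPQ1 : P ≤ normalizer ((omega q Q hb.hQab : Subgroup H) : Set H) :=
      fun g hg => normalizer_omega (hb.hPQ hg)
    have hinv1 : Inv σ τ (omega q Q hb.hQab) :=
      ⟨normalizer_omega hb.hQinv.1, normalizer_omega hb.hQinv.2⟩
    have h1 := IH P (omega q Q hb.hQab) (by omega) (hb.subQ omega_le hinv1 hPQ1)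
    have h1' : omega q Q hb.hQab ≤ centralizer (P : Set H) := le_centralizer_comm h1
    have hq' : IsPGroup q (⁅Q, P⁆ : Subgroup H) := hb.hQ.to_le hQP_le
    have hcard : q ∣ Nat.card (⁅Q, P⁆ : Subgroup H) := by
      rcases hq'.card_eq_or_dvd with h | h
      · exact absurd (Subgroup.card_eq_one.1 h) hne
      · exact h
    obtain ⟨x, hx⟩ := exists_prime_orderOf_dvd_card' q hcard
    have hxQ : (x : H) ∈ Q := hQP_le x.2
    have hxq : (x : H) ^ q = 1 := by
      have := pow_orderOf_eq_one x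
      rw [hx] at this
      have h2 := congrArg Subtype.val this
      simpa using h2
    have hx1 : (x : H) ∈ omega q Q hb.hQab := ⟨hxQ, hxq⟩
    have hx2 : (x : H) ∈ (Q ⊓ centralizer (P : Set H)) ⊓ ⁅Q, P⁆ := ⟨⟨hxQ, h1' hx1⟩, x.2⟩
    rw [hsplit2, mem_bot] at hx2
    have hx3 : x = 1 := Subtype.ext hx2
    rw [hx3, orderOf_one] at hx
    exact (Fact.out : q.Prime).one_lt.ne hx
  -- (ii) `Q = [Q, P]` and `C_Q(P) = 1`
  have hQP_inv : Inv σ τ ⁅Q, P⁆ := inv_commutator hb.hQinv hb.hPinv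
  have hP_QP : P ≤ normalizer ((⁅Q, P⁆ : Subgroup H) : Set H) :=
    fun g hg => normalizer_commutator (hb.hPQ hg) (hPP hg)
  have hQPeq : ⁅Q, P⁆ = Q := by
    by_contra hneq
    have hlt := card_lt_of_le_of_ne hQP_le hneq
    have h1 := IH P ⁅Q, P⁆ (by omega) (hb.subQ hQP_le hQP_inv hP_QP)
    have h1' : ⁅Q, P⁆ ≤ centralizer (P : Set H) := le_centralizer_comm h1
    apply hne
    rw [eq_bot_iff, ← hsplit2]
    exact le_inf (le_inf hQP_le h1') le_rfl
  have hCQP : Q ⊓ centralizer (P : Set H) = ⊥ := by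
    rw [eq_bot_iff, ← hsplit2, hQPeq]
    exact le_inf le_rfl inf_le_left
  -- (iii) `P / C_P(Q)` is elementary abelian and irreducible
  have hCPle : P ⊓ centralizer (Q : Set H) ≤ P := inf_le_left
  have hCPne : P ⊓ centralizer (Q : Set H) ≠ P := by
    intro h
    apply hnot
    rw [← h]
    exact inf_le_right
  have hCPinv : Inv σ τ (P ⊓ centralizer (Q : Set H)) :=
    inv_inf hb.hPinv (inv_centralizer hb.hQinv)
  have hPirr : ∀ P0 : Subgroup H, P ⊓ centralizer (Q : Set H) ≤ P0 → P0 ≤ P → Inv σ τ P0 →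
      P0 = P ⊓ centralizer (Q : Set H) ∨ P0 = P := by
    intro P0 h0 h1 hinv
    by_cases h : P0 = P
    · exact Or.inr h
    · left
      have hlt := card_lt_of_le_of_ne h1 h
      have h2 := IH P0 Q (by omega) (hb.subP h1 hinv)
      exact le_antisymm (le_inf h1 h2) h0
  have hstar_inv : Inv σ τ (P ⊓ centralizer (Q : Set H) ⊔ ⁅P, P⁆ ⊔ powSub p P) :=
    inv_sup (inv_sup hCPinv (inv_commutator hb.hPinv hb.hPinv))
      ⟨normalizer_powSub hb.hPinv.1, normalizer_powSub hb.hPinv.2⟩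
  have hstar_le : P ⊓ centralizer (Q : Set H) ⊔ ⁅P, P⁆ ⊔ powSub p P ≤ P :=
    sup_le (sup_le hCPle (commutator_le_of_le_normalizer hPP)) powSub_le
  have hstar : P ⊓ centralizer (Q : Set H) ⊔ ⁅P, P⁆ ⊔ powSub p P =
      P ⊓ centralizer (Q : Set H) := by
    rcases hPirr _ (le_sup_of_le_left le_sup_left) hstar_le hstar_inv with h | h
    · exact h
    · exact absurd (eq_of_sup_commutator_powSub hb.hP hCPle h) hCPne
  have hPcomm : ∀ x ∈ P, ∀ y ∈ P, x * y * x⁻¹ * y⁻¹ ∈ P ⊓ centralizer (Q : Set H) := by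
    intro x hx y hy
    have h1 : ⁅P, P⁆ ≤ P ⊓ centralizer (Q : Set H) :=
      (le_sup_of_le_left le_sup_right).trans hstar.le
    have h2 : ⁅x, y⁆ ∈ ⁅P, P⁆ := commutator_mem_commutator hx hy
    rw [commutatorElement_def] at h2
    exact h1 h2
  have hPpow : ∀ x ∈ P, x ^ p ∈ P ⊓ centralizer (Q : Set H) := by
    intro x hx
    have h1 : powSub p P ≤ P ⊓ centralizer (Q : Set H) := le_sup_right.trans hstar.le
    exact h1 (pow_mem_powSub hx)
  -- (iv) replace `W` by `[W, Q]`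
  have hWab := hW.1
  have hW1le : ⁅W, Q⁆ ≤ W := commutator_le_of_le_normalizer hb.hQW
  have hcopWQ : ∀ X : Subgroup H, X ≤ Q → (Nat.card W).Coprime (Nat.card X) := fun X hX =>
    IsPGroup.coprime_card_of_ne r q hqr.symm W X hWr (hb.hQ.to_le hX)
  have hfaith1 : Q ⊓ centralizer ((⁅W, Q⁆ : Subgroup H) : Set H) = ⊥ := by
    rw [eq_bot_iff]
    rintro x ⟨hxQ, hxC⟩
    rw [mem_bot]
    have hXQ : zpowers x ≤ Q := by rw [zpowers_le]; exact hxQ
    obtain ⟨hs1, hs2⟩ := Ward.abelian_coprime_split W (zpowers x) hWab (hXQ.trans hb.hQW)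
      (hcopWQ _ hXQ)
    have hXC : zpowers x ≤ centralizer ((⁅W, Q⁆ : Subgroup H) : Set H) := by
      rw [zpowers_le]; exact hxC
    have hWX : ⁅W, zpowers x⁆ ≤ ⁅W, Q⁆ := commutator_mono le_rfl hXQ
    have h1 : ⁅W, zpowers x⁆ ≤ centralizer ((zpowers x : Subgroup H) : Set H) :=
      hWX.trans (le_centralizer_comm hXC)
    have h2 : ⁅W, zpowers x⁆ ≤ W := hWX.trans hW1le
    have h3 : ⁅W, zpowers x⁆ = ⊥ := by
      rw [eq_bot_iff, ← hs2]
      exact le_inf (le_inf h2 h1) le_rfl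
    rw [commutator_eq_bot_iff_le_centralizer] at h3
    have h4 : zpowers x ≤ centralizer (W : Set H) := le_centralizer_comm h3
    have h5 : x ∈ Q ⊓ centralizer (W : Set H) := ⟨hxQ, h4 (mem_zpowers x)⟩
    rwa [hb.hfaith, mem_bot] at h5
  have hWQ1 : ⁅W, Q⁆ ⊓ centralizer (Q : Set H) = ⊥ := by
    obtain ⟨-, hs2⟩ := Ward.abelian_coprime_split W Q hWab hb.hQW (hcopWQ Q le_rfl)
    rw [eq_bot_iff, ← hs2]
    exact le_inf (inf_le_inf_right _ hW1le) inf_le_left
  exact hmin H p q r σ τ P Q ⁅W, Q⁆ (P ⊓ centralizer (Q : Set H))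
    { hS := hS
      hp2 := hp2
      hp3 := hp3
      hq2 := hq2
      hq3 := hq3
      hr2 := hr2
      hr3 := hr3
      hpq := hpq
      hqr := hqr
      hP := hb.hP
      hQ := hb.hQ
      hQea := ⟨hb.hQab, hQexp⟩
      hW := ⟨fun u hu v hv => hW.1 u (hW1le hu) v (hW1le hv), fun w hw => hW.2 w (hW1le hw)⟩
      hWr := hWr.to_le hW1le
      hPinv := hb.hPinv
      hQinv := hb.hQinv
      hWinv := inv_commutator hWinv hb.hQinv
      hPQ := hb.hPQ
      hPW := fun g hg => normalizer_commutator (hb.hPW hg) (hb.hPQ hg)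
      hQW := fun g hg => normalizer_commutator (hb.hQW hg) (le_normalizer hg)
      hfaith := hfaith1
      hfixW := eq_bot_iff.2 (by rw [← hfixW]; exact fix_mono hW1le)
      hfixQ := hb.hfixQ
      hfixP := hb.hfixP
      hCQP := hCQP
      hCP := rfl
      hCPne := hCPne
      hPcomm := hPcomm
      hPpow := hPpow
      hPirr := hPirr
      hWQ := hWQ1 }

end main

/-- (Br) Lemma B from the minimal configuration. -/
theorem lemmaB_of_min
    (hmin : ∀ (H : Type u) [Group H] [Finite H] (p q r : ℕ) [Fact p.Prime] [Fact q.Prime]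
      [Fact r.Prime] (σ τ : H) (P Q W CP : Subgroup H), BCfg p q r σ τ P Q W CP → False) :
    LemmaBStmt.{u} := by
  intro H _ _ p q r _ _ _ σ τ P Q W hS hp2 hp3 hq2 hq3 hr2 hr3 hpq hqr hP hQ hQab hW hWr hPinv
    hQinv hWinv hPQ hPW hQW hfaith hfixW hfixQ hfixP
  exact lemmaB_key hmin p q r σ τ W hS hp2 hp3 hq2 hq3 hr2 hr3 hpq hqr hW hWr hWinv hfixW _ P Q rfl
    ⟨hP, hQ, hQab, hPinv, hQinv, hPQ, hPW, hQW, hfaith, hfixQ, hfixP⟩

end Cfsg.Agent.Helper31.Shult
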