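import Mathlib
import Cfsg.Agent.Helper86.Spec4.DefsU
import Cfsg.Agent.Helper53.Spec4Common

/-!
# (N2) for helper86's S2511 (#10766): `root_pow_of_unitary`

`τ = AdjoinRoot.lift (algebraMap ∘ bar) root⁻¹` is well defined since `phiM s` is injective and carries
`(μ.map bar)(root⁻¹)` to `(μ.map bar)(dag s) = dag (μ(s)) = 0`; it is an involution extending `bar`, so the
hypothesis `G` gives `τ y = y ^ (q ^ d)` with `d` odd; `τ root = root⁻¹`.
-/

set_option autoImplicit false

namespace Cfsg.Agent.Helper31.Spec4U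

open Matrix Polynomial Cfsg.Agent.Helper86.Spec4

variable {F : Type*} [Field F] [Fintype F] {q n : ℕ}

/-- (N2) for a unitary `s` with irreducible minimal polynomial `f` of degree `d`: in `AdjoinRoot f`,
`root ^ (q^d + 1) = 1`, and `d` is odd. -/
theorem root_pow_of_unitary (hF : Fintype.card F = q ^ 2) (bar : F →+* F)
    (hbar : ∀ x, bar x = x ^ q) (hn : 1 ≤ n) (s : Matrix (Fin n) (Fin n) F)
    (hs : dag bar s * s = 1) [Fact (Irreducible (minpoly F s))]
    (G : ∀ (τ : AdjoinRoot (minpoly F s) →+* AdjoinRoot (minpoly F s)), (∀ y, τ (τ y) = y) →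
      (∀ c : F, τ (algebraMap F _ c) = algebraMap F _ (c ^ q)) →
      Odd (Module.finrank F (AdjoinRoot (minpoly F s))) ∧
        ∀ y, τ y = y ^ (q ^ Module.finrank F (AdjoinRoot (minpoly F s)))) :
    Odd (minpoly F s).natDegree ∧
      (AdjoinRoot.root (minpoly F s)) ^ (q ^ (minpoly F s).natDegree + 1) = 1 := by
  have hφinj : Function.Injective (Cfsg.Agent.Helper53.Spec4.phiM s) :=
    Cfsg.Agent.Helper53.Spec4.phiM_injective hn s
  have hφroot : Cfsg.Agent.Helper53.Spec4.phiM s (AdjoinRoot.root (minpoly F s)) = s :=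
    Cfsg.Agent.Helper53.Spec4.phiM_root s
  have hbb : ∀ x, bar (bar x) = x := by
    intro x
    rw [hbar, hbar, ← pow_mul, ← sq, ← hF, FiniteField.pow_card]
  -- `root ≠ 0`
  have hroot0 : AdjoinRoot.root (minpoly F s) ≠ 0 := by
    intro h0
    have h1 : s = 0 := by
      have := hφroot
      rw [h0, map_zero] at this
      exact this.symm
    rw [h1, Matrix.mul_zero] at hs
    have : Nonempty (Fin n) := ⟨⟨0, hn⟩⟩
    exact zero_ne_one hs
  -- `φ root⁻¹ = dag s`
  have hφinv : Cfsg.Agent.Helper53.Spec4.phiM s (AdjoinRoot.root (minpoly F s))⁻¹ = dag bar s := by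
    have h1 : Cfsg.Agent.Helper53.Spec4.phiM s (AdjoinRoot.root (minpoly F s))⁻¹ *
        Cfsg.Agent.Helper53.Spec4.phiM s (AdjoinRoot.root (minpoly F s)) = 1 := by
      rw [← map_mul, inv_mul_cancel₀ hroot0, map_one]
    rw [hφroot] at h1
    have h2 : s * dag bar s = 1 := mul_eq_one_comm.mp hs
    calc Cfsg.Agent.Helper53.Spec4.phiM s (AdjoinRoot.root (minpoly F s))⁻¹
        = Cfsg.Agent.Helper53.Spec4.phiM s (AdjoinRoot.root (minpoly F s))⁻¹ * (s * dag bar s) := by
          rw [h2, Matrix.mul_one]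
      _ = dag bar s := by rw [← Matrix.mul_assoc, h1, Matrix.one_mul]
  -- the evaluation vanishes
  have hev : (minpoly F s).eval₂ ((algebraMap F (AdjoinRoot (minpoly F s))).comp bar)
      (AdjoinRoot.root (minpoly F s))⁻¹ = 0 := by
    apply hφinj
    rw [map_zero]
    have h1 := Polynomial.hom_eval₂ (minpoly F s) ((algebraMap F (AdjoinRoot (minpoly F s))).comp bar)
      (Cfsg.Agent.Helper53.Spec4.phiM s : AdjoinRoot (minpoly F s) →+* Matrix (Fin n) (Fin n) F)
      (AdjoinRoot.root (minpoly F s))⁻¹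
    have h2 : ((Cfsg.Agent.Helper53.Spec4.phiM s :
        AdjoinRoot (minpoly F s) →+* Matrix (Fin n) (Fin n) F).comp
          ((algebraMap F (AdjoinRoot (minpoly F s))).comp bar)) =
        (algebraMap F (Matrix (Fin n) (Fin n) F)).comp bar := by
      ext c : 1
      simp only [RingHom.comp_apply, RingHom.coe_coe, AlgHom.commutes]
    rw [h2] at h1
    have h3 : (Cfsg.Agent.Helper53.Spec4.phiM s :
        AdjoinRoot (minpoly F s) →+* Matrix (Fin n) (Fin n) F) (AdjoinRoot.root (minpoly F s))⁻¹ =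
        dag bar s := hφinv
    rw [h3] at h1
    have h4 : Polynomial.eval₂ ((algebraMap F (Matrix (Fin n) (Fin n) F)).comp bar) (dag bar s)
        (minpoly F s) = aeval (dag bar s) ((minpoly F s).map bar) := by
      rw [Polynomial.aeval_def, Polynomial.eval₂_map]
    rw [h4, ← dag_aeval, minpoly.aeval, dag_zero] at h1
    exact h1
  set τ : AdjoinRoot (minpoly F s) →+* AdjoinRoot (minpoly F s) :=
    AdjoinRoot.lift ((algebraMap F (AdjoinRoot (minpoly F s))).comp bar)
      (AdjoinRoot.root (minpoly F s))⁻¹ hev with hτ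
  have hτroot : τ (AdjoinRoot.root (minpoly F s)) = (AdjoinRoot.root (minpoly F s))⁻¹ :=
    AdjoinRoot.lift_root hev
  have hτof : ∀ c : F, τ (algebraMap F (AdjoinRoot (minpoly F s)) c) =
      algebraMap F (AdjoinRoot (minpoly F s)) (bar c) := by
    intro c
    rw [AdjoinRoot.algebraMap_eq]
    exact AdjoinRoot.lift_of hev
  have hττ : ∀ y, τ (τ y) = y := by
    have h : (τ.comp τ).comp (AdjoinRoot.mk (minpoly F s)) = AdjoinRoot.mk (minpoly F s) := by
      apply Polynomial.ringHom_ext
      · intro a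
        simp only [RingHom.comp_apply]
        rw [AdjoinRoot.mk_C, ← AdjoinRoot.algebraMap_eq, hτof, hτof, hbb]
      · simp only [RingHom.comp_apply]
        rw [AdjoinRoot.mk_X, hτroot, map_inv₀, hτroot, inv_inv]
    intro y
    induction y using AdjoinRoot.induction_on with
    | ih p =>
      have := congrArg (fun g => g p) h
      simpa only [RingHom.comp_apply] using this
  have hτc : ∀ c : F, τ (algebraMap F (AdjoinRoot (minpoly F s)) c) =
      algebraMap F (AdjoinRoot (minpoly F s)) (c ^ q) := by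
    intro c
    rw [hτof, hbar]
  obtain ⟨hodd, hpow⟩ := G τ hττ hτc
  have hf0 : minpoly F s ≠ 0 := (Fact.out : Irreducible (minpoly F s)).ne_zero
  have hfin : Module.finrank F (AdjoinRoot (minpoly F s)) = (minpoly F s).natDegree := by
    rw [(AdjoinRoot.powerBasis hf0).finrank, AdjoinRoot.powerBasis_dim]
  rw [hfin] at hodd hpow
  refine ⟨hodd, ?_⟩
  rw [pow_succ, ← hpow, hτroot, inv_mul_cancel₀ hroot0]

end Cfsg.Agent.Helper31.Spec4U
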