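import Mathlib
import Cfsg.Agent.Helper86.Spec4.DefsU

/-!
# (R3) for helper86's S2511 (#10766): `NU q n / (q+1) = cU q n * gcd(n, q+1)`

`NU_key`: `x + 1 ∣ NU x n = x^n - (-1)^n`, and every common divisor of `x + 1` and `n` divides the quotient
(which is `≡ ± n` modulo `x + 1`).
-/

set_option autoImplicit false
set_option linter.unusedVariables false

namespace Cfsg.Agent.Helper31.Spec4U

open Matrix Polynomial Cfsg.Agent.Helper86.Spec4

/-- `NU x n = x^n - (-1)^n` in `ℤ` -/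
theorem NU_cast (x n : ℕ) (hx : 1 ≤ x) : ((NU x n : ℕ) : ℤ) = (x : ℤ) ^ n - (-1) ^ n := by
  unfold NU
  have h1 : 1 ≤ x ^ n := Nat.one_le_pow _ _ hx
  split_ifs with h
  · rw [h.neg_one_pow, Nat.cast_sub h1]; push_cast; ring
  · rw [(Nat.not_even_iff_odd.mp h).neg_one_pow]; push_cast; ring

/-- the key divisibility: `x + 1 ∣ NU x n`, and the quotient is `≡ ± n` modulo `x + 1` -/
theorem NU_key (x n g : ℕ) (hx : 1 ≤ x) (hg1 : g ∣ x + 1) (hgn : g ∣ n) :
    ∃ s : ℕ, NU x n = s * (x + 1) ∧ g ∣ s := by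
  set S : ℤ := ∑ i ∈ Finset.range n, (x : ℤ) ^ i * (-1) ^ (n - 1 - i) with hS
  have hS1 : S * ((x : ℤ) - (-1)) = (x : ℤ) ^ n - (-1) ^ n := geom_sum₂_mul _ _ _
  have hNU : ((NU x n : ℕ) : ℤ) = S * ((x : ℤ) + 1) := by
    rw [NU_cast x n hx, ← hS1]; ring
  have hS0 : 0 ≤ S := by
    have h1 : (0 : ℤ) ≤ S * ((x : ℤ) + 1) := by rw [← hNU]; exact Int.natCast_nonneg _
    have h2 : (0 : ℤ) < (x : ℤ) + 1 := by positivity
    exact nonneg_of_mul_nonneg_left h1 h2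
  obtain ⟨s, hs⟩ := Int.eq_ofNat_of_zero_le hS0
  refine ⟨s, ?_, ?_⟩
  · have : ((NU x n : ℕ) : ℤ) = ((s * (x + 1) : ℕ) : ℤ) := by
      rw [hNU, hs]; push_cast; ring
    exact_mod_cast this
  · have h3 : ((S : ℤ) : ZMod g) = 0 := by
      have hx1 : ((x : ℕ) : ZMod g) = -1 := by
        have : (((x + 1 : ℕ)) : ZMod g) = 0 := (ZMod.natCast_eq_zero_iff _ _).mpr hg1
        push_cast at this
        exact eq_neg_of_add_eq_zero_left this
      have hn0 : ((n : ℕ) : ZMod g) = 0 := (ZMod.natCast_eq_zero_iff _ _).mpr hgn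
      rw [hS]
      push_cast
      rw [hx1]
      have : ∀ i ∈ Finset.range n, (-1 : ZMod g) ^ i * (-1) ^ (n - 1 - i) = (-1) ^ (n - 1) := by
        intro i hi
        rw [Finset.mem_range] at hi
        rw [← pow_add]
        congr 1
        omega
      rw [Finset.sum_congr rfl this, Finset.sum_const, Finset.card_range, nsmul_eq_mul, hn0,
        zero_mul]
    have h4 : (g : ℤ) ∣ S := (ZMod.intCast_zmod_eq_zero_iff_dvd S g).mp h3
    rw [hs] at h4
    exact_mod_cast h4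

/-- (R3) `NU q n / (q+1) = cU q n * gcd(n, q+1)`. -/
theorem NU_div_eq (q n : ℕ) (hq : 2 ≤ q) (hn : 1 ≤ n) :
    NU q n / (q + 1) = cU q n * Nat.gcd n (q + 1) := by
  obtain ⟨s, hs, hg⟩ := NU_key q n (Nat.gcd n (q + 1)) (by omega) (Nat.gcd_dvd_right _ _)
    (Nat.gcd_dvd_left _ _)
  unfold cU
  rw [hs, Nat.mul_div_cancel _ (by omega : 0 < q + 1), mul_comm s (q + 1),
    Nat.mul_div_mul_left _ _ (by omega : 0 < q + 1), Nat.div_mul_cancel hg]

end Cfsg.Agent.Helper31.Spec4U
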