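import Mathlib
import Cfsg.Agent.Helper86.Spec4.DefsU
import Cfsg.Agent.Helper31.Spec4UR3

/-!
# (R1) for helper86's S2511 (#10766): the case A arithmetic `arith_A`

`θ = ξ^A`, `A = (q^d+1)/(q+1)`, has `θ^(q+1) = 1`; `((q^2)^d-1)/(q^2-1) = A * B` with
`B = (q^d-1)/(q-1) ≡ 1 mod q+1` (`d` odd), so `θ^k = 1`; `NU q (dk)/(q+1) = A * S` with `gcd(k, q+1) ∣ S`.
-/

set_option autoImplicit false
set_option linter.unusedVariables false

namespace Cfsg.Agent.Helper31.Spec4U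

open Matrix Polynomial Cfsg.Agent.Helper86.Spec4

/-- `1 + q + ... + q^(2j) ≡ 1 mod (q+1)` -/
theorem geom_odd_mod (q j : ℕ) :
    ∃ c : ℕ, ∑ i ∈ Finset.range (2 * j + 1), q ^ i = 1 + (q + 1) * c := by
  induction j with
  | zero => exact ⟨0, by simp⟩
  | succ j ih =>
    obtain ⟨c, hc⟩ := ih
    refine ⟨c + q ^ (2 * j + 1), ?_⟩
    rw [show 2 * (j + 1) + 1 = (2 * j + 1) + 1 + 1 by ring, Finset.sum_range_succ,
      Finset.sum_range_succ, hc]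
    ring

/-- for odd `d`: `NU q (d * k) = NU (q ^ d) k` -/
theorem NU_mul_of_odd (q d k : ℕ) (hd : Odd d) : NU q (d * k) = NU (q ^ d) k := by
  unfold NU
  have h : Even (d * k) ↔ Even k := by
    rw [Nat.even_mul]
    constructor
    · rintro (h | h)
      · exact absurd h (Nat.not_even_iff_odd.mpr hd)
      · exact h
    · exact fun h => Or.inr h
  simp only [h, pow_mul]

/-- (R1) case A arithmetic, in any commutative monoid. -/
theorem arith_A {M : Type*} [CommMonoid M] (q d k : ℕ) (hq : 2 ≤ q) (hd : Odd d) (hk : 1 ≤ k) (ξ : M)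
    (h1 : ξ ^ (q ^ d + 1) = 1)
    (h2 : (ξ ^ (((q ^ 2) ^ d - 1) / (q ^ 2 - 1))) ^ k = 1) :
    ξ ^ (NU q (d * k) / (q + 1)) = 1 := by
  have hq1 : 1 ≤ q := by omega
  have hx1 : 1 ≤ q ^ d := Nat.one_le_pow _ _ hq1
  -- `q^d + 1 = A * (q+1)`
  obtain ⟨A, hA, -⟩ := NU_key q d 1 hq1 (one_dvd _) (one_dvd _)
  have hNUd : NU q d = q ^ d + 1 := by
    unfold NU
    rw [if_neg (Nat.not_even_iff_odd.mpr hd)]
  rw [hNUd] at hA
  -- `q^d - 1 = (q - 1) * B`, `B ≡ 1 mod q+1`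
  obtain ⟨j, hj⟩ := hd
  obtain ⟨c, hc⟩ := geom_odd_mod q j
  rw [← hj] at hc
  set B : ℕ := ∑ i ∈ Finset.range d, q ^ i with hB
  have hBq : B * (q - 1) = q ^ d - 1 := by
    have := Nat.geomSum_eq hq d
    rw [← hB] at this
    rw [this]
    exact Nat.div_mul_cancel (Nat.sub_one_dvd_pow_sub_one _ _) 
  -- the exponent in `h2` is `A * B`
  have hAB : ((q ^ 2) ^ d - 1) / (q ^ 2 - 1) = A * B := by
    have e1 : (q ^ 2) ^ d - 1 = (q ^ 2 - 1) * (A * B) := by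
      have e2 : (q ^ 2) ^ d - 1 = (q ^ d + 1) * (q ^ d - 1) := by
        rw [← pow_mul, mul_comm 2 d, pow_mul]
        zify [hx1, Nat.one_le_pow 2 _ hx1]
        ring
      have e3 : q ^ 2 - 1 = (q + 1) * (q - 1) := by
        zify [hq1, Nat.one_le_pow 2 _ hq1]
        ring
      rw [e2, e3, hA, ← hBq]
      ring
    rw [e1, Nat.mul_div_cancel_left]
    have : 2 ^ 2 ≤ q ^ 2 := Nat.pow_le_pow_left hq 2
    omega
  set θ : M := ξ ^ A with hθ
  have hθq : θ ^ (q + 1) = 1 := by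
    rw [hθ, ← pow_mul, ← hA, h1]
  have hθB : θ ^ B = θ := by
    rw [hc, pow_add, pow_one, pow_mul, hθq, one_pow, mul_one]
  have hθk : θ ^ k = 1 := by
    rw [hAB, pow_mul, ← hθ, hθB] at h2
    exact h2
  have hθg : θ ^ Nat.gcd k (q + 1) = 1 := pow_gcd_eq_one.mpr ⟨hθk, hθq⟩
  -- `NU q (dk) = s * (q^d + 1)` with `gcd(k, q+1) ∣ s`
  obtain ⟨s, hs, hgs⟩ := NU_key (q ^ d) k (Nat.gcd k (q + 1)) hx1
    (Dvd.dvd.trans (Nat.gcd_dvd_right _ _) ⟨A, by rw [hA]; ring⟩) (Nat.gcd_dvd_left _ _)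
  rw [NU_mul_of_odd q d k ⟨j, hj⟩, hs, hA, ← mul_assoc, Nat.mul_div_cancel _ (by omega : 0 < q + 1),
    mul_comm s A, pow_mul, ← hθ]
  obtain ⟨t, rfl⟩ := hgs
  rw [pow_mul, hθg, one_pow]

end Cfsg.Agent.Helper31.Spec4U
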