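import Mathlib
import Cfsg.Agent.Helper67.Conj

/-!
# Piece (A) of helper74's plan for S4130 (squarefree class sizes): the covering trick
-/

set_option autoImplicit false

namespace Cfsg.Agent.Helper31.Sqf

/-- in a finite `p`-group, a subgroup of index dividing `p` contains all commutators and `p`-th
powers -/
theorem comm_pow_mem_of_index_dvd {Q : Type*} [Group Q] [Finite Q] (p : ℕ) [Fact p.Prime]
    (hQ : IsPGroup p Q) (S : Subgroup Q) (hS : S.index ∣ p) (u v : Q) :
    u * v * u⁻¹ * v⁻¹ ∈ S ∧ u ^ p ∈ S := by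
  have hp : p.Prime := Fact.out
  rcases (Nat.dvd_prime hp).1 hS with h1 | h1
  · rw [Subgroup.index_eq_one] at h1
    rw [h1]
    exact ⟨Subgroup.mem_top _, Subgroup.mem_top _⟩
  · obtain ⟨n, hn⟩ := hQ.exists_card_eq
    have hn0 : n ≠ 0 := by
      rintro rfl
      rw [pow_zero] at hn
      have h2 : S.index ∣ Nat.card Q := Subgroup.index_dvd_card S
      rw [hn, h1] at h2
      exact hp.one_lt.ne' (Nat.dvd_one.1 h2)
    have hnorm : S.Normal := by
      apply Subgroup.normal_of_index_eq_minFac_card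
      rw [h1, hn, hp.pow_minFac hn0]
    have hcard : Nat.card (Q ⧸ S) = p := by rw [← Subgroup.index_eq_card, h1]
    have : IsCyclic (Q ⧸ S) := isCyclic_of_prime_card hcard
    constructor
    · rw [← QuotientGroup.eq_one_iff]
      let _ := IsCyclic.commGroup (α := Q ⧸ S)
      have hc : (QuotientGroup.mk u : Q ⧸ S) * QuotientGroup.mk v =
          QuotientGroup.mk v * QuotientGroup.mk u := mul_comm _ _
      simp only [QuotientGroup.mk_mul, QuotientGroup.mk_inv]
      rw [hc]
      group
    · rw [← QuotientGroup.eq_one_iff, QuotientGroup.mk_pow, ← hcard]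
      exact pow_card_eq_one'


theorem relIndex_mul_card_of_le {G : Type*} [Group G] {H K : Subgroup G} (h : H ≤ K) :
    H.relIndex K * Nat.card H = Nat.card K := by
  rw [← Subgroup.card_mul_index (H.subgroupOf K), mul_comm,
    Nat.card_congr (Subgroup.subgroupOfEquivOfLe h).toEquiv]
  rfl

/-- for every `x` some conjugate of the Sylow subgroup `P` has all its commutators and `p`-th powers
inside `C_G(x)` -/
theorem exists_conj_comm_pow_mem {G : Type*} [Group G] [Finite G] (p : ℕ) [Fact p.Prime]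
    (P : Sylow p G) (x : G) (h : ¬ p ^ 2 ∣ (Subgroup.centralizer ({x} : Set G)).index) :
    ∃ g : G, ∀ u ∈ (P : Subgroup G), ∀ v ∈ (P : Subgroup G),
      g * (u * v * u⁻¹ * v⁻¹) * g⁻¹ ∈ Subgroup.centralizer ({x} : Set G) ∧
      g * u ^ p * g⁻¹ ∈ Subgroup.centralizer ({x} : Set G) := by
  have hp : p.Prime := Fact.out
  set C := Subgroup.centralizer ({x} : Set G) with hC
  obtain ⟨S⟩ : Nonempty (Sylow p C) := inferInstance
  set S' : Subgroup G := (S : Subgroup C).map C.subtype with hS'
  have hS'p : IsPGroup p S' := S.2.map _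
  obtain ⟨P', hP'⟩ := hS'p.exists_le_sylow
  obtain ⟨g, rfl⟩ := MulAction.exists_smul_eq G P P'
  -- the index of `S'` in `g • P`
  have hcardS' : Nat.card S' = p ^ (Nat.card C).factorization p := by
    rw [hS', Subgroup.card_map_of_injective C.subtype_injective, Sylow.card_eq_multiplicity]
  have hcardP' : Nat.card ((g • P : Sylow p G) : Subgroup G) = p ^ (Nat.card G).factorization p :=
    Sylow.card_eq_multiplicity _
  have hidx0 : C.index ≠ 0 := Subgroup.index_ne_zero_of_finite
  have hfac : (Nat.card G).factorization p = (Nat.card C).factorization p + C.index.factorization p := by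
    rw [← Subgroup.card_mul_index C, Nat.factorization_mul Nat.card_pos.ne' hidx0]
    rfl
  have hle1 : C.index.factorization p ≤ 1 := by
    by_contra hcon
    push Not at hcon
    exact h ((hp.pow_dvd_iff_le_factorization hidx0).2 hcon)
  have hrel : S'.relIndex ((g • P : Sylow p G) : Subgroup G) ∣ p := by
    have h1 := relIndex_mul_card_of_le hP'
    rw [hcardS', hcardP', hfac, pow_add] at h1
    have h2 : S'.relIndex ((g • P : Sylow p G) : Subgroup G) = p ^ C.index.factorization p := by
      have hpos : 0 < p ^ (Nat.card C).factorization p := pow_pos hp.pos _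
      rw [mul_comm] at h1
      exact Nat.eq_of_mul_eq_mul_left hpos h1
    rw [h2]
    interval_cases (C.index.factorization p)
    · simp
    · simp
  refine ⟨g, fun u hu v hv => ?_⟩
  have hmem : ∀ w ∈ (P : Subgroup G), g * w * g⁻¹ ∈ ((g • P : Sylow p G) : Subgroup G) := by
    intro w hw
    rw [Sylow.coe_subgroup_smul]
    exact Subgroup.smul_mem_pointwise_smul w (MulAut.conj g) _ hw
  have hQ : IsPGroup p ((g • P : Sylow p G) : Subgroup G) := (g • P).2
  have key := comm_pow_mem_of_index_dvd p hQ (S'.subgroupOf ((g • P : Sylow p G) : Subgroup G)) hrel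
    ⟨g * u * g⁻¹, hmem u hu⟩ ⟨g * v * g⁻¹, hmem v hv⟩
  have hS'C : S' ≤ C := by
    rintro _ ⟨c, -, rfl⟩
    exact c.2
  constructor
  · have h1 := key.1
    rw [Subgroup.mem_subgroupOf] at h1
    have h2 : g * (u * v * u⁻¹ * v⁻¹) * g⁻¹ =
        (g * u * g⁻¹) * (g * v * g⁻¹) * (g * u * g⁻¹)⁻¹ * (g * v * g⁻¹)⁻¹ := by group
    rw [h2]
    exact hS'C h1
  · have h1 := key.2
    rw [Subgroup.mem_subgroupOf] at h1
    have h2 : g * u ^ p * g⁻¹ = (g * u * g⁻¹) ^ p := by rw [conj_pow]
    rw [h2]
    exact hS'C h1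

/-- (A) covering trick -/
theorem comm_pow_mem_center {G : Type*} [Group G] [Finite G] (p : ℕ) [Fact p.Prime]
    (h : ∀ x : G, ¬ p ^ 2 ∣ (Subgroup.centralizer ({x} : Set G)).index) (P : Sylow p G) :
    ∀ a ∈ (P : Subgroup G), ∀ b ∈ (P : Subgroup G),
      a * b * a⁻¹ * b⁻¹ ∈ Subgroup.center G ∧ a ^ p ∈ Subgroup.center G := by
  have main : ∀ d : G, (∀ x : G, ∃ g : G, g * d * g⁻¹ ∈ Subgroup.centralizer ({x} : Set G)) →
      d ∈ Subgroup.center G := by
    intro d hd
    have htop : Subgroup.centralizer ({d} : Set G) = ⊤ := by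
      apply Cfsg.Agent.Helper67.eq_top_of_forall_exists_conj_mem
      intro x
      obtain ⟨g, hg⟩ := hd x
      refine ⟨g⁻¹, ?_⟩
      rw [Subgroup.mem_centralizer_singleton_iff] at hg ⊢
      -- hg : (g d g⁻¹) * x = x * (g d g⁻¹)
      have : g⁻¹ * x * g⁻¹⁻¹ * d = g⁻¹ * (x * (g * d * g⁻¹)) * g := by group
      rw [this, ← hg]
      group
    rw [Subgroup.mem_center_iff]
    intro y
    have hy : y ∈ Subgroup.centralizer ({d} : Set G) := by rw [htop]; exact Subgroup.mem_top y
    rw [Subgroup.mem_centralizer_singleton_iff] at hy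
    exact hy
  intro a ha b hb
  constructor
  · apply main
    intro x
    obtain ⟨g, hg⟩ := exists_conj_comm_pow_mem p P x (h x)
    exact ⟨g, (hg a ha b hb).1⟩
  · apply main
    intro x
    obtain ⟨g, hg⟩ := exists_conj_comm_pow_mem p P x (h x)
    exact ⟨g, (hg a ha b hb).2⟩

end Cfsg.Agent.Helper31.Sqf
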