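import Mathlib
import Cfsg.Agent.Helper74.SqfDefs

/-!
# Piece (T) of helper74's plan for S4130 (squarefree class sizes): solvability and the Sylow tower,
from the normal `p`-complement theorem (C) for the smallest prime (taken as a hypothesis `hC`).
-/

set_option autoImplicit false

namespace Cfsg.Agent.Helper31.Sqf

open Cfsg.Agent.Helper74.Sqf

universe u

/-- the statement of piece (C) for all groups of a universe -/
def PComplStmt.{v} : Prop :=
  ∀ (G : Type v) [Group G] [Finite G] (p : ℕ) [Fact p.Prime],
    (∀ q : ℕ, q.Prime → q ∣ Nat.card G → p ≤ q) →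
    (∀ x : G, ¬ p ^ 2 ∣ (Subgroup.centralizer ({x} : Set G)).index) →
    ∃ N : Subgroup G, N.Normal ∧ (Nat.card N).Coprime p ∧ ∃ k : ℕ, N.index = p ^ k

theorem tower_aux (hC : PComplStmt.{u}) :
    ∀ n : ℕ, ∀ (G : Type u) [Group G] [Finite G], Nat.card G = n → SF G →
      Group.IsSolvable G ∧ ∀ (r : ℕ) [Fact r.Prime],
        (∀ q : ℕ, q.Prime → q ∣ Nat.card G → q ≤ r) → ∀ R : Sylow r G, (R : Subgroup G).Normal := by
  intro n
  induction n using Nat.strong_induction_on with
  | _ n ih =>
  intro G _ _ hn h
  by_cases h1 : Nat.card G = 1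
  · -- trivial group
    have hsub : Subsingleton G := (Nat.card_eq_one_iff_unique.1 h1).1
    refine ⟨Group.isSolvable_of_top_eq_bot G (Subsingleton.elim _ _), ?_⟩
    intro r _ _ R
    exact ⟨fun x hx g => by
      have : g * x * g⁻¹ = x := Subsingleton.elim _ _
      rw [this]; exact hx⟩
  · set p := (Nat.card G).minFac with hp
    have hpp : p.Prime := Nat.minFac_prime h1
    have : Fact p.Prime := ⟨hpp⟩
    have hmin : ∀ q : ℕ, q.Prime → q ∣ Nat.card G → p ≤ q :=
      fun q hq hd => Nat.minFac_le_of_dvd hq.two_le hd
    obtain ⟨N, hNn, hNcop, k, hk⟩ := hC G p hmin (fun x => h.not_sq_dvd hpp x)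
    have hcard : Nat.card N * p ^ k = Nat.card G := by rw [← hk]; exact Subgroup.card_mul_index N
    have hpG : p ∣ Nat.card G := Nat.minFac_dvd _
    have hk1 : k ≠ 0 := by
      rintro rfl
      rw [pow_zero, mul_one] at hcard
      rw [← hcard] at hpG
      have := Nat.Coprime.eq_one_of_dvd hNcop.symm hpG
      exact hpp.one_lt.ne' this
    have hlt : Nat.card N < Nat.card G := by
      rw [← hcard]
      have h2 : 1 < p ^ k := Nat.one_lt_pow hk1 hpp.one_lt
      have h3 : 0 < Nat.card N := Nat.card_pos
      nlinarith
    have hSFN : SF N := h.subgroup_normal N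
    obtain ⟨hNsol, hNsyl⟩ := ih (Nat.card N) (hn ▸ hlt) N rfl hSFN
    -- solvability
    have hQp : IsPGroup p (G ⧸ N) := by
      apply IsPGroup.of_card (n := k)
      rw [← Subgroup.index_eq_card, hk]
    have hQnil : Group.IsNilpotent (G ⧸ N) := hQp.isNilpotent
    have hQsol : Group.IsSolvable (G ⧸ N) := inferInstance
    have hGsol : Group.IsSolvable G :=
      Group.isSolvable_of_ker_le_range N.subtype (QuotientGroup.mk' N) (by
        rw [QuotientGroup.ker_mk', Subgroup.range_subtype])
    refine ⟨hGsol, ?_⟩
    intro r hr hmax R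
    by_cases hrp : r = p
    · subst hrp
      -- `G` is a `p`-group
      have hGp : IsPGroup p G := by
        apply IsPGroup.of_card (n := (Nat.card G).primeFactorsList.length)
        apply Nat.eq_prime_pow_of_unique_prime_dvd Nat.card_pos.ne'
        intro d hd hdG
        exact le_antisymm (hmax d hd hdG) (hmin d hd hdG)
      have htop : (⊤ : Subgroup G) = (R : Subgroup G) := by
        apply R.3 _ le_top
        exact hGp.to_subgroup ⊤
      rw [← htop]
      infer_instance
    · have hmaxN : ∀ q : ℕ, q.Prime → q ∣ Nat.card N → q ≤ r :=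
        fun q hq hd => hmax q hq (hd.trans (Subgroup.card_subgroup_dvd_card N))
      obtain ⟨RN⟩ : Nonempty (Sylow r N) := inferInstance
      have hRNn : (RN : Subgroup N).Normal := hNsyl r hmaxN RN
      have : (RN : Subgroup N).Characteristic := Sylow.characteristic_of_normal RN hRNn
      have hTn : ((RN : Subgroup N).map N.subtype).Normal := inferInstance
      set T : Subgroup G := (RN : Subgroup N).map N.subtype with hT
      have hTr : IsPGroup r T := RN.2.map _
      have hfac : (Nat.card G).factorization r = (Nat.card N).factorization r := by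
        rw [← hcard, Nat.factorization_mul Nat.card_pos.ne' (pow_pos hpp.pos k).ne']
        have h0 : p.factorization r = 0 :=
          Nat.factorization_eq_zero_of_not_dvd
            (fun hd => hrp ((Nat.prime_dvd_prime_iff_eq hr.out hpp).1 hd))
        have : (p ^ k).factorization r = 0 := by
          rw [Nat.factorization_pow]
          simp [h0]
        rw [Finsupp.add_apply, this, add_zero]
      have hTcard : Nat.card T = r ^ (Nat.card G).factorization r := by
        rw [hT, Subgroup.card_map_of_injective N.subtype_injective, Sylow.card_eq_multiplicity,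
          hfac]
      obtain ⟨R', hR'⟩ := hTr.exists_le_sylow
      have hTR' : T = (R' : Subgroup G) := by
        apply Subgroup.eq_of_le_of_card_ge hR'
        rw [hTcard, Sylow.card_eq_multiplicity]
      have hR'n : (R' : Subgroup G).Normal := hTR' ▸ hTn
      have hU : Unique (Sylow r G) := Sylow.unique_of_normal R' hR'n
      have hRR' : R = R' := Subsingleton.elim _ _
      rw [hRR']
      exact hR'n

/-- (T) from (C) -/
theorem isSolvable_and_sylow_normal_of (hC : PComplStmt.{u}) {G : Type u} [Group G] [Finite G]
    (h : SF G) :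
    Group.IsSolvable G ∧ ∀ (r : ℕ) [Fact r.Prime], (∀ q : ℕ, q.Prime → q ∣ Nat.card G → q ≤ r) →
      ∀ R : Sylow r G, (R : Subgroup G).Normal :=
  tower_aux hC _ G rfl h

end Cfsg.Agent.Helper31.Sqf
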