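import Cfsg.Agent.Helper61.Sr.Basic

/-!
# Piece (E2) of helper61's S3572 skeleton (#11975): if all nontrivial basic sets of an S-ring over
`DihedralGroup n` have the same size and the same number of rotations, the S-ring is trivial.

Double counting the pairs `(y, i)` with `y ≠ 1`, `i ≠ 0`, `y ~ r i` gives
`(2n-1) * x = (n-1) * c`; since `2n-1` and `n-1` are coprime, `c = 2n-1`.
-/

set_option autoImplicit false
set_option linter.unusedSectionVars false
set_option linter.unusedVariables false

namespace Cfsg.Agent.Helper31.Sr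

open Finset DihedralGroup Cfsg.Agent.Helper61.Dih Cfsg.Agent.Helper61.Sr

section Dihedral

variable {n : ℕ} [NeZero n] (S : SRing (DihedralGroup n))

theorem E2_r_ne_one {i : ZMod n} (hi : i ≠ 0) : (r i : DihedralGroup n) ≠ 1 := by
  intro h
  rw [DihedralGroup.one_def] at h
  exact hi (DihedralGroup.r.inj h)

/-- (E2) -/
theorem E2 (hn : 3 ≤ n)
    (hE : ∀ y y' : DihedralGroup n, y ≠ 1 → y' ≠ 1 → (S.cls y').card = (S.cls y).card ∧
      (rotPart (S.cls y')).card = (rotPart (S.cls y)).card) : S.IsTriv := by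
  classical
  have : Fact (1 < n) := ⟨by omega⟩
  have h10 : (1 : ZMod n) ≠ 0 := one_ne_zero
  set y0 : DihedralGroup n := r 1 with hy0
  have hy0ne : y0 ≠ 1 := E2_r_ne_one h10
  set c := (S.cls y0).card with hc
  set x := (rotPart (S.cls y0)).card with hx
  set X : Finset (DihedralGroup n) := univ.erase 1 with hX
  set R : Finset (ZMod n) := univ.erase 0 with hR
  have hXcard : X.card = 2 * n - 1 := by
    rw [hX, card_erase_of_mem (mem_univ _), card_univ, DihedralGroup.card]
  have hRcard : R.card = n - 1 := by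
    rw [hR, card_erase_of_mem (mem_univ _), card_univ, ZMod.card]
  -- double counting
  have hdc := Finset.sum_card_bipartiteAbove_eq_sum_card_bipartiteBelow
    (fun (y : DihedralGroup n) (i : ZMod n) => S.rel y (r i)) (s := X) (t := R)
  have hL : ∀ a ∈ X, (R.bipartiteAbove (fun (y : DihedralGroup n) (i : ZMod n) => S.rel y (r i)) a).card = x := by
    intro a ha
    have ha1 : a ≠ 1 := (mem_erase.mp ha).1
    refine Eq.trans ?_ (hE y0 a hy0ne ha1).2
    congr 1
    ext i
    simp only [bipartiteAbove, mem_filter, mem_rotPart, mem_cls, hR, mem_erase, mem_univ, and_true]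
    constructor
    · exact fun h => h.2
    · intro h
      refine ⟨?_, h⟩
      rintro rfl
      exact ha1 (S.one_rel h)
  have hB : ∀ b ∈ R, (X.bipartiteBelow (fun (y : DihedralGroup n) (i : ZMod n) => S.rel y (r i)) b).card = c := by
    intro b hb
    have hb0 : b ≠ 0 := (mem_erase.mp hb).1
    have hrb : (r b : DihedralGroup n) ≠ 1 := E2_r_ne_one hb0
    refine Eq.trans ?_ (hE y0 (r b) hy0ne hrb).1
    congr 1
    ext a
    simp only [bipartiteBelow, mem_filter, mem_cls, hX, mem_erase, mem_univ, and_true]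
    constructor
    · exact fun h => S.symm h.2
    · intro h
      refine ⟨?_, S.symm h⟩
      rintro rfl
      exact hrb (S.one_rel h)
  rw [Finset.sum_congr rfl hL, Finset.sum_congr rfl hB, sum_const, sum_const, smul_eq_mul,
    smul_eq_mul, hXcard, hRcard] at hdc
  -- bounds on c
  have hsub : S.cls y0 ⊆ X := by
    intro z hz
    rw [hX, mem_erase]
    refine ⟨?_, mem_univ _⟩
    rintro rfl
    exact one_notMem_cls S hy0ne hz
  have hcle : c ≤ 2 * n - 1 := hXcard ▸ card_le_card hsub
  have hcpos : 0 < c := card_pos.mpr ⟨y0, self_mem_cls S y0⟩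
  -- arithmetic
  have hceq : c = 2 * n - 1 := by
    obtain ⟨m, rfl⟩ : ∃ m, n = m + 1 := ⟨n - 1, by omega⟩
    have e1 : 2 * (m + 1) - 1 = 2 * m + 1 := by omega
    have e2 : m + 1 - 1 = m := by omega
    rw [e1] at hcle ⊢
    rw [e1, e2] at hdc
    have hcop : Nat.Coprime (2 * m + 1) m := by
      rw [Nat.coprime_mul_right_add_left]
      exact Nat.coprime_one_left m
    have hdvd : (2 * m + 1) ∣ c := by
      apply hcop.dvd_of_dvd_mul_left
      exact ⟨x, hdc.symm⟩
    exact le_antisymm hcle (Nat.le_of_dvd hcpos hdvd)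
  have hcls : S.cls y0 = X := eq_of_subset_of_card_le hsub (by rw [hXcard, ← hceq])
  intro a b ha hb
  have ha' : S.rel y0 a := by
    rw [← mem_cls, hcls, hX, mem_erase]
    exact ⟨ha, mem_univ _⟩
  have hb' : S.rel y0 b := by
    rw [← mem_cls, hcls, hX, mem_erase]
    exact ⟨hb, mem_univ _⟩
  exact S.trans (S.symm ha') hb'

end Dihedral

end Cfsg.Agent.Helper31.Sr
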