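import Cfsg.Agent.Helper61.Sr.Basic

/-!
# Piece (O1) of helper61's S3572 skeleton (#11975): the orbit relation of a point stabilizer
is compatible with inversion when the group contains a regular subgroup acting by left
multiplication.
-/

set_option autoImplicit false
set_option linter.unusedSectionVars false
set_option linter.unusedVariables false

namespace Cfsg.Agent.Helper31.Sr

open Finset DihedralGroup Cfsg.Agent.Helper61.Dih Cfsg.Agent.Helper61.Sr

section Concrete

open MulAction

variable {H : Type*} [Group H] [Fintype H] [DecidableEq H] {G : Type*} [Group G] [MulAction G H]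
variable (ι : H →* G) (hι : ∀ h x : H, ι h • x = h * x)

include hι in
/-- (O1) -/
theorem orb_inv_rel {x y : H} (h : orbRel G x y) : orbRel G x⁻¹ y⁻¹ := by
  obtain ⟨g, hg, hgx⟩ := h
  rw [mem_stabilizer_iff] at hg
  refine ⟨(ι y)⁻¹ * g * ι x, ?_, ?_⟩
  · rw [mem_stabilizer_iff, mul_smul, mul_smul, hι, mul_one, hgx, ← map_inv, hι, inv_mul_cancel]
  · rw [mul_smul, mul_smul, hι, mul_inv_cancel, hg, ← map_inv, hι, mul_one]

end Concrete

end Cfsg.Agent.Helper31.Sr
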