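import Mathlib
import Cfsg.Prelude.Def_KGroupFacts
import Cfsg.Agent.Helper96.UceCover
import Cfsg.Agent.Helper96.StemSLTwoC
import Cfsg.Agent.Helper66.SchurCover
import Cfsg.Agent.Helper5.PSL2Simple

set_option autoImplicit false

/-! # Pieces (G3)+(G4) of S2086: the case `n = 2` -/

namespace Cfsg.Agent.Helper31.StLG34

open scoped commutatorElement

universe u

/-- (G3) a perfect finite group all of whose finite stem extensions are isomorphisms is centrally closed. -/
theorem section_of_stem_trivial {Δ : Type u} [Group Δ] [Finite Δ] (hperf : commutator Δ = ⊤)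
    (hstem : ∀ (Γ : Type u) [Group Γ] [Finite Γ] (σ : Γ →* Δ), Cfsg.IsStemExtension σ → σ.ker = ⊥)
    (E : Type u) [Group E] (p : E →* Δ) (hp : Function.Surjective p)
    (hc : p.ker ≤ Subgroup.center E) : ∃ s : Δ →* E, p.comp s = MonoidHom.id Δ := by
  classical
  have hkfi : p.ker.FiniteIndex := ⟨by
    rw [Subgroup.index_ker]
    exact Nat.card_pos.ne'⟩
  have hfi : (Subgroup.center E).FiniteIndex := Subgroup.finiteIndex_of_le hc
  have hfin : Finite (commutator E) := Cfsg.Agent.Helper66.finite_commutator_of_finiteIndex_center E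
  -- the restriction of `p` to the commutator subgroup is surjective
  have hp' : Function.Surjective (p.comp (commutator E).subtype) := by
    rw [← MonoidHom.range_eq_top, MonoidHom.range_comp, Subgroup.range_subtype, commutator_def E,
      Subgroup.map_commutator, ← MonoidHom.range_eq_map, MonoidHom.range_eq_top.mpr hp,
      ← commutator_def, hperf]
  have hdec : ∀ x : E, ∃ e' : E, e' ∈ commutator E ∧ e'⁻¹ * x ∈ Subgroup.center E := by
    intro x
    obtain ⟨e', he'⟩ := hp' (p x)
    refine ⟨e', e'.2, hc ?_⟩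
    have h1 : p (e' : E) = p x := he'
    rw [MonoidHom.mem_ker, map_mul, map_inv, h1, inv_mul_cancel]
  have hcomm : ∀ x y : E, ∃ a b : E, a ∈ commutator E ∧ b ∈ commutator E ∧ ⁅x, y⁆ = ⁅a, b⁆ := by
    intro x y
    obtain ⟨a, ha, hza⟩ := hdec x
    obtain ⟨b, hb, hzb⟩ := hdec y
    refine ⟨a, b, ha, hb, ?_⟩
    have h1 := Cfsg.Agent.Helper66.commutatorElement_mul_central a b _ _ hza hzb
    rw [mul_inv_cancel_left, mul_inv_cancel_left] at h1
    exact h1
  -- the commutator subgroup is perfect
  have hperf' : commutator ↥(commutator E) = ⊤ := by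
    rw [eq_top_iff]
    have hle : commutator E ≤ (commutator ↥(commutator E)).map (commutator E).subtype := by
      conv_lhs => rw [commutator_eq_closure E]
      rw [Subgroup.closure_le]
      rintro _ ⟨x, y, rfl⟩
      obtain ⟨a, b, ha, hb, hab⟩ := hcomm x y
      rw [hab]
      refine ⟨⁅(⟨a, ha⟩ : ↥(commutator E)), ⟨b, hb⟩⁆, ?_, rfl⟩
      have hmem : ⁅(⟨a, ha⟩ : ↥(commutator E)), ⟨b, hb⟩⁆ ∈ commutator ↥(commutator E) := by
        rw [commutator_def ↥(commutator E)]
        exact Subgroup.commutator_mem_commutator (Subgroup.mem_top _) (Subgroup.mem_top _)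
      exact hmem
    intro x _
    obtain ⟨y, hy, hyx⟩ := hle x.2
    have e : y = x := Subtype.ext hyx
    rwa [e] at hy
  have hstem' : Cfsg.IsStemExtension (p.comp (commutator E).subtype) := by
    refine ⟨hp', ?_, ?_⟩
    · intro x hx
      rw [Subgroup.mem_center_iff]
      intro g
      have hxk : (x : E) ∈ p.ker := hx
      have h1 := Subgroup.mem_center_iff.mp (hc hxk) (g : E)
      exact Subtype.ext h1
    · rw [hperf']
      exact le_top
  have hker := hstem ↥(commutator E) (p.comp (commutator E).subtype) hstem'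
  have hinj : Function.Injective (p.comp (commutator E).subtype) :=
    (MonoidHom.ker_eq_bot_iff _).mp hker
  let e : ↥(commutator E) ≃* Δ := MulEquiv.ofBijective (p.comp (commutator E).subtype) ⟨hinj, hp'⟩
  refine ⟨(commutator E).subtype.comp e.symm.toMonoidHom, ?_⟩
  ext d
  show p ((e.symm d : ↥(commutator E)) : E) = d
  exact e.apply_symm_apply d

/-- The centre of `SL₂(F)` has order `gcd(2, q - 1)`. -/
theorem card_center_SL_two {F : Type u} [Field F] [Fintype F] [DecidableEq F] :
    Nat.card (Subgroup.center (Matrix.SpecialLinearGroup (Fin 2) F)) = Nat.gcd 2 (Fintype.card F - 1) := by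
  rw [Nat.card_congr (Matrix.SpecialLinearGroup.center_equiv_rootsOfUnity' (0 : Fin 2)).toEquiv,
    Fintype.card_fin, rootsOfUnity_eq_ker, IsCyclic.card_powMonoidHom_ker, Nat.card_units,
    Nat.card_eq_fintype_card, Nat.gcd_comm]

/-- The centre of `SL₂(F)` is cyclic. -/
theorem isCyclic_center_SL_two {F : Type u} [Field F] :
    IsCyclic (Subgroup.center (Matrix.SpecialLinearGroup (Fin 2) F)) := by
  have e := Matrix.SpecialLinearGroup.center_equiv_rootsOfUnity' (R := F) (0 : Fin 2)
  rw [Fintype.card_fin] at e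
  exact isCyclic_of_surjective e.symm.toMonoidHom e.symm.surjective

/-- (G4) the Schur multiplier of `PSL₂(q)`, `q ≥ 4`, `q ≠ 4, 9`. -/
theorem psl_two_multiplier {F : Type u} [Field F] [Fintype F] (h4 : 4 ≤ Fintype.card F)
    (h4' : Fintype.card F ≠ 4) (h9 : Fintype.card F ≠ 9) :
    Cfsg.HasCyclicSchurMultiplier (Matrix.ProjectiveSpecialLinearGroup (Fin 2) F)
      (Nat.gcd 2 (Fintype.card F - 1)) := by
  classical
  have hperf : commutator (Matrix.SpecialLinearGroup (Fin 2) F) = ⊤ :=
    Cfsg.Agent.Helper5.commutator_SL_eq_top_of_exists (Cfsg.Agent.Helper5.exists_sq_ne_one_of_card h4)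
  have : NeZero (Nat.gcd 2 (Fintype.card F - 1)) :=
    ⟨(Nat.gcd_pos_of_pos_left _ (by norm_num)).ne'⟩
  have hkerπ : (QuotientGroup.mk' (Subgroup.center (Matrix.SpecialLinearGroup (Fin 2) F))).ker =
      Subgroup.center (Matrix.SpecialLinearGroup (Fin 2) F) := QuotientGroup.ker_mk' _
  refine Cfsg.Agent.Helper96.UceCover.hasCyclicSchurMultiplier_of_universal
    (QuotientGroup.mk' (Subgroup.center (Matrix.SpecialLinearGroup (Fin 2) F)))
    (QuotientGroup.mk'_surjective _) ?_ hperf _ ?_ ?_ ?_
  · rw [hkerπ]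
  · rw [hkerπ]
    exact isCyclic_center_SL_two
  · rw [hkerπ]
    exact card_center_SL_two
  · intro E _ p hp hc
    exact section_of_stem_trivial hperf
      (fun Γ _ _ σ hσ => Cfsg.Agent.Helper96.StemSLTwo.ker_eq_bot h4' h9 σ hσ) E p hp hc

end Cfsg.Agent.Helper31.StLG34
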