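import Cfsg.Agent.Helper56.U35.Defs

set_option autoImplicit false

namespace Cfsg.Agent.Helper31.U35

open MulAction Cfsg.Agent.Helper56.U35

variable {G : Type*} [Group G] {Ω : Type*} [MulAction G Ω]

/-- (NCL) a transitive subgroup containing a nontrivial subgroup normalised by the stabiliser is
everything -/
theorem eq_top_of_trans [IsSimpleGroup G] (D : TIData G Ω) (H : Subgroup G)
    (htr : ∀ w : Ω, ∃ h ∈ H, h • D.o = w) (K : Subgroup G) (hK : K ≠ ⊥) (hKH : K ≤ H)
    (hKB : ∀ b ∈ stabilizer G D.o, ∀ k ∈ K, b * k * b⁻¹ ∈ K) : H = ⊤ := by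
  have hconj : ∀ g : G, ∀ k ∈ K, g * k * g⁻¹ ∈ H := by
    intro g k hk
    obtain ⟨h, hh, hho⟩ := htr (g • D.o)
    have hb : h⁻¹ * g ∈ stabilizer G D.o := by
      rw [mem_stabilizer_iff, mul_smul, ← hho, smul_smul, inv_mul_cancel, one_smul]
    have h1 := hKB _ hb k hk
    have h2 : g * k * g⁻¹ = h * ((h⁻¹ * g) * k * (h⁻¹ * g)⁻¹) * h⁻¹ := by group
    rw [h2]
    exact H.mul_mem (H.mul_mem hh (hKH h1)) (H.inv_mem hh)
  have hN : Subgroup.normalClosure (K : Set G) ≤ H := by
    unfold Subgroup.normalClosure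
    rw [Subgroup.closure_le]
    intro x hx
    rw [Group.mem_conjugatesOfSet_iff] at hx
    obtain ⟨k, hk, hconjk⟩ := hx
    rw [isConj_iff] at hconjk
    obtain ⟨g, rfl⟩ := hconjk
    exact hconj g k hk
  have hNtop : Subgroup.normalClosure (K : Set G) = ⊤ := by
    rcases IsSimpleGroup.eq_bot_or_eq_top_of_normal _
      (Subgroup.normalClosure_normal (s := (K : Set G))) with h | h
    · exfalso
      apply hK
      rw [eq_bot_iff, ← h]
      exact Subgroup.le_normalClosure
    · exact h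
  rw [eq_top_iff, ← hNtop]
  exact hN

end Cfsg.Agent.Helper31.U35
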