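import Cfsg.Agent.Helper56.U35.Defs

set_option autoImplicit false

namespace Cfsg.Agent.Helper31.U35

open MulAction Cfsg.Agent.Helper56.U35

variable {G : Type*} [Group G] {Ω : Type*} [MulAction G Ω]

/-- (STB) the point stabiliser has order `1000` -/
theorem card_stabilizer (D : TIData G Ω) : Nat.card (stabilizer G D.o) = 1000 := by
  have horb : orbit G D.o = Set.univ := by
    ext w
    simp only [Set.mem_univ, iff_true]
    obtain ⟨g, hg⟩ := D.trans w
    exact ⟨g, hg⟩
  have h1 : Nat.card (orbit G D.o) = 126 := by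
    rw [horb, Nat.card_congr (Equiv.Set.univ Ω), D.cardΩ]
  have h2 := Nat.card_congr (MulAction.orbitProdStabilizerEquivGroup G D.o)
  rw [Nat.card_prod, h1, D.cardG] at h2
  omega

end Cfsg.Agent.Helper31.U35
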