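import Cfsg.Agent.Helper56.U35.Defs

set_option autoImplicit false

namespace Cfsg.Agent.Helper31.U35

open MulAction Cfsg.Agent.Helper56.U35

variable {G : Type*} [Group G] {Ω : Type*} [MulAction G Ω]

/-- (TSP) transport of the statement along an isomorphism -/
theorem transport {G₁ G₂ : Type*} [Group G₁] [Group G₂] (e : G₁ ≃* G₂)
    (h : (∀ H : Subgroup G₂, H ≠ ⊤ → 50 ≤ H.index) ∧ ∃ H : Subgroup G₂, H.index = 50) :
    (∀ H : Subgroup G₁, H ≠ ⊤ → 50 ≤ H.index) ∧ ∃ H : Subgroup G₁, H.index = 50 := by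
  obtain ⟨h1, H₂, hH₂⟩ := h
  constructor
  · intro H hH
    have h2 : (H.map e.toMonoidHom).index = H.index :=
      Subgroup.index_map_equiv H e
    rw [← h2]
    apply h1
    intro htop
    apply hH
    rw [eq_top_iff]
    intro x _
    have : e x ∈ H.map e.toMonoidHom := by rw [htop]; exact Subgroup.mem_top _
    obtain ⟨y, hy, hyx⟩ := this
    have : y = x := e.injective hyx
    rw [← this]
    exact hy
  · refine ⟨H₂.map e.symm.toMonoidHom, ?_⟩
    rw [← hH₂]
    exact Subgroup.index_map_equiv H₂ e.symm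

end Cfsg.Agent.Helper31.U35
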