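import Mathlib
import Cfsg.Agent.Helper44.U4Defs

/-!
# (DX7) for helper44's S6001 : an element of odd prime order `r` in `SU_4`, nonscalar (Cauchy)
-/

set_option autoImplicit false
open scoped MatrixGroups

namespace Cfsg.Agent.Helper31.U4

open Matrix Cfsg.Geo Cfsg.Agent.Helper44.U4

variable {F : Type*} [Field F]

/-- (DX7) Cauchy -/
theorem exists_order_r [Fintype F] (p : ℕ) (r : ℕ) (hr : r.Prime) (hr2 : r ≠ 2)
    (hdvd : r ∣ Nat.card (SU4 F p)) :
    ∃ x ∈ SU4 F p, x ^ r = 1 ∧ (∀ z : F, (x : Matrix (Fin 4) (Fin 4) F) ≠ z • 1) := by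
  classical
  haveI : Fact r.Prime := ⟨hr⟩
  haveI : Finite (GL (Fin 4) F) := Finite.of_injective
    (fun g : GL (Fin 4) F => (g : Matrix (Fin 4) (Fin 4) F)) Units.val_injective
  obtain ⟨y, hy⟩ := exists_prime_orderOf_dvd_card' (G := ↥(SU4 F p)) r hdvd
  refine ⟨y.1, y.2, ?_, ?_⟩
  · have h1 : y ^ r = 1 := by rw [← hy]; exact pow_orderOf_eq_one y
    have := congrArg (Subtype.val) h1
    simpa using this
  · intro z hz
    -- `det = 1`
    have hdet : (y.1 : Matrix (Fin 4) (Fin 4) F).det = 1 := by
      have h2 : y.1 ∈ specialLinear (Fin 4) F := y.2.2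
      have h3 : Matrix.GeneralLinearGroup.det y.1 = 1 := h2
      have := congrArg Units.val h3
      simpa using this
    have hz4 : z ^ 4 = 1 := by
      rw [hz] at hdet
      simpa [Matrix.det_smul] using hdet
    -- `y^r = 1`
    have h1 : y ^ r = 1 := by rw [← hy]; exact pow_orderOf_eq_one y
    have h1' : (y.1 : GL (Fin 4) F) ^ r = 1 := by
      have := congrArg (Subtype.val) h1
      simpa using this
    have h1m : (y.1 : Matrix (Fin 4) (Fin 4) F) ^ r = 1 := by
      have := congrArg (fun g : GL (Fin 4) F => (g : Matrix (Fin 4) (Fin 4) F)) h1'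
      simpa using this
    have hzr : z ^ r = 1 := by
      rw [hz, smul_pow, one_pow] at h1m
      have := congrFun (congrFun h1m 0) 0
      simpa using this
    -- `gcd(4, r) = 1`
    have hcop : Nat.Coprime 4 r := by
      have : Nat.Coprime 2 r := by
        rw [Nat.coprime_comm]
        exact (Nat.coprime_primes hr Nat.prime_two).2 hr2
      exact Nat.Coprime.pow_left 2 this
    have hz1 : z = 1 := by
      have hz0 : z ≠ 0 := by
        rintro rfl
        simp at hz4
      have hord4 : orderOf z ∣ 4 := orderOf_dvd_of_pow_eq_one hz4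
      have hordr : orderOf z ∣ r := orderOf_dvd_of_pow_eq_one hzr
      have : orderOf z ∣ 1 := by
        have := Nat.dvd_gcd hord4 hordr
        rwa [hcop] at this
      exact orderOf_eq_one_iff.1 (Nat.dvd_one.1 this)
    have hy1 : y = 1 := by
      apply Subtype.ext
      apply Units.ext
      rw [hz, hz1, one_smul]
      rfl
    rw [hy1, orderOf_one] at hy
    exact hr.one_lt.ne hy
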