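import Cfsg.Agent.Helper86.WEDefs
import Cfsg.Agent.Helper88.FrattiniInner
import Cfsg.Agent.S5256
import Cfsg.Agent.S5134

set_option autoImplicit false

/-! # Piece (D) of S5271: consequences of an inner factor system -/

namespace Cfsg.Agent.Helper31.WED

open Cfsg Cfsg.FusionSystem Cfsg.Agent.Helper86.WE

open scoped commutatorElement

variable {Ω : Type*} [Group Ω] {S : Subgroup Ω}

/-- If the factor system modulo the strongly closed subgroup `T` is inner, the hyperfocal subgroup lies in `T`. -/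
theorem hyperfocal_le_of_factor_inner [Finite S] {p : ℕ} [Fact p.Prime] (hS : IsPGroup p S) (F : FusionSystem S)
    (hF : F.IsSaturated p) {T : Subgroup Ω} (hT : F.StronglyClosed T) {Ω' : Type*} [Group Ω'] {S' : Subgroup Ω'}
    (θ : S →* Ω') (E : FusionSystem S') (hE : F.IsFactorSystem T θ E)
    (hEin : ∀ P' : Subgroup Ω', E.Hom P' = (innerFusionSystem S').Hom P') : F.hyperfocalSubgroup p ≤ T := by
  have hEeq : E = innerFusionSystem S' := Cfsg.Agent.Helper87.fusionSystem_ext hEin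
  have hS' : IsPGroup p S' := by
    rintro ⟨y, hy⟩
    have hy' : y ∈ θ.range := by rw [hE.2.2.1]; exact hy
    obtain ⟨s, rfl⟩ := hy'
    obtain ⟨k, hk⟩ := hS s
    refine ⟨k, Subtype.ext ?_⟩
    show (θ s) ^ p ^ k = 1
    rw [← map_pow, hk, map_one]
  have h1 := Cfsg.Agent.S5256.result p hS F hF T hT θ E hE
  rw [hEeq, Cfsg.Agent.Helper88.FrattiniInner.hyperfocal_inner hS'] at h1
  intro y hy
  have hyS : y ∈ S := Cfsg.Agent.Helper87.hyperfocalSubgroup_le F p hy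
  have h2 : θ ⟨y, hyS⟩ ∈ (⊥ : Subgroup Ω') := by
    rw [h1]
    exact Subgroup.mem_map_of_mem θ (Subgroup.mem_subgroupOf.mpr hy)
  exact (hE.2.1 ⟨y, hyS⟩).mp (Subgroup.mem_bot.mp h2)

/-- If the factor system modulo the strongly closed subgroup `T ≤ Φ(S)` is inner, the focal subgroup lies in
`Φ(S)`. -/
theorem focal_le_frattini_of_factor_inner [Finite S] {p : ℕ} [Fact p.Prime] (hS : IsPGroup p S)
    (F : FusionSystem S) (hF : F.IsSaturated p) {T : Subgroup Ω} (hT : F.StronglyClosed T) {Ω' : Type*}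
    [Group Ω'] {S' : Subgroup Ω'} (θ : S →* Ω') (E : FusionSystem S') (hE : F.IsFactorSystem T θ E)
    (hEin : ∀ P' : Subgroup Ω', E.Hom P' = (innerFusionSystem S').Hom P')
    (hTΦ : T ≤ (frattini ↥S).map S.subtype) : F.focalSubgroup ≤ (frattini ↥S).map S.subtype := by
  have hm : F.IsMorphism E θ := (Cfsg.Agent.S5134.result p hS F hF T hT θ E hE).1
  have hSnil : Group.IsNilpotent ↥S := hS.isNilpotent
  unfold focalSubgroup
  rw [Subgroup.closure_le]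
  rintro y ⟨P, φ, x, hφ, rfl⟩
  obtain ⟨φ', hφ', hP, hφv, hP', hind⟩ := hm.2 P φ hφ
  rw [hEin] at hφ'
  obtain ⟨-, g', hg', hgx⟩ := hφ'
  have hg'' : g' ∈ θ.range := by rw [hE.2.2.1]; exact hg'
  obtain ⟨g, rfl⟩ := hg''
  have h1 := hind x
  rw [hgx] at h1
  have h2 : θ ((g * ⟨x, hP x.2⟩ * g⁻¹)⁻¹ * ⟨φ x, hφv x⟩) = 1 := by
    rw [map_mul, map_inv, map_mul, map_mul, map_inv, ← h1]
    exact inv_mul_cancel _
  have h3 : (((g * ⟨x, hP x.2⟩ * g⁻¹)⁻¹ * ⟨φ x, hφv x⟩ : ↥S) : Ω) ∈ T := (hE.2.1 _).mp h2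
  have h4 : ((g * ⟨x, hP x.2⟩ * g⁻¹)⁻¹ * ⟨φ x, hφv x⟩ : ↥S) ∈ frattini ↥S := by
    obtain ⟨z, hz, hzz⟩ := hTΦ h3
    have e : z = (g * ⟨x, hP x.2⟩ * g⁻¹)⁻¹ * ⟨φ x, hφv x⟩ := Subtype.ext hzz
    rwa [e] at hz
  have h5 : (⟨x, hP x.2⟩ : ↥S)⁻¹ * (g * ⟨x, hP x.2⟩ * g⁻¹) ∈ frattini ↥S := by
    apply Cfsg.Agent.Helper90.commutator_le_frattini'
    have e : (⟨x, hP x.2⟩ : ↥S)⁻¹ * (g * ⟨x, hP x.2⟩ * g⁻¹) = ⁅(⟨x, hP x.2⟩ : ↥S)⁻¹, g⁆ := by
      rw [commutatorElement_def]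
      group
    rw [e]
    exact Subgroup.commutator_mem_commutator (Subgroup.mem_top _) (Subgroup.mem_top _)
  refine ⟨(⟨x, hP x.2⟩ : ↥S)⁻¹ * ⟨φ x, hφv x⟩, ?_, rfl⟩
  have e : (⟨x, hP x.2⟩ : ↥S)⁻¹ * ⟨φ x, hφv x⟩ =
      ((⟨x, hP x.2⟩ : ↥S)⁻¹ * (g * ⟨x, hP x.2⟩ * g⁻¹)) * ((g * ⟨x, hP x.2⟩ * g⁻¹)⁻¹ * ⟨φ x, hφv x⟩) := by
    group
  rw [e]
  exact mul_mem h5 h4

end Cfsg.Agent.Helper31.WED
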