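import Cfsg.Agent.Helper86.WEDefs
import Cfsg.Agent.Helper88.FrattiniInner
import Cfsg.Agent.Helper63.PGroup

set_option autoImplicit false

/-! # Piece (E) of S5271: a strongly closed subgroup of prime order containing the hyperfocal subgroup -/

namespace Cfsg.Agent.Helper31.WEE

open Cfsg Cfsg.FusionSystem Cfsg.Agent.Helper86.WE Cfsg.Agent.Helper87

variable {Ω : Type*} [Group Ω] {S : Subgroup Ω}

/-- A strongly closed subgroup is normalized by `S`. -/
theorem conj_mem_of_stronglyClosed (F : FusionSystem S) {T : Subgroup Ω} (hT : F.StronglyClosed T) {g : Ω}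
    (hg : g ∈ S) {x : Ω} (hx : x ∈ T) : g * x * g⁻¹ ∈ T :=
  hT.2 T le_rfl (conjHom T g) (F.conj_mem hT.1 hg) ⟨x, hx⟩

/-- A strongly closed subgroup of prime order is central in `S`. -/
theorem central_of_stronglyClosed_card_prime [Finite S] {p : ℕ} [Fact p.Prime] (hS : IsPGroup p S)
    (F : FusionSystem S) {T : Subgroup Ω} (hT : F.StronglyClosed T) (hTc : Nat.card T = p) :
    ∀ g ∈ S, ∀ x ∈ T, g * x * g⁻¹ = x := by
  have : (T.subgroupOf S).Normal := by
    constructor
    intro n hn g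
    rw [Subgroup.mem_subgroupOf] at hn ⊢
    exact conj_mem_of_stronglyClosed F hT g.2 hn
  have hc : Nat.card (T.subgroupOf S) = p := by
    rw [← hTc]
    exact Nat.card_congr (Subgroup.subgroupOfEquivOfLe hT.1).toEquiv
  have h := Cfsg.Agent.Helper63.le_center_of_normal_of_card_eq_prime hS (T.subgroupOf S) hc
  intro g hg x hx
  have h1 : (⟨x, hT.1 hx⟩ : S) ∈ Subgroup.center S := h (Subgroup.mem_subgroupOf.mpr hx)
  have h2 := Subgroup.mem_center_iff.mp h1 ⟨g, hg⟩
  have h3 : g * x = x * g := congrArg Subtype.val h2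
  rw [h3, mul_inv_cancel_right]

/-- A strongly closed subgroup of a saturated system is receptive. -/
theorem isReceptive_of_stronglyClosed [Finite S] {p : ℕ} (F : FusionSystem S) (hF : F.IsSaturated p)
    {T : Subgroup Ω} (hT : F.StronglyClosed T) : F.IsReceptive T := by
  obtain ⟨Q, ⟨φ, hφ, hQ⟩, -, hrec⟩ := hF T hT.1
  subst hQ
  have hQT : φ.range ≤ T := by
    rintro _ ⟨x, rfl⟩
    exact hT.2 T le_rfl φ hφ x
  have : Finite T := finite_of_le hT.1
  have : Finite φ.range := finite_of_le (hQT.trans hT.1)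
  have hcard : Nat.card T ≤ Nat.card φ.range :=
    Nat.card_le_card_of_injective (fun x => (⟨φ x, x, rfl⟩ : φ.range))
      (fun a b h => F.injective_of_mem hφ (congrArg Subtype.val h))
  have e : φ.range = T := Subgroup.eq_of_le_of_card_ge hQT hcard
  rwa [e] at hrec

/-- The key step: an automorphism of the system of order prime to `p` is trivial. -/
theorem aut_eq_one_of_coprime [Finite S] {p : ℕ} [Fact p.Prime] (hS : IsPGroup p S) (F : FusionSystem S)
    (hF : F.IsSaturated p) {T : Subgroup Ω} (hT : F.StronglyClosed T) (hTc : Nat.card T = p)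
    (hhyp : F.hyperfocalSubgroup p ≤ T) (hAS : IsPGroup p (F.autGroup S)) {R : Subgroup Ω} (hRS : R ≤ S)
    (α : MulAut R) (hα : α ∈ F.autGroup R) (hcop : Nat.Coprime (orderOf α) p) : α = 1 := by
  classical
  have hp : p.Prime := Fact.out
  have : Finite T := finite_of_le hT.1
  have h1 : ∀ x : R, (x : Ω)⁻¹ * ((α x : R) : Ω) ∈ T := by
    intro x
    apply hhyp
    have hres : (⟨α, hα⟩ : F.autGroup R) ∈ pResidual p (F.autGroup R) := by
      apply Subgroup.subset_closure
      show Nat.Coprime (orderOf (⟨α, hα⟩ : F.autGroup R)) p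
      rw [← Subgroup.orderOf_coe]
      exact hcop
    exact mem_hyperfocalSubgroup F p hRS ⟨α, hα⟩ hres x
  have hTp : ∀ t ∈ T, t ^ p = 1 := by
    intro t ht
    have h2 : (⟨t, ht⟩ : T) ^ Nat.card T = 1 := pow_card_eq_one'
    rw [hTc] at h2
    exact congrArg Subtype.val h2
  by_cases hTR : T ≤ R
  · have hiso : R.subtype.comp (α : R ≃* R).toMonoidHom ∈ F.Hom R := (mem_autGroup_iff F hRS α).mp hα
    have hαT : ∀ x : R, (x : Ω) ∈ T → ((α x : R) : Ω) ∈ T := by
      intro x hx
      exact hT.2 T le_rfl _ (restrict_mem F hiso hTR) ⟨x, hx⟩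
    have hcen := central_of_stronglyClosed_card_prime hS F hT hTc
    have hrecT := isReceptive_of_stronglyClosed F hF hT
    set φT : T →* Ω := (R.subtype.comp (α : R ≃* R).toMonoidHom).comp (Subgroup.inclusion hTR) with hφT
    have hφTmem : φT ∈ F.Hom T := restrict_mem F hiso hTR
    have hφTapp : ∀ x : T, φT x = ((α ⟨x, hTR x.2⟩ : R) : Ω) := fun x => rfl
    have hφTT : ∀ x : T, φT x ∈ T := fun x => hαT _ x.2
    have hrange : φT.range = T := by
      apply le_antisymm
      · rintro _ ⟨x, rfl⟩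
        exact hφTT x
      · intro y hy
        have hinj : Function.Injective (φT.codRestrict T hφTT) :=
          fun a b h => by
            have h' := congrArg Subtype.val h
            exact F.injective_of_mem hφTmem h'
        obtain ⟨x, hx⟩ := (Finite.injective_iff_surjective.mp hinj) ⟨y, hy⟩
        exact ⟨x, congrArg Subtype.val hx⟩
    have hext : extender S T φT = S := by
      apply le_antisymm (Cfsg.Agent.Helper88.FS.extender_le S T φT)
      intro g hg
      rw [mem_extender_iff]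
      refine ⟨hg, ?_, 1, S.one_mem, ?_⟩
      · rw [Subgroup.mem_normalizer_iff]
        intro n
        constructor
        · intro hn
          rw [hcen g hg n hn]
          exact hn
        · intro hn
          have h2 := hcen g⁻¹ (S.inv_mem hg) _ hn
          have h3 : g⁻¹ * (g * n * g⁻¹) * g⁻¹⁻¹ = n := by group
          rw [h3] at h2
          rw [h2]
          exact hn
      · intro x hx
        have e : (⟨g * (x : Ω) * g⁻¹, hx⟩ : T) = x := Subtype.ext (hcen g hg x x.2)
        rw [e, one_mul, inv_one, mul_one]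
    obtain ⟨ψ, hψ, hψx⟩ := hrecT.2 T φT hφTmem hrange
    obtain ⟨β₀, hβ₀, hβ₀x⟩ := Cfsg.Agent.Helper88.FS.exists_hom_of_eq F hext hψ
    have hβ₀S : ∀ x : S, β₀ x ∈ S := (F.le_of_mem hβ₀).2
    have hinj : Function.Injective (β₀.codRestrict S hβ₀S) :=
      fun a b hab => F.injective_of_mem hβ₀ (congrArg Subtype.val hab)
    have hbij : Function.Bijective (β₀.codRestrict S hβ₀S) := ⟨hinj, Finite.injective_iff_surjective.mp hinj⟩
    let β : MulAut ↥S := MulEquiv.ofBijective (β₀.codRestrict S hβ₀S) hbij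
    have hβ : β ∈ F.autGroup S := by
      rw [mem_autGroup_iff F le_rfl]
      exact mem_of_eq F hβ₀ (fun x => rfl)
    obtain ⟨m, hm⟩ := hAS ⟨β, hβ⟩
    have hm' : β ^ p ^ m = 1 := congrArg Subtype.val hm
    have hβT : ∀ (x : Ω) (hx : x ∈ T), ((β ⟨x, hT.1 hx⟩ : S) : Ω) = ((α ⟨x, hTR hx⟩ : R) : Ω) := by
      intro x hx
      show β₀ ⟨x, hT.1 hx⟩ = _
      have hxe : x ∈ extender S T φT := by rw [hext]; exact hT.1 hx
      rw [hβ₀x x hxe (hT.1 hx), hψx x hx hxe]
      rfl
    have hpow : ∀ (j : ℕ) (x : Ω) (hx : x ∈ T),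
        (((β ^ j) ⟨x, hT.1 hx⟩ : S) : Ω) = (((α ^ j) ⟨x, hTR hx⟩ : R) : Ω) ∧
          (((α ^ j) ⟨x, hTR hx⟩ : R) : Ω) ∈ T := by
      intro j
      induction j with
      | zero =>
        intro x hx
        simp only [pow_zero, MulAut.one_apply]
        exact ⟨trivial, hx⟩
      | succ j ih =>
        intro x hx
        obtain ⟨e1, e2⟩ := ih x hx
        rw [pow_succ', pow_succ', MulAut.mul_apply, MulAut.mul_apply]
        have e3 : (β ^ j) ⟨x, hT.1 hx⟩ = ⟨((α ^ j) ⟨x, hTR hx⟩ : R), hT.1 e2⟩ := Subtype.ext e1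
        rw [e3]
        exact ⟨hβT _ e2, hαT _ e2⟩
    have hfix_pm : ∀ (x : Ω) (hx : x ∈ T), (((α ^ p ^ m) ⟨x, hTR hx⟩ : R) : Ω) = x := by
      intro x hx
      rw [← (hpow _ x hx).1, hm']
      rfl
    obtain ⟨k, hk⟩ := exists_pow_eq_self_of_coprime
      (Nat.Coprime.pow_left m hcop.symm : Nat.Coprime (p ^ m) (orderOf α))
    have hfixpow : ∀ γ : MulAut R, (∀ (x : Ω) (hx : x ∈ T), ((γ ⟨x, hTR hx⟩ : R) : Ω) = x) →
        ∀ (k : ℕ) (x : Ω) (hx : x ∈ T), (((γ ^ k) ⟨x, hTR hx⟩ : R) : Ω) = x := by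
      intro γ hγ k
      induction k with
      | zero =>
        intro x hx
        simp only [pow_zero, MulAut.one_apply]
      | succ k ih =>
        intro x hx
        rw [pow_succ', MulAut.mul_apply]
        have e : (γ ^ k) ⟨x, hTR hx⟩ = ⟨x, hTR hx⟩ := Subtype.ext (ih x hx)
        rw [e]
        exact hγ x hx
    have hfix : ∀ (x : Ω) (hx : x ∈ T), ((α ⟨x, hTR hx⟩ : R) : Ω) = x := by
      intro x hx
      have h2 := hfixpow _ hfix_pm k x hx
      rwa [hk] at h2
    have hform : ∀ (j : ℕ) (x : R),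
        (((α ^ j) x : R) : Ω) = (x : Ω) * ((x : Ω)⁻¹ * ((α x : R) : Ω)) ^ j := by
      intro j x
      induction j with
      | zero => simp only [pow_zero, MulAut.one_apply, mul_one]
      | succ j ih =>
        rw [pow_succ' α, MulAut.mul_apply]
        have e : (α ^ j) x = x * (x⁻¹ * α x) ^ j := Subtype.ext (by rw [ih]; rfl)
        rw [e, map_mul, map_pow]
        have hfx : α (x⁻¹ * α x) = x⁻¹ * α x := Subtype.ext (hfix _ (h1 x))
        rw [hfx]
        show ((α x : R) : Ω) * ((x : Ω)⁻¹ * ((α x : R) : Ω)) ^ j = _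
        rw [pow_succ', ← mul_assoc, ← mul_assoc, mul_inv_cancel, one_mul]
    have hαp : α ^ p = 1 := by
      ext x
      rw [hform p x, hTp _ (h1 x), mul_one]
      rfl
    have hdvd : orderOf α ∣ p := orderOf_dvd_of_pow_eq_one hαp
    have h3 : orderOf α = 1 := Nat.Coprime.eq_one_of_dvd hcop hdvd
    exact orderOf_eq_one_iff.mp h3
  · ext x
    show ((α x : R) : Ω) = x
    have hx := h1 x
    by_contra hne
    apply hTR
    have ht1 : (x : Ω)⁻¹ * ((α x : R) : Ω) ≠ 1 := by
      intro h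
      apply hne
      rw [inv_mul_eq_one] at h
      exact h.symm
    have htR : (x : Ω)⁻¹ * ((α x : R) : Ω) ∈ R := R.mul_mem (R.inv_mem x.2) (α x).2
    have hz : Subgroup.zpowers (⟨(x : Ω)⁻¹ * ((α x : R) : Ω), hx⟩ : T) = ⊤ :=
      zpowers_eq_top_of_prime_card (p := p) hTc (fun h => ht1 (congrArg Subtype.val h))
    intro y hy
    have h2 : (⟨y, hy⟩ : T) ∈ Subgroup.zpowers (⟨(x : Ω)⁻¹ * ((α x : R) : Ω), hx⟩ : T) := by
      rw [hz]
      trivial
    obtain ⟨k, hk⟩ := Subgroup.mem_zpowers_iff.mp h2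
    have h3 : ((x : Ω)⁻¹ * ((α x : R) : Ω)) ^ k = y := congrArg Subtype.val hk
    rw [← h3]
    exact R.zpow_mem htR k

/-- **Piece (E).** -/
theorem inner_of_card_eq_prime [Finite S] {p : ℕ} [Fact p.Prime] (hS : IsPGroup p S) (F : FusionSystem S)
    (hF : F.IsSaturated p) {T : Subgroup Ω} (hT : F.StronglyClosed T) (hTc : Nat.card T = p)
    (hhyp : F.hyperfocalSubgroup p ≤ T) (hAS : IsPGroup p (F.autGroup S)) :
    ∀ P : Subgroup Ω, F.Hom P = (innerFusionSystem S).Hom P := by
  have hpG : ∀ P : Subgroup Ω, P ≤ S → IsPGroup p (F.autGroup P) := by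
    intro P hPS
    have : Finite (MulAut P) := finite_mulAut_of_le hPS
    have hres : pResidual p (F.autGroup P) = ⊥ := by
      unfold pResidual
      rw [Subgroup.closure_eq_bot_iff]
      intro α hα
      have hα' : Nat.Coprime (orderOf α) p := hα
      rw [← Subgroup.orderOf_coe] at hα'
      have h2 := aut_eq_one_of_coprime hS F hF hT hTc hhyp hAS hPS α.1 α.2 hα'
      rw [Set.mem_singleton_iff]
      exact Subtype.ext h2
    intro α
    obtain ⟨k, hk⟩ := Cfsg.Agent.Lib.isPGroup_quotient_pResidual (G := F.autGroup P) p (QuotientGroup.mk α)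
    refine ⟨k, ?_⟩
    rw [← QuotientGroup.mk_pow, QuotientGroup.eq_one_iff, hres, Subgroup.mem_bot] at hk
    exact hk
  have hfrob := frobenius_inner p hS F hF hpG
  intro P
  apply Set.Subset.antisymm
  · intro φ hφ
    obtain ⟨g, hg, hgx⟩ := hfrob P φ hφ
    exact ⟨(F.le_of_mem hφ).1, g, hg, hgx⟩
  · exact inner_hom_subset F P

end Cfsg.Agent.Helper31.WEE
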