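import Cfsg.Agent.Helper39.X648.Conc
import Cfsg.Agent.Helper96.UFour

/-!
# (K4) for helper39's S3366 (#11032): `orderOf cT = 3`

`gT` has the explicit matrix `mT = 1 + E_{inl 0, inr 0}`; `mT^3 = 1`, and `gT ≠ ±1` so `gT` is not central
(`Helper96.UFour.center_cases`).
-/

set_option autoImplicit false

namespace Cfsg.Agent.Helper31.X648

open Cfsg.Agent.Helper39.X648 Matrix

/-- the explicit matrix of `gT` -/
def mT : Matrix I4 I4 (ZMod 3) :=
  Matrix.fromBlocks !![1, 0; 0, 1] !![1, 0; 0, 0] !![0, 0; 0, 0] !![1, 0; 0, 1]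

theorem gT_val_eq : (gT : Matrix I4 I4 (ZMod 3)) = mT := by
  rw [gT_val]
  unfold Cfsg.sympTransvection mT e0
  decide +kernel

theorem mT_pow : mT * mT * mT = 1 := by
  unfold mT
  decide +kernel

theorem gT_pow : gT ^ 3 = 1 := by
  apply Subtype.ext
  show (gT : Matrix I4 I4 (ZMod 3)) ^ 3 = 1
  rw [gT_val_eq, pow_succ, pow_two, mT_pow]

theorem gT_ne_one : gT ≠ 1 := by
  intro h
  have h1 : (gT : Matrix I4 I4 (ZMod 3)) = 1 := congrArg Subtype.val h
  rw [gT_val_eq] at h1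
  have h2 := congrFun (congrFun h1 (Sum.inl 0)) (Sum.inr 0)
  revert h2
  unfold mT
  decide +kernel

theorem gT_ne_negOne : gT ≠ Cfsg.Agent.Helper96.UFour.negOne := by
  intro h
  have h1 : (gT : Matrix I4 I4 (ZMod 3)) = -1 := congrArg Subtype.val h
  rw [gT_val_eq] at h1
  have h2 := congrFun (congrFun h1 (Sum.inl 0)) (Sum.inr 0)
  revert h2
  unfold mT
  decide +kernel

/-- (K4) -/
theorem orderOf_cT : orderOf cT = 3 := by
  have : Fact (Nat.Prime 3) := ⟨Nat.prime_three⟩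
  apply orderOf_eq_prime
  · show (QuotientGroup.mk gT : Sp3 ⧸ Subgroup.center Sp3) ^ 3 = 1
    rw [← QuotientGroup.mk_pow, gT_pow, QuotientGroup.mk_one]
  · intro h
    have h1 : gT ∈ Subgroup.center Sp3 := (QuotientGroup.eq_one_iff gT).mp h
    rcases Cfsg.Agent.Helper96.UFour.center_cases gT h1 with h2 | h2
    · exact gT_ne_one h2
    · exact gT_ne_negOne h2

end Cfsg.Agent.Helper31.X648
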