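import Cfsg.Agent.Helper39.X648.Conc
import Cfsg.Agent.Helper96.UFour

/-!
# (K5c) for helper39's S3366 (#11032): `St → PSp_4(3)` is injective

The kernel of `Sp_4(3) → PSp_4(3)` is `{1, -1}` (`Helper96.UFour.center_cases`) and `-1` moves `e0`.
-/

set_option autoImplicit false

namespace Cfsg.Agent.Helper31.X648

open Cfsg.Agent.Helper39.X648 Matrix

/-- the quotient `PSp_4(3)` (an `abbrev` in the skeleton) -/
local notation "P3" => (Sp3 ⧸ Subgroup.center Sp3)

theorem negOne_not_mem_St : Cfsg.Agent.Helper96.UFour.negOne ∉ St := by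
  intro h
  rw [mem_St] at h
  have h1 : (-1 : Matrix I4 I4 (ZMod 3)) *ᵥ e0 = e0 := h
  have h2 := congrFun h1 (Sum.inl 0)
  revert h2
  unfold e0
  decide +kernel

/-- (K5c) -/
theorem St_inj : ∀ s ∈ St, (QuotientGroup.mk s : P3) = 1 → s = 1 := by
  intro s hs h
  have h1 : s ∈ Subgroup.center Sp3 := (QuotientGroup.eq_one_iff s).mp h
  rcases Cfsg.Agent.Helper96.UFour.center_cases s h1 with h2 | h2
  · exact h2
  · exact absurd (h2 ▸ hs) negOne_not_mem_St

end Cfsg.Agent.Helper31.X648
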