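import Mathlib
import Cfsg.Agent.Helper43.XS.Defs
import Cfsg.Agent.Helper43.InvConj

/-!
# S6002 piece (A2) for helper43: a matrix commuting with two anticommuting involutions of `F⁴`
satisfies a quadratic equation and `rank (y - 1)` is even
-/

set_option autoImplicit false
set_option linter.unusedSectionVars false
set_option linter.unusedVariables false

namespace Cfsg.Agent.Helper31.XS

open Matrix Cfsg Cfsg.Geo Cfsg.Agent.Helper43.XS Module

variable {F : Type*} [Field F]

local notation "Mat" => Matrix (Fin 2 ⊕ Fin 2) (Fin 2 ⊕ Fin 2) F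
local notation "GLn" => GL (Fin 2 ⊕ Fin 2) F
local notation "Vec" => (Fin 2 ⊕ Fin 2 → F)

section lin

variable {V : Type*} [AddCommGroup V] [Module F V] [Module.Finite F V]

/-- the linear-algebra core of (A2) -/
theorem quadratic_lin (h2 : (2 : F) ≠ 0) (hV : finrank F V = 4) (φ ψ y : V →ₗ[F] V)
    (hφ : ∀ v, φ (φ v) = v) (hψ : ∀ v, ψ (ψ v) = v) (hanti : ∀ v, φ (ψ v) = -ψ (φ v))
    (hyφ : ∀ v, y (φ v) = φ (y v)) (hyψ : ∀ v, y (ψ v) = ψ (y v)) :
    (∃ α β : F, ∀ v, y (y v) = α • y v + β • v) ∧
      Even (finrank F (LinearMap.range (y - 1))) := by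
  have hc : IsCompl (LinearMap.ker (φ - 1)) (LinearMap.ker (φ + 1)) :=
    Cfsg.Agent.Helper43.Inv.isCompl_of_invol h2 φ hφ
  set p := LinearMap.ker (φ - 1) with hp
  set q := LinearMap.ker (φ + 1) with hq
  have memp : ∀ v, v ∈ p ↔ φ v = v := by
    intro v
    rw [hp, LinearMap.mem_ker, LinearMap.sub_apply, Module.End.one_apply, sub_eq_zero]
  have memq : ∀ v, v ∈ q ↔ φ v = -v := by
    intro v
    rw [hq, LinearMap.mem_ker, LinearMap.add_apply, Module.End.one_apply,
      add_eq_zero_iff_eq_neg]
  -- `ψ` swaps `p` and `q`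
  have hψp : ∀ v ∈ p, ψ v ∈ q := by
    intro v hv
    rw [memq, hanti, (memp v).mp hv]
  have hψq : ∀ v ∈ q, ψ v ∈ p := by
    intro v hv
    rw [memp, hanti, (memq v).mp hv, map_neg, neg_neg]
  have hqmap : q = p.map ψ := by
    ext v
    constructor
    · intro hv
      exact ⟨ψ v, hψq v hv, hψ v⟩
    · rintro ⟨w, hw, rfl⟩
      exact hψp w hw
  have hψinj : Function.Injective ψ := fun a b h => by rw [← hψ a, ← hψ b, h]
  -- `y` preserves `p`
  have hyp : ∀ v ∈ p, y v ∈ p := by
    intro v hv
    rw [memp, ← hyφ, (memp v).mp hv]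
  -- dimension
  have hfin : finrank F p = 2 := by
    have h1 := Submodule.finrank_add_eq_of_isCompl hc
    have h2' : finrank F q = finrank F p := by
      rw [hqmap]
      exact (Submodule.equivMapOfInjective ψ hψinj p).finrank_eq.symm
    omega
  refine ⟨?_, ?_⟩
  · -- the quadratic equation: Cayley-Hamilton on `p`
    let g : p →ₗ[F] p := y.restrict hyp
    have hmonic := g.charpoly_monic
    have hdeg : g.charpoly.natDegree = 2 := by rw [LinearMap.charpoly_natDegree, hfin]
    have hsum := hmonic.as_sum
    rw [hdeg] at hsum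
    have haev := LinearMap.aeval_self_charpoly g
    rw [hsum] at haev
    set c₀ := g.charpoly.coeff 0 with hc₀
    set c₁ := g.charpoly.coeff 1 with hc₁
    have hpv : ∀ v ∈ p, y (y v) = (-c₁) • y v + (-c₀) • v := by
      intro v hv
      have h1 := LinearMap.congr_fun haev ⟨v, hv⟩
      simp only [Finset.sum_range_succ, Finset.range_zero, Finset.sum_empty, zero_add, pow_zero,
        mul_one, pow_one, map_add, map_pow, Polynomial.aeval_X, Polynomial.aeval_C, map_mul,
        LinearMap.add_apply, LinearMap.zero_apply] at h1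
      have h3 := congrArg Subtype.val h1
      simp only [Submodule.coe_add, Submodule.coe_zero] at h3
      have e1 : (((g ^ 2) ⟨v, hv⟩ : p) : V) = y (y v) := by
        rw [pow_two, Module.End.mul_apply]
        rfl
      have e2 : ((((algebraMap F (Module.End F p)) c₀) ⟨v, hv⟩ : p) : V) = c₀ • v := by
        rw [Module.algebraMap_end_apply]
        rfl
      have e3 : ((((algebraMap F (Module.End F p)) c₁ * g) ⟨v, hv⟩ : p) : V) = c₁ • y v := by
        rw [Module.End.mul_apply, Module.algebraMap_end_apply]
        rfl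
      rw [e1, e2, e3] at h3
      rw [neg_smul, neg_smul]
      have : y (y v) = -(c₀ • v + c₁ • y v) := eq_neg_of_add_eq_zero_left h3
      rw [this]
      abel
    refine ⟨-c₁, -c₀, ?_⟩
    intro v
    have hv : v ∈ p ⊔ q := by rw [hc.sup_eq_top]; exact Submodule.mem_top
    obtain ⟨a, ha, b, hb, rfl⟩ := Submodule.mem_sup.mp hv
    have hb' : b = ψ (ψ b) := (hψ b).symm
    have hw := hψq b hb
    have h1 := hpv a ha
    have h3 := hpv (ψ b) hw
    have h4 : y (y b) = (-c₁) • y b + (-c₀) • b := by
      have := congrArg ψ h3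
      rw [← hyψ, ← hyψ, hψ, map_add, map_smul, map_smul, ← hyψ, hψ] at this
      exact this
    rw [map_add, map_add, h1, h4, smul_add, smul_add]
    abel
  · -- the rank
    set f : V →ₗ[F] V := y - 1 with hf
    have hfψ : ∀ v, f (ψ v) = ψ (f v) := by
      intro v
      rw [hf, LinearMap.sub_apply, LinearMap.sub_apply, Module.End.one_apply,
        Module.End.one_apply, hyψ, map_sub]
    have hfp : p.map f ≤ p := by
      rintro _ ⟨v, hv, rfl⟩
      rw [hf, LinearMap.sub_apply, Module.End.one_apply]
      exact p.sub_mem (hyp v hv) hv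
    have hfq : q.map f = (p.map f).map ψ := by
      rw [hqmap, ← Submodule.map_comp, ← Submodule.map_comp]
      congr 1
      ext v
      exact hfψ v
    have hfq' : q.map f ≤ q := by
      rw [hfq, hqmap]
      exact Submodule.map_mono hfp
    have hrange : LinearMap.range f = p.map f ⊔ q.map f := by
      rw [LinearMap.range_eq_map, ← hc.sup_eq_top, Submodule.map_sup]
    have hdisj : p.map f ⊓ q.map f = ⊥ := by
      rw [eq_bot_iff, ← hc.inf_eq_bot]
      exact inf_le_inf hfp hfq'
    have h1 := Submodule.finrank_sup_add_finrank_inf_eq (p.map f) (q.map f)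
    rw [hdisj, finrank_bot, add_zero] at h1
    have h3 : finrank F (q.map f) = finrank F (p.map f) := by
      rw [hfq]
      exact (Submodule.equivMapOfInjective ψ hψinj (p.map f)).finrank_eq.symm
    rw [hrange, h1, h3]
    exact ⟨_, rfl⟩

end lin

/-- (A2) a matrix commuting with two anticommuting involutions is `diag(A, A)` -/
theorem quadratic_of_commute (h2 : (2 : F) ≠ 0) {E E' : GLn} (hE : E * E = 1) (hE' : E' * E' = 1)
    (hanti : E * E' = -(E' * E)) (y : GLn) (hyE : y * E = E * y) (hyE' : y * E' = E' * y) :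
    (∃ α β : F, (y : Mat) * (y : Mat) = α • (y : Mat) + β • (1 : Mat)) ∧
      Even ((y : Mat) - 1).rank := by
  set Y : Mat := (y : Mat) with hY
  set e : Mat := (E : Mat) with he
  set e' : Mat := (E' : Mat) with he'
  have hee : e * e = 1 := by
    rw [he, ← Units.val_mul, hE, Units.val_one]
  have hee' : e' * e' = 1 := by
    rw [he', ← Units.val_mul, hE', Units.val_one]
  have hant : e * e' = -(e' * e) := by
    have := congrArg (fun g : GLn => (g : Mat)) hanti
    simp only [Units.val_mul, val_neg_GL] at this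
    exact this
  have hYe : Y * e = e * Y := by
    have := congrArg (fun g : GLn => (g : Mat)) hyE
    simp only [Units.val_mul] at this
    exact this
  have hYe' : Y * e' = e' * Y := by
    have := congrArg (fun g : GLn => (g : Mat)) hyE'
    simp only [Units.val_mul] at this
    exact this
  have hV : finrank F Vec = 4 := by
    rw [Module.finrank_pi, Fintype.card_sum, Fintype.card_fin]
  have key := quadratic_lin (V := Vec) h2 hV e.mulVecLin e'.mulVecLin Y.mulVecLin
    (fun v => by
      rw [Matrix.mulVecLin_apply, Matrix.mulVecLin_apply, Matrix.mulVec_mulVec, hee,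
        Matrix.one_mulVec])
    (fun v => by
      rw [Matrix.mulVecLin_apply, Matrix.mulVecLin_apply, Matrix.mulVec_mulVec, hee',
        Matrix.one_mulVec])
    (fun v => by
      rw [Matrix.mulVecLin_apply, Matrix.mulVecLin_apply, Matrix.mulVecLin_apply,
        Matrix.mulVecLin_apply, Matrix.mulVec_mulVec, Matrix.mulVec_mulVec, hant,
        Matrix.neg_mulVec])
    (fun v => by
      rw [Matrix.mulVecLin_apply, Matrix.mulVecLin_apply, Matrix.mulVecLin_apply,
        Matrix.mulVecLin_apply, Matrix.mulVec_mulVec, Matrix.mulVec_mulVec, hYe])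
    (fun v => by
      rw [Matrix.mulVecLin_apply, Matrix.mulVecLin_apply, Matrix.mulVecLin_apply,
        Matrix.mulVecLin_apply, Matrix.mulVec_mulVec, Matrix.mulVec_mulVec, hYe'])
  obtain ⟨⟨α, β, hq⟩, hev⟩ := key
  refine ⟨⟨α, β, ?_⟩, ?_⟩
  · apply Matrix.toLin'.injective
    apply LinearMap.ext
    intro v
    have := hq v
    simp only [Matrix.mulVecLin_apply] at this
    simp only [Matrix.toLin'_apply, map_add, map_smul, LinearMap.add_apply, LinearMap.smul_apply,
      Matrix.toLin'_one, LinearMap.id_apply, ← Matrix.mulVec_mulVec]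
    exact this
  · have hsub : (Y - 1).mulVecLin = Y.mulVecLin - 1 := by
      apply LinearMap.ext
      intro v
      simp
    unfold Matrix.rank
    rw [hsub]
    exact hev

end Cfsg.Agent.Helper31.XS
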