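import Mathlib
import Cfsg.Agent.Helper43.XS.Defs

/-!
# S6002 piece (A4) for helper43: an element with `rank (y - 1) ≤ 1` cannot move an involution to
an anticommuting one
-/

set_option autoImplicit false
set_option linter.unusedSectionVars false
set_option linter.unusedVariables false

namespace Cfsg.Agent.Helper31.XS

open Matrix Cfsg Cfsg.Geo Cfsg.Agent.Helper43.XS

variable {F : Type*} [Field F]

local notation "Mat" => Matrix (Fin 2 ⊕ Fin 2) (Fin 2 ⊕ Fin 2) F
local notation "GLn" => GL (Fin 2 ⊕ Fin 2) F
local notation "Vec" => (Fin 2 ⊕ Fin 2 → F)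

/-- subadditivity of the rank of matrices -/
theorem rank_add_le_rank_add_rank {m n : Type*} [Fintype m] [Fintype n] [DecidableEq n]
    (A B : Matrix m n F) : (A + B).rank ≤ A.rank + B.rank := by
  unfold Matrix.rank
  have hle : LinearMap.range (A + B).mulVecLin ≤
      LinearMap.range A.mulVecLin ⊔ LinearMap.range B.mulVecLin := by
    rintro _ ⟨v, rfl⟩
    rw [Matrix.mulVecLin_add, LinearMap.add_apply]
    exact Submodule.add_mem_sup ⟨v, rfl⟩ ⟨v, rfl⟩
  exact (Submodule.finrank_mono hle).trans (Submodule.finrank_add_le_finrank_add_finrank _ _)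

/-- (A4) an element with `rank (y - 1) ≤ 1` cannot move an involution to an anticommuting one -/
theorem false_of_rank_le_one (h2 : (2 : F) ≠ 0) {E E' : GLn} (hE : E * E = 1) (hE' : E' * E' = 1)
    (hanti : E * E' = -(E' * E)) (y : GLn) (hrank : ((y : Mat) - 1).rank ≤ 1)
    (hconj : y * E * y⁻¹ = E' ∨ y * E * y⁻¹ = -E') : False := by
  -- pass to matrices
  set Y : Mat := (y : Mat) with hY
  set Yi : Mat := ((y⁻¹ : GLn) : Mat) with hYi
  set e : Mat := (E : Mat) with he
  set e' : Mat := (E' : Mat) with he'
  have hYYi : Y * Yi = 1 := by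
    rw [hY, hYi, ← Units.val_mul, mul_inv_cancel, Units.val_one]
  have hYiY : Yi * Y = 1 := by
    rw [hY, hYi, ← Units.val_mul, inv_mul_cancel, Units.val_one]
  have hee : e * e = 1 := by
    rw [he, ← Units.val_mul, hE, Units.val_one]
  have hee' : e' * e' = 1 := by
    rw [he', ← Units.val_mul, hE', Units.val_one]
  have hant : e * e' = -(e' * e) := by
    have := congrArg (fun g : GLn => (g : Mat)) hanti
    simpa [val_neg_GL] using this
  have hcj : Y * e * Yi = e' ∨ Y * e * Yi = -e' := by
    rcases hconj with h | h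
    · left
      have := congrArg (fun g : GLn => (g : Mat)) h
      simp only [Units.val_mul] at this
      exact this
    · right
      have := congrArg (fun g : GLn => (g : Mat)) h
      simp only [Units.val_mul, val_neg_GL] at this
      exact this
  -- the commutator `m`
  set m : Mat := Y * e * Yi * e with hm
  have hmm : m * m = -1 := by
    have hkey : (e' * e) * (e' * e) = -1 := by
      calc (e' * e) * (e' * e) = e' * (e * e') * e := by noncomm_ring
        _ = e' * (-(e' * e)) * e := by rw [hant]
        _ = -((e' * e') * (e * e)) := by noncomm_ring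
        _ = -1 := by rw [hee, hee', one_mul]
    rcases hcj with h | h
    · rw [hm, h]; exact hkey
    · rw [hm, h]
      calc (-e' * e) * (-e' * e) = (e' * e) * (e' * e) := by noncomm_ring
        _ = -1 := hkey
  -- the rank of `m - 1`
  have hdecomp : m - 1 = (Y - 1) * (e * Yi * e) + (e * Yi) * ((Y - 1) * (-e)) := by
    have h1 : (e * Yi) * ((Y - 1) * (-e)) = -(e * (Yi * Y) * e) + e * Yi * e := by noncomm_ring
    rw [h1, hYiY, mul_one, hee, hm]
    noncomm_ring
  have hr : (m - 1).rank ≤ 2 := by
    rw [hdecomp]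
    refine (rank_add_le_rank_add_rank _ _).trans ?_
    have h1 : ((Y - 1) * (e * Yi * e)).rank ≤ 1 := (Matrix.rank_mul_le_left _ _).trans hrank
    have h2' : ((e * Yi) * ((Y - 1) * (-e))).rank ≤ 1 :=
      (Matrix.rank_mul_le_right _ _).trans ((Matrix.rank_mul_le_left _ _).trans hrank)
    omega
  have hdet : (m - 1).det = 0 := by
    by_contra hne
    have hu : IsUnit (m - 1) := (Matrix.isUnit_iff_isUnit_det _).mpr (isUnit_iff_ne_zero.mpr hne)
    have := Matrix.rank_of_isUnit _ hu
    rw [this] at hr
    simp at hr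
  obtain ⟨v, hv, hmv⟩ := Matrix.exists_mulVec_eq_zero_iff.mpr hdet
  have hmv' : m *ᵥ v = v := by
    rw [Matrix.sub_mulVec, Matrix.one_mulVec, sub_eq_zero] at hmv
    exact hmv
  have h3 : (m * m) *ᵥ v = v := by
    rw [← Matrix.mulVec_mulVec, hmv', hmv']
  rw [hmm, Matrix.neg_mulVec, Matrix.one_mulVec] at h3
  apply hv
  funext i
  have h4 := congrFun h3 i
  simp only [Pi.neg_apply] at h4
  have h5 : (2 : F) * v i = 0 := by linear_combination -h4
  rcases mul_eq_zero.mp h5 with h | h
  · exact absurd h h2
  · simpa using h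

end Cfsg.Agent.Helper31.XS
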