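import Mathlib
import Cfsg.Agent.Helper43.XS.Defs

/-!
# S6002 piece (C1) for helper43: when `p` has order 4 modulo 5, every 5-subgroup of `GL_4(p)` is
cyclic

A central element `w` of order 5 of a 5-subgroup `P` has minimal polynomial `Φ₅`, irreducible of
degree 4; so `F[w]` is a field `K` of degree 4, `F⁴` is a one-dimensional `K`-space, the centralizer
of `w` is `K`, and `P` embeds into `Kˣ`.
-/

set_option autoImplicit false
set_option linter.unusedSectionVars false
set_option linter.unusedVariables false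

namespace Cfsg.Agent.Helper31.XS

open Matrix Cfsg Cfsg.Geo Cfsg.Agent.Helper43.XS Polynomial Module

variable {F : Type*} [Field F]

local notation "Mat" => Matrix (Fin 2 ⊕ Fin 2) (Fin 2 ⊕ Fin 2) F
local notation "GLn" => GL (Fin 2 ⊕ Fin 2) F
local notation "Vec" => (Fin 2 ⊕ Fin 2 → F)

/-- the evaluation `F[X]/(Φ) → Mat`, `X ↦ W`, when `Φ(W) = 0` -/
noncomputable def adjoinToMat (Φ : F[X]) (W : Mat) (h : aeval W Φ = 0) : AdjoinRoot Φ →ₐ[F] Mat :=
  Ideal.Quotient.liftₐ (Ideal.span {Φ}) (aeval W) (by
    intro a ha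
    obtain ⟨b, rfl⟩ := Ideal.mem_span_singleton.mp ha
    rw [map_mul, h, zero_mul])

theorem adjoinToMat_mk (Φ : F[X]) (W : Mat) (h : aeval W Φ = 0) (f : F[X]) :
    adjoinToMat Φ W h (AdjoinRoot.mk Φ f) = aeval W f := rfl

/-- if `Φ` is irreducible of degree 4 and `Φ(W) = 0`, every matrix commuting with `W` is a
polynomial in `W` -/
theorem exists_adjoinToMat_eq (Φ : F[X]) [Fact (Irreducible Φ)] (hdeg : Φ.natDegree = 4)
    (W : Mat) (h : aeval W Φ = 0) (g : Mat) (hg : g * W = W * g) :
    ∃ k : AdjoinRoot Φ, adjoinToMat Φ W h k = g := by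
  set ι := adjoinToMat Φ W h with hι
  have hΦ0 : Φ ≠ 0 := (Fact.out : Irreducible Φ).ne_zero
  -- `g` commutes with the image of `ι`
  have hcomm : ∀ k, g * ι k = ι k * g := by
    intro k
    obtain ⟨f, rfl⟩ := AdjoinRoot.mk_surjective k
    rw [hι, adjoinToMat_mk]
    have hmem : aeval W f ∈ Algebra.adjoin F {W} := Polynomial.aeval_mem_adjoin_singleton F W
    have hle : Algebra.adjoin F {W} ≤ Subalgebra.centralizer F {g} := by
      apply Algebra.adjoin_le
      intro x hx
      rw [Set.mem_singleton_iff] at hx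
      subst hx
      rw [SetLike.mem_coe, Subalgebra.mem_centralizer_iff]
      intro y hy
      rw [Set.mem_singleton_iff] at hy
      subst hy
      exact hg
    have := hle hmem
    rw [Subalgebra.mem_centralizer_iff] at this
    exact this g rfl
  -- evaluation at a non-zero vector
  let v : Vec := Pi.single (Sum.inl 0) 1
  have hv : v ≠ 0 := by
    intro h0
    have := congrFun h0 (Sum.inl 0)
    simp [v] at this
  let ev : AdjoinRoot Φ →ₗ[F] Vec :=
    { toFun := fun k => ι k *ᵥ v
      map_add' := by
        intro a b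
        rw [map_add, Matrix.add_mulVec]
      map_smul' := by
        intro c a
        rw [map_smul, Matrix.smul_mulVec, RingHom.id_apply] }
  have hev : ∀ k, ev k = ι k *ᵥ v := fun k => rfl
  have hinj : Function.Injective ev := by
    rw [← LinearMap.ker_eq_bot, LinearMap.ker_eq_bot']
    intro k hk
    by_contra hk0
    apply hv
    have h1 : ι (k⁻¹ * k) *ᵥ v = v := by
      rw [inv_mul_cancel₀ hk0, map_one, Matrix.one_mulVec]
    rw [map_mul, ← Matrix.mulVec_mulVec, ← hev k, hk, Matrix.mulVec_zero] at h1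
    exact h1.symm
  haveI : FiniteDimensional F (AdjoinRoot Φ) := (AdjoinRoot.powerBasis hΦ0).finite
  have hfr : finrank F (AdjoinRoot Φ) = finrank F Vec := by
    rw [(AdjoinRoot.powerBasis hΦ0).finrank, AdjoinRoot.powerBasis_dim, hdeg, Module.finrank_pi,
      Fintype.card_sum, Fintype.card_fin]
  have hsurj : Function.Surjective ev :=
    (LinearMap.injective_iff_surjective_of_finrank_eq_finrank hfr).mp hinj
  obtain ⟨k, hk⟩ := hsurj (g *ᵥ v)
  refine ⟨k, ?_⟩
  apply Matrix.toLin'.injective
  apply LinearMap.ext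
  intro u
  obtain ⟨k', rfl⟩ := hsurj u
  rw [Matrix.toLin'_apply, Matrix.toLin'_apply, hev, Matrix.mulVec_mulVec, Matrix.mulVec_mulVec,
    hcomm k', ← map_mul, mul_comm k k', map_mul, ← Matrix.mulVec_mulVec, ← hev k, hk,
    Matrix.mulVec_mulVec]

/-- a matrix of order 5 over `F_p`, `p` of order 4 modulo 5, is a root of `Φ₅` -/
theorem aeval_cyclotomic_five_eq_zero {Φ : F[X]} (hΦ : Φ = cyclotomic 5 F) (hirr : Irreducible Φ)
    (hdeg : Φ.natDegree = 4) (W : Mat) (hW5 : W ^ 5 = 1) (hW1 : W ≠ 1) : aeval W Φ = 0 := by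
  have hmonic : Φ.Monic := by rw [hΦ]; exact cyclotomic.monic 5 F
  set μ := minpoly F W with hμ
  have hint : IsIntegral F W := Matrix.isIntegral W
  have hμmonic : μ.Monic := minpoly.monic hint
  have hμdvd : μ ∣ Φ * (X - 1) := by
    haveI : Fact (Nat.Prime 5) := ⟨by norm_num⟩
    rw [hΦ, cyclotomic_prime_mul_X_sub_one]
    apply minpoly.dvd
    rw [map_sub, map_pow, aeval_X, map_one, hW5, sub_self]
  rcases dvd_or_isCoprime Φ μ hirr with hd | hc
  · -- `Φ ∣ μ`, hence `μ = Φ` by degrees
    have hle : μ.natDegree ≤ Φ.natDegree := by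
      rw [hdeg]
      have h1 := Polynomial.natDegree_le_of_dvd (Matrix.minpoly_dvd_charpoly W)
        (Matrix.charpoly_monic W).ne_zero
      rw [Matrix.charpoly_natDegree_eq_dim, Fintype.card_sum, Fintype.card_fin] at h1
      exact h1
    have heq : μ = Φ := Polynomial.eq_of_monic_of_dvd_of_natDegree_le hmonic hμmonic hd hle
    rw [← heq]
    exact minpoly.aeval F W
  · -- `μ ∣ X - 1`, hence `W = 1`
    exfalso
    have h1 : μ ∣ X - 1 := hc.symm.dvd_of_dvd_mul_left hμdvd
    obtain ⟨r, hr⟩ := h1
    have h2 : aeval W (X - 1 : F[X]) = 0 := by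
      rw [hr, map_mul, minpoly.aeval, zero_mul]
    rw [map_sub, aeval_X, map_one, sub_eq_zero] at h2
    exact hW1 h2

/-- (C1) when `p` has order 4 modulo 5, every 5-subgroup of `GL_4(p)` is cyclic -/
theorem isCyclic_of_five_group [Fintype F] {p : ℕ} [Fact p.Prime] [CharP F p]
    (hF : Fintype.card F = p) (hord : orderOf (p : ZMod 5) = 4) (P : Subgroup GLn)
    (hP : IsPGroup 5 P) : IsCyclic P := by
  classical
  by_cases htriv : Nontrivial P
  swap
  · rw [not_nontrivial_iff_subsingleton] at htriv
    exact isCyclic_of_subsingleton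
  haveI : Fact (Nat.Prime 5) := ⟨by norm_num⟩
  -- `Φ₅` is irreducible of degree 4
  set Φ : F[X] := cyclotomic 5 F with hΦ
  have hp5 : p.Coprime 5 := by
    rw [Nat.coprime_comm, Nat.Prime.coprime_iff_not_dvd (by norm_num)]
    intro h5
    have h0 : (p : ZMod 5) = 0 := (ZMod.natCast_eq_zero_iff p 5).mpr h5
    have h1 := pow_orderOf_eq_one (p : ZMod 5)
    rw [hord, h0] at h1
    rw [zero_pow (by norm_num)] at h1
    exact zero_ne_one h1
  have hdeg : Φ.natDegree = 4 := by
    rw [hΦ, natDegree_cyclotomic]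
    decide
  have hirr : Irreducible Φ := by
    apply Polynomial.irreducible_of_dvd_cyclotomic_of_natDegree (p := p) (f := 1) (n := 5)
      (by rw [pow_one]; exact hF) hp5 dvd_rfl
    rw [← hΦ, hdeg, ← orderOf_units, ZMod.coe_unitOfCoprime, pow_one, hord]
  have : Fact (Irreducible Φ) := ⟨hirr⟩
  -- a central element of order 5
  have hcen : IsPGroup 5 (Subgroup.center P) := hP.to_subgroup _
  have : Nontrivial (Subgroup.center P) := hP.center_nontrivial
  have h5 : 5 ∣ Nat.card (Subgroup.center P) := by
    rcases hcen.card_eq_or_dvd with h | h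
    · exact absurd h (Finite.one_lt_card (α := Subgroup.center P)).ne'
    · exact h
  obtain ⟨w, hw⟩ := exists_prime_orderOf_dvd_card' 5 h5
  set W : Mat := (((w : P) : GLn) : Mat) with hWdef
  have hW5 : W ^ 5 = 1 := by
    have h1 : w ^ 5 = 1 := by rw [← hw]; exact pow_orderOf_eq_one w
    have h2 := congrArg (fun x : Subgroup.center P => (((x : P) : GLn) : Mat)) h1
    simpa using h2
  have hW1 : W ≠ 1 := by
    intro h1
    have : w = 1 := by
      apply Subtype.ext
      apply Subtype.ext
      apply Units.ext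
      rw [hWdef] at h1
      simpa using h1
    rw [this, orderOf_one] at hw
    norm_num at hw
  have hW0 : aeval W Φ = 0 := aeval_cyclotomic_five_eq_zero hΦ hirr hdeg W hW5 hW1
  -- every element of `P` is a polynomial in `W`
  have hex : ∀ g : P, ∃ k : AdjoinRoot Φ, adjoinToMat Φ W hW0 k = ((g : GLn) : Mat) := by
    intro g
    apply exists_adjoinToMat_eq Φ hdeg W hW0
    have h1 : g * (w : P) = (w : P) * g := (Subgroup.mem_center_iff.mp w.2 g)
    have h2 := congrArg (fun x : P => ((x : GLn) : Mat)) h1
    simpa using h2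
  have hιinj : Function.Injective (adjoinToMat Φ W hW0) :=
    (adjoinToMat Φ W hW0).toRingHom.injective
  let f : P →* AdjoinRoot Φ :=
    { toFun := fun g => Classical.choose (hex g)
      map_one' := by
        apply hιinj
        rw [Classical.choose_spec (hex 1), map_one]
        simp
      map_mul' := by
        intro a b
        apply hιinj
        rw [Classical.choose_spec (hex (a * b)), map_mul, Classical.choose_spec (hex a),
          Classical.choose_spec (hex b)]
        simp }
  have hf : Function.Injective f := by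
    intro a b hab
    have h1 : adjoinToMat Φ W hW0 (f a) = adjoinToMat Φ W hW0 (f b) := by rw [hab]
    have ha : adjoinToMat Φ W hW0 (f a) = ((a : GLn) : Mat) := Classical.choose_spec (hex a)
    have hb : adjoinToMat Φ W hW0 (f b) = ((b : GLn) : Mat) := Classical.choose_spec (hex b)
    rw [ha, hb] at h1
    apply Subtype.ext
    apply Units.ext
    exact h1
  exact isCyclic_of_injective_ringHom f hf

end Cfsg.Agent.Helper31.XS
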